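import Groth.Agent.CycB.StalkExact
import Mathlib.Algebra.DirectSum.Basic
import Mathlib.Algebra.Group.Subgroup.Pointwise
import Mathlib.Topology.Sheaves.SheafCondition.UniqueGluing

/-!
# Sections over quasi-compact opens commute with direct sums of `O_X`-modules
-/

set_option autoImplicit false
universe u

open CategoryTheory CategoryTheory.Limits AlgebraicGeometry TopologicalSpace Opposite

namespace Groth.Agent.Dcoh.SecCoprod

open Groth.Agent.CycB.StalkExact

variable {X : Scheme.{u}}

theorem toSheaf_preservesCoproducts (X : Scheme.{u}) (I : Type u) :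
    PreservesColimitsOfShape (Discrete I) (SheafOfModules.toSheaf.{u} X.ringCatSheaf) :=
  toSheaf_preservesColimitsOfShape X.ringCatSheaf (Discrete I)

instance stalkFun_preservesCoproducts (x : X) (I : Type u) :
    PreservesColimitsOfShape (Discrete I) (stalkFun x) := by
  classical
  have h1 := toSheaf_preservesCoproducts X I
  have h2 : PreservesColimitsOfShape (Discrete I)
      (TopCat.Sheaf.forget Ab.{u} X ⋙ TopCat.Presheaf.stalkFunctor Ab.{u} x) :=
    (stalkSkyscraperSheafAdjunction (C := Ab.{u}) x).leftAdjoint_preservesColimits.preservesColimitsOfShape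
  exact @comp_preservesColimitsOfShape _ _ _ _ _ _ _ _ (SheafOfModules.toSheaf.{u} X.ringCatSheaf)
    (TopCat.Sheaf.forget Ab.{u} X ⋙ TopCat.Presheaf.stalkFunctor Ab.{u} x) h1 h2

/-- In `Ab`, the images of the injections of a coproduct generate. -/
theorem iSup_range_eq_top {I : Type u} {M : I → Ab.{u}} (c : Cofan M) (hc : IsColimit c) :
    (⨆ i, (c.inj i).hom.range) = ⊤ := by
  set S : AddSubgroup c.pt := ⨆ i, (c.inj i).hom.range with hS
  let q : c.pt ⟶ AddCommGrpCat.of (c.pt ⧸ S) := AddCommGrpCat.ofHom (QuotientAddGroup.mk' S)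
  have hq : q = 0 := by
    apply Cofan.IsColimit.hom_ext hc
    intro i
    ext m
    change QuotientAddGroup.mk' S ((c.inj i).hom m) = 0
    rw [QuotientAddGroup.mk'_apply, QuotientAddGroup.eq_zero_iff]
    exact AddSubgroup.mem_iSup_of_mem i ⟨m, rfl⟩
  rw [eq_top_iff]
  intro z _
  have : QuotientAddGroup.mk' S z = 0 := by
    change q.hom z = 0
    rw [hq]
    rfl
  rwa [QuotientAddGroup.mk'_apply, QuotientAddGroup.eq_zero_iff] at this

variable {I : Type u} {M : I → X.Modules} (c : Cofan M)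

/-- Sections over `U` which are finite sums of sections of the summands. -/
def IsFinSum (U : X.Opens) (s : Γ(c.pt, U)) : Prop :=
  ∃ (t : Finset I) (m : ∀ i, Γ(M i, U)), s = ∑ i ∈ t, (c.inj i).app U (m i)

variable {c}

theorem IsFinSum.res {U V : X.Opens} {s : Γ(c.pt, U)} (h : IsFinSum c U s) (hVU : V ≤ U) :
    IsFinSum c V (c.pt.presheaf.map (homOfLE hVU).op s) := by
  obtain ⟨t, m, rfl⟩ := h
  refine ⟨t, fun i => (M i).presheaf.map (homOfLE hVU).op (m i), ?_⟩
  rw [map_sum]
  refine Finset.sum_congr rfl fun i _ => ?_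
  exact (ConcreteCategory.congr_hom ((c.inj i).mapPresheaf.naturality (homOfLE hVU).op) (m i)).symm

theorem IsFinSum.add {U : X.Opens} {s s' : Γ(c.pt, U)} (h : IsFinSum c U s) (h' : IsFinSum c U s') :
    IsFinSum c U (s + s') := by
  classical
  obtain ⟨t, m, rfl⟩ := h
  obtain ⟨t', m', rfl⟩ := h'
  refine ⟨t ∪ t', fun i => (if i ∈ t then m i else 0) + (if i ∈ t' then m' i else 0), ?_⟩
  have h1 : ∑ i ∈ t, (c.inj i).app U (m i) =
      ∑ i ∈ t ∪ t', (c.inj i).app U (if i ∈ t then m i else 0) := by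
    rw [← Finset.sum_subset (Finset.subset_union_left (s₁ := t) (s₂ := t'))]
    · exact Finset.sum_congr rfl fun i hi => by rw [if_pos hi]
    · intro i _ hi
      rw [if_neg hi, map_zero]
  have h2 : ∑ i ∈ t', (c.inj i).app U (m' i) =
      ∑ i ∈ t ∪ t', (c.inj i).app U (if i ∈ t' then m' i else 0) := by
    rw [← Finset.sum_subset (Finset.subset_union_right (s₁ := t) (s₂ := t'))]
    · exact Finset.sum_congr rfl fun i hi => by rw [if_pos hi]
    · intro i _ hi
      rw [if_neg hi, map_zero]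
  rw [h1, h2, ← Finset.sum_add_distrib]
  exact Finset.sum_congr rfl fun i _ => by rw [map_add]

/-- Locally every section of a direct sum is a finite sum of sections of the summands. -/
theorem exists_isFinSum_nhd (hc : IsColimit c) {U : X.Opens} (s : Γ(c.pt, U)) (x : X) (hx : x ∈ U) :
    ∃ (V : X.Opens) (_ : x ∈ V) (hVU : V ≤ U), IsFinSum c V (c.pt.presheaf.map (homOfLE hVU).op s) := by
  have hc' : IsColimit (Cofan.mk ((stalkFun x).obj c.pt) fun i => (stalkFun x).map (c.inj i)) :=
    isColimitCofanMkObjOfIsColimit (stalkFun x) _ _ (hc.ofIsoColimit (Cocone.ext (Iso.refl _)))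
  have htop := iSup_range_eq_top _ hc'
  have key : ∀ z : c.pt.presheaf.stalk x, z ∈ (⊤ : AddSubgroup (c.pt.presheaf.stalk x)) →
      ∃ (V : X.Opens) (hxV : x ∈ V) (s' : Γ(c.pt, V)), IsFinSum c V s' ∧
        c.pt.presheaf.germ V x hxV s' = z := by
    intro z hz
    have hz' : z ∈ (⨆ i, ((stalkFun x).map (c.inj i)).hom.range : AddSubgroup _) := by
      have : (⨆ i, ((stalkFun x).map (c.inj i)).hom.range : AddSubgroup _) = ⊤ := htop
      rw [this]; exact hz
    refine AddSubgroup.iSup_induction (C := fun z : c.pt.presheaf.stalk x =>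
      ∃ (V : X.Opens) (hxV : x ∈ V) (s' : Γ(c.pt, V)), IsFinSum c V s' ∧
        c.pt.presheaf.germ V x hxV s' = z)
      (fun i => ((stalkFun x).map (c.inj i)).hom.range) hz' ?_ ?_ ?_
    · rintro i _ ⟨y, rfl⟩
      obtain ⟨V, hxV, m, rfl⟩ := (M i).presheaf.exists_germ_eq y
      refine ⟨V, hxV, (c.inj i).app V m, ⟨{i}, ?_⟩, ?_⟩
      · classical
        refine ⟨fun j => if h : i = j then h ▸ m else 0, ?_⟩
        rw [Finset.sum_singleton]
        simp
      · exact (stalkFun_map_germ (c.inj i) x hxV m).symm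
    · exact ⟨⊤, trivial, 0, ⟨∅, fun _ => 0, rfl⟩, map_zero _⟩
    · rintro z₁ z₂ ⟨V₁, h₁, s₁, hs₁, rfl⟩ ⟨V₂, h₂, s₂, hs₂, rfl⟩
      refine ⟨V₁ ⊓ V₂, ⟨h₁, h₂⟩, c.pt.presheaf.map (homOfLE inf_le_left).op s₁ +
        c.pt.presheaf.map (homOfLE inf_le_right).op s₂, (hs₁.res _).add (hs₂.res _), ?_⟩
      refine (map_add _ _ _).trans ?_
      exact congrArg₂ (· + ·) (TopCat.Presheaf.germ_res_apply _ _ _ _ _)
        (TopCat.Presheaf.germ_res_apply _ _ _ _ _)
  obtain ⟨V, hxV, s', hs', he⟩ := key (c.pt.presheaf.germ U x hx s) trivial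
  obtain ⟨W, hxW, iWV, iWU, hW⟩ := c.pt.presheaf.germ_eq x hxV hx s' s he
  refine ⟨W, hxW, leOfHom iWU, ?_⟩
  have : c.pt.presheaf.map (homOfLE (leOfHom iWU)).op s = c.pt.presheaf.map iWV.op s' := hW.symm
  rw [this]
  exact hs'.res (leOfHom iWV)

/-- The projections of a coproduct of modules. -/
noncomputable def proj (hc : IsColimit c) (i : I) : c.pt ⟶ M i := by
  classical
  exact Cofan.IsColimit.desc hc (fun j => if h : j = i then eqToHom (by rw [h]) else 0)

theorem inj_proj (hc : IsColimit c) (i : I) : c.inj i ≫ proj hc i = 𝟙 _ := by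
  classical
  simp [proj]

theorem inj_proj_ne (hc : IsColimit c) {i j : I} (h : j ≠ i) : c.inj j ≫ proj hc i = 0 := by
  classical
  simp [proj, h]

/-- A finite sum of sections of the summands determines the summands. -/
theorem proj_sum (hc : IsColimit c) {U : X.Opens} (t : Finset I) (m : ∀ i, Γ(M i, U)) (j : I) (hj : j ∈ t) :
    (proj hc j).app U (∑ i ∈ t, (c.inj i).app U (m i)) = m j := by
  rw [map_sum, Finset.sum_eq_single j]
  · change (c.inj j ≫ proj hc j).app U (m j) = m j
    rw [inj_proj]; rfl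
  · intro i _ hij
    change (c.inj i ≫ proj hc j).app U (m i) = 0
    rw [inj_proj_ne hc hij]; rfl
  · intro h; exact absurd hj h

theorem proj_sum_notMem (hc : IsColimit c) {U : X.Opens} (t : Finset I) (m : ∀ i, Γ(M i, U)) (j : I)
    (hj : j ∉ t) : (proj hc j).app U (∑ i ∈ t, (c.inj i).app U (m i)) = 0 := by
  rw [map_sum]
  apply Finset.sum_eq_zero
  intro i hi
  change (c.inj i ≫ proj hc j).app U (m i) = 0
  rw [inj_proj_ne hc (fun h : i = j => hj (by rw [← h]; exact hi))]; rfl

/-- A section is a finite sum iff only finitely many of its components are nonzero and it is their sum. -/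
theorem IsFinSum.eq_sum_proj (hc : IsColimit c) {U : X.Opens} {s : Γ(c.pt, U)} (h : IsFinSum c U s) :
    ∃ t : Finset I, s = ∑ i ∈ t, (c.inj i).app U ((proj hc i).app U s) ∧
      ∀ i, i ∉ t → (proj hc i).app U s = 0 := by
  obtain ⟨t, m, rfl⟩ := h
  refine ⟨t, ?_, fun i hi => proj_sum_notMem hc t m i hi⟩
  exact Finset.sum_congr rfl fun i hi => by rw [proj_sum hc t m i hi]

theorem app_map {N N' : X.Modules} (f : N ⟶ N') {U V : X.Opens} (h : V ≤ U) (s : Γ(N, U)) :
    f.app V (N.presheaf.map (homOfLE h).op s) = N'.presheaf.map (homOfLE h).op (f.app U s) :=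
  ConcreteCategory.congr_hom (f.mapPresheaf.naturality (homOfLE h).op) s

theorem isFinSum_of_sup (hc : IsColimit c) {U V₁ V₂ : X.Opens} (hU : U = V₁ ⊔ V₂) (s : Γ(c.pt, U))
    (h₁ : IsFinSum c V₁ (c.pt.presheaf.map (homOfLE (hU ▸ le_sup_left)).op s))
    (h₂ : IsFinSum c V₂ (c.pt.presheaf.map (homOfLE (hU ▸ le_sup_right)).op s)) : IsFinSum c U s := by
  classical
  obtain ⟨t₁, e₁, f₁⟩ := h₁.eq_sum_proj hc
  obtain ⟨t₂, e₂, f₂⟩ := h₂.eq_sum_proj hc
  refine ⟨t₁ ∪ t₂, fun i => (proj hc i).app U s, ?_⟩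
  have key : ∀ (V : X.Opens) (hV : V ≤ U) (t : Finset I) (ht : t ⊆ t₁ ∪ t₂),
      c.pt.presheaf.map (homOfLE hV).op s =
        ∑ i ∈ t, (c.inj i).app V ((proj hc i).app V (c.pt.presheaf.map (homOfLE hV).op s)) →
      (∀ i, i ∉ t → (proj hc i).app V (c.pt.presheaf.map (homOfLE hV).op s) = 0) →
      c.pt.presheaf.map (homOfLE hV).op s = c.pt.presheaf.map (homOfLE hV).op
        (∑ i ∈ t₁ ∪ t₂, (c.inj i).app U ((proj hc i).app U s)) := by
    intro V hV t ht e f
    rw [map_sum, e, ← Finset.sum_subset ht]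
    · refine Finset.sum_congr rfl fun i _ => ?_
      rw [app_map, app_map]
    · intro i _ hi
      rw [← app_map, ← app_map, f i hi, map_zero]
  refine TopCat.Presheaf.IsSheaf.section_ext c.pt.isSheaf ?_
  intro x hx
  rw [hU] at hx
  rcases hx with hx | hx
  · exact ⟨V₁, hU ▸ le_sup_left, hx, key V₁ _ t₁ Finset.subset_union_left e₁ f₁⟩
  · exact ⟨V₂, hU ▸ le_sup_right, hx, key V₂ _ t₂ Finset.subset_union_right e₂ f₂⟩

/-- Over a quasi-compact open, every section of a direct sum of modules is a finite sum of sections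
of the summands. -/
theorem isFinSum_of_isCompact (hc : IsColimit c) {U : X.Opens} (hU : IsCompact (U : Set X))
    (s : Γ(c.pt, U)) : IsFinSum c U s := by
  choose V hxV hVU hV using fun x : U => exists_isFinSum_nhd hc s x.1 x.2
  obtain ⟨t, ht⟩ := hU.elim_finite_subcover (fun x : U => (V x : Set X)) (fun x => (V x).2)
    (fun x hx => Set.mem_iUnion.2 ⟨⟨x, hx⟩, hxV _⟩)
  have key : ∀ t : Finset U, ∀ (W : X.Opens) (hW : W = t.sup V) (hWU : W ≤ U),
      IsFinSum c W (c.pt.presheaf.map (homOfLE hWU).op s) := by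
    classical
    intro t
    induction t using Finset.induction_on with
    | empty =>
      intro W hW hWU
      refine ⟨∅, fun _ => 0, ?_⟩
      refine TopCat.Presheaf.IsSheaf.section_ext c.pt.isSheaf ?_
      intro x hx
      rw [hW] at hx
      exact absurd hx (by simp)
    | insert a t _ ih =>
      intro W hW hWU
      rw [Finset.sup_insert] at hW
      refine isFinSum_of_sup hc hW _ ?_ ?_
      · rw [← ConcreteCategory.comp_apply, ← Functor.map_comp]
        exact hV a
      · rw [← ConcreteCategory.comp_apply, ← Functor.map_comp]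
        exact ih _ rfl _
  have hUt : U = t.sup V := by
    apply le_antisymm
    · intro x hx
      obtain ⟨y, hy, hxy⟩ := Set.mem_iUnion₂.1 (ht hx)
      exact (Finset.le_sup (f := V) hy) hxy
    · exact Finset.sup_le fun x _ => hVU x
  have := key t U hUt le_rfl
  have h2 : c.pt.presheaf.map (homOfLE (le_refl U)).op s = s := by
    have : (homOfLE (le_refl U)).op = 𝟙 (op U) := rfl
    rw [this, c.pt.presheaf.map_id]
    rfl
  rwa [h2] at this

end Groth.Agent.Dcoh.SecCoprod
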