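import Groth.Agent.Dcoh.LocNull
import Mathlib.Algebra.Homology.HomotopyCategory.HomologicalFunctor
import Mathlib.Algebra.Homology.HomotopyCategory.ShiftSequence
import Mathlib.Algebra.Homology.HomotopyCategory.Triangulated

set_option autoImplicit false

universe u

open CategoryTheory AlgebraicGeometry Limits CochainComplex.HomComplex Pretriangulated

namespace Groth.Agent.Dcoh.LocLiftCx

open Groth.Agent.Dcoh.Restrict Groth.Agent.Dcoh.LocLift Groth.Agent.Dcoh.ResFree
  Groth.Agent.Dcoh.RestrictCx Groth.Agent.Dcoh.LocNull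

section Abstract

variable {T A : Type*} [Category* T] [Category* A] [HasShift T ℤ] [HasZeroObject T] [Preadditive T]
  [∀ n : ℤ, (shiftFunctor T n).Additive] [Pretriangulated T] [Abelian A]

/-- The third vertex has vanishing `H^n` iff `H^n` of the first map is epi and `H^{n+1}` is mono. -/
theorem isZero_shift_obj₃_iff (F : T ⥤ A) [F.IsHomological] [F.ShiftSequence ℤ] (S : Triangle T)
    (hS : S ∈ distTriang T) (n₀ n₁ : ℤ) (h : n₀ + 1 = n₁) :
    IsZero ((F.shift n₀).obj S.obj₃) ↔
      Epi ((F.shift n₀).map S.mor₁) ∧ Mono ((F.shift n₁).map S.mor₁) := by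
  rw [(F.homologySequence_exact₃ _ hS n₀ n₁ h).isZero_X₂_iff,
    F.homologySequence_epi_shift_map_mor₁_iff _ hS n₀,
    F.homologySequence_mono_shift_map_mor₁_iff _ hS n₀ n₁ h]

variable {G F : CochainComplex A ℤ}

theorem isZero_homology_mappingCone_iff (f : G ⟶ F) (n₀ n₁ : ℤ) (h : n₀ + 1 = n₁) :
    IsZero ((CochainComplex.mappingCone f).homology n₀) ↔
      Epi (HomologicalComplex.homologyMap f n₀) ∧ Mono (HomologicalComplex.homologyMap f n₁) := by
  have h1 := isZero_shift_obj₃_iff (HomotopyCategory.homologyFunctor A (ComplexShape.up ℤ) 0)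
    (CochainComplex.mappingCone.triangleh f) (HomotopyCategory.mappingCone_triangleh_distinguished f) n₀ n₁ h
  have e := fun n => HomotopyCategory.homologyFunctorFactors A (ComplexShape.up ℤ) n
  have h2 : IsZero (((HomotopyCategory.homologyFunctor A (ComplexShape.up ℤ) 0).shift n₀).obj
      (CochainComplex.mappingCone.triangleh f).obj₃) ↔
      IsZero ((CochainComplex.mappingCone f).homology n₀) :=
    Iso.isZero_iff ((e n₀).app (CochainComplex.mappingCone f))
  have h3 : Epi (((HomotopyCategory.homologyFunctor A (ComplexShape.up ℤ) 0).shift n₀).map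
      (CochainComplex.mappingCone.triangleh f).mor₁) ↔
      Epi (HomologicalComplex.homologyMap f n₀) :=
    (MorphismProperty.epimorphisms A).arrow_mk_iso_iff
      ((Functor.mapArrowFunctor _ _ |>.mapIso (e n₀)).app (Arrow.mk f))
  have h4 : Mono (((HomotopyCategory.homologyFunctor A (ComplexShape.up ℤ) 0).shift n₁).map
      (CochainComplex.mappingCone.triangleh f).mor₁) ↔
      Mono (HomologicalComplex.homologyMap f n₁) :=
    (MorphismProperty.monomorphisms A).arrow_mk_iso_iff
      ((Functor.mapArrowFunctor _ _ |>.mapIso (e n₁)).app (Arrow.mk f))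
  rw [← h2, ← h3, ← h4]
  exact h1

end Abstract

/-- 08C8. -/
theorem exists_lift_homotopy {X : Scheme.{u}} {E F G : CochainComplex X.Modules ℤ}
    (α : E ⟶ F) (f : G ⟶ F) (hE : DCoh.IsStrictlyPerfect E) (a : ℤ)
    (hEa : ∀ j : ℤ, j < a → IsZero (E.X j))
    (hf : ∀ j : ℤ, a < j → IsIso (HomologicalComplex.homologyMap f j))
    (hfa : Epi (HomologicalComplex.homologyMap f a)) (x : X) :
    ∃ (V : X.Opens) (β : (resCx V.ι).obj E ⟶ (resCx V.ι).obj G), x ∈ V ∧
      Nonempty (Homotopy (β ≫ (resCx V.ι).map f) ((resCx V.ι).map α)) := by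
  have hC : ∀ i : ℤ, a ≤ i → IsZero ((CochainComplex.mappingCone f).homology i) := by
    intro i hi
    rw [isZero_homology_mappingCone_iff f i (i + 1) rfl]
    constructor
    · rcases hi.eq_or_lt with rfl | h
      · exact hfa
      · have := hf i h
        infer_instance
    · have := hf (i + 1) (by lia)
      infer_instance
  obtain ⟨V, hxV, ⟨H⟩⟩ := exists_homotopy_zero (α ≫ CochainComplex.mappingCone.inr f) hE a hEa hC x
  refine ⟨V, ?_⟩
  let Φ := (Scheme.Modules.restrictFunctor V.ι).mapHomotopyCategory (ComplexShape.up ℤ)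
  let T₀ := CochainComplex.mappingCone.triangleh f
  let T := Φ.mapTriangle.obj T₀
  have hT : T ∈ distTriang _ := Φ.map_distinguished T₀ (HomotopyCategory.mappingCone_triangleh_distinguished f)
  let Q := HomotopyCategory.quotient (V : Scheme.{u}).Modules (ComplexShape.up ℤ)
  let a' : Q.obj ((resCx V.ι).obj E) ⟶ T.obj₂ := Q.map ((resCx V.ι).map α)
  have ha' : a' ≫ T.mor₂ = 0 := by
    have h1 : Q.map ((resCx V.ι).map (α ≫ CochainComplex.mappingCone.inr f)) = 0 := by
      rw [HomotopyCategory.eq_of_homotopy _ _ H, Functor.map_zero]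
    rw [Functor.map_comp, Functor.map_comp] at h1
    exact h1
  obtain ⟨b, hb⟩ := Triangle.coyoneda_exact₂ T hT a' ha'
  obtain ⟨β, hβ⟩ : ∃ β : (resCx V.ι).obj E ⟶ (resCx V.ι).obj G, Q.map β = b :=
    Q.map_surjective b
  refine ⟨β, hxV, ⟨HomotopyCategory.homotopyOfEq _ _ ?_⟩⟩
  rw [Functor.map_comp, hβ]
  exact hb.symm

end Groth.Agent.Dcoh.LocLiftCx
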