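import Mathlib.Algebra.Homology.DerivedCategory.TStructure
import Mathlib.Algebra.Homology.DerivedCategory.HomologySequence
import Mathlib.Algebra.Homology.DerivedCategory.Fractions
import Mathlib.Algebra.Homology.Embedding.CochainComplex

/-!
# Bounded complexes with terms in a class closed under kernels of epimorphisms

Pure abelian category theory (`C` abelian, `P : ObjectProperty C`):
* `shortExact_opcycles`: if `H^i(K) = 0`, then `0 → K.opcycles i → K^{i+1} → K.opcycles (i+1) → 0` is exact;
* `prop_opcycles`: a bounded above complex with terms in `P`, exact in degrees `≥ n`, has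
  `K.opcycles i ∈ P` for `i ≥ n` (`P` closed under kernels of epimorphisms);
* `prop_truncGE_X`, `truncGE_isStrictlyLE`;
* `isIso_opcyclesMap`: `opcyclesMap` is an isomorphism in degree `i` if `f.f i` is iso and `f.f (i-1)` is epi;
* `nonempty_iso_truncGE`: if `α : Q K ⟶ L` is an isomorphism on `H^i` for `i ≥ n` and `L ∈ D^{≥ n}`, then
  `L ≅ Q (K.truncGE n)`;
* `isZero_homology_obj₃`: vanishing of the cohomology of the third vertex of a distinguished triangle.
-/

set_option autoImplicit false

universe w v u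

open CategoryTheory CategoryTheory.Limits

namespace Groth.Agent.Dcoh.BddCx

section Opcycles

variable {C : Type u} [Category.{v} C] [Abelian C]

/-- If `H^i(K) = 0`, then `K.opcycles i ⟶ K.X (i+1)` is a monomorphism. -/
lemma mono_fromOpcycles (K : CochainComplex C ℤ) (i j : ℤ) (hij : i + 1 = j)
    (h : IsZero (K.homology i)) : Mono (K.fromOpcycles i j) := by
  have hl := K.homologyIsKernel i j (by simp [hij])
  exact Preadditive.mono_of_isZero_kernel' _ hl h

lemma exact_opcycles (K : CochainComplex C ℤ) (i j : ℤ) (hij : i + 1 = j) :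
    (ShortComplex.mk (K.fromOpcycles i j) (K.pOpcycles j) (by
      rw [← cancel_epi (K.pOpcycles i), K.p_fromOpcycles_assoc, K.d_pOpcycles, comp_zero])).Exact := by
  have hc := K.opcyclesIsCokernel i j (by simp [← hij])
  have h1 : (ShortComplex.mk (K.d i j) (K.pOpcycles j) (K.d_pOpcycles i j)).Exact :=
    ShortComplex.exact_of_g_is_cokernel _ hc
  rw [ShortComplex.exact_iff_exact_up_to_refinements] at h1 ⊢
  intro A x hx
  obtain ⟨A', π, hπ, y, hy⟩ := h1 x hx
  exact ⟨A', π, hπ, y ≫ K.pOpcycles i, by simpa using hy⟩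

lemma shortExact_opcycles (K : CochainComplex C ℤ) (i j : ℤ) (hij : i + 1 = j)
    (h : IsZero (K.homology i)) :
    (ShortComplex.mk (K.fromOpcycles i j) (K.pOpcycles j) (by
      rw [← cancel_epi (K.pOpcycles i), K.p_fromOpcycles_assoc, K.d_pOpcycles, comp_zero])).ShortExact where
  exact := exact_opcycles K i j hij
  mono_f := mono_fromOpcycles K i j hij h
  epi_g := by dsimp; infer_instance

variable (P : ObjectProperty C)

/-- A class of objects closed under kernels of epimorphisms between its members. -/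
def ClosedKer : Prop := ∀ ⦃A B : C⦄ (p : A ⟶ B) [Epi p], P A → P B → P (kernel p)

variable {P}

lemma prop_of_shortExact [P.IsClosedUnderIsomorphisms] (hP : ClosedKer P)
    {S : ShortComplex C} (hS : S.ShortExact) (h2 : P S.X₂) (h3 : P S.X₃) : P S.X₁ := by
  have := hS.mono_f
  have := hS.epi_g
  exact P.prop_of_iso (IsLimit.conePointUniqueUpToIso (limit.isLimit _) hS.exact.fIsKernel)
    (hP S.g h2 h3)

/-- In a bounded above complex with terms in `P`, exact in degrees `≥ n`, all the `opcycles` in
degrees `≥ n` are in `P`. -/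
theorem prop_opcycles [P.IsClosedUnderIsomorphisms] (hP : ClosedKer P) (h0 : ∀ A : C, IsZero A → P A)
    (K : CochainComplex C ℤ) (n b : ℤ) (hK : ∀ i, n < i → P (K.X i)) (hb : ∀ i, b < i → IsZero (K.X i))
    (hex : ∀ i, n ≤ i → IsZero (K.homology i)) (i : ℤ) (hi : n ≤ i) : P (K.opcycles i) := by
  have key : ∀ (k : ℕ) (i : ℤ), n ≤ i → b + 1 - k ≤ i → P (K.opcycles i) := by
    intro k
    induction k with
    | zero =>
      intro i _ hi
      refine h0 _ ?_
      have hz : IsZero (K.X i) := hb i (by simp at hi; lia)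
      rw [IsZero.iff_id_eq_zero, ← cancel_epi (K.pOpcycles i)]
      exact hz.eq_of_src _ _
    | succ k ih =>
      intro i hi1 hi2
      have hS := shortExact_opcycles K i (i + 1) rfl (hex i hi1)
      exact prop_of_shortExact hP hS (hK (i + 1) (by lia)) (ih (i + 1) (by lia) (by push_cast at hi2; lia))
  exact key (b + 1 - i).toNat i hi (by lia)

lemma prop_truncGE_X [P.IsClosedUnderIsomorphisms] (h0 : ∀ A : C, IsZero A → P A)
    (K : CochainComplex C ℤ) (n : ℤ) (hn : P (K.opcycles n)) (hK : ∀ i, n < i → P (K.X i)) (i : ℤ) :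
    P ((K.truncGE n).X i) := by
  rcases lt_trichotomy i n with hi | rfl | hi
  · exact h0 _ ((K.truncGE n).isZero_of_isStrictlyGE n i hi)
  · exact P.prop_of_iso (K.truncGEXIsoOpcycles i).symm hn
  · exact P.prop_of_iso (K.truncGEXIso n i hi).symm (hK i hi)

lemma truncGE_isZero_of_lt (K : CochainComplex C ℤ) (n b : ℤ) (hb : ∀ i, b < i → IsZero (K.X i))
    (i : ℤ) (hi : b < i) : IsZero ((K.truncGE n).X i) := by
  rcases lt_trichotomy i n with hi' | rfl | hi'
  · exact (K.truncGE n).isZero_of_isStrictlyGE n i hi'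
  · refine IsZero.of_iso ?_ (K.truncGEXIsoOpcycles i)
    rw [IsZero.iff_id_eq_zero, ← cancel_epi (K.pOpcycles i)]
    exact (hb i hi).eq_of_src _ _
  · exact (hb i hi).of_iso (K.truncGEXIso n i hi')

/-- `opcyclesMap f i` is an isomorphism when `f.f i` is an isomorphism and `f.f (i-1)` is an epimorphism. -/
lemma isIso_opcyclesMap {K L : CochainComplex C ℤ} (f : K ⟶ L) (i j : ℤ) (hij : i + 1 = j)
    [IsIso (f.f j)] [Epi (f.f i)] : IsIso (HomologicalComplex.opcyclesMap f j) := by
  have hK := K.opcyclesIsCokernel i j (by simp [← hij])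
  have hL := L.opcyclesIsCokernel i j (by simp [← hij])
  have w : L.d i j ≫ inv (f.f j) ≫ K.pOpcycles j = 0 := by
    rw [← cancel_epi (f.f i), f.comm_assoc, IsIso.hom_inv_id_assoc, K.d_pOpcycles, comp_zero]
  refine ⟨L.descOpcycles (inv (f.f j) ≫ K.pOpcycles j) i (by simp [← hij]) w, ?_, ?_⟩
  · rw [← cancel_epi (K.pOpcycles j)]
    simp
  · rw [← cancel_epi (L.pOpcycles j)]
    simp

end Opcycles

section Derived

variable {C : Type u} [Category.{v} C] [Abelian C] [HasDerivedCategory.{w} C]

open DerivedCategory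

/-- If `L` is in `D^{≥ n}` and `α : Q K ⟶ L` is an isomorphism in cohomology in degrees `≥ n`, then
`L` is represented by the canonical truncation `τ_{≥ n} K`. -/
theorem nonempty_iso_truncGE (K : CochainComplex C ℤ) (L : DerivedCategory C) (n : ℤ)
    (hL : ∀ i, i < n → IsZero ((homologyFunctor C i).obj L)) (α : Q.obj K ⟶ L)
    (hα : ∀ i, n ≤ i → IsIso ((homologyFunctor C i).map α)) : Nonempty (L ≅ Q.obj (K.truncGE n)) := by
  have : L.IsGE n := (isGE_iff L n).2 hL
  obtain ⟨F, hF, ⟨e⟩⟩ := exists_iso_Q_obj_of_isGE L n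
  obtain ⟨F', hF', g, s, hs, fac⟩ := left_fac_of_isStrictlyGE (α ≫ e.hom) n
  have hα' : ∀ i, n ≤ i → IsIso ((homologyFunctor C i).map (Q.map g)) := by
    intro i hi
    have : Q.map g = α ≫ e.hom ≫ Q.map s := by
      rw [← Category.assoc, fac, Category.assoc, IsIso.inv_hom_id, Category.comp_id]
    rw [this, Functor.map_comp, Functor.map_comp]
    have := hα i hi
    infer_instance
  have hg : ∀ i, n ≤ i → QuasiIsoAt g i := by
    intro i hi
    rw [quasiIsoAt_iff_isIso_homologyMap]
    have h1 := hα' i hi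
    have h2 := homologyFunctorFactors_hom_naturality g i
    have h3 : IsIso ((homologyFunctorFactors C i).hom.app K ≫ HomologicalComplex.homologyMap g i) := by
      rw [← h2]
      exact IsIso.comp_isIso' h1 (NatIso.hom_app_isIso (homologyFunctorFactors C i) F')
    exact IsIso.of_isIso_comp_left ((homologyFunctorFactors C i).hom.app K) _
  have hq : QuasiIso (CochainComplex.truncGEMap g n) := by
    rw [CochainComplex.quasiIso_truncGEMap_iff]
    exact hg
  have : IsIso (Q.map (CochainComplex.truncGEMap g n)) := by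
    rw [isIso_Q_map_iff_quasiIso]; exact hq
  have h2 : IsIso (Q.map (F'.πTruncGE n)) := by
    rw [isIso_Q_map_iff_quasiIso]; infer_instance
  exact ⟨e ≪≫ asIso (Q.map s) ≪≫ asIso (Q.map (F'.πTruncGE n)) ≪≫
    (asIso (Q.map (CochainComplex.truncGEMap g n))).symm⟩

open Pretriangulated in
/-- Vanishing of the cohomology of the third vertex. -/
lemma isZero_homology_obj₃ (T : Triangle (DerivedCategory C)) (hT : T ∈ distinguishedTriangles)
    (i j : ℤ) (hij : i + 1 = j) (h1 : Epi ((homologyFunctor C i).map T.mor₁))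
    (h2 : Mono ((homologyFunctor C j).map T.mor₁)) : IsZero ((homologyFunctor C i).obj T.obj₃) := by
  have a := (HomologySequence.epi_homologyMap_mor₁_iff T hT i).1 h1
  have b := (HomologySequence.mono_homologyMap_mor₁_iff T hT i j hij).1 h2
  have ex := HomologySequence.exact₃ T hT i j hij
  have c : Epi ((homologyFunctor C i).map T.mor₂) := (HomologySequence.epi_homologyMap_mor₂_iff T hT i j hij).2 b
  rw [IsZero.iff_id_eq_zero, ← cancel_epi ((homologyFunctor C i).map T.mor₂), a, zero_comp, zero_comp]

end Derived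

end Groth.Agent.Dcoh.BddCx
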