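import Groth.Agent.Dcoh.FTFP
import Groth.Agent.Dcoh.BddCx

/-!
# Cycles of strictly perfect complexes; finite type / finite presentation of top cohomology
-/

set_option autoImplicit false
universe u
open CategoryTheory
attribute [local instance] HasDerivedCategory.standard

namespace Groth.Agent.Dcoh.TopCoh

open AlgebraicGeometry CategoryTheory.Limits

section cycles

universe v' u'
variable {C : Type u'} [Category.{v'} C] [Abelian C]

lemma epi_toCycles (K : CochainComplex C ℤ) (i j : ℤ) (hij : i + 1 = j)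
    (h : IsZero (K.homology j)) : Epi (K.toCycles i j) :=
  Preadditive.epi_of_isZero_cokernel' _ (K.homologyIsCokernel i j (by simp [← hij])) h

lemma shortExact_cycles (K : CochainComplex C ℤ) (i j : ℤ) (hij : i + 1 = j)
    (h : IsZero (K.homology j)) :
    (ShortComplex.mk (K.iCycles i) (K.toCycles i j) (by
      rw [← cancel_mono (K.iCycles j), Category.assoc, K.toCycles_i, K.iCycles_d,
        zero_comp])).ShortExact where
  exact := by
    rw [ShortComplex.exact_iff_exact_up_to_refinements]
    intro A x hx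
    have hx' : x ≫ K.toCycles i j = 0 := hx
    refine ⟨A, 𝟙 A, inferInstance, K.liftCycles x j (by simp [hij]) ?_, ?_⟩
    · rw [← K.toCycles_i i j, ← Category.assoc, hx', zero_comp]
    · rw [Category.id_comp]
      exact (K.liftCycles_i _ _ _ _).symm
  mono_f := by dsimp; infer_instance
  epi_g := epi_toCycles K i j hij h

theorem prop_cycles {P : ObjectProperty C} [P.IsClosedUnderIsomorphisms]
    (hP : Dcoh.BddCx.ClosedKer P) (h0 : ∀ A : C, IsZero A → P A)
    (K : CochainComplex C ℤ) (n b : ℤ) (hK : ∀ i, n ≤ i → P (K.X i)) (hb : ∀ i, b < i → IsZero (K.X i))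
    (hex : ∀ i, n < i → IsZero (K.homology i)) (i : ℤ) (hi : n ≤ i) : P (K.cycles i) := by
  have key : ∀ (k : ℕ) (i : ℤ), n ≤ i → b + 1 - k ≤ i → P (K.cycles i) := by
    intro k
    induction k with
    | zero =>
      intro i _ hi
      refine h0 _ ?_
      have hz : IsZero (K.X i) := hb i (by simp at hi; lia)
      rw [IsZero.iff_id_eq_zero, ← cancel_mono (K.iCycles i)]
      exact hz.eq_of_tgt _ _
    | succ k ih =>
      intro i hi1 hi2
      exact Dcoh.BddCx.prop_of_shortExact hP (shortExact_cycles K i (i + 1) rfl (hex _ (by lia)))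
        (hK i hi1) (ih (i + 1) (by lia) (by push_cast at hi2; lia))
  exact key (b + 1 - i).toNat i hi (by lia)

end cycles

open Dcoh.LocalD

variable {X : Scheme.{u}}

theorem closedKer_FLF (X : Scheme.{u}) :
    Dcoh.BddCx.ClosedKer (fun M : X.Modules => FlatMod.IsFinLocFree M) :=
  fun _ _ p _ hA hB => Dcoh.Spread.isFinLocFree_kernel p hA hB

instance : ObjectProperty.IsClosedUnderIsomorphisms
    (fun M : X.Modules => FlatMod.IsFinLocFree M) where
  of_iso e h := Dcoh.FinLocFree.isFinLocFree_of_iso e h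

theorem isFinLocFree_cycles {E : CochainComplex X.Modules ℤ} (hE : DCoh.IsStrictlyPerfect E)
    (n : ℤ) (hex : ∀ i, n < i → IsZero (E.homology i)) : FlatMod.IsFinLocFree (E.cycles n) := by
  obtain ⟨⟨a, b, hab⟩, hE⟩ := hE
  exact prop_cycles (closedKer_FLF X) (fun _ h => Dcoh.FinLocFree.isFinLocFree_of_isZero h) E n b
    (fun i _ => hE i) (fun i hi => hab i (Or.inr hi)) hex n le_rfl

/-- The cohomology of `E` vanishes where the one of the target of an isomorphism on cohomology does. -/
theorem isZero_homology_of_isIso {E : CochainComplex X.Modules ℤ} {K : DCoh.D X}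
    (α : DerivedCategory.Q.obj E ⟶ K) (i : ℤ)
    (hα : IsIso ((DerivedCategory.homologyFunctor _ i).map α)) (hK : IsZero (DCoh.HD K i)) :
    IsZero (E.homology i) :=
  (hK.of_iso (asIso ((DerivedCategory.homologyFunctor _ i).map α))).of_iso
    ((DerivedCategory.homologyFunctorFactors X.Modules i).app E).symm

theorem isFT_of_strPC {K : DCoh.D X} {m : ℤ} (h : StrPC m X K)
    (hK : ∀ i : ℤ, m < i → IsZero (DCoh.HD K i)) : CohB1.IsFT (DCoh.HD K m) := by
  obtain ⟨E, α, hE, h1, h2⟩ := h
  have h3 := isFinLocFree_cycles hE m (fun i hi => isZero_homology_of_isIso α i (h1 i hi) (hK i hi))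
  have e := (DerivedCategory.homologyFunctorFactors X.Modules m).app E
  let p : E.cycles m ⟶ DCoh.HD K m := E.homologyπ m ≫
    e.inv ≫ (DerivedCategory.homologyFunctor _ m).map α
  have : Epi p := by
    have h4 : Epi (e.inv ≫ (DerivedCategory.homologyFunctor _ m).map α) := epi_comp _ _
    exact epi_comp _ _
  exact Dcoh.FTFP.isFT_of_epi_finLocFree h3 p

theorem isFP_of_strPC {K : DCoh.D X} {m : ℤ} (h : StrPC m X K)
    (hK : ∀ i : ℤ, m + 1 < i → IsZero (DCoh.HD K i)) : CohB1.IsFP (DCoh.HD K (m + 1)) := by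
  obtain ⟨E, α, hE, h1, h2⟩ := h
  have h3 := isFinLocFree_cycles hE (m + 1)
    (fun i hi => isZero_homology_of_isIso α i (h1 i (by lia)) (hK i hi))
  have h4 : CohB1.IsFP (E.homology (m + 1)) :=
    Dcoh.FTFP.isFP_of_cokernel_finLocFree (hE.2 m) h3 (E.toCycles m (m + 1)) (E.homologyπ (m + 1))
      (E.toCycles_comp_homologyπ m (m + 1)) (E.homologyIsCokernel m (m + 1) (by simp))
  have h5 := h1 (m + 1) (by lia)
  exact Dcoh.FTFP.isFP_of_iso (((DerivedCategory.homologyFunctorFactors X.Modules (m + 1)).app E).symm ≪≫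
    asIso ((DerivedCategory.homologyFunctor _ (m + 1)).map α)) h4

end Groth.Agent.Dcoh.TopCoh
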