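import Groth.Agent.Dcoh.DerPull
import Groth.Agent.PerfC.LpullFlat

/-!
# More on `Lf^*` and `Rf_*`: identity, composition, open immersions, restriction to opens
-/

set_option autoImplicit false

universe u

open CategoryTheory CategoryTheory.Limits AlgebraicGeometry Pretriangulated

attribute [local instance] HasDerivedCategory.standard

namespace Groth.Agent.Dcoh.DerPull

open Groth.Agent.Dcoh.DerAbs Groth.Agent.Dcoh.DerHo Groth.Agent.Dcoh.DerAdj
  Groth.Agent.Dcoh.DerComp Groth.Agent.Dcoh.DerSch Groth.Agent.Dcoh.CxFun Groth.Agent.Dcoh.KFlat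

variable {X Y Z U V : Scheme.{u}}

/-- `L(f ≫ g)^* = Lg^* ⋙ Lf^*`. -/
noncomputable def lpullCompIso (f : X ⟶ Y) (g : Y ⟶ Z)
    [DCoh.HasLpull f] [DCoh.HasLpull g] [DCoh.HasLpull (f ≫ g)] :
    DCoh.Lpull g ⋙ DCoh.Lpull f ≅ DCoh.Lpull (f ≫ g) :=
  (nonempty_compIso_left_of_isIso (Scheme.Modules.pullbackComp f g)
    (pullData g) (pullData (f ≫ g)) (DCoh.Lpull g) (lpullCounit g) (DCoh.Lpull f) (lpullCounit f)
    (fun K hK ↦ isIso_lpullCounit_app f _ (KFlatInput.isKFlat_pullback g K.as hK))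
    (DCoh.Lpull (f ≫ g)) (lpullCounit (f ≫ g))).choose

lemma lpullCompIso_fac (f : X ⟶ Y) (g : Y ⟶ Z)
    [DCoh.HasLpull f] [DCoh.HasLpull g] [DCoh.HasLpull (f ≫ g)]
    (K : HomotopyCategory Z.Modules (ComplexShape.up ℤ)) :
    (lpullCompIso f g).inv.app (DerivedCategory.Qh.obj K) ≫
      (DCoh.Lpull f).map ((lpullCounit g).app K) ≫
        (lpullCounit f).app
          (((Scheme.Modules.pullback g).mapHomotopyCategory (ComplexShape.up ℤ)).obj K) ≫
      DerivedCategory.Qh.map ((Functor.mapHomotopyCategoryCompIso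
        (Scheme.Modules.pullbackComp f g) (ComplexShape.up ℤ)).hom.app K) =
    (lpullCounit (f ≫ g)).app K :=
  (nonempty_compIso_left_of_isIso (Scheme.Modules.pullbackComp f g)
    (pullData g) (pullData (f ≫ g)) (DCoh.Lpull g) (lpullCounit g) (DCoh.Lpull f) (lpullCounit f)
    (fun K hK ↦ isIso_lpullCounit_app f _ (KFlatInput.isKFlat_pullback g K.as hK))
    (DCoh.Lpull (f ≫ g)) (lpullCounit (f ≫ g))).choose_spec K

/-- `R(f ≫ g)_* = Rf_* ⋙ Rg_*`, through the adjunctions. -/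
noncomputable def rpushCompIso (f : X ⟶ Y) (g : Y ⟶ Z) [DCoh.HasLpull f] [DCoh.HasLpull g]
    [DCoh.HasLpull (f ≫ g)] [DCoh.HasRpush f] [DCoh.HasRpush g] [DCoh.HasRpush (f ≫ g)] :
    DCoh.Rpush f ⋙ DCoh.Rpush g ≅ DCoh.Rpush (f ≫ g) :=
  conjugateIsoEquiv ((lpullAdj g).comp (lpullAdj f)) (lpullAdj (f ≫ g)) (lpullCompIso f g).symm

/-- `Lf^*` only depends on `f`. -/
noncomputable def lpullCongr {f g : X ⟶ Y} (h : f = g) [DCoh.HasLpull f] [DCoh.HasLpull g] :
    DCoh.Lpull f ≅ DCoh.Lpull g := by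
  subst h
  exact Iso.refl _

/-- `Rf_*` only depends on `f`. -/
noncomputable def rpushCongr {f g : X ⟶ Y} (h : f = g) [DCoh.HasRpush f] [DCoh.HasRpush g] :
    DCoh.Rpush f ≅ DCoh.Rpush g := by
  subst h
  exact Iso.refl _

section Flat

variable (f : X ⟶ Y) [PreservesFiniteLimits (Scheme.Modules.pullback f)] [DCoh.HasLpull f]

/-- `Lf^*` is induced by `f^*` if `f^*` is exact. -/
noncomputable abbrev lpullFlatIso :
    DCoh.Lpull f ≅ (Scheme.Modules.pullback f).mapDerivedCategory :=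
  Groth.Agent.PerfC.LpullFlat.lpullIso f

/-- `Lf^* (Q K) ≅ Q (f^* K)` for any complex `K` if `f^*` is exact. -/
noncomputable def lpullFlatQIso (K : CochainComplex Y.Modules ℤ) :
    (DCoh.Lpull f).obj (DerivedCategory.Q.obj K) ≅
      DerivedCategory.Q.obj (((Scheme.Modules.pullback f).mapHomologicalComplex
        (ComplexShape.up ℤ)).obj K) :=
  (lpullFlatIso f).app _ ≪≫ (Scheme.Modules.pullback f).mapDerivedCategoryFactors.app K

end Flat

section Open

variable (j : U ⟶ X) [IsOpenImmersion j]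

instance preservesFiniteLimits_pullback_open :
    PreservesFiniteLimits (Scheme.Modules.pullback j) :=
  preservesFiniteLimits_of_natIso (Scheme.Modules.restrictFunctorIsoPullback j)

/-- `Lj^*` is the restriction for an open immersion `j`. -/
noncomputable def lpullOpenIso [DCoh.HasLpull j] : DCoh.Lpull j ≅ DCoh.restrictD j :=
  lpullFlatIso j ≪≫ MapDer.mapDerIso (Scheme.Modules.restrictFunctorIsoPullback j).symm

end Open

section Square

variable {f : X ⟶ Y} {f' : U ⟶ V} {j' : U ⟶ X} {j : V ⟶ Y}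
  [IsOpenImmersion j'] [IsOpenImmersion j]

/-- Restriction to opens of `Lf^*`. -/
noncomputable def lpullRestrictIso [DCoh.HasLpull f] [DCoh.HasLpull f'] (sq : j' ≫ f = f' ≫ j) :
    DCoh.Lpull f ⋙ DCoh.restrictD j' ≅ DCoh.restrictD j ⋙ DCoh.Lpull f' :=
  haveI := hasLpull j
  haveI := hasLpull j'
  haveI := hasLpull (j' ≫ f)
  haveI := hasLpull (f' ≫ j)
  Functor.isoWhiskerLeft _ (lpullOpenIso j').symm ≪≫ lpullCompIso j' f ≪≫
    lpullCongr sq ≪≫ (lpullCompIso f' j).symm ≪≫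
    Functor.isoWhiskerRight (lpullOpenIso j) _

end Square

end Groth.Agent.Dcoh.DerPull
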