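import Groth.Agent.Dcoh.BddCx
import Mathlib.Algebra.Homology.HomotopyCategory.MappingCone

/-!
# Approximations of bounded complexes by bounded complexes

`C` abelian, `P : ObjectProperty C` closed under isomorphisms, zero objects, binary biproducts and kernels of
epimorphisms between members.

* `prop_opcycles_of_map`: let `γ : R ⟶ E` be a morphism of bounded above complexes with terms in `P`,
  `E` concentrated in degrees `≥ a`, `H^i(γ)` an isomorphism for `i ≥ a`.  Then `R.opcycles a ∈ P`.
* `isIso_map_biprod`.
-/

set_option autoImplicit false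

universe w v u

open CategoryTheory CategoryTheory.Limits

namespace Groth.Agent.Dcoh.BddCx2

open Groth.Agent.Dcoh.BddCx

section

variable {C : Type u} [Category.{v} C] [Abelian C]

/-- An isomorphism of `opcycles` from isomorphisms of consecutive terms commuting with differentials. -/
noncomputable def opcyclesIso (K L : CochainComplex C ℤ) (i j i' j' : ℤ) (hij : i + 1 = j)
    (hij' : i' + 1 = j') (u : K.X i ≅ L.X i') (v : K.X j ≅ L.X j')
    (w : K.d i j ≫ v.hom = u.hom ≫ L.d i' j') : K.opcycles j ≅ L.opcycles j' where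
  hom := K.descOpcycles (v.hom ≫ L.pOpcycles j') i (by simp [← hij])
    (by rw [reassoc_of% w, L.d_pOpcycles, comp_zero])
  inv := L.descOpcycles (v.inv ≫ K.pOpcycles j) i' (by simp [← hij']) (by
    have w' : L.d i' j' ≫ v.inv = u.inv ≫ K.d i j := by
      rw [Iso.comp_inv_eq, Category.assoc, w, Iso.inv_hom_id_assoc]
    rw [reassoc_of% w', K.d_pOpcycles, comp_zero])
  hom_inv_id := by
    rw [← cancel_epi (K.pOpcycles j)]
    simp
  inv_hom_id := by
    rw [← cancel_epi (L.pOpcycles j')]
    simp

open CochainComplex in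
/-- If `E.X i = 0`, then `(mappingCone γ).X i ≅ R.X (i+1)`. -/
noncomputable def coneXIso {R E : CochainComplex C ℤ} (γ : R ⟶ E) (i j : ℤ) (hij : i + 1 = j)
    (h : IsZero (E.X i)) : (mappingCone γ).X i ≅ R.X j where
  hom := (mappingCone.fst γ).1.v i j hij
  inv := (mappingCone.inl γ).v j i (by lia)
  hom_inv_id := by
    have h1 := mappingCone.id_X γ i j hij
    have h2 : (mappingCone.snd γ).v i i (add_zero i) ≫ (mappingCone.inr γ).f i = 0 := by
      rw [h.eq_of_tgt ((mappingCone.snd γ).v i i (add_zero i)) 0, zero_comp]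
    rw [h2, add_zero] at h1
    exact h1
  inv_hom_id := mappingCone.inl_v_fst_v γ j i hij

open CochainComplex in
/-- If `E` vanishes in degrees `i - 1` and `i`, then
`(mappingCone γ).opcycles i ≅ R.opcycles (i+1)`. -/
noncomputable def coneOpcyclesIso {R E : CochainComplex C ℤ} (γ : R ⟶ E) (i j k : ℤ) (hij : i + 1 = j)
    (hjk : j + 1 = k) (hi : IsZero (E.X i)) (hj : IsZero (E.X j)) :
    (mappingCone γ).opcycles j ≅ R.opcycles k :=
  opcyclesIso _ _ i j j k hij hjk (-(coneXIso γ i j hij hi)) (coneXIso γ j k hjk hj) (by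
    have := mappingCone.d_fst_v γ i j k hij hjk
    simpa [coneXIso] using this)

end

section Derived

variable {C : Type u} [Category.{v} C] [Abelian C] [HasDerivedCategory.{w} C]

open DerivedCategory CochainComplex

/-- Vanishing of the cohomology of the mapping cone. -/
lemma isZero_homology_mappingCone {R E : CochainComplex C ℤ} (γ : R ⟶ E) (i j : ℤ) (hij : i + 1 = j)
    (h1 : Epi ((homologyFunctor C i).map (Q.map γ))) (h2 : Mono ((homologyFunctor C j).map (Q.map γ))) :
    IsZero ((mappingCone γ).homology i) := by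
  have h := isZero_homology_obj₃ _ (mappingCone_triangle_distinguished γ) i j hij h1 h2
  exact h.of_iso ((homologyFunctorFactors C i).symm.app (mappingCone γ))

/-- See the module docstring. -/
theorem prop_opcycles_of_map {P : ObjectProperty C} [P.IsClosedUnderIsomorphisms]
    (hP : ClosedKer P) (h0 : ∀ A : C, IsZero A → P A) (hbi : ∀ A B : C, P A → P B → P (A ⊞ B))
    {R E : CochainComplex C ℤ} (γ : R ⟶ E) (a b : ℤ) (hE : ∀ i, i < a → IsZero (E.X i))
    (hRb : ∀ i, b < i → IsZero (R.X i)) (hEb : ∀ i, b < i → IsZero (E.X i))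
    (hRP : ∀ i, P (R.X i)) (hEP : ∀ i, P (E.X i))
    (hγ : ∀ i, a ≤ i → IsIso ((homologyFunctor C i).map (Q.map γ))) : P (R.opcycles a) := by
  have hX : ∀ i, P ((mappingCone γ).X i) := fun i =>
    P.prop_of_iso (HomologicalComplex.homotopyCofiber.XIsoBiprod γ i (i + 1) (by simp)).symm
      (hbi _ _ (hRP _) (hEP _))
  have hXb : ∀ i, b < i → IsZero ((mappingCone γ).X i) := fun i hi => by
    refine IsZero.of_iso ?_ (HomologicalComplex.homotopyCofiber.XIsoBiprod γ i (i + 1) (by simp))
    rw [biprod_isZero_iff]
    exact ⟨hRb _ (by lia), hEb _ hi⟩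
  have hH : ∀ i, a - 1 ≤ i → IsZero ((mappingCone γ).homology i) := by
    intro i hi
    refine isZero_homology_mappingCone γ i (i + 1) rfl ?_ ?_
    · rcases eq_or_lt_of_le hi with rfl | hi
      · have : IsZero ((homologyFunctor C (a - 1)).obj (Q.obj E)) := by
          refine IsZero.of_iso ?_ ((homologyFunctorFactors C (a - 1)).app E)
          exact ShortComplex.isZero_homology_of_isZero_X₂ _ (hE _ (by lia))
        exact ⟨fun _ _ _ => this.eq_of_src _ _⟩
      · have := hγ i (by lia)
        infer_instance
    · have := hγ (i + 1) (by lia)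
      infer_instance
  have := prop_opcycles hP h0 (mappingCone γ) (a - 1) b (fun i _ => hX i) hXb hH (a - 1) le_rfl
  exact P.prop_of_iso (coneOpcyclesIso γ (a - 2) (a - 1) a (by lia) (by lia) (hE _ (by lia))
    (hE _ (by lia))) this

end Derived

section Biprod

variable {C : Type*} [Category* C] [Preadditive C] {D : Type*} [Category* D] [Preadditive D]

/-- An additive functor maps `biprod.map f g` to an isomorphism if it does so for `f` and `g`. -/
lemma isIso_map_biprod (F : C ⥤ D) [F.Additive] {A B A' B' : C} [HasBinaryBiproduct A B]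
    [HasBinaryBiproduct A' B'] (f : A ⟶ A') (g : B ⟶ B') [IsIso (F.map f)] [IsIso (F.map g)] :
    IsIso (F.map (biprod.map f g)) := by
  refine ⟨F.map biprod.fst ≫ inv (F.map f) ≫ F.map biprod.inl +
    F.map biprod.snd ≫ inv (F.map g) ≫ F.map biprod.inr, ?_, ?_⟩
  · rw [Preadditive.comp_add, ← Functor.map_comp_assoc, ← Functor.map_comp_assoc, biprod.map_fst,
      biprod.map_snd, Functor.map_comp, Functor.map_comp]
    simp only [Category.assoc, IsIso.hom_inv_id_assoc]
    rw [← Functor.map_comp, ← Functor.map_comp, ← Functor.map_add, biprod.total, CategoryTheory.Functor.map_id]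
  · rw [Preadditive.add_comp]
    simp only [Category.assoc]
    rw [← Functor.map_comp, ← Functor.map_comp, biprod.inl_map, biprod.inr_map, Functor.map_comp, Functor.map_comp]
    simp only [IsIso.inv_hom_id_assoc]
    rw [← Functor.map_comp, ← Functor.map_comp, ← Functor.map_add, biprod.total, CategoryTheory.Functor.map_id]

end Biprod

end Groth.Agent.Dcoh.BddCx2
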