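import Groth.Agent.Dcoh.LocalD
import Groth.Agent.Dcoh.FinLocFree
import Groth.Agent.Dcoh.BddCx

/-!
# Strictly perfect complexes: shift, mapping cone, biproducts, truncation

Also: shifts of perfect / pseudo-coherent objects of `D(O_X)`, and distinguished triangles between
objects represented by strictly perfect complexes and a chain map.
-/

set_option autoImplicit false

universe u

open CategoryTheory CategoryTheory.Limits AlgebraicGeometry CategoryTheory.Pretriangulated ZeroObject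

attribute [local instance] HasDerivedCategory.standard

namespace Groth.Agent.Dcoh.StrPerf

open LocalD

variable {X Y : Scheme.{u}}

/-- Finite locally free modules as an object property. -/
def FLF (X : Scheme.{u}) : ObjectProperty X.Modules := fun M => FlatMod.IsFinLocFree M

instance : (FLF X).IsClosedUnderIsomorphisms where
  of_iso e h := FinLocFree.isFinLocFree_of_iso e h

lemma isStrictlyPerfect_of_iso {E F : CochainComplex X.Modules ℤ} (e : E ≅ F)
    (h : DCoh.IsStrictlyPerfect E) : DCoh.IsStrictlyPerfect F := by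
  have ei : ∀ i, E.X i ≅ F.X i := fun i => (HomologicalComplex.eval _ _ i).mapIso e
  obtain ⟨⟨a, b, hab⟩, h⟩ := h
  exact ⟨⟨a, b, fun i hi => (hab i hi).of_iso (ei i).symm⟩,
    fun i => FinLocFree.isFinLocFree_of_iso (ei i) (h i)⟩

lemma isStrictlyPerfect_of_isZero {E : CochainComplex X.Modules ℤ} (h : ∀ i, IsZero (E.X i)) :
    DCoh.IsStrictlyPerfect E :=
  ⟨⟨0, 0, fun i _ => h i⟩, fun i => FinLocFree.isFinLocFree_of_isZero (h i)⟩

lemma isStrictlyPerfect_zero : DCoh.IsStrictlyPerfect (0 : CochainComplex X.Modules ℤ) :=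
  isStrictlyPerfect_of_isZero fun i => by
    have h : IsZero (0 : CochainComplex X.Modules ℤ) := isZero_zero _
    exact (HomologicalComplex.eval X.Modules (ComplexShape.up ℤ) i).map_isZero h

lemma isStrictlyPerfect_shift {E : CochainComplex X.Modules ℤ} (h : DCoh.IsStrictlyPerfect E)
    (n : ℤ) : DCoh.IsStrictlyPerfect (E⟦n⟧) := by
  obtain ⟨⟨a, b, hab⟩, h⟩ := h
  refine ⟨⟨a - n, b - n, fun i hi => ?_⟩, fun i => h (i + n)⟩
  exact hab (i + n) (by lia)

lemma isStrictlyPerfect_mappingCone {E F : CochainComplex X.Modules ℤ}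
    (hE : DCoh.IsStrictlyPerfect E) (hF : DCoh.IsStrictlyPerfect F) (φ : E ⟶ F) :
    DCoh.IsStrictlyPerfect (CochainComplex.mappingCone φ) := by
  obtain ⟨⟨a, b, hab⟩, hE⟩ := hE
  obtain ⟨⟨a', b', hab'⟩, hF⟩ := hF
  have e : ∀ i : ℤ, (CochainComplex.mappingCone φ).X i ≅ E.X (i + 1) ⊞ F.X i := fun i =>
    HomologicalComplex.homotopyCofiber.XIsoBiprod φ i (i + 1) (by simp)
  refine ⟨⟨min (a - 1) a', max b b', fun i hi => ?_⟩, fun i => ?_⟩
  · refine IsZero.of_iso ?_ (e i)
    rw [biprod_isZero_iff]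
    exact ⟨hab _ (by lia), hab' _ (by lia)⟩
  · exact FinLocFree.isFinLocFree_of_iso (e i).symm
      (FinLocFree.isFinLocFree_biprod (hE _) (hF _))

lemma isStrictlyPerfect_biprod {E F : CochainComplex X.Modules ℤ}
    (hE : DCoh.IsStrictlyPerfect E) (hF : DCoh.IsStrictlyPerfect F) :
    DCoh.IsStrictlyPerfect (E ⊞ F) := by
  obtain ⟨⟨a, b, hab⟩, hE⟩ := hE
  obtain ⟨⟨a', b', hab'⟩, hF⟩ := hF
  have e : ∀ i : ℤ, (E ⊞ F).X i ≅ E.X i ⊞ F.X i := fun i =>
    (HomologicalComplex.eval X.Modules (ComplexShape.up ℤ) i).mapBiprod E F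
  refine ⟨⟨min a a', max b b', fun i hi => ?_⟩, fun i => ?_⟩
  · refine IsZero.of_iso ?_ (e i)
    rw [biprod_isZero_iff]
    exact ⟨hab _ (by lia), hab' _ (by lia)⟩
  · exact FinLocFree.isFinLocFree_of_iso (e i).symm
      (FinLocFree.isFinLocFree_biprod (hE _) (hF _))

/-- The canonical truncation of a strictly perfect complex is strictly perfect as soon as the
boundary term is finite locally free. -/
lemma isStrictlyPerfect_truncGE {E : CochainComplex X.Modules ℤ} (hE : DCoh.IsStrictlyPerfect E)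
    (n : ℤ) (hn : FlatMod.IsFinLocFree (E.opcycles n)) : DCoh.IsStrictlyPerfect (E.truncGE n) := by
  obtain ⟨⟨a, b, hab⟩, hE⟩ := hE
  refine ⟨⟨n, b, fun i hi => ?_⟩, fun i => ?_⟩
  · rcases hi with hi | hi
    · exact (E.truncGE n).isZero_of_isStrictlyGE n i hi
    · exact BddCx.truncGE_isZero_of_lt E n b (fun i hi => hab i (Or.inr hi)) i hi
  · exact BddCx.prop_truncGE_X (P := FLF X) (fun _ h => FinLocFree.isFinLocFree_of_isZero h) E n hn
      (fun i _ => hE i) i

/-- The shift of `Q E` is `Q (E⟦n⟧)`. -/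
lemma strPerf_shift {K : DCoh.D X} (h : StrPerf X K) (n : ℤ) : StrPerf X (K⟦n⟧) := by
  obtain ⟨E, hE, ⟨e⟩⟩ := h
  exact ⟨E⟦n⟧, isStrictlyPerfect_shift hE n,
    ⟨(shiftFunctor (DCoh.D X) n).mapIso e ≪≫ (DerivedCategory.Q.commShiftIso n).symm.app E⟩⟩

/-- Restriction commutes with shifts. -/
noncomputable def restrictShift (f : X ⟶ Y) [IsOpenImmersion f] (K : DCoh.D Y) (n : ℤ) :
    (DCoh.restrictD f).obj (K⟦n⟧) ≅ ((DCoh.restrictD f).obj K)⟦n⟧ :=
  ((DCoh.restrictD f).commShiftIso n).app K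

theorem isPerfect_shift {K : DCoh.D X} (h : DCoh.IsPerfect K) (n : ℤ) : DCoh.IsPerfect (K⟦n⟧) := by
  rw [isPerfect_iff_locally] at h ⊢
  intro x
  obtain ⟨V, hx, hV⟩ := h x
  exact ⟨V, hx, isStable_strPerf.iso (restrictShift V.ι K n).symm (strPerf_shift hV n)⟩

theorem isPerfect_of_shift {K : DCoh.D X} (n : ℤ) (h : DCoh.IsPerfect (K⟦n⟧)) : DCoh.IsPerfect K :=
  isPerfect_of_iso ((shiftEquiv (DCoh.D X) n).unitIso.symm.app K) (isPerfect_shift h (-n))

/-- The third vertex of a distinguished triangle on `Q.map φ`, `φ` a morphism of strictly perfect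
complexes, is represented by a strictly perfect complex. -/
lemma strPerf_obj₃ (T : Triangle (DCoh.D X)) (hT : T ∈ distinguishedTriangles)
    {E F : CochainComplex X.Modules ℤ} (hE : DCoh.IsStrictlyPerfect E) (hF : DCoh.IsStrictlyPerfect F)
    (φ : E ⟶ F) (e₁ : T.obj₁ ≅ DerivedCategory.Q.obj E) (e₂ : T.obj₂ ≅ DerivedCategory.Q.obj F)
    (w : T.mor₁ ≫ e₂.hom = e₁.hom ≫ DerivedCategory.Q.map φ) : StrPerf X T.obj₃ := by
  refine ⟨_, isStrictlyPerfect_mappingCone hE hF φ, ?_⟩
  exact ⟨Triangle.π₃.mapIso (isoTriangleOfIso₁₂ T _ hT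
    (DerivedCategory.mappingCone_triangle_distinguished φ) e₁ e₂ w)⟩

end Groth.Agent.Dcoh.StrPerf
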