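import Groth.Agent.Dcoh.ModD
import Groth.Agent.Dcoh.FinLocFree
import Groth.Agent.Sga67.LocBasisOps
import Mathlib.CategoryTheory.ObjectProperty.FiniteProducts

/-!
# The tensor product of bounded complexes with terms in a class of objects

* `prop_tensor_X`: if `P` is stable under finite coproducts and tensor products, and `K`, `L` are bounded complexes
  with terms in `P` then the terms of `K ⊗ L` are in `P`;
* `isZero_tensor_X`: bounds;
* `isStrictlyPerfect_tensor`: the tensor product of strictly perfect complexes is strictly perfect.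
-/

set_option autoImplicit false

open CategoryTheory Limits MonoidalCategory

namespace Groth.Agent.Dcoh.StrTens305

universe v u

section Cofan

variable {C : Type u} [Category.{v} C] [HasZeroMorphisms C] {I : Type} (Y : I → C)

/-- A coproduct is the coproduct of its nonzero summands. -/
noncomputable def isColimitRestrict (c : Cofan Y) (hc : IsColimit c) (s : I → Prop)
    (h0 : ∀ i, ¬ s i → IsZero (Y i)) :
    IsColimit (Cofan.mk c.pt (fun i : {i // s i} => c.inj i.1)) := by
  classical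
  refine Cofan.IsColimit.mk _ (fun t => Cofan.IsColimit.desc hc
    (fun i => if h : s i then t.inj ⟨i, h⟩ else 0)) (fun t j => ?_) (fun t m hm => ?_)
  · refine (Cofan.IsColimit.fac hc _ _).trans ?_
    rw [dif_pos j.2]
  · refine Cofan.IsColimit.hom_ext hc _ _ (fun i => ?_)
    by_cases h : s i
    · rw [Cofan.IsColimit.fac, dif_pos h]
      exact hm ⟨i, h⟩
    · exact (h0 i h).eq_of_src _ _

theorem prop_cofan (P : ObjectProperty C) [P.IsClosedUnderFiniteCoproducts] (c : Cofan Y) (hc : IsColimit c)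
    (s : I → Prop) [Finite {i // s i}] (h0 : ∀ i, ¬ s i → IsZero (Y i)) (hP : ∀ i, s i → P (Y i)) : P c.pt :=
  P.prop_of_isColimit_cofan (f := fun i : {i // s i} => Y i.1) (F := Cofan.mk c.pt (fun i => c.inj i.1))
    (isColimitRestrict Y c hc s h0) (fun i => hP i.1 i.2)

end Cofan

section Cx

open Groth.Agent.Dcoh.MonCx

variable {A : Type u} [Category.{v} A] [Preadditive A] [MonoidalCategory A] [TensorGood A]
  (K L : CochainComplex A ℤ)

/-- The terms of `K ⊗ L` as coproducts. -/
noncomputable def cofanT (n : ℤ) : Cofan (fun pq : {pq : ℤ × ℤ // pq.1 + pq.2 = n} => K.X pq.1.1 ⊗ L.X pq.1.2) :=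
  Cofan.mk ((K ⊗ L).X n) (fun pq => ιT K L pq.1.1 pq.1.2 n pq.2)

noncomputable def isColimitCofanT (n : ℤ) : IsColimit (cofanT K L n) :=
  Cofan.IsColimit.mk _ (fun t => HomologicalComplex.mapBifunctorDesc (F := curriedTensor A) (c := ComplexShape.up ℤ)
      (fun p q h => t.inj ⟨(p, q), h⟩))
    (fun _ _ => HomologicalComplex.ι_mapBifunctorDesc _ _ _ _)
    (fun t _ hm => hom_ext (fun p q h => (hm ⟨(p, q), h⟩).trans
      (HomologicalComplex.ι_mapBifunctorDesc (F := curriedTensor A) (c := ComplexShape.up ℤ)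
        (fun p q h => t.inj ⟨(p, q), h⟩) p q h).symm))

variable {K L}

lemma isZero_tensor {X Y : A} (h : IsZero X ∨ IsZero Y) : IsZero (X ⊗ Y) := by
  rcases h with h | h
  · exact (tensorRight Y).map_isZero h
  · exact (tensorLeft X).map_isZero h

theorem isZero_tensor_X {a b a' b' : ℤ} (hK : ∀ i, i < a ∨ b < i → IsZero (K.X i))
    (hL : ∀ i, i < a' ∨ b' < i → IsZero (L.X i)) (n : ℤ) (hn : n < a + a' ∨ b + b' < n) :
    IsZero ((K ⊗ L).X n) := by
  rw [IsZero.iff_id_eq_zero]
  refine hom_ext (fun p q h => ?_)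
  refine IsZero.eq_of_src (isZero_tensor ?_) _ _
  by_cases h1 : p < a ∨ b < p
  · exact Or.inl (hK p h1)
  · exact Or.inr (hL q (by lia))

theorem prop_tensor_X (P : ObjectProperty A) [P.IsClosedUnderFiniteCoproducts]
    (hP : ∀ X Y, P X → P Y → P (X ⊗ Y)) {a b : ℤ} (hK : ∀ i, i < a ∨ b < i → IsZero (K.X i))
    (hK' : ∀ i, P (K.X i)) (hL' : ∀ i, P (L.X i)) (n : ℤ) :
    P ((K ⊗ L).X n) := by
  let s : {pq : ℤ × ℤ // pq.1 + pq.2 = n} → Prop := fun pq => a ≤ pq.1.1 ∧ pq.1.1 ≤ b
  have hs : Finite {pq // s pq} := by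
    refine Finite.of_injective (β := Set.Icc a b) (fun pq => ⟨pq.1.1.1, pq.2⟩) (fun x y hxy => ?_)
    have h1 : x.1.1.1 = y.1.1.1 := congrArg Subtype.val hxy
    have h2 := x.1.2
    have h3 := y.1.2
    exact Subtype.ext (Subtype.ext (Prod.ext h1 (by lia)))
  refine @prop_cofan _ _ _ _ _ P _ _ (isColimitCofanT K L n) s hs
    (fun pq h => isZero_tensor (Or.inl (hK _ (by have h' : ¬ (a ≤ pq.1.1 ∧ pq.1.1 ≤ b) := h; lia))))
    (fun pq _ => hP _ _ (hK' _) (hL' _))

end Cx

section Scheme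

open AlgebraicGeometry
open scoped Groth.Agent.Dcoh.MonCat

variable {X : Scheme.{u}}

/-- The class of finite locally free modules. -/
def FLF (X : Scheme.{u}) : ObjectProperty X.Modules := fun M => FlatMod.IsFinLocFree M

instance : (FLF X).IsClosedUnderIsomorphisms := ⟨fun e h => FinLocFree.isFinLocFree_of_iso e h⟩

open scoped ZeroObject in
instance : (FLF X).ContainsZero := ⟨⟨0, isZero_zero _, FinLocFree.isFinLocFree_of_isZero (isZero_zero _)⟩⟩

instance : (FLF X).IsClosedUnderBinaryCoproducts where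
  colimitsOfShape_le := by
    rintro M ⟨p⟩
    have h1 : FLF X (p.diag.obj ⟨WalkingPair.left⟩) := p.prop_diag_obj _
    have h2 : FLF X (p.diag.obj ⟨WalkingPair.right⟩) := p.prop_diag_obj _
    have e : M ≅ (p.diag.obj ⟨WalkingPair.left⟩) ⊞ (p.diag.obj ⟨WalkingPair.right⟩) :=
      p.isColimit.coconePointsIsoOfNatIso (BinaryBiproduct.isColimit _ _) (diagramIsoPair p.diag)
    exact (FLF X).prop_of_iso e.symm (FinLocFree.isFinLocFree_biprod h1 h2)

instance : (FLF X).IsClosedUnderFiniteCoproducts := ObjectProperty.IsClosedUnderFiniteCoproducts.mk'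

theorem isFinLocFree_tensorObj {M N : X.Modules} (hM : FlatMod.IsFinLocFree M) (hN : FlatMod.IsFinLocFree N) :
    FlatMod.IsFinLocFree (M ⊗ N) :=
  Sga67.LocBasis.isFinLocFree_tensorMod hM hN

theorem isStrictlyPerfect_tensor {K L : CochainComplex X.Modules ℤ} (hK : DCoh.IsStrictlyPerfect K)
    (hL : DCoh.IsStrictlyPerfect L) : DCoh.IsStrictlyPerfect (K ⊗ L) := by
  obtain ⟨⟨a, b, h1⟩, h2⟩ := hK
  obtain ⟨⟨a', b', h3⟩, h4⟩ := hL
  exact ⟨⟨a + a', b + b', fun n hn => isZero_tensor_X h1 h3 n hn⟩,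
    fun n => prop_tensor_X (FLF X) (fun _ _ => isFinLocFree_tensorObj) h1 h2 h4 n⟩

theorem isStrictlyPerfect_tensorCx {K L : CochainComplex X.Modules ℤ} (hK : DCoh.IsStrictlyPerfect K)
    (hL : DCoh.IsStrictlyPerfect L) : DCoh.IsStrictlyPerfect ((DCoh.tensorCx.obj K).obj L) :=
  isStrictlyPerfect_tensor hK hL

end Scheme

end Groth.Agent.Dcoh.StrTens305
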