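import Groth.Agent.Dcoh.DualX
import Groth.Agent.Dcoh.StrTens305

/-!
# The tensor product of perfect objects is perfect
-/

set_option autoImplicit false

universe u

open CategoryTheory Limits MonoidalCategory AlgebraicGeometry
attribute [local instance] HasDerivedCategory.standard

open scoped Groth.Agent.Dcoh.MonCat Groth.Agent.Dcoh.ModD

namespace Groth.Agent.Dcoh.PerfTens

open Groth.Agent.Dcoh.MonCx Groth.Agent.Dcoh.MonD Groth.Agent.Dcoh.ModD Groth.Agent.Dcoh.LocalFree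
open Groth.Agent.Dcoh.LocalD

variable {X : Scheme.{u}}

lemma strPerf_tensor {K L : DCoh.D X} (hK : FreePerf X K) (hL : FreePerf X L) : StrPerf X (K ⊗ L) := by
  obtain ⟨E, a, b, hE, hF, ⟨e⟩⟩ := hK
  obtain ⟨E', a', b', hE', hF', ⟨e'⟩⟩ := hL
  refine ⟨E ⊗ E', StrTens305.isStrictlyPerfect_tensor ⟨⟨a, b, hE⟩, fun i => isFinLocFree_of_isFree (hF i)⟩
    ⟨⟨a', b', hE'⟩, fun i => isFinLocFree_of_isFree (hF' i)⟩, ⟨(e ⊗ᵢ e') ≪≫ ?_⟩⟩
  exact (μR (P := KF X) E' (DualX.KF_of_free E' a' b' hE' hF')).app E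

/-- The tensor product of perfect objects of `D(O_X)` is perfect. -/
theorem isPerfect_tensor {K L : DCoh.D X} (hK : DCoh.IsPerfect K) (hL : DCoh.IsPerfect L) :
    DCoh.IsPerfect (K ⊗ L) := by
  have h1 := (isPerfect_iff_locally_freePerf K).1 hK
  have h2 := (isPerfect_iff_locally_freePerf L).1 hL
  rw [isPerfect_iff_locally]
  intro x
  obtain ⟨V, hxV, hV⟩ := h1 x
  obtain ⟨W, hxW, hW⟩ := h2 x
  have hV' := isStable_freePerf.restrict_le (inf_le_left : V ⊓ W ≤ V) hV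
  have hW' := isStable_freePerf.restrict_le (inf_le_right : V ⊓ W ≤ W) hW
  refine ⟨V ⊓ W, ⟨hxV, hxW⟩, ?_⟩
  let hm := ProjShriekD.restrictDMonoidal (V ⊓ W).ι
  exact isStable_strPerf.iso (Functor.Monoidal.μIso (DCoh.restrictD (V ⊓ W).ι) K L) (strPerf_tensor hV' hW')

/-- S0962. -/
theorem isPerfect_LTensor (L : CochainComplex X.Modules ℤ)
    (hLp : DCoh.IsPerfect (DerivedCategory.Q.obj L)) [DCoh.HasLTensorCx L] (K : DCoh.D X) (hK : DCoh.IsPerfect K) :
    DCoh.IsPerfect ((DCoh.LTensorCx L).obj K) :=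
  LocalD.isPerfect_of_iso ((ModTens.LTensorCxIso L).app K).symm (isPerfect_tensor hK hLp)

end Groth.Agent.Dcoh.PerfTens
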