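import Groth.Agent.Dcoh.MonD
import Groth.Agent.Dcoh.CxFun
import Groth.Agent.Dcoh.DerHo

/-!
# The derived functor of `- ⊗ E` is the tensor product in the derived category

For every complex `E` the total left derived functor of `K ↦ Q (K ⊗ E)` is `- ⊗ Q E` for the monoidal structure
on the derived category constructed in `MonD`.
-/

set_option autoImplicit false

open CategoryTheory Limits MonoidalCategory

namespace Groth.Agent.Dcoh.MonDer

open Groth.Agent.Dcoh.MonCx Groth.Agent.Dcoh.MonD

universe w v u

variable {A : Type u} [Category.{v} A] [Abelian A] [MonoidalCategory A] [TensorGood A]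

instance htpy_tensorRight (E : CochainComplex A ℤ) : CxFun.HtpyFunctor (tensorRight E) where
  homotopy h := CxFun.HtpyFunctor.homotopy ((curriedTensor A).map₂CochainComplex.flip.obj E) h

instance htpy_tensorLeft (E : CochainComplex A ℤ) : CxFun.HtpyFunctor (tensorLeft E) where
  homotopy h := CxFun.HtpyFunctor.homotopy ((curriedTensor A).map₂CochainComplex.obj E) h

variable [HasDerivedCategory.{w} A] (P : ObjectProperty (CochainComplex A ℤ)) [Adapted P]

/-- A quasi-isomorphism between complexes in `P` stays one after tensoring with anything. -/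
lemma quasiIso_whiskerRight {X Y : CochainComplex A ℤ} (f : X ⟶ Y) (hX : P X) (hY : P Y) [QuasiIso f]
    (E : CochainComplex A ℤ) : QuasiIso (f ▷ E) := by
  obtain ⟨E', r, hE', hr⟩ := Adapted.res (P := P) E
  have h1 : QuasiIso (X ◁ r) := Adapted.whiskerLeft X hX r hr
  have h2 : QuasiIso (Y ◁ r) := Adapted.whiskerLeft Y hY r hr
  have h3 : QuasiIso (f ▷ E') := Adapted.whiskerRight E' hE' f inferInstance
  have h4 : X ◁ r ≫ f ▷ E = f ▷ E' ≫ Y ◁ r := whisker_exchange f r
  have h5 : QuasiIso (X ◁ r ≫ f ▷ E) := by rw [h4]; infer_instance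
  exact quasiIso_of_comp_left (X ◁ r) (f ▷ E)

lemma quasiIso_whiskerLeft {X Y : CochainComplex A ℤ} (f : X ⟶ Y) (hX : P X) (hY : P Y) [QuasiIso f]
    (E : CochainComplex A ℤ) : QuasiIso (E ◁ f) := by
  obtain ⟨E', r, hE', hr⟩ := Adapted.res (P := P) E
  have h1 : QuasiIso (r ▷ X) := Adapted.whiskerRight X hX r hr
  have h2 : QuasiIso (r ▷ Y) := Adapted.whiskerRight Y hY r hr
  have h3 : QuasiIso (E' ◁ f) := Adapted.whiskerLeft E' hE' f inferInstance
  have h4 : E' ◁ f ≫ r ▷ Y = r ▷ X ≫ E ◁ f := whisker_exchange r f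
  have h5 : QuasiIso (r ▷ X ≫ E ◁ f) := by rw [← h4]; infer_instance
  exact quasiIso_of_comp_left (r ▷ X) (E ◁ f)

/-- `- ⊗ E` has a left derived functor computed by `P`. -/
lemma leftData_tensorRight (E : CochainComplex A ℤ) :
    DerAbs.LeftData (HomotopyCategory.quotient A (ComplexShape.up ℤ))
      (HomotopyCategory.quasiIso A (ComplexShape.up ℤ)) (tensorRight E ⋙ DerivedCategory.Q) P :=
  DerHo.leftDataCx _ (fun f g h => by
    obtain ⟨h'⟩ := CxFun.HtpyFunctor.homotopy (tensorRight E) h
    exact DerivedCategory.Q_map_eq_of_homotopy _ h') P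
    (fun M => Adapted.res (P := P) M) (fun {K L} f hK hL hf => by
      have := quasiIso_whiskerRight P f hK hL E
      change IsIso (DerivedCategory.Q.map (f ▷ E))
      infer_instance)

include P in
lemma hasLeftDerivedFunctor_tensorRight (E : CochainComplex A ℤ) :
    (tensorRight E ⋙ DerivedCategory.Q).HasLeftDerivedFunctor
      (HomologicalComplex.quasiIso A (ComplexShape.up ℤ)) :=
  (leftData_tensorRight P E).hasLeftDerivedFunctor (L₀ := DerivedCategory.Q)
    (DerivedCategory.quotientCompQhIso A) (fun f hf =>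
      (HomotopyCategory.quotient_map_mem_quasiIso_iff f).1 hf)

/-- A K-flat resolution, chosen. -/
noncomputable def resObj (E : CochainComplex A ℤ) : CochainComplex A ℤ := (Adapted.res (P := P) E).choose

noncomputable def resMap (E : CochainComplex A ℤ) : resObj P E ⟶ E :=
  (Adapted.res (P := P) E).choose_spec.choose

lemma prop_resObj (E : CochainComplex A ℤ) : P (resObj P E) :=
  (Adapted.res (P := P) E).choose_spec.choose_spec.1

instance quasiIso_resMap (E : CochainComplex A ℤ) : QuasiIso (resMap P E) :=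
  (Adapted.res (P := P) E).choose_spec.choose_spec.2

variable [MonoidalCategory (DerivedCategory A)] [(LP P).Monoidal]

/-- The counit `Q K ⊗ Q E ⟶ Q (K ⊗ E)`. -/
noncomputable def counitR (E : CochainComplex A ℤ) :
    DerivedCategory.Q ⋙ tensorRight (DerivedCategory.Q.obj E) ⟶ tensorRight E ⋙ DerivedCategory.Q :=
  Functor.whiskerLeft DerivedCategory.Q
      ((tensoringRight _).map (inv (DerivedCategory.Q.map (resMap P E)))) ≫
    (μR (resObj P E) (prop_resObj P E)).hom ≫
    Functor.whiskerRight ((tensoringRight _).map (resMap P E)) DerivedCategory.Q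

lemma isIso_counitR_app (E K : CochainComplex A ℤ) (hK : P K) : IsIso ((counitR P E).app K) := by
  have h1 : IsIso (DerivedCategory.Q.map (K ◁ resMap P E)) := by
    have : QuasiIso (K ◁ resMap P E) := Adapted.whiskerLeft K hK _ inferInstance
    infer_instance
  have h2 : (counitR P E).app K = (DerivedCategory.Q.obj K) ◁ (inv (DerivedCategory.Q.map (resMap P E))) ≫
    (μR (resObj P E) (prop_resObj P E)).hom.app K ≫ DerivedCategory.Q.map (K ◁ resMap P E) := rfl
  rw [h2]
  infer_instance

instance isLeftDerivedFunctor_counitR (E : CochainComplex A ℤ) :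
    (tensorRight (DerivedCategory.Q.obj E)).IsLeftDerivedFunctor (counitR P E)
      (HomologicalComplex.quasiIso A (ComplexShape.up ℤ)) :=
  (leftData_tensorRight P E).isLeftDerivedFunctor (L₀ := DerivedCategory.Q)
    (DerivedCategory.quotientCompQhIso A) (fun f hf =>
      (HomotopyCategory.quotient_map_mem_quasiIso_iff f).1 hf) _ _
    (fun K hK => isIso_counitR_app P E K hK)

/-- Every left derived functor of (a functor isomorphic to) `K ↦ Q (K ⊗ E)` is `- ⊗ Q E`. -/
noncomputable def derivedIso (E : CochainComplex A ℤ) (F : CochainComplex A ℤ ⥤ DerivedCategory A)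
    (e : F ≅ tensorRight E ⋙ DerivedCategory.Q) (LF : DerivedCategory A ⥤ DerivedCategory A)
    (α : DerivedCategory.Q ⋙ LF ⟶ F)
    [LF.IsLeftDerivedFunctor α (HomologicalComplex.quasiIso A (ComplexShape.up ℤ))] :
    LF ≅ tensorRight (DerivedCategory.Q.obj E) :=
  Functor.leftDerivedNatIso LF (tensorRight (DerivedCategory.Q.obj E)) α (counitR P E)
    (HomologicalComplex.quasiIso A (ComplexShape.up ℤ)) e

end Groth.Agent.Dcoh.MonDer
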