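import Groth.Agent.Dcoh.ModD
import Groth.Agent.Dcoh.MonDer

/-!
# The derived tensor product functors are given by the monoidal structure on `D(O_X)`
-/

set_option autoImplicit false

universe u

open CategoryTheory Limits MonoidalCategory AlgebraicGeometry
attribute [local instance] HasDerivedCategory.standard

open scoped Groth.Agent.Dcoh.MonCat Groth.Agent.Dcoh.ModD

namespace Groth.Agent.Dcoh.ModTens

open Groth.Agent.Dcoh.MonCx Groth.Agent.Dcoh.MonD Groth.Agent.Dcoh.ModD

variable {X : Scheme.{u}}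

/-- The functor `K ↦ Q (K ⊗ E)`. -/
noncomputable def tensorCxQIso (E : CochainComplex X.Modules ℤ) :
    DCoh.tensorCxQ E ≅ tensorRight E ⋙ DerivedCategory.Q :=
  NatIso.ofComponents (fun _ => Iso.refl _) (fun f =>
    (Category.comp_id (DerivedCategory.Q.map (f ▷ E))).trans (Category.id_comp _).symm)

/-- `HasLTensorCx E` holds for every complex `E`. -/
theorem hasLTensorCx (E : CochainComplex X.Modules ℤ) : DCoh.HasLTensorCx E := by
  have := MonDer.hasLeftDerivedFunctor_tensorRight (KF X) E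
  exact (Functor.hasLeftDerivedFunctor_iff_of_iso (tensorCxQIso E)
    (HomologicalComplex.quasiIso X.Modules (ComplexShape.up ℤ))).2 this

/-- `- ⊗^L E` is `- ⊗ Q E`. -/
noncomputable def LTensorCxIso (E : CochainComplex X.Modules ℤ) [DCoh.HasLTensorCx E] :
    DCoh.LTensorCx E ≅ tensorRight (DerivedCategory.Q.obj E) :=
  MonDer.derivedIso (KF X) E (DCoh.tensorCxQ E) (tensorCxQIso E) (DCoh.LTensorCx E)
    ((DCoh.tensorCxQ E).totalLeftDerivedCounit DerivedCategory.Q
      (HomologicalComplex.quasiIso X.Modules (ComplexShape.up ℤ)))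

/-- `RHom(E, -)` is right adjoint to `- ⊗ Q E`. -/
noncomputable def adjQ (E : CochainComplex X.Modules ℤ) [DCoh.HasLTensorCx E] [DCoh.HasRSheafHom E] :
    tensorRight (DerivedCategory.Q.obj E) ⊣ DCoh.RSheafHom E :=
  (DCoh.RSheafHomAdj E).ofNatIsoLeft (LTensorCxIso E)

/-- `Q (K ⊗ L) ≅ Q K ⊗ Q L` for `L` K-flat. -/
noncomputable def tensorIso (K L : CochainComplex X.Modules ℤ) (hL : DCoh.IsKFlat L) :
    DerivedCategory.Q.obj K ⊗ DerivedCategory.Q.obj L ≅ DerivedCategory.Q.obj ((DCoh.tensorCx.obj K).obj L) :=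
  (μR (P := KF X) L hL).app K

/-- Internal Hom-tensor adjunction. -/
noncomputable def RHomIso (K L : CochainComplex X.Modules ℤ) (hL : DCoh.IsKFlat L)
    [DCoh.HasLTensorCx K] [DCoh.HasRSheafHom K] [DCoh.HasLTensorCx L] [DCoh.HasRSheafHom L]
    [DCoh.HasLTensorCx ((DCoh.tensorCx.obj K).obj L)] [DCoh.HasRSheafHom ((DCoh.tensorCx.obj K).obj L)] :
    DCoh.RSheafHom L ⋙ DCoh.RSheafHom K ≅ DCoh.RSheafHom ((DCoh.tensorCx.obj K).obj L) :=
  Adjunction.rightAdjointUniq ((adjQ K).comp (adjQ L))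
    ((adjQ ((DCoh.tensorCx.obj K).obj L)).ofNatIsoLeft
      ((tensoringRight (DCoh.D X)).mapIso (tensorIso K L hL).symm ≪≫ (tensorRightTensor _ _)))

end Groth.Agent.Dcoh.ModTens
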