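import Groth.Prelude.Def_DCoh4
import Groth.Agent.Dcoh.CxFun

/-!
# K-flat complexes of O_X-modules: triangulated formalities
-/

set_option autoImplicit false

universe u

open CategoryTheory Limits AlgebraicGeometry CochainComplex

namespace Groth.Agent.Dcoh.KFlat

open Groth.Agent.Dcoh.CxFun

variable {X : Scheme.{u}}

/-- `- ⊗ E` as a functor on complexes. -/
noncomputable abbrev tR (E : CochainComplex X.Modules ℤ) :
    CochainComplex X.Modules ℤ ⥤ CochainComplex X.Modules ℤ :=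
  (DCoh.tensorCx (X := X)).flip.obj E

/-- `L ⊗ -` as a functor on complexes. -/
noncomputable abbrev tL (L : CochainComplex X.Modules ℤ) :
    CochainComplex X.Modules ℤ ⥤ CochainComplex X.Modules ℤ :=
  (DCoh.tensorCx (X := X)).obj L

lemma isKFlat_iff (E : CochainComplex X.Modules ℤ) :
    DCoh.IsKFlat E ↔ ∀ L : CochainComplex X.Modules ℤ, L.Acyclic → ((DCoh.tensorCx.obj L).obj E).Acyclic := by
  unfold DCoh.IsKFlat
  simp only [HomologicalComplex.Acyclic, HomologicalComplex.exactAt_iff_isZero_homology]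

/-- Stacks 06YA. -/
lemma quasiIso_tensor {K : CochainComplex X.Modules ℤ} (hK : DCoh.IsKFlat K)
    {F G : CochainComplex X.Modules ℤ} (f : F ⟶ G) [QuasiIso f] :
    QuasiIso ((DCoh.tensorCx.map f).app K) := by
  exact quasiIso_map (tR K) (fun L hL => (isKFlat_iff K).1 hK L hL) f

/-- Stacks 079S. -/
lemma isKFlat_mappingCone {K₁ K₂ : CochainComplex X.Modules ℤ} (φ : K₁ ⟶ K₂)
    (h₁ : DCoh.IsKFlat K₁) (h₂ : DCoh.IsKFlat K₂) : DCoh.IsKFlat (mappingCone φ) := by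
  rw [isKFlat_iff] at h₁ h₂ ⊢
  exact fun L hL => acyclic_mappingCone (tL L) φ (h₁ L hL) (h₂ L hL)

lemma isKFlat_of_mappingCone₂ {K₁ K₂ : CochainComplex X.Modules ℤ} (φ : K₁ ⟶ K₂)
    (h₁ : DCoh.IsKFlat K₁) (h₃ : DCoh.IsKFlat (mappingCone φ)) : DCoh.IsKFlat K₂ := by
  rw [isKFlat_iff] at h₁ h₃ ⊢
  exact fun L hL => acyclic_of_mappingCone₂ (tL L) φ (h₁ L hL) (h₃ L hL)

lemma isKFlat_of_mappingCone₁ {K₁ K₂ : CochainComplex X.Modules ℤ} (φ : K₁ ⟶ K₂)
    (h₂ : DCoh.IsKFlat K₂) (h₃ : DCoh.IsKFlat (mappingCone φ)) : DCoh.IsKFlat K₁ := by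
  rw [isKFlat_iff] at h₂ h₃ ⊢
  exact fun L hL => acyclic_of_mappingCone₁ (tL L) φ (h₂ L hL) (h₃ L hL)

end Groth.Agent.Dcoh.KFlat
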