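import Groth.Agent.Dcoh.CellRes
import Groth.Agent.Dcoh.KFlatBdd

/-!
# Complexes with zero differential and flat terms are K-flat; K-flat factorizations and resolutions
-/

set_option autoImplicit false
set_option backward.defeqAttrib.useBackward true
set_option backward.isDefEq.respectTransparency false

universe w' w v v₁ v₂ v₃ u u₁ u₂ u₃

namespace Groth.Agent.Dcoh.KFlatZd

open CategoryTheory Category Limits Pretriangulated HomologicalComplex CochainComplex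
open Groth.Agent.Dcoh.CxFun Groth.Agent.Dcoh.KFlatAbs Groth.Agent.Dcoh.KFlatSingle CellStep

variable {C₁ : Type u₁} {C₂ : Type u₂} {D : Type u₃} [Category.{v₁} C₁] [Category.{v₂} C₂] [Category.{v₃} D]
  [Abelian C₁] [Abelian C₂] [Abelian D]
  {T : C₁ ⥤ C₂ ⥤ D} [T.Additive] [∀ X₁, (T.obj X₁).Additive]
  [∀ (K₁ : CochainComplex C₁ ℤ) (K₂ : CochainComplex C₂ ℤ), CochainComplex.HasMapBifunctor K₁ K₂ T]

section

variable [HasColimitsOfShape (Discrete ℤ) C₂] [HasColimitsOfShape (Discrete ℤ) D]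
  [HasExactColimitsOfShape (Discrete ℤ) D] [∀ M : C₁, PreservesColimitsOfShape (Discrete ℤ) (T.obj M)]

theorem kfl_zd (F : ℤ → C₂) (hF : ∀ n, (T.flip.obj (F n)).PreservesHomology) : KFl T (zd F) :=
  KFl.of_isColimit (T := T) (cK := Cofan.mk (zd F) (zdι F)) (isColimitZd F) (fun n => by
    have := hF n.as
    exact kfl_single (T := T) (F n.as) n.as)

end

section

variable {P : ObjectProperty C₂} [P.IsClosedUnderIsomorphisms]

lemma prop_mappingCone_X (hP₁ : ∀ (M N : C₂), P M → P N → P (M ⊞ N)) {K L : CochainComplex C₂ ℤ} (φ : K ⟶ L)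
    (hK : ∀ n, P (K.X n)) (hL : ∀ n, P (L.X n)) (n : ℤ) : P ((mappingCone φ).X n) :=
  P.prop_of_iso (homotopyCofiber.XIsoBiprod φ n (n + 1) rfl).symm (hP₁ _ _ (hK _) (hL _))

lemma prop_pt_X [HasColimitsOfShape ℕ C₂] (hP₂ : ∀ (S : ℕ ⥤ C₂), (∀ n, P (S.obj n)) → P (colimit S))
    (S : ℕ ⥤ CochainComplex C₂ ℤ) (cc : Cocone S) (hcc : IsColimit cc) (hS : ∀ j n, P ((S.obj j).X n)) (n : ℤ) :
    P (cc.pt.X n) :=
  P.prop_of_iso ((colimit.isColimit _).coconePointUniqueUpToIso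
    (isColimitOfPreserves (eval C₂ (ComplexShape.up ℤ) n) hcc)) (hP₂ _ (fun j => hS j n))

end

section

variable [HasColimitsOfShape (Discrete ℤ) C₂] [HasColimitsOfShape (Discrete ℤ) D]
  [HasExactColimitsOfShape (Discrete ℤ) D] [∀ M : C₁, PreservesColimitsOfShape (Discrete ℤ) (T.obj M)]
  [HasColimitsOfShape ℕ C₂] [HasColimitsOfShape ℕ D] [HasExactColimitsOfShape ℕ C₂]
  [HasExactColimitsOfShape ℕ D] [∀ M : C₁, PreservesColimitsOfShape ℕ (T.obj M)]
  {P : ObjectProperty C₂} (hP : Enough P) (hP' : ∀ M, P M → (T.flip.obj M).PreservesHomology)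
  (hP₁ : ∀ (M N : C₂), P M → P N → P (M ⊞ N)) [P.IsClosedUnderIsomorphisms]
  (hP₂ : ∀ (S : ℕ ⥤ C₂), (∀ n, P (S.obj n)) → P (colimit S))

include hP hP' hP₁ hP₂ in
/-- every morphism `a : K ⟶ G` factors as `K ⟶ N ⟶ G` with `N ⟶ G` a quasi-isomorphism and `N` K-flat if `K` is;
moreover the terms of `N` belong to `P` if those of `K` do. -/
theorem exists_factorization {K G : CochainComplex C₂ ℤ} (a : K ⟶ G) :
    ∃ (N : CochainComplex C₂ ℤ) (b : K ⟶ N) (c : N ⟶ G), b ≫ c = a ∧ QuasiIso c ∧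
      (KFl T K → KFl T N) ∧ ((∀ n, P (K.X n)) → ∀ n, P (N.X n)) := by
  obtain ⟨N, b, c, fac, hc, h⟩ := CellRes.exists_factorization hP a
  refine ⟨N, b, c, fac, hc, fun hK => h (KFl T) hK
    (fun F hF K' φ hK' => KFl.mappingCone φ (kfl_zd F (fun n => hP' _ (hF n))) hK')
    (fun S cc hcc hS => KFl.of_isColimit (T := T) (cK := cc) hcc hS), fun hK => h (fun E => ∀ n, P (E.X n)) hK
    (fun F hF K' φ hK' => ?_) (fun S cc hcc hS => prop_pt_X hP₂ S cc hcc hS)⟩
  exact prop_mappingCone_X hP₁ φ hF hK'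

include hP hP' hP₁ hP₂ in
/-- every complex is a quotient of a quasi-isomorphic K-flat complex with terms in `P`. -/
theorem exists_resolution (G : CochainComplex C₂ ℤ) :
    ∃ (N : CochainComplex C₂ ℤ) (c : N ⟶ G), QuasiIso c ∧ (∀ n, Epi (c.f n)) ∧
      KFl T N ∧ ∀ n, P (N.X n) := by
  obtain ⟨N, c, hc, hc', h⟩ := CellRes.exists_resolution hP G
  refine ⟨N, c, hc, hc', h (KFl T) (fun F hF => kfl_zd F (fun n => hP' _ (hF n)))
    (fun F hF K' φ hK' => KFl.mappingCone φ (kfl_zd F (fun n => hP' _ (hF n))) hK')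
    (fun S cc hcc hS => KFl.of_isColimit (T := T) (cK := cc) hcc hS), h (fun E => ∀ n, P (E.X n)) (fun F hF => hF)
    (fun F hF K' φ hK' => ?_) (fun S cc hcc hS => prop_pt_X hP₂ S cc hcc hS)⟩
  exact prop_mappingCone_X hP₁ φ hF hK'

end

end Groth.Agent.Dcoh.KFlatZd
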