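import Groth.Agent.Dcoh.KFlat
import Groth.Agent.Dcoh.KFlatZd
import Groth.Agent.Dcoh.FlatRes
import Groth.Agent.Dcoh.StalkT
import Groth.Agent.S0484

/-!
# K-flat complexes of `O_X`-modules

`DCoh.IsKFlat` is the abstract notion `KFl DCoh.tensorBi`; bounded above complexes of flat modules are K-flat,
sequential colimits, K-flat factorizations and resolutions.
-/

set_option autoImplicit false
set_option backward.defeqAttrib.useBackward true
set_option backward.isDefEq.respectTransparency false

universe u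

namespace Groth.Agent.Dcoh.KFlatMod

open CategoryTheory Category Limits HomologicalComplex CochainComplex AlgebraicGeometry
open Groth.Agent.Dcoh.KFlatAbs Groth.Agent.Dcoh.CellStep

variable {X : Scheme.{u}}

variable (X) in
/-- `O_X`-modules form a Grothendieck abelian category. -/
theorem isGrothendieckAbelian : IsGrothendieckAbelian.{u} X.Modules :=
  Groth.Agent.S0484.result _ X.ringCatSheaf

instance hasExactColimitsOfShape_nat : HasExactColimitsOfShape ℕ X.Modules := by
  have := isGrothendieckAbelian X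
  have := AB5OfSize_of_univLE.{0, 0, u, u} X.Modules
  exact AB5OfSize.ofShape ℕ

instance countableAB4 : CountableAB4 X.Modules := by
  have : HasFiniteBiproducts X.Modules := Abelian.hasFiniteBiproducts
  exact CountableAB4.of_countableAB5 X.Modules

instance preservesColimits₀_tensorBi_obj (M : X.Modules) :
    PreservesColimitsOfSize.{0, 0} (DCoh.tensorBi.obj M) :=
  preservesColimitsOfSize_shrink.{0, u, 0, u} _

instance preservesColimits₀_tensorBi_flip_obj (M : X.Modules) :
    PreservesColimitsOfSize.{0, 0} (DCoh.tensorBi.flip.obj M) :=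
  preservesColimitsOfSize_shrink.{0, u, 0, u} _

lemma isKFlat_iff_kfl (E : CochainComplex X.Modules ℤ) :
    DCoh.IsKFlat E ↔ KFl DCoh.tensorBi E :=
  KFlat.isKFlat_iff E

lemma preservesHomology_flip (M : X.Modules) (hM : FlatMod.IsFlat M) :
    (DCoh.tensorBi.flip.obj M).PreservesHomology := by
  have := Stalk.preservesFiniteLimits_tensorBi_flip_obj M hM
  infer_instance

lemma preservesHomology_obj (M : X.Modules) (hM : FlatMod.IsFlat M) :
    (DCoh.tensorBi.obj M).PreservesHomology := by
  have := Stalk.preservesFiniteLimits_tensorBi_obj M hM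
  infer_instance

/-- flat modules as an object property -/
def flatP (X : Scheme.{u}) : ObjectProperty X.Modules := fun M => FlatMod.IsFlat M

instance : (flatP X).IsClosedUnderIsomorphisms where
  of_iso e h := FlatRes.isFlat_of_iso e h

lemma enough_flatP : Enough (flatP X) := fun M => FlatRes.exists_flat_epi M

/-- Stacks 06YD: bounded above complexes of flat modules are K-flat. -/
theorem isKFlat_of_isStrictlyLE (K : CochainComplex X.Modules ℤ) (b : ℤ) [K.IsStrictlyLE b]
    (hK : ∀ n, FlatMod.IsFlat (K.X n)) : DCoh.IsKFlat K := by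
  rw [isKFlat_iff_kfl]
  exact KFlatBdd.kfl_of_isStrictlyLE (T := DCoh.tensorBi) K b (fun n => preservesHomology_flip _ (hK n))

/-- Stacks 06YE: sequential colimits of K-flat complexes are K-flat. -/
theorem isKFlat_of_isColimit {S : ℕ ⥤ CochainComplex X.Modules ℤ} {c : Cocone S} (hc : IsColimit c)
    (hS : ∀ n, DCoh.IsKFlat (S.obj n)) : DCoh.IsKFlat c.pt := by
  simp only [isKFlat_iff_kfl] at hS ⊢
  exact KFl.of_isColimit (T := DCoh.tensorBi) (cK := c) hc hS

lemma isKFlat_of_iso {K L : CochainComplex X.Modules ℤ} (e : K ≅ L) (hK : DCoh.IsKFlat K) : DCoh.IsKFlat L := by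
  rw [isKFlat_iff_kfl] at hK ⊢
  exact hK.of_iso e

lemma isKFlat_of_homotopyEquiv {K L : CochainComplex X.Modules ℤ} (e : HomotopyEquiv K L)
    (hK : DCoh.IsKFlat K) : DCoh.IsKFlat L := by
  rw [isKFlat_iff_kfl] at hK ⊢
  exact hK.of_homotopyEquiv e

lemma isKFlat_shift {K : CochainComplex X.Modules ℤ} (hK : DCoh.IsKFlat K) (n : ℤ) : DCoh.IsKFlat (K⟦n⟧) := by
  rw [isKFlat_iff_kfl] at hK ⊢
  exact hK.shift n

lemma isKFlat_single (M : X.Modules) (hM : FlatMod.IsFlat M) (n : ℤ) :
    DCoh.IsKFlat ((single X.Modules (ComplexShape.up ℤ) n).obj M) := by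
  rw [isKFlat_iff_kfl]
  have := preservesHomology_flip M hM
  exact KFlatSingle.kfl_single (T := DCoh.tensorBi) M n

lemma isKFlat_of_split (S : ShortComplex (CochainComplex X.Modules ℤ))
    (σ : ∀ n, (S.map (eval X.Modules (ComplexShape.up ℤ) n)).Splitting) (h₁ : DCoh.IsKFlat S.X₁)
    (h₃ : DCoh.IsKFlat S.X₃) : DCoh.IsKFlat S.X₂ := by
  rw [isKFlat_iff_kfl] at h₁ h₃ ⊢
  exact KFl.of_split (T := DCoh.tensorBi) S σ h₁ h₃

/-- Stacks 0G6V, strict version: any `a : K ⟶ G` factors as `K ⟶ N ⟶ G`, with `N ⟶ G` a quasi-isomorphism,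
`N` K-flat if `K` is, and with flat terms if `K` has flat terms. -/
theorem exists_factorization {K G : CochainComplex X.Modules ℤ} (a : K ⟶ G) :
    ∃ (N : CochainComplex X.Modules ℤ) (b : K ⟶ N) (c : N ⟶ G), b ≫ c = a ∧ QuasiIso c ∧
      (DCoh.IsKFlat K → DCoh.IsKFlat N) ∧
        ((∀ n, FlatMod.IsFlat (K.X n)) → ∀ n, FlatMod.IsFlat (N.X n)) := by
  simp only [isKFlat_iff_kfl]
  exact KFlatZd.exists_factorization (T := DCoh.tensorBi) (P := flatP X) enough_flatP preservesHomology_flip
    (fun _ _ => FlatRes.isFlat_biprod) FlatRes.isFlat_colimit_nat a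

/-- Stacks 06YF: K-flat resolutions. -/
theorem exists_resolution (G : CochainComplex X.Modules ℤ) :
    ∃ (K : CochainComplex X.Modules ℤ) (q : K ⟶ G), DCoh.IsKFlat K ∧ (∀ n : ℤ, FlatMod.IsFlat (K.X n)) ∧
      QuasiIso q ∧ ∀ n : ℤ, Epi (q.f n) := by
  obtain ⟨K, q, h1, h2, h3, h4⟩ := KFlatZd.exists_resolution (T := DCoh.tensorBi) (P := flatP X) enough_flatP
    preservesHomology_flip (fun _ _ => FlatRes.isFlat_biprod) FlatRes.isFlat_colimit_nat G
  exact ⟨K, q, (isKFlat_iff_kfl K).2 h3, h4, h1, h2⟩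

end Groth.Agent.Dcoh.KFlatMod
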