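import Groth.Prelude.Def_DCoh4
import Groth.Agent.S0955
import Groth.Agent.PerfB.StalkKFlat

/-!
# K-flat complexes: resolutions and pullback (inputs for `Lf^*`)
-/

set_option autoImplicit false

universe u

open CategoryTheory CategoryTheory.Limits AlgebraicGeometry

namespace Groth.Agent.Dcoh.KFlatInput

theorem acyclic_pullback {X Y : Scheme.{u}} (f : X ⟶ Y) (K : CochainComplex Y.Modules ℤ)
    (hK : DCoh.IsKFlat K) (h : K.Acyclic) :
    (((Scheme.Modules.pullback f).mapHomologicalComplex (ComplexShape.up ℤ)).obj K).Acyclic :=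
  Groth.Agent.PerfB.StalkKFlat.acyclic_pullback f K hK h

theorem isKFlat_pullback {X Y : Scheme.{u}} (f : X ⟶ Y) (K : CochainComplex Y.Modules ℤ)
    (hK : DCoh.IsKFlat K) :
    DCoh.IsKFlat (((Scheme.Modules.pullback f).mapHomologicalComplex (ComplexShape.up ℤ)).obj K) :=
  Groth.Agent.PerfB.StalkKFlat.isKFlat_pullback f K hK

theorem exists_kflat {X : Scheme.{u}} (G : CochainComplex X.Modules ℤ) :
    ∃ (K : CochainComplex X.Modules ℤ) (q : K ⟶ G), DCoh.IsKFlat K ∧ QuasiIso q := by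
  obtain ⟨K, q, h1, -, h2, -⟩ := Groth.Agent.S0955.result G
  exact ⟨K, q, h1, h2⟩

end Groth.Agent.Dcoh.KFlatInput
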