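import Groth.Agent.Dcoh.DerSch
import Groth.Agent.Dcoh.KFlat
import Groth.Agent.Dcoh.KFlatInput


/-!
# The functor `Lf^*` on unbounded derived categories of schemes

* `hasLpull f : HasLpull f`; `lpullCounit f`, `lpullCounitQ f` (iso on K-flat complexes),
  `lpullIso f K hK : (Lpull f).obj (Q.obj K) ≅ Q.obj (f^* K)` for `K` K-flat;
* `lpullCommShift f`, `lpull_isTriangulated f`;
* `lpullAdj f : Lpull f ⊣ Rpush f`;
* composition of derived pullbacks, derived direct images.
-/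

set_option autoImplicit false

universe u

open CategoryTheory CategoryTheory.Limits AlgebraicGeometry Pretriangulated

attribute [local instance] HasDerivedCategory.standard

namespace Groth.Agent.Dcoh.DerPull

open Groth.Agent.Dcoh.DerAbs Groth.Agent.Dcoh.DerHo Groth.Agent.Dcoh.DerAdj
  Groth.Agent.Dcoh.DerComp Groth.Agent.Dcoh.DerSch Groth.Agent.Dcoh.CxFun Groth.Agent.Dcoh.KFlat

section KFlat

variable (X : Scheme.{u})

/-- K-flat complexes. -/
def kFlat : ObjectProperty (CochainComplex X.Modules ℤ) := fun K ↦ DCoh.IsKFlat K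

/-- The class of K-flat objects of the homotopy category. -/
def kFlatHo : ObjectProperty (HomotopyCategory X.Modules (ComplexShape.up ℤ)) :=
  ofCx (kFlat X)

variable {X}

lemma kFlatHo_iff (K : HomotopyCategory X.Modules (ComplexShape.up ℤ)) :
    kFlatHo X K ↔ ∀ L : CochainComplex X.Modules ℤ, L.Acyclic → acyclicMap (tL L) K := by
  change DCoh.IsKFlat K.as ↔ _
  rw [isKFlat_iff]
  refine forall_congr' fun L ↦ forall_congr' fun _ ↦ ?_
  exact (acyclicMap_iff (tL L) K.as).symm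

lemma kFlatHo_quotient_obj (K : CochainComplex X.Modules ℤ) (hK : DCoh.IsKFlat K) :
    kFlatHo X ((HomotopyCategory.quotient _ _).obj K) := hK

lemma kFlatHo_shift (K : HomotopyCategory X.Modules (ComplexShape.up ℤ)) (n : ℤ)
    (hK : kFlatHo X K) : kFlatHo X (K⟦n⟧) := by
  rw [kFlatHo_iff] at hK ⊢
  exact fun L hL ↦ (acyclicMap (tL L)).le_shift n _ (hK L hL)

lemma kFlatHo_cone (T : Triangle (HomotopyCategory X.Modules (ComplexShape.up ℤ)))
    (hT : T ∈ distTriang _) (h₁ : kFlatHo X T.obj₁) (h₂ : kFlatHo X T.obj₂) :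
    kFlatHo X T.obj₃ := by
  rw [kFlatHo_iff] at h₁ h₂ ⊢
  exact fun L hL ↦ (acyclicMap (tL L)).ext_of_isTriangulatedClosed₃ T hT (h₁ L hL) (h₂ L hL)

lemma kFlatHo_of_iso {K L : HomotopyCategory X.Modules (ComplexShape.up ℤ)} (e : K ≅ L)
    (hK : kFlatHo X K) : kFlatHo X L := by
  rw [kFlatHo_iff] at hK ⊢
  exact fun M hM ↦ (acyclicMap (tL M)).prop_of_iso e (hK M hM)

end KFlat

variable {X Y Z : Scheme.{u}} (f : X ⟶ Y)

/-- `f^*` preserves quasi-isomorphisms between K-flat complexes. -/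
lemma quasiIso_pullback {K L : CochainComplex Y.Modules ℤ} (φ : K ⟶ L) (hK : DCoh.IsKFlat K)
    (hL : DCoh.IsKFlat L) (hφ : QuasiIso φ) :
    QuasiIso (((Scheme.Modules.pullback f).mapHomologicalComplex (ComplexShape.up ℤ)).map φ) :=
  quasiIso_map_of_acyclic _ (kFlat Y) (fun φ h₁ h₂ ↦ isKFlat_mappingCone φ h₁ h₂)
    (fun K hK h ↦ KFlatInput.acyclic_pullback f K hK h) φ hK hL hφ

lemma pullData : LeftData (𝟭 _) (qis Y.Modules) (DCoh.pullKh f) (kFlatHo Y) :=
  leftDataMap _ (kFlat Y) (fun K ↦ KFlatInput.exists_kflat K)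
    (fun φ hK hL hφ ↦ quasiIso_pullback f φ hK hL hφ)

/-- Stacks 06YJ: `Lf^*` exists. -/
theorem hasLpull : DCoh.HasLpull f :=
  (pullData f).hasLeftDerivedFunctor (W₀ := qis Y.Modules) (DerivedCategory.Qh.leftUnitor)
    (fun _ hw ↦ hw)

section

variable [DCoh.HasLpull f]

/-- The counit of `Lf^*`. -/
noncomputable def lpullCounit : DerivedCategory.Qh ⋙ DCoh.Lpull f ⟶ DCoh.pullKh f :=
  (DCoh.pullKh f).totalLeftDerivedCounit DerivedCategory.Qh (qis Y.Modules)

instance : (DCoh.Lpull f).IsLeftDerivedFunctor (lpullCounit f) (qis Y.Modules) := by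
  dsimp [lpullCounit]
  infer_instance

/-- The counit of `Lf^*` on complexes: `Lf^* (Q K) ⟶ Q (f^* K)`. -/
noncomputable def lpullCounitQ :
    DerivedCategory.Q ⋙ DCoh.Lpull f ⟶
      (Scheme.Modules.pullback f).mapHomologicalComplex (ComplexShape.up ℤ) ⋙ DerivedCategory.Q :=
  counitQ (Scheme.Modules.pullback f) (DCoh.Lpull f) (lpullCounit f)

lemma isIso_lpullCounit_app (K : CochainComplex Y.Modules ℤ) (hK : DCoh.IsKFlat K) :
    IsIso ((lpullCounit f).app ((HomotopyCategory.quotient _ _).obj K)) :=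
  (pullData f).isIso_app (W₀ := qis Y.Modules) (DerivedCategory.Qh.leftUnitor)
    (fun _ hw ↦ hw) (DCoh.Lpull f) (lpullCounit f) _ (kFlatHo_quotient_obj K hK)

lemma isIso_lpullCounitQ_app (K : CochainComplex Y.Modules ℤ) (hK : DCoh.IsKFlat K) :
    IsIso ((lpullCounitQ f).app K) :=
  isIso_counitQ_app _ _ _ _ (isIso_lpullCounit_app f K hK)

/-- `Lf^*` is computed by `f^*` on K-flat complexes. -/
noncomputable def lpullIso (K : CochainComplex Y.Modules ℤ) (hK : DCoh.IsKFlat K) :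
    (DCoh.Lpull f).obj (DerivedCategory.Q.obj K) ≅
      DerivedCategory.Q.obj (((Scheme.Modules.pullback f).mapHomologicalComplex
        (ComplexShape.up ℤ)).obj K) :=
  haveI := isIso_lpullCounitQ_app f K hK
  asIso ((lpullCounitQ f).app K)

/-- `Lf^*` commutes with shifts. -/
@[instance_reducible]
noncomputable def lpullCommShift : (DCoh.Lpull f).CommShift ℤ :=
  (pullData f).commShift (W₀ := qis Y.Modules) (DerivedCategory.Qh.leftUnitor) (DCoh.Lpull f)
    (lpullCounit f) (fun _ hw ↦ hw) kFlatHo_shift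

lemma lpullCounit_commShift :
    letI := lpullCommShift f
    NatTrans.CommShift (lpullCounit f) ℤ :=
  (pullData f).natTrans_commShift (W₀ := qis Y.Modules) (DerivedCategory.Qh.leftUnitor)
    (DCoh.Lpull f) (lpullCounit f) (fun _ hw ↦ hw) kFlatHo_shift

/-- `Lf^*` is a triangulated functor. -/
lemma lpull_isTriangulated :
    letI := lpullCommShift f
    (DCoh.Lpull f).IsTriangulated :=
  (pullData f).isTriangulated (DCoh.Lpull f) (lpullCounit f) kFlatHo_shift kFlatHo_cone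

/-- `Lf^* ⊣ Rf_*`. -/
noncomputable def lpullAdj [DCoh.HasRpush f] : DCoh.Lpull f ⊣ DCoh.Rpush f :=
  derivedAdj (Scheme.Modules.pullbackPushforwardAdjunction f) (hasKInj X) (pullData f)
    (DCoh.Lpull f) (lpullCounit f) (DCoh.Rpush f) (rpushUnit f)

end

section Comp

variable (g : Y ⟶ Z)

/-- Stacks 0D5S. -/
theorem exists_lpullCompIso [DCoh.HasLpull f] [DCoh.HasLpull g] [DCoh.HasLpull (f ≫ g)] :
    Nonempty (DCoh.Lpull g ⋙ DCoh.Lpull f ≅ DCoh.Lpull (f ≫ g)) := by
  obtain ⟨i, -⟩ := nonempty_compIso_left_of_isIso (Scheme.Modules.pullbackComp f g)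
    (pullData g) (pullData (f ≫ g)) (DCoh.Lpull g) (lpullCounit g) (DCoh.Lpull f) (lpullCounit f)
    (fun K hK ↦ isIso_lpullCounit_app f _ (KFlatInput.isKFlat_pullback g K.as hK))
    (DCoh.Lpull (f ≫ g)) (lpullCounit (f ≫ g))
  exact ⟨i⟩

/-- Stacks 0D5T. -/
theorem exists_rpushCompIso [DCoh.HasRpush f] [DCoh.HasRpush g] [DCoh.HasRpush (f ≫ g)] :
    Nonempty (DCoh.Rpush f ⋙ DCoh.Rpush g ≅ DCoh.Rpush (f ≫ g)) := by
  have := hasLpull f
  have := hasLpull g
  have := hasLpull (f ≫ g)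
  obtain ⟨i⟩ := exists_lpullCompIso f g
  exact ⟨Adjunction.rightAdjointUniq (((lpullAdj g).comp (lpullAdj f)).ofNatIsoLeft i)
    (lpullAdj (f ≫ g))⟩

end Comp

end Groth.Agent.Dcoh.DerPull
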