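import Mathlib.CategoryTheory.Monoidal.Preadditive
import Mathlib.CategoryTheory.Monoidal.Rigid.Basic
import Mathlib.Algebra.BigOperators.Group.Finset.Sigma

/-!
# Exact pairings of finite sums and of retracts

`exactPairingSum`: if `X` is the sum of the `f j` and `Y` the sum of the `g j` (given by inclusions and projections)
and the `f j`, `g j` are in exact pairing, then so are `X`, `Y`.
`exactPairingRetract`: retracts.
-/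

set_option autoImplicit false

open CategoryTheory Limits MonoidalCategory

namespace Groth.Agent.Dcoh.DualSum

universe v u

variable {C : Type u} [Category.{v} C] [MonoidalCategory C]

section Zig

variable {Z Z' : C} [ExactPairing Z Z']

/-- A general form of the first zigzag, with morphisms inserted. -/
lemma zig₁ {X A B : C} (p : Z ⟶ A) (q : Z' ⟶ B) {W W' : C} [ExactPairing W W'] (r : B ⟶ W') (s : X ⟶ W) :
    (η_ Z Z' ≫ (p ⊗ₘ q)) ▷ X ≫ (α_ A B X).hom ≫ A ◁ ((r ⊗ₘ s) ≫ ε_ W W') =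
      η_ Z Z' ▷ X ≫ (α_ Z Z' X).hom ≫ (p ⊗ₘ ((q ≫ r) ⊗ₘ s)) ≫ A ◁ ε_ W W' := by
  simp only [comp_whiskerRight, MonoidalCategory.whiskerLeft_comp, Category.assoc]
  have h : (p ⊗ₘ q) ▷ X ≫ (α_ A B X).hom ≫ A ◁ (r ⊗ₘ s) = (α_ Z Z' X).hom ≫ (p ⊗ₘ ((q ≫ r) ⊗ₘ s)) := by
    rw [← tensorHom_id, associator_naturality_assoc, ← id_tensorHom, tensorHom_comp_tensorHom,
      tensorHom_comp_tensorHom, Category.comp_id, Category.id_comp]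
  rw [reassoc_of% h]

lemma zig₂ {Y A B : C} (p : Z ⟶ A) (q : Z' ⟶ B) {W W' : C} [ExactPairing W W'] (r : Y ⟶ W') (s : A ⟶ W) :
    Y ◁ (η_ Z Z' ≫ (p ⊗ₘ q)) ≫ (α_ Y A B).inv ≫ ((r ⊗ₘ s) ≫ ε_ W W') ▷ B =
      Y ◁ η_ Z Z' ≫ (α_ Y Z Z').inv ≫ ((r ⊗ₘ (p ≫ s)) ⊗ₘ q) ≫ ε_ W W' ▷ B := by
  simp only [comp_whiskerRight, MonoidalCategory.whiskerLeft_comp, Category.assoc]
  have h : Y ◁ (p ⊗ₘ q) ≫ (α_ Y A B).inv ≫ (r ⊗ₘ s) ▷ B = (α_ Y Z Z').inv ≫ ((r ⊗ₘ (p ≫ s)) ⊗ₘ q) := by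
    rw [← id_tensorHom, associator_inv_naturality_assoc, ← tensorHom_id, tensorHom_comp_tensorHom,
      tensorHom_comp_tensorHom, Category.comp_id, Category.id_comp]
  rw [reassoc_of% h]

lemma zig₁' {X A : C} (p : Z ⟶ A) (s : X ⟶ Z) :
    η_ Z Z' ▷ X ≫ (α_ Z Z' X).hom ≫ (p ⊗ₘ (𝟙 Z' ⊗ₘ s)) ≫ A ◁ ε_ Z Z' =
      (λ_ X).hom ≫ s ≫ p ≫ (ρ_ A).inv := by
  have h1 : η_ Z Z' ▷ X ≫ (α_ Z Z' X).hom ≫ (p ⊗ₘ (𝟙 Z' ⊗ₘ s)) ≫ A ◁ ε_ Z Z' =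
      (𝟙_ C ◁ s) ≫ (η_ Z Z' ▷ Z ≫ (α_ Z Z' Z).hom ≫ Z ◁ ε_ Z Z') ≫ p ▷ 𝟙_ C := by
    have e1 : (p ⊗ₘ (𝟙 Z' ⊗ₘ s)) ≫ A ◁ ε_ Z Z' = (Z ◁ (Z' ◁ s)) ≫ Z ◁ ε_ Z Z' ≫ p ▷ 𝟙_ C := by
      rw [tensorHom_def', id_tensorHom, Category.assoc, whisker_exchange]
    rw [e1, ← associator_naturality_right_assoc, ← whisker_exchange_assoc]
    simp only [Category.assoc]
  rw [h1, ExactPairing.evaluation_coevaluation, Category.assoc, leftUnitor_naturality_assoc,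
    rightUnitor_inv_naturality]

lemma zig₂' {Y B : C} (r : Y ⟶ Z') (q : Z' ⟶ B) :
    Y ◁ η_ Z Z' ≫ (α_ Y Z Z').inv ≫ ((r ⊗ₘ 𝟙 Z) ⊗ₘ q) ≫ ε_ Z Z' ▷ B =
      (ρ_ Y).hom ≫ r ≫ q ≫ (λ_ B).inv := by
  have h1 : Y ◁ η_ Z Z' ≫ (α_ Y Z Z').inv ≫ ((r ⊗ₘ 𝟙 Z) ⊗ₘ q) ≫ ε_ Z Z' ▷ B =
      (r ▷ 𝟙_ C) ≫ (Z' ◁ η_ Z Z' ≫ (α_ Z' Z Z').inv ≫ ε_ Z Z' ▷ Z') ≫ 𝟙_ C ◁ q := by
    have e1 : ((r ⊗ₘ 𝟙 Z) ⊗ₘ q) ≫ ε_ Z Z' ▷ B = ((r ▷ Z) ▷ Z') ≫ ε_ Z Z' ▷ Z' ≫ 𝟙_ C ◁ q := by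
      rw [tensorHom_def, tensorHom_id, Category.assoc, whisker_exchange]
    rw [e1, ← associator_inv_naturality_left_assoc, whisker_exchange_assoc]
    simp only [Category.assoc]
  rw [h1, ExactPairing.coevaluation_evaluation, Category.assoc, rightUnitor_naturality_assoc,
    leftUnitor_inv_naturality]

end Zig

section Sum

variable [Preadditive C] [MonoidalPreadditive C] {J : Type*} [Fintype J] {f g : J → C}
  [∀ j, ExactPairing (f j) (g j)] {X Y : C} (iX : ∀ j, f j ⟶ X) (pX : ∀ j, X ⟶ f j) (iY : ∀ j, g j ⟶ Y)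
  (pY : ∀ j, Y ⟶ g j)

/-- Exact pairing of sums of objects. -/
@[instance_reducible]
noncomputable def exactPairingSum (hX : ∑ j, pX j ≫ iX j = 𝟙 X) (hY : ∑ j, pY j ≫ iY j = 𝟙 Y)
    (oX : ∀ j, iX j ≫ pX j = 𝟙 _) (oX' : ∀ j k, j ≠ k → iX j ≫ pX k = 0)
    (oY : ∀ j, iY j ≫ pY j = 𝟙 _) (oY' : ∀ j k, j ≠ k → iY j ≫ pY k = 0) : ExactPairing X Y where
  coevaluation' := ∑ j, η_ (f j) (g j) ≫ (iX j ⊗ₘ iY j)
  evaluation' := ∑ j, (pY j ⊗ₘ pX j) ≫ ε_ (f j) (g j)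
  evaluation_coevaluation' := by
    simp only [sum_whiskerRight, whiskerLeft_sum, Preadditive.sum_comp, Preadditive.comp_sum, zig₁]
    have h : ∀ j, ∑ k, η_ (f j) (g j) ▷ X ≫ (α_ (f j) (g j) X).hom ≫ (iX j ⊗ₘ ((iY j ≫ pY k) ⊗ₘ pX k)) ≫
        X ◁ ε_ (f k) (g k) = (λ_ X).hom ≫ pX j ≫ iX j ≫ (ρ_ X).inv := by
      intro j
      rw [Finset.sum_eq_single j]
      · rw [oY, zig₁']
      · intro k _ hk
        rw [oY' j k hk.symm]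
        simp
      · intro h
        exact absurd (Finset.mem_univ _) h
    rw [Finset.sum_comm, Finset.sum_congr rfl (fun j _ => h j)]
    simp only [← Category.assoc]
    rw [← Preadditive.sum_comp]
    simp only [Category.assoc]
    rw [← Preadditive.comp_sum, hX, Category.comp_id]
  coevaluation_evaluation' := by
    simp only [sum_whiskerRight, whiskerLeft_sum, Preadditive.sum_comp, Preadditive.comp_sum, zig₂]
    have h : ∀ j, ∑ k, Y ◁ η_ (f j) (g j) ≫ (α_ Y (f j) (g j)).inv ≫ ((pY k ⊗ₘ (iX j ≫ pX k)) ⊗ₘ iY j) ≫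
        ε_ (f k) (g k) ▷ Y = (ρ_ Y).hom ≫ pY j ≫ iY j ≫ (λ_ Y).inv := by
      intro j
      rw [Finset.sum_eq_single j]
      · rw [oX, zig₂']
      · intro k _ hk
        rw [oX' j k hk.symm]
        simp
      · intro h
        exact absurd (Finset.mem_univ _) h
    rw [Finset.sum_comm, Finset.sum_congr rfl (fun j _ => h j)]
    simp only [← Category.assoc]
    rw [← Preadditive.sum_comp]
    simp only [Category.assoc]
    rw [← Preadditive.comp_sum, hY, Category.comp_id]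

end Sum

section Coprod

variable [Preadditive C] {J : Type*} (f g : J → C) [HasCoproduct f] [HasCoproduct g]

open Classical in
/-- The projection out of a coproduct in a preadditive category. -/
noncomputable def sigmaπ (j : J) : ∐ f ⟶ f j :=
  Sigma.desc (fun k => if h : k = j then eqToHom (congrArg f h) else 0)

omit [MonoidalCategory C] in
@[reassoc]
lemma ι_sigmaπ (j : J) : Sigma.ι f j ≫ sigmaπ f j = 𝟙 _ := by
  simp [sigmaπ]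

omit [MonoidalCategory C] in
lemma ι_sigmaπ_ne (j k : J) (h : j ≠ k) : Sigma.ι f j ≫ sigmaπ f k = 0 := by
  simp [sigmaπ, h]

omit [MonoidalCategory C] in
lemma sum_sigmaπ [Fintype J] : ∑ j, sigmaπ f j ≫ Sigma.ι f j = 𝟙 (∐ f) := by
  refine Sigma.hom_ext _ _ (fun k => ?_)
  rw [Preadditive.comp_sum, Finset.sum_eq_single k]
  · rw [← Category.assoc, ι_sigmaπ, Category.id_comp, Category.comp_id]
  · intro j _ hj
    rw [← Category.assoc, ι_sigmaπ_ne f k j hj.symm, zero_comp]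
  · intro h
    exact absurd (Finset.mem_univ _) h

/-- Exact pairing of finite coproducts. -/
@[instance_reducible]
noncomputable def exactPairingCoprod [MonoidalPreadditive C] [Finite J] [∀ j, ExactPairing (f j) (g j)] :
    ExactPairing (∐ f) (∐ g) :=
  letI := Fintype.ofFinite J
  exactPairingSum (Sigma.ι f) (sigmaπ f) (Sigma.ι g) (sigmaπ g) (sum_sigmaπ f) (sum_sigmaπ g) (ι_sigmaπ f)
    (ι_sigmaπ_ne f) (ι_sigmaπ g) (ι_sigmaπ_ne g)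

end Coprod

section Retract

variable {Z Z' X Y : C} [ExactPairing Z Z']

/-- Exact pairing of retracts. -/
@[instance_reducible]
noncomputable def exactPairingRetract (i : X ⟶ Z) (p : Z ⟶ X) (hip : i ≫ p = 𝟙 X) (i' : Y ⟶ Z') (p' : Z' ⟶ Y)
    (hip' : i' ≫ p' = 𝟙 Y) (h : (p' ≫ i') ▷ Z ≫ ε_ Z Z' = Z' ◁ (p ≫ i) ≫ ε_ Z Z') : ExactPairing X Y where
  coevaluation' := η_ Z Z' ≫ (p ⊗ₘ p')
  evaluation' := (i' ⊗ₘ i) ≫ ε_ Z Z'
  evaluation_coevaluation' := by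
    have e1 : ((p' ≫ i') ⊗ₘ i) ≫ ε_ Z Z' = (𝟙 Z' ⊗ₘ i) ≫ ε_ Z Z' := by
      rw [tensorHom_def', Category.assoc, h, ← MonoidalCategory.whiskerLeft_comp_assoc, reassoc_of% hip,
        id_tensorHom]
    have e2 : (p ⊗ₘ ((p' ≫ i') ⊗ₘ i)) ≫ X ◁ ε_ Z Z' = (p ⊗ₘ (𝟙 Z' ⊗ₘ i)) ≫ X ◁ ε_ Z Z' := by
      rw [← id_tensorHom X (ε_ Z Z'), tensorHom_comp_tensorHom, tensorHom_comp_tensorHom, e1]
    rw [zig₁, e2, zig₁', reassoc_of% hip]
  coevaluation_evaluation' := by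
    have e1 : (i' ⊗ₘ (p ≫ i)) ≫ ε_ Z Z' = (i' ⊗ₘ 𝟙 Z) ≫ ε_ Z Z' := by
      rw [tensorHom_def, Category.assoc, ← h, ← comp_whiskerRight_assoc, reassoc_of% hip', tensorHom_id]
    have e2 : ((i' ⊗ₘ (p ≫ i)) ⊗ₘ p') ≫ ε_ Z Z' ▷ Y = ((i' ⊗ₘ 𝟙 Z) ⊗ₘ p') ≫ ε_ Z Z' ▷ Y := by
      rw [← tensorHom_id (ε_ Z Z') Y, tensorHom_comp_tensorHom, tensorHom_comp_tensorHom, e1]
    rw [zig₂, e2, zig₂', reassoc_of% hip']

end Retract

end Groth.Agent.Dcoh.DualSum
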