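import Groth.Agent.Dcoh.MonD
import Groth.Agent.Dcoh.DualSum
import Mathlib.CategoryTheory.Monoidal.Rigid.OfEquivalence

/-!
# Exact pairings and monoidal functors; exact pairings in the derived category

* `mapPairing F : ExactPairing X Y → ExactPairing (F.obj X) (F.obj Y)` for `F` monoidal.
* `pairingQ`: an exact pairing between complexes of the adapted class `P` gives an exact pairing in `D(A)`.
-/

set_option autoImplicit false

open CategoryTheory Limits MonoidalCategory

namespace Groth.Agent.Dcoh.DualMap

section

universe v v' u u'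

variable {C : Type u} [Category.{v} C] [MonoidalCategory C] {D : Type u'} [Category.{v'} D] [MonoidalCategory D]
  (F : C ⥤ D) [F.Monoidal] (X Y : C) [ExactPairing X Y]

open Functor.LaxMonoidal Functor.OplaxMonoidal Functor.Monoidal

/-- The image of an exact pairing under a monoidal functor. -/
@[instance_reducible]
def mapPairing : ExactPairing (F.obj X) (F.obj Y) where
  coevaluation' := ε F ≫ F.map (η_ X Y) ≫ δ F X Y
  evaluation' := μ F Y X ≫ F.map (ε_ X Y) ≫ η F
  evaluation_coevaluation' := by
    have h := congrArg F.map (ExactPairing.evaluation_coevaluation X Y)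
    rw [F.map_comp, F.map_comp, F.map_comp, map_whiskerRight, map_associator, map_whiskerLeft, map_leftUnitor,
      map_rightUnitor_inv] at h
    have h' := congrArg (fun t => ε F ▷ F.obj X ≫ μ F _ _ ≫ t ≫ δ F _ _ ≫ F.obj X ◁ η F) h
    simp only [Category.assoc, μ_δ_assoc, μ_δ, whiskerRight_ε_η_assoc, whiskerLeft_ε_η, Category.comp_id] at h'
    simp only [comp_whiskerRight, MonoidalCategory.whiskerLeft_comp, Category.assoc]
    exact h'
  coevaluation_evaluation' := by
    have h := congrArg F.map (ExactPairing.coevaluation_evaluation X Y)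
    rw [F.map_comp, F.map_comp, F.map_comp, map_whiskerRight, map_associator_inv, map_whiskerLeft, map_rightUnitor,
      map_leftUnitor_inv] at h
    have h' := congrArg (fun t => F.obj Y ◁ ε F ≫ μ F _ _ ≫ t ≫ δ F _ _ ≫ η F ▷ F.obj Y) h
    simp only [Category.assoc, μ_δ_assoc, μ_δ, whiskerRight_ε_η, whiskerLeft_ε_η_assoc, Category.comp_id] at h'
    simp only [comp_whiskerRight, MonoidalCategory.whiskerLeft_comp, Category.assoc]
    exact h'

end

section

open Groth.Agent.Dcoh.MonCx Groth.Agent.Dcoh.MonD

universe w v u

variable {A : Type u} [Category.{v} A] [Abelian A] [MonoidalCategory A] [TensorGood A] [HasDerivedCategory.{w} A]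
  (P : ObjectProperty (CochainComplex A ℤ)) [Adapted P]

/-- Exact pairings are reflected by the full subcategory `P`. -/
@[instance_reducible]
noncomputable def pairingP (K L : CochainComplex A ℤ) (hK : P K) (hL : P L) [h : ExactPairing K L] :
    ExactPairing (⟨K, hK⟩ : P.FullSubcategory) ⟨L, hL⟩ :=
  letI : ExactPairing (P.ι.obj ⟨K, hK⟩) (P.ι.obj ⟨L, hL⟩) := h
  ExactPairing.ofFullyFaithful P.ι ⟨K, hK⟩ ⟨L, hL⟩

/-- An exact pairing of complexes in `P` gives an exact pairing in the derived category. -/
@[instance_reducible]
noncomputable def pairingQ [MonoidalCategory (DerivedCategory A)] [(LP P).Monoidal] (K L : CochainComplex A ℤ)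
    (hK : P K) (hL : P L) [ExactPairing K L] :
    ExactPairing (DerivedCategory.Q.obj K) (DerivedCategory.Q.obj L) :=
  letI := pairingP P K L hK hL
  mapPairing (LP P) ⟨K, hK⟩ ⟨L, hL⟩

end

end Groth.Agent.Dcoh.DualMap
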