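import Groth.Agent.Dcoh.MonCx
import Mathlib.Algebra.Homology.DerivedCategory.Basic
import Mathlib.CategoryTheory.Localization.Monoidal.Basic
import Mathlib.CategoryTheory.Localization.Monoidal.Functor
import Mathlib.CategoryTheory.Localization.Monoidal.Braided
import Mathlib.CategoryTheory.Monoidal.Subcategory

/-!
# The monoidal structure on the derived category

`A` is an abelian monoidal category such that `CochainComplex A ℤ` is monoidal, and `P` is a class of complexes
(the K-flat complexes) which is stable under tensor products, contains the unit, preserves quasi-isomorphisms by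
tensoring and such that `DerivedCategory A` is the localization of the full subcategory `P` at the
quasi-isomorphisms.  We construct the induced monoidal category structure on `DerivedCategory A` and compare it
with the functors `K ↦ Q (K ⊗ E)`.
-/

set_option autoImplicit false

open CategoryTheory Limits MonoidalCategory

namespace Groth.Agent.Dcoh.MonD

open Groth.Agent.Dcoh.MonCx

universe w v u

variable {A : Type u} [Category.{v} A] [Abelian A] [MonoidalCategory A] [TensorGood A] [HasDerivedCategory.{w} A]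

/-- Quasi-isomorphisms between complexes of the class `P`. -/
abbrev qisP (P : ObjectProperty (CochainComplex A ℤ)) : MorphismProperty P.FullSubcategory :=
  (HomologicalComplex.quasiIso A (ComplexShape.up ℤ)).inverseImage P.ι

/-- The localization functor from the full subcategory of complexes in `P` to the derived category. -/
noncomputable abbrev LP (P : ObjectProperty (CochainComplex A ℤ)) : P.FullSubcategory ⥤ DerivedCategory A :=
  P.ι ⋙ DerivedCategory.Q

/-- A class of complexes which is adapted to the tensor product. -/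
class Adapted (P : ObjectProperty (CochainComplex A ℤ)) : Prop extends P.IsMonoidal where
  isLocalization : (LP P).IsLocalization (qisP P)
  whiskerLeft : ∀ (K : CochainComplex A ℤ) (_ : P K) {L M : CochainComplex A ℤ} (f : L ⟶ M),
    QuasiIso f → QuasiIso (K ◁ f)
  whiskerRight : ∀ (K : CochainComplex A ℤ) (_ : P K) {L M : CochainComplex A ℤ} (f : L ⟶ M),
    QuasiIso f → QuasiIso (f ▷ K)
  res : ∀ M : CochainComplex A ℤ, ∃ (K : CochainComplex A ℤ) (f : K ⟶ M), P K ∧ QuasiIso f

attribute [instance] Adapted.isLocalization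

variable (P : ObjectProperty (CochainComplex A ℤ)) [Adapted P]

omit [MonoidalCategory A] [TensorGood A] [HasDerivedCategory.{w} A] in
lemma qisP_iff (P : ObjectProperty (CochainComplex A ℤ)) {K L : P.FullSubcategory} (f : K ⟶ L) :
    qisP P f ↔ QuasiIso f.hom := Iff.rfl

instance : (qisP P).IsMonoidal where
  id_mem K := by
    rw [qisP_iff]
    change QuasiIso (𝟙 K.obj)
    infer_instance
  comp_mem f g hf hg := by
    rw [qisP_iff] at hf hg ⊢
    change QuasiIso (f.hom ≫ g.hom)
    infer_instance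
  whiskerLeft X Y₁ Y₂ g hg := Adapted.whiskerLeft X.obj X.property g.hom hg
  whiskerRight f hf Y := Adapted.whiskerRight Y.obj Y.property f.hom hf

/-- The monoidal category structure on the derived category. -/
noncomputable abbrev monoidalD : MonoidalCategory (DerivedCategory A) :=
  inferInstanceAs (MonoidalCategory (LocalizedMonoidal (LP P) (qisP P) (Iso.refl _)))

/-- The localization functor is monoidal. -/
noncomputable abbrev monoidalLP :
    letI := monoidalD P
    (LP P).Monoidal :=
  inferInstanceAs (Localization.Monoidal.toMonoidalCategory (LP P) (qisP P) (Iso.refl _)).Monoidal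

section

/-- `- ⊗ E` inverts quasi-isomorphisms for `E` in `P`. -/
lemma inverts_tensorRight (E : CochainComplex A ℤ) (hE : P E) :
    (HomologicalComplex.quasiIso A (ComplexShape.up ℤ)).IsInvertedBy (tensorRight E ⋙ DerivedCategory.Q) := by
  intro K L f hf
  exact Localization.inverts DerivedCategory.Q (HomologicalComplex.quasiIso A (ComplexShape.up ℤ)) _
    (Adapted.whiskerRight E hE f hf)

lemma inverts_tensorLeft (E : CochainComplex A ℤ) (hE : P E) :
    (HomologicalComplex.quasiIso A (ComplexShape.up ℤ)).IsInvertedBy (tensorLeft E ⋙ DerivedCategory.Q) := by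
  intro K L f hf
  exact Localization.inverts DerivedCategory.Q (HomologicalComplex.quasiIso A (ComplexShape.up ℤ)) _
    (Adapted.whiskerLeft E hE f hf)

variable {P}

/-- The functor `- ⊗ E` on `D(A)` induced by the functor on complexes. -/
noncomputable def TR (E : CochainComplex A ℤ) (hE : P E) : DerivedCategory A ⥤ DerivedCategory A :=
  Localization.lift (tensorRight E ⋙ DerivedCategory.Q) (inverts_tensorRight P E hE) DerivedCategory.Q

noncomputable def TRfac (E : CochainComplex A ℤ) (hE : P E) :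
    DerivedCategory.Q ⋙ TR E hE ≅ tensorRight E ⋙ DerivedCategory.Q :=
  Localization.fac _ _ _

/-- The functor `E ⊗ -` on `D(A)` induced by the functor on complexes. -/
noncomputable def TL (E : CochainComplex A ℤ) (hE : P E) : DerivedCategory A ⥤ DerivedCategory A :=
  Localization.lift (tensorLeft E ⋙ DerivedCategory.Q) (inverts_tensorLeft P E hE) DerivedCategory.Q

noncomputable def TLfac (E : CochainComplex A ℤ) (hE : P E) :
    DerivedCategory.Q ⋙ TL E hE ≅ tensorLeft E ⋙ DerivedCategory.Q :=
  Localization.fac _ _ _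

variable [MonoidalCategory (DerivedCategory A)] [(LP P).Monoidal]

/-- `TR E` is tensoring with `Q E` in the derived category. -/
noncomputable def TRIso (E : CochainComplex A ℤ) (hE : P E) :
    TR E hE ≅ tensorRight (DerivedCategory.Q.obj E) :=
  letI : Localization.Lifting (LP P) (qisP P) (P.ι ⋙ tensorRight E ⋙ DerivedCategory.Q) (TR E hE) :=
    ⟨Functor.isoWhiskerLeft P.ι (TRfac E hE)⟩
  letI : Localization.Lifting (LP P) (qisP P) (P.ι ⋙ tensorRight E ⋙ DerivedCategory.Q)
      (tensorRight (DerivedCategory.Q.obj E)) :=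
    ⟨Functor.Monoidal.commTensorRight (LP P) ⟨E, hE⟩⟩
  Localization.liftNatIso (LP P) (qisP P) (P.ι ⋙ tensorRight E ⋙ DerivedCategory.Q)
    (P.ι ⋙ tensorRight E ⋙ DerivedCategory.Q) _ _ (Iso.refl _)

noncomputable def TLIso (E : CochainComplex A ℤ) (hE : P E) :
    TL E hE ≅ tensorLeft (DerivedCategory.Q.obj E) :=
  letI : Localization.Lifting (LP P) (qisP P) (P.ι ⋙ tensorLeft E ⋙ DerivedCategory.Q) (TL E hE) :=
    ⟨Functor.isoWhiskerLeft P.ι (TLfac E hE)⟩
  letI : Localization.Lifting (LP P) (qisP P) (P.ι ⋙ tensorLeft E ⋙ DerivedCategory.Q)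
      (tensorLeft (DerivedCategory.Q.obj E)) :=
    ⟨Functor.Monoidal.commTensorLeft (LP P) ⟨E, hE⟩⟩
  Localization.liftNatIso (LP P) (qisP P) (P.ι ⋙ tensorLeft E ⋙ DerivedCategory.Q)
    (P.ι ⋙ tensorLeft E ⋙ DerivedCategory.Q) _ _ (Iso.refl _)

/-- The comparison isomorphism `Q K ⊗ Q E ≅ Q (K ⊗ E)` for `E` in `P` and arbitrary `K`, natural in `K`. -/
noncomputable def μR (E : CochainComplex A ℤ) (hE : P E) :
    DerivedCategory.Q ⋙ tensorRight (DerivedCategory.Q.obj E) ≅ tensorRight E ⋙ DerivedCategory.Q :=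
  (Functor.isoWhiskerLeft DerivedCategory.Q (TRIso E hE)).symm ≪≫ TRfac E hE

noncomputable def μL (E : CochainComplex A ℤ) (hE : P E) :
    DerivedCategory.Q ⋙ tensorLeft (DerivedCategory.Q.obj E) ≅ tensorLeft E ⋙ DerivedCategory.Q :=
  (Functor.isoWhiskerLeft DerivedCategory.Q (TLIso E hE)).symm ≪≫ TLfac E hE

lemma μR_hom_app (E : CochainComplex A ℤ) (hE : P E) (K : CochainComplex A ℤ) (hK : P K) :
    (μR E hE).hom.app K = Functor.LaxMonoidal.μ (LP P) ⟨K, hK⟩ ⟨E, hE⟩ := by
  let i₁ : Localization.Lifting (LP P) (qisP P) (P.ι ⋙ tensorRight E ⋙ DerivedCategory.Q) (TR E hE) :=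
    ⟨Functor.isoWhiskerLeft P.ι (TRfac E hE)⟩
  let i₂ : Localization.Lifting (LP P) (qisP P) (P.ι ⋙ tensorRight E ⋙ DerivedCategory.Q)
      (tensorRight (DerivedCategory.Q.obj E)) :=
    ⟨Functor.Monoidal.commTensorRight (LP P) ⟨E, hE⟩⟩
  have h := Localization.liftNatTrans_app (LP P) (qisP P) (P.ι ⋙ tensorRight E ⋙ DerivedCategory.Q)
    (P.ι ⋙ tensorRight E ⋙ DerivedCategory.Q) (tensorRight (DerivedCategory.Q.obj E)) (TR E hE) (𝟙 _) ⟨K, hK⟩
  have h₂ : (μR E hE).hom.app K = (TRIso E hE).inv.app (DerivedCategory.Q.obj K) ≫ (TRfac E hE).hom.app K := rfl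
  have h₃ : (TRIso E hE).inv.app (DerivedCategory.Q.obj K) =
      Functor.LaxMonoidal.μ (LP P) ⟨K, hK⟩ ⟨E, hE⟩ ≫ 𝟙 _ ≫ (TRfac E hE).inv.app K := h
  rw [h₂, h₃, Category.id_comp, Category.assoc, Iso.inv_hom_id_app]
  exact Category.comp_id _

lemma μL_hom_app (E : CochainComplex A ℤ) (hE : P E) (K : CochainComplex A ℤ) (hK : P K) :
    (μL E hE).hom.app K = Functor.LaxMonoidal.μ (LP P) ⟨E, hE⟩ ⟨K, hK⟩ := by
  let i₁ : Localization.Lifting (LP P) (qisP P) (P.ι ⋙ tensorLeft E ⋙ DerivedCategory.Q) (TL E hE) :=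
    ⟨Functor.isoWhiskerLeft P.ι (TLfac E hE)⟩
  let i₂ : Localization.Lifting (LP P) (qisP P) (P.ι ⋙ tensorLeft E ⋙ DerivedCategory.Q)
      (tensorLeft (DerivedCategory.Q.obj E)) :=
    ⟨Functor.Monoidal.commTensorLeft (LP P) ⟨E, hE⟩⟩
  have h := Localization.liftNatTrans_app (LP P) (qisP P) (P.ι ⋙ tensorLeft E ⋙ DerivedCategory.Q)
    (P.ι ⋙ tensorLeft E ⋙ DerivedCategory.Q) (tensorLeft (DerivedCategory.Q.obj E)) (TL E hE) (𝟙 _) ⟨K, hK⟩
  have h₂ : (μL E hE).hom.app K = (TLIso E hE).inv.app (DerivedCategory.Q.obj K) ≫ (TLfac E hE).hom.app K := rfl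
  have h₃ : (TLIso E hE).inv.app (DerivedCategory.Q.obj K) =
      Functor.LaxMonoidal.μ (LP P) ⟨E, hE⟩ ⟨K, hK⟩ ≫ 𝟙 _ ≫ (TLfac E hE).inv.app K := h
  rw [h₂, h₃, Category.id_comp, Category.assoc, Iso.inv_hom_id_app]
  exact Category.comp_id _

end

end Groth.Agent.Dcoh.MonD
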