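import Mathlib

/-!
# Localization at a resolving class of complexes

Let `P` be a class of cochain complexes in an abelian category `A` which contains a
zero object, is stable under homotopy equivalences, shifts and mapping cones, and
such that every complex receives a quasi-isomorphism from a complex in `P`.  Then the
functor from the full subcategory of complexes in `P` to the derived category of `A`
is a localization functor for the quasi-isomorphisms between complexes in `P`.
-/

open CategoryTheory Limits Pretriangulated HomotopicalAlgebra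

universe w v u

namespace Groth.Agent.Dcoh.PLoc

variable {A : Type u} [Category.{v} A] [Abelian A] (P : ObjectProperty (CochainComplex A ℤ))

/-- A class of complexes with enough members to compute the derived category. -/
structure IsResolving : Prop where
  zero : ∃ K : CochainComplex A ℤ, P K ∧ IsZero K
  of_homotopyEquiv : ∀ {K L : CochainComplex A ℤ}, HomotopyEquiv K L → P K → P L
  shift : ∀ {K : CochainComplex A ℤ} (n : ℤ), P K → P (K⟦n⟧)
  cone : ∀ {K L : CochainComplex A ℤ} (φ : K ⟶ L), P K → P L →
    P (CochainComplex.mappingCone φ)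
  res : ∀ M : CochainComplex A ℤ, ∃ (K : CochainComplex A ℤ) (f : K ⟶ M), P K ∧ QuasiIso f

/-- The corresponding property of objects of the homotopy category. -/
def Ph : ObjectProperty (HomotopyCategory A (ComplexShape.up ℤ)) :=
  P.strictMap (HomotopyCategory.quotient _ _)

variable {P}

lemma Ph_quotient_obj_iff (K : CochainComplex A ℤ) :
    Ph P ((HomotopyCategory.quotient _ _).obj K) ↔ P K := by
  refine ⟨?_, fun h ↦ ⟨_, h⟩⟩
  simp only [Ph, ObjectProperty.strictMap_iff]
  rintro ⟨L, h, hL⟩
  obtain rfl : L = K := congr_arg Quotient.as hL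
  exact h

variable (hP : IsResolving P)
include hP

lemma isClosedUnderIsomorphisms : (Ph P).IsClosedUnderIsomorphisms where
  of_iso {K L} e hK := by
    obtain ⟨K, rfl⟩ := HomotopyCategory.quotient_obj_surjective K
    obtain ⟨L, rfl⟩ := HomotopyCategory.quotient_obj_surjective L
    rw [Ph_quotient_obj_iff] at hK ⊢
    exact hP.of_homotopyEquiv (HomotopyCategory.homotopyEquivOfIso e) hK

lemma containsZero : (Ph P).ContainsZero where
  exists_zero := by
    obtain ⟨K, hK, hK0⟩ := hP.zero
    exact ⟨(HomotopyCategory.quotient _ _).obj K, Functor.map_isZero _ hK0,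
      (Ph_quotient_obj_iff K).2 hK⟩

lemma isStableUnderShift : (Ph P).IsStableUnderShift ℤ where
  isStableUnderShiftBy n :=
    { le_shift K hK := by
        obtain ⟨K, rfl⟩ := K.quotient_obj_surjective
        rw [Ph_quotient_obj_iff] at hK
        rw [ObjectProperty.prop_shift_iff]
        have := isClosedUnderIsomorphisms hP
        exact (Ph P).prop_of_iso
          (((HomotopyCategory.quotient A (ComplexShape.up ℤ)).commShiftIso n).app K)
          ((Ph_quotient_obj_iff (K⟦n⟧)).2 (hP.shift n hK)) }

lemma isTriangulatedClosed₃ : (Ph P).IsTriangulatedClosed₃ where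
  ext₃' T hT h₁ h₂ := by
    have h₁' : P T.obj₁.as := (Ph_quotient_obj_iff T.obj₁.as).1 h₁
    have h₂' : P T.obj₂.as := (Ph_quotient_obj_iff T.obj₂.as).1 h₂
    obtain ⟨f : T.obj₁.as ⟶ T.obj₂.as, hf⟩ :=
      (HomotopyCategory.quotient _ _).map_surjective T.mor₁
    refine ⟨_, ?_,
      ⟨Triangle.π₃.mapIso (isoTriangleOfIso₁₂ T _ hT
        (HomotopyCategory.mappingCone_triangleh_distinguished f)
        (Iso.refl _) (Iso.refl _) ?_)⟩⟩
    · exact (Ph_quotient_obj_iff (CochainComplex.mappingCone f)).2 (hP.cone f h₁' h₂')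
    · refine (Category.comp_id _).trans ?_
      refine Eq.trans ?_ (Category.id_comp _).symm
      exact hf.symm

lemma isTriangulated : (Ph P).IsTriangulated :=
  have := isClosedUnderIsomorphisms hP
  have := containsZero hP
  have := isStableUnderShift hP
  have := isTriangulatedClosed₃ hP
  { toIsTriangulatedClosed₂ := .of_isTriangulatedClosed₃ }

/-- Every morphism from a complex in `P` to an acyclic complex factors through
an acyclic complex in `P`. -/
lemma isVerdierLeftLocalizing :
    (Ph P).IsVerdierLeftLocalizing (HomotopyCategory.subcategoryAcyclic A) := by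
  have := isTriangulated hP
  have := isClosedUnderIsomorphisms hP
  rw [ObjectProperty.isVerdierLeftLocalizing_iff]
  intro X Y s hY hs
  obtain ⟨X, rfl⟩ := HomotopyCategory.quotient_obj_surjective X
  obtain ⟨K, f, hK, hf⟩ := hP.res X
  have hf' : (HomotopyCategory.subcategoryAcyclic A).trW
      ((HomotopyCategory.quotient _ _).map f) := by
    rw [← HomotopyCategory.quasiIso_eq_trW_subcategoryAcyclic,
      HomotopyCategory.quotient_map_mem_quasiIso_iff]
    exact hf
  have hfs : (HomotopyCategory.subcategoryAcyclic A).trW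
      ((HomotopyCategory.quotient _ _).map f ≫ s) := by
    rw [← HomotopyCategory.quasiIso_eq_trW_subcategoryAcyclic] at hs hf' ⊢
    exact MorphismProperty.comp_mem _ _ _ hf' hs
  obtain ⟨C, hC, b, c, hT⟩ := (Ph P).distinguished_cocone_triangle
    ((HomotopyCategory.quotient _ _).map f ≫ s) ((Ph_quotient_obj_iff K).2 hK) hY
  refine ⟨(HomotopyCategory.quotient _ _).obj K, (HomotopyCategory.quotient _ _).map f ≫ s,
    (HomotopyCategory.quotient _ _).map f, (Ph_quotient_obj_iff K).2 hK, ?_, rfl⟩
  exact ObjectProperty.trW.mk (Ph P ⊓ HomotopyCategory.subcategoryAcyclic A) hT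
    ⟨hC, ((HomotopyCategory.subcategoryAcyclic A).trW_iff_of_distinguished _ hT).1 hfs⟩

omit hP in
variable (P) in
/-- The functor from complexes in `P` to objects of the homotopy category in `Ph P`. -/
def quot : P.FullSubcategory ⥤ (Ph P).FullSubcategory :=
  (Ph P).lift (P.ι ⋙ HomotopyCategory.quotient A (ComplexShape.up ℤ))
    fun K => (Ph_quotient_obj_iff K.obj).2 K.property

omit hP in
lemma quot_obj_surjective : Function.Surjective (quot P).obj := fun K ↦ by
  obtain ⟨L, hL⟩ := HomotopyCategory.quotient_obj_surjective K.obj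
  refine ⟨⟨L, ?_⟩, by ext; exact hL⟩
  refine (Ph_quotient_obj_iff (P := P) L).1 ?_
  rw [hL]
  exact K.property

omit hP in
instance : (quot P).EssSurj where
  mem_essImage K := by
    obtain ⟨L, rfl⟩ := quot_obj_surjective K
    exact ⟨L, ⟨Iso.refl _⟩⟩

omit hP in
instance : (quot P).Full := by dsimp [quot]; infer_instance

open HomologicalComplex in
lemma quot_isLocalization : (quot P).IsLocalization
    ((homotopyEquivalences A (.up ℤ)).inverseImage P.ι) :=
  Functor.isLocalization_of_essSurj_of_full_of_exists_cylinders _ _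
    (fun _ _ f hf ↦ by
      rw [← isIso_iff_of_reflects_iso _ (Ph P).ι]
      exact HomotopyCategory.quotient_inverts_homotopyEquivalences A _ _ hf) (by
    intro K L f₀ f₁ hf
    obtain ⟨f₀, rfl⟩ := ObjectProperty.homMk_surjective f₀
    obtain ⟨f₁, rfl⟩ := ObjectProperty.homMk_surjective f₁
    replace hf := HomotopyCategory.homotopyOfEq f₀ f₁ ((Ph P).ι.congr_map hf)
    let e := cylinder.homotopyEquiv K.obj (fun n ↦ ⟨n - 1, by simp⟩)
    have he : P (cylinder K.obj) := hP.of_homotopyEquiv e.symm K.property
    exact ⟨K.obj.precylinder.toFullSubcategory he,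
      Precylinder.LeftHomotopy.fullSubcategoryEquiv.symm
        { h := cylinder.desc _ _ hf
          h₀ := cylinder.ι₀_desc _ _ hf
          h₁ := cylinder.ι₁_desc _ _ hf }, ⟨e, rfl⟩⟩)

variable [HasDerivedCategory.{w} A]

omit hP in
variable (P) in
/-- The quasi-isomorphisms between complexes in `P`. -/
abbrev qis : MorphismProperty P.FullSubcategory :=
  (HomologicalComplex.quasiIso A (ComplexShape.up ℤ)).inverseImage P.ι

lemma essSurj_Ph : ((Ph P).ι ⋙ DerivedCategory.Qh (C := A)).EssSurj where
  mem_essImage X := by
    obtain ⟨M, ⟨e⟩⟩ : ∃ M, Nonempty (DerivedCategory.Q.obj M ≅ X) :=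
      ⟨_, ⟨DerivedCategory.Q.objObjPreimageIso X⟩⟩
    obtain ⟨K, f, hK, hf⟩ := hP.res M
    have : IsIso (DerivedCategory.Q.map f) := by
      rw [DerivedCategory.isIso_Q_map_iff_quasiIso]
      exact hf
    exact ⟨⟨(HomotopyCategory.quotient _ _).obj K, (Ph_quotient_obj_iff K).2 hK⟩,
      ⟨(DerivedCategory.quotientCompQhIso A).app K ≪≫ asIso (DerivedCategory.Q.map f) ≪≫ e⟩⟩

lemma isLocalization_Ph : ((Ph P).ι ⋙ DerivedCategory.Qh (C := A)).IsLocalization
    ((HomotopyCategory.quasiIso A (ComplexShape.up ℤ)).inverseImage (Ph P).ι) := by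
  have := isTriangulated hP
  have := isClosedUnderIsomorphisms hP
  have := isVerdierLeftLocalizing hP
  have := essSurj_Ph hP
  have h : ((HomotopyCategory.quasiIso A (ComplexShape.up ℤ)).inverseImage (Ph P).ι) =
      ((HomotopyCategory.subcategoryAcyclic A).inverseImage (Ph P).ι).trW := by
    ext K L f
    obtain ⟨M, g, h, mem⟩ := CategoryTheory.Pretriangulated.distinguished_cocone_triangle f
    have := (HomotopyCategory.subcategoryAcyclic A).trW_iff_of_distinguished _
      ((Ph P).ι.map_distinguished _ mem)
    rw [← HomotopyCategory.quasiIso_eq_trW_subcategoryAcyclic] at this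
    exact this.trans (((HomotopyCategory.subcategoryAcyclic A).inverseImage
      (Ph P).ι).trW_iff_of_distinguished _ mem).symm
  rw [h]
  exact ((Ph P).triangulatedLocalizerMorphism
    (HomotopyCategory.subcategoryAcyclic A)).isLocalization_of_isLocalizedFullyFaithful
      (L₂ := DerivedCategory.Qh (C := A)) (F := 𝟭 _) (Functor.rightUnitor _).symm

/-- The main result: complexes in `P` up to quasi-isomorphism are the derived category. -/
theorem isLocalization : (P.ι ⋙ DerivedCategory.Q (C := A)).IsLocalization (qis P) := by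
  have := quot_isLocalization hP
  have := isLocalization_Ph hP
  have h : (quot P ⋙ (Ph P).ι ⋙ DerivedCategory.Qh (C := A)).IsLocalization (qis P) := by
    refine Functor.IsLocalization.comp (quot P) ((Ph P).ι ⋙ DerivedCategory.Qh (C := A))
      ((HomologicalComplex.homotopyEquivalences A (.up ℤ)).inverseImage P.ι)
      ((HomotopyCategory.quasiIso A (ComplexShape.up ℤ)).inverseImage (Ph P).ι) (qis P) ?_ ?_ ?_
    · intro K L f hf
      exact Localization.inverts ((Ph P).ι ⋙ DerivedCategory.Qh (C := A))
        ((HomotopyCategory.quasiIso A (ComplexShape.up ℤ)).inverseImage (Ph P).ι)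
        ((quot P).map f) ((HomotopyCategory.quotient_map_mem_quasiIso_iff f.hom).2 hf)
    · intro K L f hf
      exact homotopyEquivalences_le_quasiIso A _ _ hf
    · intro K L f hf
      obtain ⟨K, rfl⟩ := quot_obj_surjective K
      obtain ⟨L, rfl⟩ := quot_obj_surjective L
      obtain ⟨f, rfl⟩ := (quot P).map_surjective f
      exact ⟨_, _, f, (HomotopyCategory.quotient_map_mem_quasiIso_iff f.hom).1 hf,
        ⟨Iso.refl _⟩⟩
  let e : quot P ⋙ (Ph P).ι ⋙ DerivedCategory.Qh (C := A) ≅ P.ι ⋙ DerivedCategory.Q :=
    Functor.isoWhiskerLeft P.ι (DerivedCategory.quotientCompQhIso A)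
  exact Functor.IsLocalization.of_iso (qis P) e

end Groth.Agent.Dcoh.PLoc
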