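import Mathlib.Algebra.Homology.BifunctorFlip
import Groth.Agent.Dcoh.KFlatMod

/-!
# K-flatness in the first variable

`KFl T.flip E` means that `T(E, -)` preserves acyclic complexes.
-/

set_option autoImplicit false
set_option backward.defeqAttrib.useBackward true
set_option backward.isDefEq.respectTransparency false

universe w' w v v₁ v₂ v₃ u u₁ u₂ u₃

namespace Groth.Agent.Dcoh.KFlatFlip

open CategoryTheory Category Limits Pretriangulated HomologicalComplex CochainComplex
open Groth.Agent.Dcoh.CxFun Groth.Agent.Dcoh.KFlatAbs Groth.Agent.Dcoh.KFlatSingle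

section

variable {C₁ : Type u₁} {C₂ : Type u₂} {D : Type u₃} [Category.{v₁} C₁] [Category.{v₂} C₂] [Category.{v₃} D]
  [Abelian C₁] [Abelian C₂] [Abelian D]
  {T : C₁ ⥤ C₂ ⥤ D} [T.Additive] [∀ X₁, (T.obj X₁).Additive]
  [∀ (K₁ : CochainComplex C₁ ℤ) (K₂ : CochainComplex C₂ ℤ), CochainComplex.HasMapBifunctor K₁ K₂ T]

instance additive_flip : T.flip.Additive where
  map_add {M N f g} := by
    ext L
    exact (T.obj L).map_add

/-- `T.flip(L, E) ≅ T(E, L)` -/
noncomputable def flipIso (E : CochainComplex C₁ ℤ) (L : CochainComplex C₂ ℤ) :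
    (T.flip.map₂CochainComplex.obj L).obj E ≅ (T.map₂CochainComplex.obj E).obj L :=
  mapBifunctorFlipIso E L T (ComplexShape.up ℤ)

lemma kfl_flip_iff (E : CochainComplex C₁ ℤ) :
    KFl T.flip E ↔ ∀ L : CochainComplex C₂ ℤ, L.Acyclic → ((T.map₂CochainComplex.obj E).obj L).Acyclic := by
  constructor
  · intro h L hL
    exact acyclic_of_iso (flipIso E L) (h L hL)
  · intro h L hL
    exact acyclic_of_iso (flipIso E L).symm (h L hL)

lemma quasiIso_of_kfl_flip {E : CochainComplex C₁ ℤ} (h : KFl T.flip E) {K L : CochainComplex C₂ ℤ} (f : K ⟶ L)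
    [QuasiIso f] : QuasiIso ((T.map₂CochainComplex.obj E).map f) :=
  quasiIso_map (T.map₂CochainComplex.obj E) ((kfl_flip_iff E).1 h) f

end

section

open AlgebraicGeometry

variable {X : Scheme.{u}}

instance preservesColimits₀_flip_flip (M : X.Modules) :
    PreservesColimitsOfSize.{0, 0} ((DCoh.tensorBi (X := X)).flip.obj M) :=
  KFlatMod.preservesColimits₀_tensorBi_flip_obj M

lemma preservesHomology_flip_flip (M : X.Modules) (hM : FlatMod.IsFlat M) :
    ((DCoh.tensorBi (X := X)).flip.flip.obj M).PreservesHomology :=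
  KFlatMod.preservesHomology_obj M hM

/-- resolutions which are K-flat in both variables, with flat terms. -/
theorem exists_resolution₂ (G : CochainComplex X.Modules ℤ) :
    ∃ (K : CochainComplex X.Modules ℤ) (q : K ⟶ G), DCoh.IsKFlat K ∧ KFl (DCoh.tensorBi (X := X)).flip K ∧
      (∀ n : ℤ, FlatMod.IsFlat (K.X n)) ∧ QuasiIso q ∧ ∀ n : ℤ, Epi (q.f n) := by
  obtain ⟨N, c, hc, hc', h⟩ := CellRes.exists_resolution (KFlatMod.enough_flatP (X := X)) G
  refine ⟨N, c, (KFlatMod.isKFlat_iff_kfl N).2 (h (KFl (DCoh.tensorBi (X := X)))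
    (fun F hF => KFlatZd.kfl_zd F (fun n => KFlatMod.preservesHomology_flip _ (hF n)))
    (fun F hF K' φ hK' => KFl.mappingCone φ
      (KFlatZd.kfl_zd F (fun n => KFlatMod.preservesHomology_flip _ (hF n))) hK')
    (fun S cc hcc hS => KFl.of_isColimit (T := DCoh.tensorBi (X := X)) (cK := cc) hcc hS)),
    h (KFl (DCoh.tensorBi (X := X)).flip)
    (fun F hF => KFlatZd.kfl_zd F (fun n => preservesHomology_flip_flip _ (hF n)))
    (fun F hF K' φ hK' => KFl.mappingCone φ
      (KFlatZd.kfl_zd F (fun n => preservesHomology_flip_flip _ (hF n))) hK')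
    (fun S cc hcc hS => KFl.of_isColimit (T := (DCoh.tensorBi (X := X)).flip) (cK := cc) hcc hS),
    h (fun E => ∀ n, FlatMod.IsFlat (E.X n)) (fun F hF => hF)
    (fun F hF K' φ hK' => ?_) (fun S cc hcc hS => KFlatZd.prop_pt_X (P := KFlatMod.flatP X)
      FlatRes.isFlat_colimit_nat S cc hcc hS), hc, hc'⟩
  exact KFlatZd.prop_mappingCone_X (P := KFlatMod.flatP X) (fun _ _ => FlatRes.isFlat_biprod) φ hF hK'

/-- Stacks 06YG -/
theorem quasiIso_tensor_map {P Q : CochainComplex X.Modules ℤ} (α : P ⟶ Q)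
    [QuasiIso α] (hP : DCoh.IsKFlat P) (hQ : DCoh.IsKFlat Q) (F : CochainComplex X.Modules ℤ) :
    QuasiIso ((DCoh.tensorCx.obj F).map α) := by
  obtain ⟨F', q, -, hF', -, hq, -⟩ := exists_resolution₂ F
  have h1 : QuasiIso ((DCoh.tensorCx.map q).app P) := KFlat.quasiIso_tensor hP q
  have h2 : QuasiIso ((DCoh.tensorCx.map q).app Q) := KFlat.quasiIso_tensor hQ q
  have h3 : QuasiIso ((DCoh.tensorCx.obj F').map α) := quasiIso_of_kfl_flip hF' α
  have h4 : QuasiIso ((DCoh.tensorCx.map q).app P ≫ (DCoh.tensorCx.obj F).map α) := by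
    rw [← NatTrans.naturality]
    infer_instance
  exact quasiIso_of_comp_left ((DCoh.tensorCx.map q).app P) _

end

end Groth.Agent.Dcoh.KFlatFlip
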