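import Groth.Agent.Dcoh.BiNat
import Groth.Agent.Dcoh.KFlatFlip

/-!
# Symmetry of the tensor product of `O_X`-modules and of complexes of `O_X`-modules
-/

set_option autoImplicit false

universe u

namespace Groth.Agent.Dcoh.TensSymm

open CategoryTheory Category Limits HomologicalComplex CochainComplex AlgebraicGeometry MonoidalCategory
open Groth.Agent.Dcoh.BiNat

variable (X : Scheme.{u})

/-- symmetry of the tensor product bifunctor -/
noncomputable def tensorFlipIso : (DCoh.tensorBi (X := X)).flip ≅ DCoh.tensorBi :=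
  NatIso.ofComponents (fun F => NatIso.ofComponents
    (fun G => DCoh.shP.mapIso (β_ (DCoh.toP.obj G : CohB1.PMod X) (DCoh.toP.obj F : CohB1.PMod X)))
    (fun {G G'} g => by
      have h := BraidedCategory.braiding_naturality_left ((DCoh.toP (X := X)).map g)
        (DCoh.toP.obj F : CohB1.PMod X)
      exact ((DCoh.shP (X := X)).map_comp _ _).symm.trans
        ((congrArg (DCoh.shP (X := X)).map h).trans ((DCoh.shP (X := X)).map_comp _ _))))
    (fun {F F'} f => by
      ext G : 2
      have h := BraidedCategory.braiding_naturality_right (DCoh.toP.obj G : CohB1.PMod X)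
        ((DCoh.toP (X := X)).map f)
      exact ((DCoh.shP (X := X)).map_comp _ _).symm.trans
        ((congrArg (DCoh.shP (X := X)).map h).trans ((DCoh.shP (X := X)).map_comp _ _)))

/-- `K ⊗ L ≅ L ⊗ K` for complexes of modules, naturally in `K` and `L`. -/
noncomputable def tensorCxSymm : DCoh.tensorCx (X := X) ≅ (DCoh.tensorCx (X := X)).flip :=
  symmNatIso (DCoh.tensorBi (X := X)) (tensorFlipIso X)

variable {X}

/-- `K ⊗ - ≅ - ⊗ K` -/
noncomputable def tensorCxObjIso (K : CochainComplex X.Modules ℤ) :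
    DCoh.tensorCx.obj K ≅ DCoh.tensorCx.flip.obj K :=
  (tensorCxSymm X).app K

/-- `K ⊗ L ≅ L ⊗ K` -/
noncomputable def tensorCxIso (K L : CochainComplex X.Modules ℤ) :
    (DCoh.tensorCx.obj K).obj L ≅ (DCoh.tensorCx.obj L).obj K :=
  (tensorCxObjIso K).app L

/-- K-flat complexes are also K-flat in the first variable. -/
lemma acyclic_of_isKFlat {K : CochainComplex X.Modules ℤ} (hK : DCoh.IsKFlat K)
    (L : CochainComplex X.Modules ℤ) (hL : L.Acyclic) : ((DCoh.tensorCx.obj K).obj L).Acyclic :=
  KFlatSingle.acyclic_of_iso (tensorCxIso L K) ((KFlat.isKFlat_iff K).1 hK L hL)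

lemma isKFlat_iff_kfl_flip (K : CochainComplex X.Modules ℤ) :
    DCoh.IsKFlat K ↔ KFlatAbs.KFl (DCoh.tensorBi (X := X)).flip K := by
  rw [KFlatFlip.kfl_flip_iff]
  refine ⟨fun h L hL => acyclic_of_isKFlat h L hL, fun h => ?_⟩
  rw [KFlat.isKFlat_iff]
  exact fun L hL => KFlatSingle.acyclic_of_iso (tensorCxIso K L) (h L hL)

/-- tensoring with a K-flat complex on the left preserves quasi-isomorphisms. -/
lemma quasiIso_tensor_left {K : CochainComplex X.Modules ℤ} (hK : DCoh.IsKFlat K)
    {F G : CochainComplex X.Modules ℤ} (f : F ⟶ G) [QuasiIso f] :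
    QuasiIso ((DCoh.tensorCx.obj K).map f) :=
  KFlatFlip.quasiIso_of_kfl_flip ((isKFlat_iff_kfl_flip K).1 hK) f

end Groth.Agent.Dcoh.TensSymm
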