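import Groth.Agent.Dcoh.MonCat
import Groth.Agent.Dcoh.MonD
import Groth.Agent.Dcoh.PLoc
import Groth.Agent.Dcoh.KFlatMod
import Groth.Agent.Dcoh.TensSymm
import Groth.Agent.Dcoh.StalkT

/-!
# The monoidal structure on `D(O_X)`

K-flat complexes of `O_X`-modules form an adapted class for the tensor product.  This gives the monoidal structure
on `DCoh.D X` (scoped instance; use `open scoped Groth.Agent.Dcoh.MonCat Groth.Agent.Dcoh.ModD`).
-/

set_option autoImplicit false

universe u

open CategoryTheory Limits MonoidalCategory AlgebraicGeometry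
attribute [local instance] HasDerivedCategory.standard

open scoped Groth.Agent.Dcoh.MonCat

namespace Groth.Agent.Dcoh.ModD

open Groth.Agent.Dcoh.MonCx Groth.Agent.Dcoh.MonD

variable (X : Scheme.{u})

lemma curriedTensor_eq : curriedTensor X.Modules = DCoh.tensorBi (X := X) := rfl

instance monoidalPreadditive : MonoidalPreadditive X.Modules where
  whiskerLeft_zero {M N P} := ((DCoh.tensorBi (X := X)).obj M).map_zero N P
  zero_whiskerRight {M N P} := by
    change ((DCoh.tensorBi (X := X)).map (0 : N ⟶ P)).app M = 0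
    rw [Functor.map_zero]
    rfl
  whiskerLeft_add {M N P} f g := by
    change ((DCoh.tensorBi (X := X)).obj M).map (f + g) = _
    rw [Functor.map_add]
    rfl
  add_whiskerRight {M N P} f g := by
    change ((DCoh.tensorBi (X := X)).map (f + g)).app M = _
    rw [Functor.map_add]
    rfl

instance tensorGood : TensorGood X.Modules where
  monPre := inferInstance
  coprod := inferInstance
  zero := inferInstance
  left M := inferInstanceAs (PreservesColimitsOfSize.{0, 0} ((DCoh.tensorBi (X := X)).obj M))
  right M := inferInstanceAs (PreservesColimitsOfSize.{0, 0} ((DCoh.tensorBi (X := X)).flip.obj M))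

lemma tensorObj_eq (K L : CochainComplex X.Modules ℤ) : K ⊗ L = (DCoh.tensorCx.obj K).obj L := rfl

/-- The K-flat complexes. -/
def KF : ObjectProperty (CochainComplex X.Modules ℤ) := fun K => DCoh.IsKFlat K

variable {X}

/-- Stacks 06YI: the tensor product of K-flat complexes is K-flat. -/
theorem isKFlat_tensor {K L : CochainComplex X.Modules ℤ} (hK : DCoh.IsKFlat K) (hL : DCoh.IsKFlat L) :
    DCoh.IsKFlat (K ⊗ L) := by
  rw [KFlat.isKFlat_iff] at hK hL ⊢
  intro M hM
  exact KFlatSingle.acyclic_of_iso (α_ M K L) (hL _ (hK M hM))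

theorem isKFlat_unit : DCoh.IsKFlat (𝟙_ (CochainComplex X.Modules ℤ)) := by
  rw [KFlat.isKFlat_iff]
  intro M hM
  exact KFlatSingle.acyclic_of_iso (ρ_ M).symm hM

lemma KF_iff (K : CochainComplex X.Modules ℤ) : KF X K ↔ DCoh.IsKFlat K := Iff.rfl

open scoped ZeroObject in
lemma KF_zero : ∃ K : CochainComplex X.Modules ℤ, KF X K ∧ IsZero K := by
  refine ⟨(HomologicalComplex.single X.Modules (ComplexShape.up ℤ) 0).obj (0 : X.Modules), ?_, ?_⟩
  · exact KFlatMod.isKFlat_single (0 : X.Modules) (FlatRes.isFlat_of_isZero (isZero_zero _)) 0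
  · rw [IsZero.iff_id_eq_zero, ← (HomologicalComplex.single X.Modules (ComplexShape.up ℤ) 0).map_id, id_zero,
      Functor.map_zero]

lemma KF_of_homotopyEquiv {K L : CochainComplex X.Modules ℤ} (e : HomotopyEquiv K L) (h : KF X K) : KF X L := by
  rw [KF_iff] at h ⊢
  exact KFlatMod.isKFlat_of_homotopyEquiv e h

lemma KF_shift {K : CochainComplex X.Modules ℤ} (n : ℤ) (h : KF X K) : KF X (K⟦n⟧) := by
  rw [KF_iff] at h ⊢
  exact KFlatMod.isKFlat_shift h n

lemma KF_cone {K L : CochainComplex X.Modules ℤ} (φ : K ⟶ L) (h₁ : KF X K) (h₂ : KF X L) :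
    KF X (CochainComplex.mappingCone φ) := by
  rw [KF_iff] at h₁ h₂ ⊢
  exact KFlat.isKFlat_mappingCone φ h₁ h₂

lemma KF_res (M : CochainComplex X.Modules ℤ) :
    ∃ (K : CochainComplex X.Modules ℤ) (f : K ⟶ M), KF X K ∧ QuasiIso f := by
  obtain ⟨K, q, h, _, hq, _⟩ := KFlatMod.exists_resolution M
  exact ⟨K, q, h, hq⟩

lemma isResolving_KF : PLoc.IsResolving (KF X) :=
  ⟨KF_zero, KF_of_homotopyEquiv, KF_shift, KF_cone, KF_res⟩

instance isMonoidal_KF : (KF X).IsMonoidal where
  prop_unit := isKFlat_unit
  prop_tensor _ _ hK hL := isKFlat_tensor hK hL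

lemma quasiIso_whiskerLeft (K : CochainComplex X.Modules ℤ) (hK : KF X K) {L M : CochainComplex X.Modules ℤ}
    (f : L ⟶ M) (hf : QuasiIso f) : QuasiIso (K ◁ f) :=
  TensSymm.quasiIso_tensor_left hK f

lemma quasiIso_whiskerRight (K : CochainComplex X.Modules ℤ) (hK : KF X K) {L M : CochainComplex X.Modules ℤ}
    (f : L ⟶ M) (hf : QuasiIso f) : QuasiIso (f ▷ K) :=
  KFlat.quasiIso_tensor hK f

instance adapted_KF : Adapted (KF X) where
  isLocalization := PLoc.isLocalization isResolving_KF
  whiskerLeft K hK _ _ f hf := quasiIso_whiskerLeft K hK f hf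
  whiskerRight K hK _ _ f hf := quasiIso_whiskerRight K hK f hf
  res := KF_res

variable (X) in
/-- The monoidal structure on `D(O_X)`: the derived tensor product. -/
@[instance_reducible]
noncomputable def monoidalDX : MonoidalCategory (DCoh.D X) := monoidalD (KF X)

attribute [scoped instance] monoidalDX

variable (X) in
/-- The functor from K-flat complexes to `D(O_X)` is monoidal. -/
@[instance_reducible]
noncomputable def monoidalLPX : (LP (KF X)).Monoidal := monoidalLP (KF X)

attribute [scoped instance] monoidalLPX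

end Groth.Agent.Dcoh.ModD
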