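import Groth.Agent.Dcoh.MonCx
import Mathlib.Algebra.Homology.Additive
import Mathlib.CategoryTheory.Monoidal.Functor
import Mathlib.CategoryTheory.Limits.Preserves.Shapes.Products

/-!
# Monoidal functors induce monoidal functors on cochain complexes

`mapCxMonoidal F`: for a monoidal additive functor `F : A ⥤ B` preserving small coproducts, the functor
`F.mapHomologicalComplex (ComplexShape.up ℤ)` is monoidal.
-/

set_option autoImplicit false

open CategoryTheory Limits MonoidalCategory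

namespace Groth.Agent.Dcoh.MonMap

open Groth.Agent.Dcoh.MonCx

universe v v' u u'

section desc

variable {A : Type u} [Category.{v} A] [Preadditive A] [MonoidalCategory A] [TensorGood A]

/-- Morphisms out of the degree `n` part of a tensor product. -/
noncomputable def desc {K L : CochainComplex A ℤ} {n : ℤ} {Z : A}
    (φ : ∀ (p q : ℤ) (_ : p + q = n), K.X p ⊗ L.X q ⟶ Z) : (K ⊗ L).X n ⟶ Z :=
  HomologicalComplex.mapBifunctorDesc φ

@[reassoc (attr := simp)]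
lemma ιT_desc {K L : CochainComplex A ℤ} {n : ℤ} {Z : A}
    (φ : ∀ (p q : ℤ) (_ : p + q = n), K.X p ⊗ L.X q ⟶ Z) (p q : ℤ) (h : p + q = n) :
    ιT K L p q n h ≫ desc φ = φ p q h := by
  have := HomologicalComplex.ι_mapBifunctorDesc (K₁ := K) (K₂ := L) (F := curriedTensor A)
    (c := ComplexShape.up ℤ) (j := n) φ p q h
  exact this

/-- The cofan of the summands of the degree `n` part of a tensor product. -/
noncomputable def cofanT (K L : CochainComplex A ℤ) (n : ℤ) :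
    Cofan (fun (s : {pq : ℤ × ℤ // pq.1 + pq.2 = n}) => K.X s.1.1 ⊗ L.X s.1.2) :=
  Cofan.mk ((K ⊗ L).X n) (fun s => ιT K L s.1.1 s.1.2 n s.2)

/-- The degree `n` part of a tensor product is the coproduct of its summands. -/
noncomputable def isColimitCofanT (K L : CochainComplex A ℤ) (n : ℤ) :
    IsColimit (cofanT K L n) :=
  Cofan.IsColimit.mk _ (fun s => desc (fun p q h => s.inj ⟨(p, q), h⟩))
    (fun s j => ιT_desc (fun p q h => s.inj ⟨(p, q), h⟩) j.1.1 j.1.2 j.2)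
    (fun s _ hm => hom_ext (fun p q h => (hm ⟨(p, q), h⟩).trans
      (ιT_desc (fun p q h => s.inj ⟨(p, q), h⟩) p q h).symm))

end desc

section F

variable {A : Type u} [Category.{v} A] [Preadditive A] [MonoidalCategory A] [TensorGood A]
  {B : Type u'} [Category.{v'} B] (F : A ⥤ B) [PreservesColimitsOfSize.{0, 0} F]

/-- The image of the cofan of summands is a colimit. -/
noncomputable def isColimitMapCofanT (K L : CochainComplex A ℤ) (n : ℤ) :
    IsColimit (Cofan.mk (F.obj ((K ⊗ L).X n)) (fun (s : {pq : ℤ × ℤ // pq.1 + pq.2 = n}) =>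
      F.map (ιT K L s.1.1 s.1.2 n s.2))) :=
  isColimitCofanMkObjOfIsColimit F _ _ (isColimitCofanT K L n)

lemma map_hom_ext {K L : CochainComplex A ℤ} {n : ℤ} {Z : B} {f g : F.obj ((K ⊗ L).X n) ⟶ Z}
    (H : ∀ (p q : ℤ) (h : p + q = n), F.map (ιT K L p q n h) ≫ f = F.map (ιT K L p q n h) ≫ g) : f = g :=
  Cofan.IsColimit.hom_ext (isColimitMapCofanT F K L n) _ _ (fun s => H s.1.1 s.1.2 s.2)

/-- Morphisms out of the image of the degree `n` part of a tensor product. -/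
noncomputable def mapDesc {K L : CochainComplex A ℤ} {n : ℤ} {Z : B}
    (φ : ∀ (p q : ℤ) (_ : p + q = n), F.obj (K.X p ⊗ L.X q) ⟶ Z) : F.obj ((K ⊗ L).X n) ⟶ Z :=
  Cofan.IsColimit.desc (isColimitMapCofanT F K L n) (fun s => φ s.1.1 s.1.2 s.2)

@[reassoc (attr := simp)]
lemma map_ιT_mapDesc {K L : CochainComplex A ℤ} {n : ℤ} {Z : B}
    (φ : ∀ (p q : ℤ) (_ : p + q = n), F.obj (K.X p ⊗ L.X q) ⟶ Z) (p q : ℤ) (h : p + q = n) :
    F.map (ιT K L p q n h) ≫ mapDesc F φ = φ p q h :=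
  Cofan.IsColimit.fac (isColimitMapCofanT F K L n) _ ⟨(p, q), h⟩

end F

variable {A : Type u} [Category.{v} A] [Preadditive A] [MonoidalCategory A] [TensorGood A]
  {B : Type u'} [Category.{v'} B] [Preadditive B] [MonoidalCategory B] [TensorGood B]
  (F : A ⥤ B) [F.Additive]

/-- The functor induced on complexes. -/
noncomputable abbrev mapCx : CochainComplex A ℤ ⥤ CochainComplex B ℤ :=
  F.mapHomologicalComplex (ComplexShape.up ℤ)

/-- The inclusion of a summand of `F K ⊗ F L`. -/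
noncomputable def ιF (K L : CochainComplex A ℤ) (p q n : ℤ) (h : p + q = n) :
    F.obj (K.X p) ⊗ F.obj (L.X q) ⟶ ((mapCx F).obj K ⊗ (mapCx F).obj L).X n :=
  ιT ((mapCx F).obj K) ((mapCx F).obj L) p q n h

/-- Morphisms out of `(F K ⊗ F L)ⁿ`. -/
noncomputable def descF {K L : CochainComplex A ℤ} {n : ℤ} {Z : B}
    (φ : ∀ (p q : ℤ) (_ : p + q = n), F.obj (K.X p) ⊗ F.obj (L.X q) ⟶ Z) :
    ((mapCx F).obj K ⊗ (mapCx F).obj L).X n ⟶ Z :=
  desc φ

@[reassoc (attr := simp)]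
lemma ιF_descF {K L : CochainComplex A ℤ} {n : ℤ} {Z : B}
    (φ : ∀ (p q : ℤ) (_ : p + q = n), F.obj (K.X p) ⊗ F.obj (L.X q) ⟶ Z) (p q : ℤ) (h : p + q = n) :
    ιF F K L p q n h ≫ descF F φ = φ p q h :=
  ιT_desc (K := (mapCx F).obj K) (L := (mapCx F).obj L) φ p q h

lemma homF_ext {K L : CochainComplex A ℤ} {n : ℤ} {Z : B}
    {f g : ((mapCx F).obj K ⊗ (mapCx F).obj L).X n ⟶ Z}
    (H : ∀ (p q : ℤ) (h : p + q = n), ιF F K L p q n h ≫ f = ιF F K L p q n h ≫ g) : f = g :=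
  hom_ext H

@[reassoc]
lemma ιF_d (K L : CochainComplex A ℤ) (p q n n' : ℤ) (h : p + q = n) (h' : n + 1 = n') :
    ιF F K L p q n h ≫ ((mapCx F).obj K ⊗ (mapCx F).obj L).d n n' =
      (F.map (K.d p (p + 1)) ▷ F.obj (L.X q)) ≫ ιF F K L (p + 1) q n' (by lia) +
        p.negOnePow • ((F.obj (K.X p) ◁ F.map (L.d q (q + 1))) ≫ ιF F K L p (q + 1) n' (by lia)) :=
  ιT_d ((mapCx F).obj K) ((mapCx F).obj L) p q n n' h h'

variable [F.Monoidal] [PreservesColimitsOfSize.{0, 0} F]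

open Functor.LaxMonoidal Functor.OplaxMonoidal

/-- The degree `n` part of the tensorator. -/
noncomputable def muX (K L : CochainComplex A ℤ) (n : ℤ) :
    ((mapCx F).obj K ⊗ (mapCx F).obj L).X n ≅ F.obj ((K ⊗ L).X n) where
  hom := descF F (fun p q h => μ F (K.X p) (L.X q) ≫ F.map (ιT K L p q n h))
  inv := mapDesc F (fun p q h => δ F (K.X p) (L.X q) ≫ ιF F K L p q n h)
  hom_inv_id := homF_ext F (fun p q h => by
    rw [ιF_descF_assoc, Category.assoc, map_ιT_mapDesc, Category.comp_id, Functor.Monoidal.μ_δ_assoc])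
  inv_hom_id := map_hom_ext F (fun p q h => by
    rw [map_ιT_mapDesc_assoc, Category.assoc, ιF_descF, Category.comp_id, Functor.Monoidal.δ_μ_assoc])

@[reassoc]
lemma ιF_muX_hom (K L : CochainComplex A ℤ) (p q n : ℤ) (h : p + q = n) :
    ιF F K L p q n h ≫ (muX F K L n).hom = μ F (K.X p) (L.X q) ≫ F.map (ιT K L p q n h) :=
  ιF_descF F (fun p q h => μ F (K.X p) (L.X q) ≫ F.map (ιT K L p q n h)) p q h

@[reassoc]
lemma map_ιT_muX_inv (K L : CochainComplex A ℤ) (p q n : ℤ) (h : p + q = n) :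
    F.map (ιT K L p q n h) ≫ (muX F K L n).inv = δ F (K.X p) (L.X q) ≫ ιF F K L p q n h :=
  map_ιT_mapDesc F (fun p q h => δ F (K.X p) (L.X q) ≫ ιF F K L p q n h) p q h

lemma muX_comm (K L : CochainComplex A ℤ) (n n' : ℤ) (h' : n + 1 = n') :
    (muX F K L n).hom ≫ F.map ((K ⊗ L).d n n') =
      ((mapCx F).obj K ⊗ (mapCx F).obj L).d n n' ≫ (muX F K L n').hom := by
  refine homF_ext F (fun p q h => ?_)
  rw [ιF_muX_hom_assoc, ← F.map_comp, ιT_d K L p q n n' h h', ιF_d_assoc F K L p q n n' h h',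
    Preadditive.add_comp, Category.assoc, ιF_muX_hom, Linear.units_smul_comp, Category.assoc, ιF_muX_hom,
    F.map_add, Preadditive.comp_add, Functor.map_units_smul, Linear.comp_units_smul, F.map_comp, F.map_comp,
    μ_natural_left_assoc, μ_natural_right_assoc]

/-- The tensorator. -/
noncomputable def muIso (K L : CochainComplex A ℤ) :
    (mapCx F).obj K ⊗ (mapCx F).obj L ≅ (mapCx F).obj (K ⊗ L) :=
  HomologicalComplex.Hom.isoOfComponents (fun n => muX F K L n) (fun n n' h => muX_comm F K L n n' h)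

/-- The degree `n` part of the tensorator with normalized types. -/
noncomputable def muF (K L : CochainComplex A ℤ) (n : ℤ) :
    ((mapCx F).obj K ⊗ (mapCx F).obj L).X n ⟶ F.obj ((K ⊗ L).X n) := (muIso F K L).hom.f n

@[reassoc]
lemma ιF_muF (K L : CochainComplex A ℤ) (p q n : ℤ) (h : p + q = n) :
    ιF F K L p q n h ≫ muF F K L n = μ F (K.X p) (L.X q) ≫ F.map (ιT K L p q n h) :=
  ιF_muX_hom F K L p q n h

@[reassoc]
lemma ιT_muIso_hom (K L : CochainComplex A ℤ) (p q n : ℤ) (h : p + q = n) :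
    ιT ((mapCx F).obj K) ((mapCx F).obj L) p q n h ≫ (muIso F K L).hom.f n =
      μ F (K.X p) (L.X q) ≫ F.map (ιT K L p q n h) :=
  ιF_muX_hom F K L p q n h

@[reassoc]
lemma map_ιT_muIso_inv (K L : CochainComplex A ℤ) (p q n : ℤ) (h : p + q = n) :
    F.map (ιT K L p q n h) ≫ (muIso F K L).inv.f n =
      δ F (K.X p) (L.X q) ≫ ιT ((mapCx F).obj K) ((mapCx F).obj L) p q n h :=
  map_ιT_muX_inv F K L p q n h

/-- The unit comparison. -/
noncomputable def epsIso : 𝟙_ (CochainComplex B ℤ) ≅ (mapCx F).obj (𝟙_ (CochainComplex A ℤ)) :=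
  (HomologicalComplex.single B (ComplexShape.up ℤ) 0).mapIso (Functor.Monoidal.εIso F) ≪≫
    ((HomologicalComplex.singleMapHomologicalComplex F (ComplexShape.up ℤ) 0).app (𝟙_ A)).symm

/-- The degree zero part of the unit comparison, with normalized types. -/
noncomputable def epsF : ((𝟙_ (CochainComplex B ℤ)).X 0) ⟶ F.obj ((𝟙_ (CochainComplex A ℤ)).X 0) :=
  (epsIso F).hom.f 0

@[reassoc]
lemma singleObjXSelf_inv_epsF :
    (HomologicalComplex.singleObjXSelf (ComplexShape.up ℤ) 0 (𝟙_ B)).inv ≫ epsF F =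
      ε F ≫ F.map (HomologicalComplex.singleObjXSelf (ComplexShape.up ℤ) 0 (𝟙_ A)).inv := by
  have h1 : epsF F = ((HomologicalComplex.single B (ComplexShape.up ℤ) 0).map (ε F)).f 0 ≫
      ((HomologicalComplex.singleMapHomologicalComplex F (ComplexShape.up ℤ) 0).inv.app (𝟙_ A)).f 0 := rfl
  rw [h1, HomologicalComplex.single_map_f_self, HomologicalComplex.singleMapHomologicalComplex_inv_app_self]
  simp only [Category.assoc]
  erw [Iso.inv_hom_id_assoc, Iso.inv_hom_id_assoc]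
  rfl

lemma muIso_natural_left {K K' : CochainComplex A ℤ} (f : K ⟶ K') (L : CochainComplex A ℤ) :
    (mapCx F).map f ▷ (mapCx F).obj L ≫ (muIso F K' L).hom =
      (muIso F K L).hom ≫ (mapCx F).map (f ▷ L) := by
  ext n
  refine homF_ext F (fun p q h => ?_)
  have e1 : ιF F K L p q n h ≫ ((mapCx F).map f ▷ (mapCx F).obj L).f n =
      (F.map (f.f p) ▷ F.obj (L.X q)) ≫ ιF F K' L p q n h :=
    ιT_whiskerRight ((mapCx F).map f) ((mapCx F).obj L) p q n h
  have e2 : ιT K L p q n h ≫ (f ▷ L).f n = _ := ιT_whiskerRight f L p q n h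
  calc ιF F K L p q n h ≫ ((mapCx F).map f ▷ (mapCx F).obj L).f n ≫ muF F K' L n
      = (F.map (f.f p) ▷ F.obj (L.X q)) ≫ μ F (K'.X p) (L.X q) ≫ F.map (ιT K' L p q n h) := by
        rw [reassoc_of% e1, ιF_muF]
    _ = ιF F K L p q n h ≫ muF F K L n ≫ F.map ((f ▷ L).f n) := by
        rw [ιF_muF_assoc, ← F.map_comp, e2, F.map_comp, μ_natural_left_assoc]

lemma muIso_natural_right (K : CochainComplex A ℤ) {L L' : CochainComplex A ℤ} (g : L ⟶ L') :
    (mapCx F).obj K ◁ (mapCx F).map g ≫ (muIso F K L').hom =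
      (muIso F K L).hom ≫ (mapCx F).map (K ◁ g) := by
  ext n
  refine homF_ext F (fun p q h => ?_)
  have e1 : ιF F K L p q n h ≫ ((mapCx F).obj K ◁ (mapCx F).map g).f n =
      (F.obj (K.X p) ◁ F.map (g.f q)) ≫ ιF F K L' p q n h :=
    ιT_whiskerLeft ((mapCx F).obj K) ((mapCx F).map g) p q n h
  have e2 : ιT K L p q n h ≫ (K ◁ g).f n = _ := ιT_whiskerLeft K g p q n h
  calc ιF F K L p q n h ≫ ((mapCx F).obj K ◁ (mapCx F).map g).f n ≫ muF F K L' n
      = (F.obj (K.X p) ◁ F.map (g.f q)) ≫ μ F (K.X p) (L'.X q) ≫ F.map (ιT K L' p q n h) := by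
        rw [reassoc_of% e1, ιF_muF]
    _ = ιF F K L p q n h ≫ muF F K L n ≫ F.map ((K ◁ g).f n) := by
        rw [ιF_muF_assoc, ← F.map_comp, e2, F.map_comp, μ_natural_right_assoc]

/-- The inclusion of a summand of `(F K ⊗ F L) ⊗ F M` with normalized types. -/
noncomputable def ιFL (K L M : CochainComplex A ℤ) (pq r n : ℤ) (h : pq + r = n) :
    ((mapCx F).obj K ⊗ (mapCx F).obj L).X pq ⊗ F.obj (M.X r) ⟶
      (((mapCx F).obj K ⊗ (mapCx F).obj L) ⊗ (mapCx F).obj M).X n :=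
  ιT ((mapCx F).obj K ⊗ (mapCx F).obj L) ((mapCx F).obj M) pq r n h

/-- The inclusion of a summand of `F K ⊗ (F L ⊗ F M)` with normalized types. -/
noncomputable def ιFR (K L M : CochainComplex A ℤ) (p qr n : ℤ) (h : p + qr = n) :
    F.obj (K.X p) ⊗ ((mapCx F).obj L ⊗ (mapCx F).obj M).X qr ⟶
      ((mapCx F).obj K ⊗ ((mapCx F).obj L ⊗ (mapCx F).obj M)).X n :=
  ιT ((mapCx F).obj K) ((mapCx F).obj L ⊗ (mapCx F).obj M) p qr n h

lemma muIso_assoc (K L M : CochainComplex A ℤ) :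
    (muIso F K L).hom ▷ (mapCx F).obj M ≫ (muIso F (K ⊗ L) M).hom ≫ (mapCx F).map (α_ K L M).hom =
      (α_ ((mapCx F).obj K) ((mapCx F).obj L) ((mapCx F).obj M)).hom ≫
        (mapCx F).obj K ◁ (muIso F L M).hom ≫ (muIso F K (L ⊗ M)).hom := by
  ext n
  refine hom_ext₁₂ (fun p q r pq h₁ h₂ => ?_)
  obtain ⟨qr, h₃⟩ : ∃ qr, q + r = qr := ⟨_, rfl⟩
  have h₄ : p + qr = n := by lia
  -- left hand side
  have e1 : ιFL F K L M pq r n h₂ ≫ ((muIso F K L).hom ▷ (mapCx F).obj M).f n =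
      (muF F K L pq ▷ F.obj (M.X r)) ≫ ιF F (K ⊗ L) M pq r n h₂ :=
    ιT_whiskerRight (muIso F K L).hom ((mapCx F).obj M) pq r n h₂
  have e2 : ιF F K L p q pq h₁ ▷ F.obj (M.X r) ≫ muF F K L pq ▷ F.obj (M.X r) =
      μ F (K.X p) (L.X q) ▷ F.obj (M.X r) ≫ F.map (ιT K L p q pq h₁) ▷ F.obj (M.X r) := by
    rw [← comp_whiskerRight, ιF_muF, comp_whiskerRight]
  have e3 : ιFR F K L M p qr n h₄ ≫ ((mapCx F).obj K ◁ (muIso F L M).hom).f n =
      (F.obj (K.X p) ◁ muF F L M qr) ≫ ιF F K (L ⊗ M) p qr n h₄ :=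
    ιT_whiskerLeft ((mapCx F).obj K) (muIso F L M).hom p qr n h₄
  have e4 : F.obj (K.X p) ◁ ιF F L M q r qr h₃ ≫ F.obj (K.X p) ◁ muF F L M qr =
      F.obj (K.X p) ◁ μ F (L.X q) (M.X r) ≫ F.obj (K.X p) ◁ F.map (ιT L M q r qr h₃) := by
    rw [← MonoidalCategory.whiskerLeft_comp, ιF_muF, MonoidalCategory.whiskerLeft_comp]
  have e5 : (ιF F K L p q pq h₁ ▷ F.obj (M.X r)) ≫ ιFL F K L M pq r n h₂ ≫
      (α_ ((mapCx F).obj K) ((mapCx F).obj L) ((mapCx F).obj M)).hom.f n =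
      (α_ (F.obj (K.X p)) (F.obj (L.X q)) (F.obj (M.X r))).hom ≫ (F.obj (K.X p) ◁ ιF F L M q r qr h₃) ≫
        ιFR F K L M p qr n h₄ :=
    ιT_associator_hom ((mapCx F).obj K) ((mapCx F).obj L) ((mapCx F).obj M) p q r pq qr n h₁ h₂ h₃ h₄
  calc (ιF F K L p q pq h₁ ▷ F.obj (M.X r)) ≫ ιFL F K L M pq r n h₂ ≫
      ((muIso F K L).hom ▷ (mapCx F).obj M).f n ≫ muF F (K ⊗ L) M n ≫ F.map ((α_ K L M).hom.f n)
      = μ F (K.X p) (L.X q) ▷ F.obj (M.X r) ≫ μ F (K.X p ⊗ L.X q) (M.X r) ≫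
          F.map ((ιT K L p q pq h₁ ▷ M.X r) ≫ ιT (K ⊗ L) M pq r n h₂ ≫ (α_ K L M).hom.f n) := by
        rw [reassoc_of% e1, reassoc_of% e2, ιF_muF_assoc, μ_natural_left_assoc, F.map_comp, F.map_comp]
    _ = (α_ (F.obj (K.X p)) (F.obj (L.X q)) (F.obj (M.X r))).hom ≫ (F.obj (K.X p) ◁ ιF F L M q r qr h₃) ≫
        ιFR F K L M p qr n h₄ ≫
        ((mapCx F).obj K ◁ (muIso F L M).hom).f n ≫ muF F K (L ⊗ M) n := by
        rw [ιT_associator_hom K L M p q r pq qr n h₁ h₂ h₃ h₄, F.map_comp, F.map_comp,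
          Functor.LaxMonoidal.associativity_assoc, reassoc_of% e3, reassoc_of% e4, ιF_muF,
          ← μ_natural_right_assoc]
    _ = (ιF F K L p q pq h₁ ▷ F.obj (M.X r)) ≫ ιFL F K L M pq r n h₂ ≫
        (α_ ((mapCx F).obj K) ((mapCx F).obj L) ((mapCx F).obj M)).hom.f n ≫
        ((mapCx F).obj K ◁ (muIso F L M).hom).f n ≫ muF F K (L ⊗ M) n := by
        rw [reassoc_of% e5]

/-- The unit complex vanishes in non zero degrees. -/
lemma isZero_unit_X (n : ℤ) (hn : n ≠ 0) : IsZero ((𝟙_ (CochainComplex A ℤ)).X n) :=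
  HomologicalComplex.isZero_single_obj_X (ComplexShape.up ℤ) 0 (𝟙_ A) n hn

/-- The inclusion of the unit object in the unit complex. -/
noncomputable def unitι (A : Type u) [Category.{v} A] [Preadditive A] [MonoidalCategory A] [TensorGood A] :
    𝟙_ A ≅ (𝟙_ (CochainComplex A ℤ)).X 0 :=
  (HomologicalComplex.singleObjXSelf (ComplexShape.up ℤ) 0 (𝟙_ A)).symm

@[reassoc]
lemma unitι_epsF : (unitι B).hom ≫ epsF F = ε F ≫ F.map (unitι A).hom :=
  singleObjXSelf_inv_epsF F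

/-- The inclusion of a summand in `1 ⊗ F K` with normalized types. -/
noncomputable def ιFUL (K : CochainComplex A ℤ) (q : ℤ) (h : 0 + q = q) :
    (𝟙_ (CochainComplex B ℤ)).X 0 ⊗ F.obj (K.X q) ⟶ (𝟙_ (CochainComplex B ℤ) ⊗ (mapCx F).obj K).X q :=
  ιT (𝟙_ (CochainComplex B ℤ)) ((mapCx F).obj K) 0 q q h

/-- The inclusion of a summand in `F K ⊗ 1` with normalized types. -/
noncomputable def ιFUR (K : CochainComplex A ℤ) (q : ℤ) (h : q + 0 = q) :
    F.obj (K.X q) ⊗ (𝟙_ (CochainComplex B ℤ)).X 0 ⟶ ((mapCx F).obj K ⊗ 𝟙_ (CochainComplex B ℤ)).X q :=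
  ιT ((mapCx F).obj K) (𝟙_ (CochainComplex B ℤ)) q 0 q h

lemma muIso_left_unit (K : CochainComplex A ℤ) :
    (λ_ ((mapCx F).obj K)).hom = (epsIso F).hom ▷ (mapCx F).obj K ≫
      (muIso F (𝟙_ (CochainComplex A ℤ)) K).hom ≫ (mapCx F).map (λ_ K).hom := by
  ext n
  refine hom_ext (fun p q h => ?_)
  by_cases hp : p = 0
  · subst hp
    obtain rfl : q = n := by lia
    rw [← cancel_epi ((HomologicalComplex.singleObjXSelf (ComplexShape.up ℤ) 0 (𝟙_ B)).inv ▷
      (((mapCx F).obj K).X q)), ιT_leftUnitor_hom]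
    have e1 : ιFUL F K q h ≫ ((epsIso F).hom ▷ (mapCx F).obj K).f q =
        (epsF F ▷ F.obj (K.X q)) ≫ ιF F (𝟙_ (CochainComplex A ℤ)) K 0 q q h :=
      ιT_whiskerRight (epsIso F).hom ((mapCx F).obj K) 0 q q h
    have e2 : (unitι B).hom ▷ F.obj (K.X q) ≫ epsF F ▷ F.obj (K.X q) = ε F ▷ F.obj (K.X q) ≫
          F.map (unitι A).hom ▷ F.obj (K.X q) := by
      rw [← comp_whiskerRight, unitι_epsF, comp_whiskerRight]
    have e3 : (unitι A).hom ▷ (K.X q) ≫ ιT (𝟙_ (CochainComplex A ℤ)) K 0 q q h ≫ (λ_ K).hom.f q =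
        (λ_ (K.X q)).hom := ιT_leftUnitor_hom K q
    calc (λ_ (F.obj (K.X q))).hom
        = ε F ▷ F.obj (K.X q) ≫ μ F (𝟙_ A) (K.X q) ≫
          F.map ((unitι A).hom ▷ (K.X q) ≫ ιT (𝟙_ (CochainComplex A ℤ)) K 0 q q h ≫ (λ_ K).hom.f q) := by
          rw [e3, Functor.LaxMonoidal.left_unitality]
      _ = (unitι B).hom ▷ F.obj (K.X q) ≫ ιFUL F K q h ≫
          ((epsIso F).hom ▷ (mapCx F).obj K).f q ≫ muF F (𝟙_ (CochainComplex A ℤ)) K q ≫
          F.map ((λ_ K).hom.f q) := by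
          rw [reassoc_of% e1, reassoc_of% e2, ιF_muF_assoc, μ_natural_left_assoc, F.map_comp, F.map_comp]
  · exact (Functor.map_isZero (tensorRight (((mapCx F).obj K).X q)) (isZero_unit_X p hp)).eq_of_src _ _

lemma muIso_right_unit (K : CochainComplex A ℤ) :
    (ρ_ ((mapCx F).obj K)).hom = (mapCx F).obj K ◁ (epsIso F).hom ≫
      (muIso F K (𝟙_ (CochainComplex A ℤ))).hom ≫ (mapCx F).map (ρ_ K).hom := by
  ext n
  refine hom_ext (fun p q h => ?_)
  by_cases hq : q = 0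
  · subst hq
    obtain rfl : p = n := by lia
    rw [← cancel_epi ((((mapCx F).obj K).X p) ◁
      (HomologicalComplex.singleObjXSelf (ComplexShape.up ℤ) 0 (𝟙_ B)).inv), ιT_rightUnitor_hom]
    have e1 : ιFUR F K p h ≫ ((mapCx F).obj K ◁ (epsIso F).hom).f p =
        (F.obj (K.X p) ◁ epsF F) ≫ ιF F K (𝟙_ (CochainComplex A ℤ)) p 0 p h :=
      ιT_whiskerLeft ((mapCx F).obj K) (epsIso F).hom p 0 p h
    have e2 : F.obj (K.X p) ◁ (unitι B).hom ≫ F.obj (K.X p) ◁ epsF F = F.obj (K.X p) ◁ ε F ≫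
          F.obj (K.X p) ◁ F.map (unitι A).hom := by
      rw [← MonoidalCategory.whiskerLeft_comp, unitι_epsF, MonoidalCategory.whiskerLeft_comp]
    have e3 : (K.X p) ◁ (unitι A).hom ≫ ιT K (𝟙_ (CochainComplex A ℤ)) p 0 p h ≫ (ρ_ K).hom.f p =
        (ρ_ (K.X p)).hom := ιT_rightUnitor_hom K p
    calc (ρ_ (F.obj (K.X p))).hom
        = F.obj (K.X p) ◁ ε F ≫ μ F (K.X p) (𝟙_ A) ≫
          F.map ((K.X p) ◁ (unitι A).hom ≫ ιT K (𝟙_ (CochainComplex A ℤ)) p 0 p h ≫ (ρ_ K).hom.f p) := by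
          rw [e3, Functor.LaxMonoidal.right_unitality]
      _ = F.obj (K.X p) ◁ (unitι B).hom ≫ ιFUR F K p h ≫
          ((mapCx F).obj K ◁ (epsIso F).hom).f p ≫ muF F K (𝟙_ (CochainComplex A ℤ)) p ≫
          F.map ((ρ_ K).hom.f p) := by
          rw [reassoc_of% e1, reassoc_of% e2, ιF_muF_assoc, μ_natural_right_assoc, F.map_comp, F.map_comp]
  · exact (Functor.map_isZero (tensorLeft (((mapCx F).obj K).X p)) (isZero_unit_X q hq)).eq_of_src _ _

/-- The functor induced on cochain complexes by an additive monoidal functor which commutes with small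
coproducts is monoidal (core data). -/
noncomputable def mapCxCore : (F.mapHomologicalComplex (ComplexShape.up ℤ)).CoreMonoidal where
  εIso := epsIso F
  μIso := muIso F
  μIso_hom_natural_left f L := muIso_natural_left F f L
  μIso_hom_natural_right K g := muIso_natural_right F K g
  associativity := muIso_assoc F
  left_unitality := muIso_left_unit F
  right_unitality := muIso_right_unit F

/-- The functor induced on cochain complexes by an additive monoidal functor which commutes with small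
coproducts is monoidal. -/
@[implicit_reducible]
noncomputable def mapCxMonoidal : (F.mapHomologicalComplex (ComplexShape.up ℤ)).Monoidal :=
  (mapCxCore F).toMonoidal

@[reassoc]
lemma ιT_μ (K L : CochainComplex A ℤ) (p q n : ℤ) (h : p + q = n) :
    ιT ((mapCx F).obj K) ((mapCx F).obj L) p q n h ≫
      (@μ _ _ _ _ _ _ (mapCx F) (mapCxMonoidal F).toLaxMonoidal K L).f n =
      μ F (K.X p) (L.X q) ≫ F.map (ιT K L p q n h) :=
  ιT_muIso_hom F K L p q n h

@[reassoc]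
lemma ε_f_zero :
    (HomologicalComplex.singleObjXSelf (ComplexShape.up ℤ) 0 (𝟙_ B)).inv ≫
      (@ε _ _ _ _ _ _ (mapCx F) (mapCxMonoidal F).toLaxMonoidal).f 0 =
      ε F ≫ F.map (HomologicalComplex.singleObjXSelf (ComplexShape.up ℤ) 0 (𝟙_ A)).inv :=
  singleObjXSelf_inv_epsF F

end Groth.Agent.Dcoh.MonMap
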