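import Groth.Agent.Dcoh.MonMapD
import Groth.Agent.Dcoh.MonMap
import Groth.Agent.Dcoh.ModD
import Groth.Agent.Dcoh.DerPull
import Groth.Agent.Dcoh.DualMap

/-!
# `Lf^*` is a monoidal functor

* `monoidalOfComp`: a functor on derived categories which extends a monoidal functor on complexes in `P`
  is monoidal;
* `lpullMonoidal f : (DCoh.Lpull f).Monoidal`, given a monoidal structure on `Scheme.Modules.pullback f`;
* `nonempty_proj`: abstract projection formula for dualizable objects.
-/

set_option autoImplicit false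

open CategoryTheory Limits MonoidalCategory AlgebraicGeometry

namespace Groth.Agent.Dcoh.MonLpull182

open Groth.Agent.Dcoh.MonCx Groth.Agent.Dcoh.MonD Groth.Agent.Dcoh.MonMapD

universe w v u w' v' u'

section

variable {A : Type u} [Category.{v} A] [Abelian A] [MonoidalCategory A] [TensorGood A]
  {B : Type u'} [Category.{v'} B] [Abelian B] [MonoidalCategory B] [TensorGood B]
  [HasDerivedCategory.{w} A] [HasDerivedCategory.{w'} B]
  (P : ObjectProperty (CochainComplex A ℤ)) [Adapted P]
  (P' : ObjectProperty (CochainComplex B ℤ)) [Adapted P']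
  [MonoidalCategory (DerivedCategory A)] [(LP P).Monoidal]
  [MonoidalCategory (DerivedCategory B)] [(LP P').Monoidal]
  (F : CochainComplex A ℤ ⥤ CochainComplex B ℤ) [F.Monoidal]
  (hF : ∀ K, P K → P' (F.obj K))
  (LF : DerivedCategory A ⥤ DerivedCategory B)
  (e : P.ι ⋙ DerivedCategory.Q ⋙ LF ≅ P.ι ⋙ F ⋙ DerivedCategory.Q)

/-- The functor `LF` on derived categories lifts the functor `F` on the full subcategories. -/
@[instance_reducible]
noncomputable def lifting : Localization.Lifting (LP P) (qisP P) (liftP P P' F hF ⋙ LP P') LF := ⟨e⟩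

/-- A functor on derived categories which extends a monoidal functor on the full subcategories `P`, `P'` of
complexes is monoidal. -/
@[instance_reducible]
noncomputable def monoidalOfComp : LF.Monoidal :=
  letI := lifting P P' F hF LF e
  Localization.Monoidal.functorMonoidalOfComp (LP P) (qisP P) LF (liftP P P' F hF ⋙ LP P')

end

section

variable {C : Type u} [Category.{v} C] [MonoidalCategory C] {D : Type u'} [Category.{v'} D] [MonoidalCategory D]

/-- The swap of the adjunction of an exact pairing. -/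
theorem nonempty_adj (hC : ∀ Z : C, Nonempty (tensorLeft Z ≅ tensorRight Z)) (K Y : C) [ExactPairing K Y] :
    Nonempty (tensorRight Y ⊣ tensorRight K) := by
  obtain ⟨e1⟩ := hC Y
  obtain ⟨e2⟩ := hC K
  exact ⟨((tensorLeftAdjunction K Y).ofNatIsoLeft e1).ofNatIsoRight e2⟩

/-- Projection formula for a dualizable object `K`: if `L ⊣ R` and `L` is monoidal then
`R(-) ⊗ K ≅ R(- ⊗ L K)`. -/
theorem nonempty_proj (hC : ∀ Z : C, Nonempty (tensorLeft Z ≅ tensorRight Z))
    (hD : ∀ Z : D, Nonempty (tensorLeft Z ≅ tensorRight Z)) (L : C ⥤ D) [L.Monoidal] (R : D ⥤ C) (adj : L ⊣ R)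
    (K Y : C) [ExactPairing K Y] : Nonempty (R ⋙ tensorRight K ≅ tensorRight (L.obj K) ⋙ R) := by
  let _ : ExactPairing (L.obj K) (L.obj Y) := DualMap.mapPairing L K Y
  obtain ⟨a⟩ := nonempty_adj hC K Y
  obtain ⟨b⟩ := nonempty_adj hD (L.obj K) (L.obj Y)
  exact ⟨conjugateIsoEquiv (a.comp adj) (adj.comp b) (Functor.Monoidal.commTensorRight L Y)⟩

end

section

universe z

attribute [local instance] HasDerivedCategory.standard

open scoped Groth.Agent.Dcoh.MonCat Groth.Agent.Dcoh.ModD

variable {X Y : Scheme.{z}} (f : X ⟶ Y) [DCoh.HasLpull f]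

/-- `Lf^*` is computed by `f^*` on K-flat complexes, naturally. -/
noncomputable def lpullLiftIso : (ModD.KF Y).ι ⋙ DerivedCategory.Q ⋙ DCoh.Lpull f ≅
    (ModD.KF Y).ι ⋙ (Scheme.Modules.pullback f).mapHomologicalComplex (ComplexShape.up ℤ) ⋙ DerivedCategory.Q :=
  haveI : ∀ K : (ModD.KF Y).FullSubcategory, IsIso ((DerPull.lpullCounitQ f).app K.obj) := fun K =>
    DerPull.isIso_lpullCounitQ_app f K.obj K.property
  NatIso.ofComponents (fun K => asIso ((DerPull.lpullCounitQ f).app K.obj))
    (fun φ => (DerPull.lpullCounitQ f).naturality φ.hom)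

/-- `Lf^*` is monoidal if `f^*` is. -/
@[instance_reducible]
noncomputable def lpullMonoidal [(Scheme.Modules.pullback f).Monoidal] : (DCoh.Lpull f).Monoidal :=
  letI := MonMap.mapCxMonoidal (Scheme.Modules.pullback f)
  monoidalOfComp (ModD.KF Y) (ModD.KF X) ((Scheme.Modules.pullback f).mapHomologicalComplex (ComplexShape.up ℤ))
    (fun K hK => KFlatInput.isKFlat_pullback f K hK) (DCoh.Lpull f) (lpullLiftIso f)

end

end Groth.Agent.Dcoh.MonLpull182
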