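import Mathlib.RingTheory.TensorProduct.IsBaseChangeHom
import Mathlib.LinearAlgebra.TensorProduct.Tower
import Mathlib.RingTheory.TensorProduct.Basic

/-!
# Base change of a tensor product of modules, in a form adapted to stalks
-/

set_option autoImplicit false

open TensorProduct

namespace Groth.Agent.Dcoh.BCTensor

variable {A B M N P M' N' P' : Type*} [CommRing A] [CommRing B] [Algebra A B]
  [AddCommGroup M] [Module A M] [AddCommGroup N] [Module A N] [AddCommGroup P] [Module A P]
  [AddCommGroup M'] [Module B M'] [AddCommGroup N'] [Module B N'] [AddCommGroup P'] [Module B P']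

/-- If `M'`, `N'`, `P'` are the base changes of `M`, `N` and `P ≃ M ⊗ N`, then a linear map
`P' → M' ⊗ N'` compatible with pure tensors is bijective. -/
theorem bijective_of_baseChange (i : M → M') (j : N → N') (k : P → P')
    (eM : B ⊗[A] M ≃ₗ[B] M') (hM : ∀ b m, eM (b ⊗ₜ m) = b • i m)
    (eN : B ⊗[A] N ≃ₗ[B] N') (hN : ∀ b n, eN (b ⊗ₜ n) = b • j n)
    (eP : B ⊗[A] P ≃ₗ[B] P') (hP : ∀ b p, eP (b ⊗ₜ p) = b • k p)
    (e : P ≃ₗ[A] M ⊗[A] N) (φ : P' →ₗ[B] M' ⊗[B] N')
    (h : ∀ m n, φ (k (e.symm (m ⊗ₜ n))) = i m ⊗ₜ j n) : Function.Bijective φ := by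
  have key : φ ∘ₗ (eP.toLinearMap ∘ₗ (LinearEquiv.baseChange A B _ _ e.symm).toLinearMap) =
      (TensorProduct.congr eM eN).toLinearMap ∘ₗ
        (TensorProduct.AlgebraTensorModule.distribBaseChange A B M N).toLinearMap := by
    refine LinearMap.ext fun z => ?_
    induction z using TensorProduct.induction_on with
    | zero => rw [map_zero, map_zero]
    | add a b ha hb => rw [map_add, map_add, ha, hb]
    | tmul b t =>
      induction t using TensorProduct.induction_on with
      | zero => rw [tmul_zero, map_zero, map_zero]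
      | add a b ha hb => rw [tmul_add, map_add, map_add, ha, hb]
      | tmul m n =>
        simp only [LinearMap.comp_apply, LinearEquiv.coe_coe, LinearEquiv.baseChange_tmul, hP,
          map_smul, h, TensorProduct.AlgebraTensorModule.distribBaseChange_tmul,
          TensorProduct.congr_tmul, hM, hN, one_smul, TensorProduct.smul_tmul']
  have h2 : φ = ((TensorProduct.AlgebraTensorModule.distribBaseChange A B M N) ≪≫ₗ
      (TensorProduct.congr eM eN)).toLinearMap ∘ₗ
      ((LinearEquiv.baseChange A B _ _ e.symm) ≪≫ₗ eP).symm.toLinearMap := by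
    rw [LinearEquiv.eq_comp_toLinearMap_symm]
    exact key
  rw [h2, LinearMap.coe_comp]
  exact (LinearEquiv.bijective _).comp (LinearEquiv.bijective _)

end Groth.Agent.Dcoh.BCTensor
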