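import Mathlib.Algebra.Category.ModuleCat.Monoidal.Adjunction
import Mathlib.Algebra.Category.ModuleCat.Presheaf.Monoidal
import Mathlib.Algebra.Category.ModuleCat.Presheaf.Pushforward

/-!
# The pushforward of presheaves of modules over presheaves of commutative rings is lax monoidal

For `φ : S ⟶ F.op ⋙ R` (presheaves of commutative rings) the functor
`PresheafOfModules.pushforward (whiskerRight φ (forget₂ _ _))` is lax monoidal, with tensorator
`m ⊗ n ↦ m ⊗ n` and unit `φ`; it is computed objectwise by the lax monoidal structure of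
`ModuleCat.restrictScalars`.
-/

set_option autoImplicit false

open CategoryTheory MonoidalCategory Opposite Functor.LaxMonoidal

universe u

namespace Groth.Agent.Dcoh.PushLax

variable {C D : Type*} [Category* C] [Category* D] {F : C ⥤ D}
  {S : Cᵒᵖ ⥤ CommRingCat.{u}} {R : Dᵒᵖ ⥤ CommRingCat.{u}} (φ : S ⟶ F.op ⋙ R)

/-- The pushforward functor of presheaves of modules attached to a morphism of presheaves of
commutative rings. -/
noncomputable abbrev PF : PresheafOfModules.{u} (R ⋙ forget₂ CommRingCat RingCat) ⥤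
    PresheafOfModules.{u} (S ⋙ forget₂ CommRingCat RingCat) :=
  PresheafOfModules.pushforward (F := F) (R := R ⋙ forget₂ CommRingCat RingCat)
    (Functor.whiskerRight φ (forget₂ CommRingCat RingCat))

/-- Restriction of scalars at an object. -/
noncomputable abbrev rs (U : Cᵒᵖ) : ModuleCat.{u} (R.obj (F.op.obj U)) ⥤ ModuleCat.{u} (S.obj U) :=
  ModuleCat.restrictScalars (φ.app U).hom

theorem rs_μ_tmul (U : Cᵒᵖ) (M N : ModuleCat.{u} (R.obj (F.op.obj U))) (m : M) (n : N) :
    (μ (rs φ U) M N).hom (TensorProduct.tmul (S.obj U) (M := (rs φ U).obj M) (N := (rs φ U).obj N) m n) =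
      TensorProduct.tmul (R.obj (F.op.obj U)) m n :=
  ModuleCat.restrictScalars_μ_tmul _ _ _ _ _

open ModuleCat.MonoidalCategory in
/-- The tensorator. -/
noncomputable def pμ (M N : PresheafOfModules.{u} (R ⋙ forget₂ CommRingCat RingCat)) :
    (PF φ).obj M ⊗ (PF φ).obj N ⟶ (PF φ).obj (M ⊗ N) where
  app U := μ (rs φ U) (M.obj (F.op.obj U)) (N.obj (F.op.obj U))
  naturality {U V} i := tensor_ext (fun m n => by
    have h1 := rs_μ_tmul φ V (M.obj (F.op.obj V)) (N.obj (F.op.obj V)) (M.map (F.op.map i) m)
      (N.map (F.op.map i) n)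
    have h2 := rs_μ_tmul φ U (M.obj (F.op.obj U)) (N.obj (F.op.obj U)) m n
    refine h1.trans ?_
    have h3 := congrArg ((M ⊗ N).map (F.op.map i)).hom h2
    exact h3.symm)

/-- The unit. -/
noncomputable def pε : 𝟙_ (PresheafOfModules.{u} (S ⋙ forget₂ CommRingCat RingCat)) ⟶
    (PF φ).obj (𝟙_ _) where
  app U := ε (rs φ U)
  naturality {U V} i := by
    refine ModuleCat.hom_ext (LinearMap.ext fun r => ?_)
    have h1 := ModuleCat.restrictScalars_η (φ.app V).hom (S.map i r)
    have h2 := ModuleCat.restrictScalars_η (φ.app U).hom r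
    have h3 := congrArg (R.map (F.op.map i)).hom h2
    refine h1.trans (Eq.trans ?_ h3.symm)
    exact congr($(φ.naturality i) r)

noncomputable instance laxPF : (PF φ).LaxMonoidal where
  ε := pε φ
  μ := pμ φ
  μ_natural_left {M N} f P := by
    ext1 U
    exact μ_natural_left (rs φ U) (f.app (F.op.obj U)) (P.obj (F.op.obj U))
  μ_natural_right {M N} P f := by
    ext1 U
    exact μ_natural_right (rs φ U) (P.obj (F.op.obj U)) (f.app (F.op.obj U))
  associativity M N P := by
    ext1 U
    exact Functor.LaxMonoidal.associativity (rs φ U) (M.obj (F.op.obj U)) (N.obj (F.op.obj U)) (P.obj (F.op.obj U))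
  left_unitality M := by
    ext1 U
    exact Functor.LaxMonoidal.left_unitality (rs φ U) (M.obj (F.op.obj U))
  right_unitality M := by
    ext1 U
    exact Functor.LaxMonoidal.right_unitality (rs φ U) (M.obj (F.op.obj U))

open ModuleCat.MonoidalCategory in
noncomputable instance laxBraidedPF : (PF φ).LaxBraided where
  braided M N := by
    ext1 U
    refine tensor_ext (fun m n => ?_)
    have h1 := rs_μ_tmul φ U (M.obj (F.op.obj U)) (N.obj (F.op.obj U)) m n
    have h2 := rs_μ_tmul φ U (N.obj (F.op.obj U)) (M.obj (F.op.obj U)) n m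
    have h3 := congrArg ((β_ M N).hom.app (F.op.obj U)).hom h1
    exact h3.trans h2.symm

end Groth.Agent.Dcoh.PushLax
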