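import Groth.Agent.Dcoh.MonCat
import Groth.Agent.Dcoh.PushLax292
import Groth.Agent.Dcoh.StalkT
import Groth.Agent.Dcoh.BCTensor292
import Groth.Agent.Fdesc.PullbackStalk
import Groth.Agent.Fga.UnitRestrict
import Mathlib.CategoryTheory.Localization.Monoidal.Functor
import Mathlib.AlgebraicGeometry.Modules.Sheaf

/-!
# The pullback functor on modules is monoidal
-/

set_option autoImplicit false

open CategoryTheory MonoidalCategory AlgebraicGeometry Limits Opposite DCoh TopologicalSpace
open Functor.LaxMonoidal Functor.OplaxMonoidal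

universe u

namespace Groth.Agent.Dcoh.MonPull

open scoped Groth.Agent.Dcoh.MonCat
open Groth.Agent.Dcoh.MonCat Groth.Agent.Dcoh.PushLax

section ToP

variable (X : Scheme.{u})

/-- The forgetful functor to presheaves of modules is lax monoidal. -/
@[instance_reducible]
noncomputable def laxToP : (toP (X := X)).LaxMonoidal := (shAdj X).rightAdjointLaxMonoidal

attribute [scoped instance] laxToP

theorem toP_μ (M N : X.Modules) : μ toP M N = (shAdj X).unit.app (toP.obj M ⊗ toP.obj N) := by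
  change (shAdj X).unit.app _ ≫ toP.map (shP.map ((shAdj X).unit.app (toP.obj M) ⊗ₘ (shAdj X).unit.app (toP.obj N)) ≫
    shP.map (toP.map ((shAdj X).counit.app M) ⊗ₘ toP.map ((shAdj X).counit.app N))) = _
  rw [← Functor.map_comp, tensorHom_comp_tensorHom]
  have h1 := (shAdj X).right_triangle_components M
  have h2 := (shAdj X).right_triangle_components N
  erw [h1, h2]
  simp

theorem toP_ε : ε (toP (X := X)) = 𝟙 (𝟙_ (CohB1.PMod X)) := 
  (shAdj X).right_triangle_components (Coh.structureModule X)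

end ToP

section Abstract

variable {C D E : Type*} [Category* C] [Category* D] [Category* E] {L : C ⥤ D} {R : D ⥤ C}
  {F : D ⥤ E} {G : E ⥤ D} (A : L ⊣ R) (B : F ⊣ G)

theorem comp_unit_aux {c : C} {d : D} {e : E} (a : L.obj c ⟶ d) (g : F.obj d ⟶ e) :
    (A.comp B).unit.app c ≫ (G ⋙ R).map (F.map a ≫ g) =
      A.unit.app c ≫ R.map a ≫ R.map (B.unit.app d ≫ G.map g) := by
  have := B.unit.naturality_assoc a (G.map g)
  dsimp at this
  simp [← Functor.map_comp, this]

end Abstract

variable {X Y : Scheme.{u}} (f : X ⟶ Y)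

/-- The pushforward on presheaves of modules. -/
noncomputable abbrev P : CohB1.PMod X ⥤ CohB1.PMod Y :=
  PF (F := Opens.map f.base) (S := Y.sheaf.obj) (R := X.sheaf.obj) f.c

noncomputable instance laxP : (P f).LaxMonoidal := laxPF f.c

noncomputable instance laxBraidedP : (P f).LaxBraided := laxBraidedPF f.c

/-- The composition of `f_*` and `toP` is lax monoidal. -/
@[instance_reducible]
noncomputable def laxPT : (Scheme.Modules.pushforward f ⋙ toP).LaxMonoidal :=
  inferInstanceAs (toP ⋙ P f).LaxMonoidal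

attribute [local instance] laxPT

theorem laxPT_ε : ε (Scheme.Modules.pushforward f ⋙ toP) = toP.map (Fga.UnitRestrict.unitToPush f) := by
  change ε (toP ⋙ P f) = _
  change ε (P f) ≫ (P f).map (ε toP) = _
  rw [toP_ε]
  refine ((congrArg (ε (P f) ≫ ·) ((P f).map_id _)).trans (Category.comp_id _)).trans ?_
  apply PresheafOfModules.hom_ext
  intro U
  refine ModuleCat.hom_ext (LinearMap.ext fun r => ?_)
  exact ModuleCat.restrictScalars_η _ _

/-- The adjunction between `f^* ∘ shP` and `toP ∘ f_*`. -/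
noncomputable def cadj : shP ⋙ Scheme.Modules.pullback f ⊣ Scheme.Modules.pushforward f ⋙ toP :=
  (shAdj Y).comp (Scheme.Modules.pullbackPushforwardAdjunction f)

/-- The composition of `shP` and `f^*` is oplax monoidal. -/
@[instance_reducible]
noncomputable def oplaxG : (shP ⋙ Scheme.Modules.pullback f).OplaxMonoidal :=
  (cadj f).leftAdjointOplaxMonoidal

attribute [local instance] oplaxG

theorem η_eq : η (shP ⋙ Scheme.Modules.pullback f) =
    (Scheme.Modules.pullback f).map (unitIso Y).hom ≫ Fga.UnitRestrict.pullbackUnitHom f := by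
  apply ((cadj f).homEquiv _ _).injective
  refine (((cadj f).homEquiv _ _).apply_symm_apply _).trans ?_
  rw [laxPT_ε, Adjunction.homEquiv_unit, ← Fga.UnitRestrict.unit_pullbackUnitHom]
  refine Eq.trans ?_ (comp_unit_aux (shAdj Y) (Scheme.Modules.pullbackPushforwardAdjunction f)
    (unitIso Y).hom (Fga.UnitRestrict.pullbackUnitHom f)).symm
  have h3 : (shAdj Y).unit.app (𝟙_ (CohB1.PMod Y)) ≫ toP.map (unitIso Y).hom = 𝟙 _ :=
    (shAdj Y).right_triangle_components (Coh.structureModule Y)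
  exact ((Category.assoc _ _ _).symm.trans ((congrArg (· ≫ _) h3).trans (Category.id_comp _))).symm

instance isIso_η : IsIso (η (shP ⋙ Scheme.Modules.pullback f)) := by
  rw [η_eq]
  infer_instance

section Stalks

open Groth.Agent.Dcoh.Stalk Groth.Agent.Fdesc.PullbackStalk

variable (x : X)

/-- Germs of sections of presheaves of modules. -/
noncomputable def gp {X : Scheme.{u}} (Q : CohB1.PMod X) (x : X) (U : X.Opens) (hx : x ∈ U)
    (q : Q.obj (op U)) : (stalkPS x).obj Q :=
  StalkP.germ (R := X.presheaf) Q U x hx q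

/-- The pure tensor of two sections. -/
noncomputable def tm {X : Scheme.{u}} {Q Q' : CohB1.PMod X} {U : X.Opens}
    (q : Q.obj (op U)) (q' : Q'.obj (op U)) : (Q ⊗ Q').obj (op U) :=
  StalkP.tmul (R := X.presheaf) q q'

theorem gp_map {X : Scheme.{u}} {Q Q' : CohB1.PMod X} (φ : Q ⟶ Q') (x : X) (U : X.Opens) (hx : x ∈ U)
    (q : Q.obj (op U)) : (stalkPS x).map φ (gp Q x U hx q) = gp Q' x U hx (φ.app (op U) q) :=
  StalkP.stalkMap_germ (R := X.presheaf) _ _ _ _ _

theorem stalkPSTensor_gp {X : Scheme.{u}} (Q Q' : CohB1.PMod X) (x : X) (U : X.Opens) (hx : x ∈ U)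
    (q : Q.obj (op U)) (q' : Q'.obj (op U)) :
    (stalkPSTensor Q Q' x).hom (gp (Q ⊗ Q') x U hx (tm q q')) =
      TensorProduct.tmul (X.presheaf.stalk x) (gp Q x U hx q) (gp Q' x U hx q') :=
  StalkP.stalkTensorEquiv_germ_tmul (R := X.presheaf) Q Q' x U hx q q'

/-- The canonical map `Q_{f x} → (f^* (shP Q))_x`. -/
noncomputable def iota (Q : CohB1.PMod Y) :
    (stalkPS (f.base x)).obj Q → (stalkF x).obj ((Scheme.Modules.pullback f).obj (shP.obj Q)) :=
  fun t => canAdd f (shP.obj Q) x ((stalkPS (f.base x)).map ((MonCat.shAdj Y).unit.app Q) t)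

theorem iota_gp (Q : CohB1.PMod Y) (V : Y.Opens) (hV : f.base x ∈ V) (q : Q.obj (op V)) :
    iota f x Q (gp Q (f.base x) V hV q) =
      gp (toP.obj ((Scheme.Modules.pullback f).obj (shP.obj Q))) x (f ⁻¹ᵁ V) hV
        (((cadj f).unit.app Q).app (op V) q) := by
  refine (congrArg (canAdd f (shP.obj Q) x) (gp_map ((MonCat.shAdj Y).unit.app Q) _ V hV q)).trans ?_
  exact canAdd_germ f (shP.obj Q) x V hV _

/-- The base change isomorphism for `(f^* (shP Q))_x`. -/
noncomputable def bcEquiv (Q : CohB1.PMod Y) :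
    letI := stalkAlg f x
    TensorProduct (Y.presheaf.stalk (f.base x)) (X.presheaf.stalk x) ((stalkPS (f.base x)).obj Q) ≃ₗ[X.presheaf.stalk x]
      (stalkF x).obj ((Scheme.Modules.pullback f).obj (shP.obj Q)) :=
  letI := stalkAlg f x
  haveI : IsIso ((stalkPS (f.base x)).map ((MonCat.shAdj Y).unit.app Q)) := isIso_stalkPS_map_unit Q (f.base x)
  (LinearEquiv.baseChange (Y.presheaf.stalk (f.base x)) (X.presheaf.stalk x) _ _
    (asIso ((stalkPS (f.base x)).map ((MonCat.shAdj Y).unit.app Q))).toLinearEquiv).trans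
    (stalkPullbackEquiv f (shP.obj Q) x)

theorem bcEquiv_tmul (Q : CohB1.PMod Y) (b : X.presheaf.stalk x) (q : (stalkPS (f.base x)).obj Q) :
    letI := stalkAlg f x
    bcEquiv f x Q (TensorProduct.tmul (Y.presheaf.stalk (f.base x)) b q) = b • iota f x Q q := by
  let := stalkAlg f x
  exact stalkPullbackEquiv_tmul f (shP.obj Q) x b _

theorem tensorStalkIso_gp (A B : X.Modules) (U : X.Opens) (hx : x ∈ U)
    (a : (toP.obj A).obj (op U)) (b : (toP.obj B).obj (op U)) :
    (tensorStalkIso A B x).hom (gp (toP.obj (A ⊗ B)) x U hx ((μ toP A B).app (op U) (tm a b))) =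
    TensorProduct.tmul (X.presheaf.stalk x) (gp (toP.obj A) x U hx a) (gp (toP.obj B) x U hx b) := by
  have h1 : gp (toP.obj (A ⊗ B)) x U hx ((μ toP A B).app (op U) (tm a b)) =
      (stalkShIso x).inv.app (toP.obj A ⊗ toP.obj B) (gp (toP.obj A ⊗ toP.obj B) x U hx (tm a b)) := by
    rw [stalkShIso_inv_app, toP_μ]
    exact (gp_map _ _ _ _ _).symm
  rw [h1]
  have h2 := ConcreteCategory.congr_hom ((stalkShIso x).inv_hom_id_app (toP.obj A ⊗ toP.obj B))
    (gp (toP.obj A ⊗ toP.obj B) x U hx (tm a b))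
  refine (congrArg (stalkPSTensor (toP.obj A) (toP.obj B) x).hom h2).trans ?_
  exact stalkPSTensor_gp _ _ _ _ _ _ _

instance isMonoidal_cadj : (cadj f).IsMonoidal := by
  unfold oplaxG
  infer_instance

theorem section_δ (Q Q' : CohB1.PMod Y) (V : Y.Opens) (q : Q.obj (op V)) (q' : Q'.obj (op V)) :
    (toP.map (δ (shP ⋙ Scheme.Modules.pullback f) Q Q')).app (op (f ⁻¹ᵁ V))
      (((cadj f).unit.app (Q ⊗ Q')).app (op V) (tm q q')) =
    (μ toP ((Scheme.Modules.pullback f).obj (shP.obj Q))
      ((Scheme.Modules.pullback f).obj (shP.obj Q'))).app (op (f ⁻¹ᵁ V))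
      (tm (((cadj f).unit.app Q).app (op V) q) (((cadj f).unit.app Q').app (op V) q')) := by
  have h := (cadj f).unit_app_tensor_comp_map_δ Q Q'
  have h2 := ConcreteCategory.congr_hom (congrArg (fun k => k.app (op V)) h) (tm q q')
  refine h2.trans ?_
  have h3 := PushLax.rs_μ_tmul (F := Opens.map f.base) (S := Y.sheaf.obj) (R := X.sheaf.obj) f.c (op V)
    ((toP.obj ((Scheme.Modules.pullback f).obj (shP.obj Q))).obj (op (f ⁻¹ᵁ V)))
    ((toP.obj ((Scheme.Modules.pullback f).obj (shP.obj Q'))).obj (op (f ⁻¹ᵁ V)))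
    (((cadj f).unit.app Q).app (op V) q) (((cadj f).unit.app Q').app (op V) q')
  exact congrArg ((μ toP ((Scheme.Modules.pullback f).obj (shP.obj Q))
      ((Scheme.Modules.pullback f).obj (shP.obj Q'))).app (op (f ⁻¹ᵁ V))).hom h3

theorem stalk_δ (Q Q' : CohB1.PMod Y) (q : (stalkPS (f.base x)).obj Q) (q' : (stalkPS (f.base x)).obj Q') :
    (tensorStalkIso ((Scheme.Modules.pullback f).obj (shP.obj Q))
      ((Scheme.Modules.pullback f).obj (shP.obj Q')) x).hom
      ((stalkF x).map (δ (shP ⋙ Scheme.Modules.pullback f) Q Q')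
        (iota f x (Q ⊗ Q') ((stalkPSTensor Q Q' (f.base x)).inv
          (TensorProduct.tmul (Y.presheaf.stalk (f.base x)) q q')))) =
      TensorProduct.tmul (X.presheaf.stalk x) (iota f x Q q) (iota f x Q' q') := by
  obtain ⟨V, hV, s, t, rfl, rfl⟩ := StalkP.exists_germ₂ (R := Y.presheaf) Q Q' (f.base x) q q'
  have h1 : (stalkPSTensor Q Q' (f.base x)).inv
      (TensorProduct.tmul (Y.presheaf.stalk (f.base x)) (gp Q (f.base x) V hV s)
        (gp Q' (f.base x) V hV t)) = gp (Q ⊗ Q') (f.base x) V hV (tm s t) := by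
    rw [← stalkPSTensor_gp]
    exact ConcreteCategory.congr_hom (stalkPSTensor Q Q' (f.base x)).hom_inv_id _
  have h2 := (congrArg (iota f x (Q ⊗ Q')) h1).trans (iota_gp f x (Q ⊗ Q') V hV (tm s t))
  have h3 := (congrArg ((stalkF x).map (δ (shP ⋙ Scheme.Modules.pullback f) Q Q')) h2).trans
    (gp_map (toP.map (δ (shP ⋙ Scheme.Modules.pullback f) Q Q')) x (f ⁻¹ᵁ V) hV _)
  have h4 := h3.trans (congrArg (gp _ x (f ⁻¹ᵁ V) hV) (section_δ f Q Q' V s t))
  refine (congrArg (tensorStalkIso ((Scheme.Modules.pullback f).obj (shP.obj Q))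
      ((Scheme.Modules.pullback f).obj (shP.obj Q')) x).hom h4).trans ?_
  refine (tensorStalkIso_gp x _ _ (f ⁻¹ᵁ V) hV _ _).trans ?_
  rw [← iota_gp, ← iota_gp]
  rfl

instance isIso_δ (Q Q' : CohB1.PMod Y) : IsIso (δ (shP ⋙ Scheme.Modules.pullback f) Q Q') := by
  suffices h : ∀ x : X, IsIso ((stalkF x).map (δ (shP ⋙ Scheme.Modules.pullback f) Q Q')) from
    (jointlyReflectIsos X).isIso _
  intro x
  let := stalkAlg f x
  have key := BCTensor.bijective_of_baseChange (A := Y.presheaf.stalk (f.base x)) (B := X.presheaf.stalk x)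
    (iota f x Q) (iota f x Q') (iota f x (Q ⊗ Q')) (bcEquiv f x Q) (bcEquiv_tmul f x Q)
    (bcEquiv f x Q') (bcEquiv_tmul f x Q') (bcEquiv f x (Q ⊗ Q')) (bcEquiv_tmul f x (Q ⊗ Q'))
    (stalkPSTensor Q Q' (f.base x)).toLinearEquiv
    ((stalkF x).map (δ (shP ⋙ Scheme.Modules.pullback f) Q Q') ≫
      (tensorStalkIso ((Scheme.Modules.pullback f).obj (shP.obj Q))
      ((Scheme.Modules.pullback f).obj (shP.obj Q')) x).hom).hom
    (fun m n => stalk_δ f x Q Q' m n)
  have h2 : IsIso ((stalkF x).map (δ (shP ⋙ Scheme.Modules.pullback f) Q Q') ≫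
      (tensorStalkIso ((Scheme.Modules.pullback f).obj (shP.obj Q))
      ((Scheme.Modules.pullback f).obj (shP.obj Q')) x).hom) :=
    (ConcreteCategory.isIso_iff_bijective _).2 key
  have h3 : IsIso (tensorStalkIso ((Scheme.Modules.pullback f).obj (shP.obj Q))
      ((Scheme.Modules.pullback f).obj (shP.obj Q')) x).hom := Iso.isIso_hom _
  exact @IsIso.of_isIso_comp_right _ _ _ _ _ _ _ h3 h2

end Stalks

/-- `f^* ∘ shP` is monoidal. -/
@[instance_reducible]
noncomputable def monG : (shP ⋙ Scheme.Modules.pullback f).Monoidal :=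
  .ofOplaxMonoidal _

/-- The pullback functor is monoidal. -/
@[instance_reducible]
noncomputable def monPull : (Scheme.Modules.pullback f).Monoidal :=
  letI := monG f
  Localization.Monoidal.functorMonoidalOfComp shP (WX Y) (Scheme.Modules.pullback f)
    (shP ⋙ Scheme.Modules.pullback f)

end Groth.Agent.Dcoh.MonPull
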