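import Mathlib.CategoryTheory.Monoidal.Rigid.Basic
import Mathlib.CategoryTheory.Monoidal.Functor
import Mathlib.CategoryTheory.Adjunction.Mates
import Mathlib.CategoryTheory.Functor.ReflectsIso.Jointly
import Mathlib.Tactic.CategoryTheory.Coherence

/-!
# Dualizability is a local property

`C` is a monoidal category, `K : C` and `adj : tensorRight K ⊣ R`.  The comparison morphism
`comp adj M : M ⊗ R (𝟙_) ⟶ R M` is an isomorphism for all `M` iff `K` is dualizable (with dual `R (𝟙_)`), and this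
can be checked after applying a jointly conservative family of monoidal functors `F` having a left adjoint `G`
satisfying the projection formula `G (N ⊗ F K) ≅ G N ⊗ K`.
-/

set_option autoImplicit false

open CategoryTheory MonoidalCategory

namespace Groth.Agent.Dcoh.DualLoc

universe v v' u u'

section

variable {C : Type u} [Category.{v} C] [MonoidalCategory C] {K : C} {R : C ⥤ C} (adj : tensorRight K ⊣ R)

/-- The evaluation `K^∨ ⊗ K ⟶ 𝟙_`. -/
def ev : R.obj (𝟙_ C) ⊗ K ⟶ 𝟙_ C := adj.counit.app (𝟙_ C)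

/-- The comparison morphism `M ⊗ K^∨ ⟶ R M`. -/
def comp (M : C) : M ⊗ R.obj (𝟙_ C) ⟶ R.obj M :=
  adj.homEquiv _ _ ((α_ M (R.obj (𝟙_ C)) K).hom ≫ M ◁ ev adj ≫ (ρ_ M).hom)

@[reassoc]
lemma comp_counit (M : C) : comp adj M ▷ K ≫ adj.counit.app M =
    (α_ M (R.obj (𝟙_ C)) K).hom ≫ M ◁ ev adj ≫ (ρ_ M).hom := by
  have := (adj.homEquiv_counit (M ⊗ R.obj (𝟙_ C)) M (comp adj M)).symm
  rw [comp, Equiv.symm_apply_apply] at this
  exact this

/-- Morphisms into `R M` are determined by their transpose. -/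
lemma hom_ext_R {N M : C} {f g : N ⟶ R.obj M} (h : f ▷ K ≫ adj.counit.app M = g ▷ K ≫ adj.counit.app M) :
    f = g := by
  apply (adj.homEquiv _ _).symm.injective
  rw [adj.homEquiv_counit, adj.homEquiv_counit]
  exact h

@[reassoc]
lemma comp_natural {M N : C} (f : M ⟶ N) :
    f ▷ R.obj (𝟙_ C) ≫ comp adj N = comp adj M ≫ R.map f := by
  apply hom_ext_R adj
  have h1 : R.map f ▷ K ≫ adj.counit.app N = adj.counit.app M ≫ f := adj.counit.naturality f
  rw [comp_whiskerRight, comp_whiskerRight, Category.assoc, Category.assoc, comp_counit, h1, comp_counit_assoc,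
    associator_naturality_left_assoc, ← whisker_exchange_assoc]
  exact congrArg (fun t => (α_ M (R.obj (𝟙_ C)) K).hom ≫ M ◁ ev adj ≫ t)
    (MonoidalCategory.rightUnitor_naturality f)

lemma whiskerRight_comp_counit {M N : C} (h : N ⟶ M ⊗ R.obj (𝟙_ C)) :
    (h ≫ comp adj M) ▷ K ≫ adj.counit.app M = h ▷ K ≫ (α_ M (R.obj (𝟙_ C)) K).hom ≫ M ◁ ev adj ≫ (ρ_ M).hom := by
  rw [comp_whiskerRight, Category.assoc, comp_counit]

/-- If the comparison morphisms at `K` and `𝟙_` are isomorphisms then `K` is dualizable with dual `R (𝟙_)`. -/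
@[instance_reducible]
noncomputable def exactPairing [IsIso (comp adj K)] [IsIso (comp adj (𝟙_ C))] :
    ExactPairing K (R.obj (𝟙_ C)) := by
  let coev : 𝟙_ C ⟶ K ⊗ R.obj (𝟙_ C) := adj.homEquiv _ _ (λ_ K).hom ≫ inv (comp adj K)
  have h1 : coev ▷ K ≫ (α_ K (R.obj (𝟙_ C)) K).hom ≫ K ◁ ev adj ≫ (ρ_ K).hom = (λ_ K).hom := by
    rw [← comp_counit, ← comp_whiskerRight_assoc]
    simp only [coev, Category.assoc, IsIso.inv_hom_id, Category.comp_id]
    have := (adj.homEquiv_counit (𝟙_ C) K (adj.homEquiv _ _ (λ_ K).hom)).symm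
    rw [Equiv.symm_apply_apply] at this
    exact this
  have h2 : coev ▷ K ⊗≫ K ◁ ev adj = ⊗𝟙.hom := by
    rw [← cancel_mono (ρ_ K).hom]
    simpa [monoidalComp] using h1
  exact
    { coevaluation' := coev
      evaluation' := ev adj
      evaluation_coevaluation' := by
        rw [← h1]
        simp
      coevaluation_evaluation' := by
        rw [← cancel_mono (comp adj (𝟙_ C))]
        apply hom_ext_R adj
        rw [whiskerRight_comp_counit, whiskerRight_comp_counit]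
        calc
          _ = 𝟙 _ ⊗≫ R.obj (𝟙_ C) ◁ (coev ▷ K) ⊗≫ (ev adj ▷ (R.obj (𝟙_ C) ⊗ K) ≫ 𝟙_ C ◁ ev adj) ⊗≫ 𝟙 _ := by
            monoidal
          _ = 𝟙 _ ⊗≫ R.obj (𝟙_ C) ◁ (coev ▷ K ⊗≫ K ◁ ev adj) ⊗≫ ev adj := by
            rw [← whisker_exchange]; monoidal
          _ = _ := by
            rw [h2]; monoidal }

end

section

variable {C : Type u} [Category.{v} C] [MonoidalCategory C] {D : Type u'} [Category.{v'} D] [MonoidalCategory D]
  (F : C ⥤ D) [F.Monoidal] {G : D ⥤ C} (adjF : G ⊣ F) (K : C)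

open Functor.LaxMonoidal Functor.OplaxMonoidal

/-- The projection morphism `G (N ⊗ F K) ⟶ G N ⊗ K`. -/
def proj : tensorRight (F.obj K) ⋙ G ⟶ G ⋙ tensorRight K where
  app N := (adjF.homEquiv _ _).symm (adjF.unit.app N ▷ F.obj K ≫ μ F (G.obj N) K)
  naturality N N' f := by
    dsimp
    rw [← Adjunction.homEquiv_naturality_left_symm, ← Adjunction.homEquiv_naturality_right_symm,
      Category.assoc, ← μ_natural_left, ← comp_whiskerRight_assoc, ← comp_whiskerRight_assoc]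
    have := adjF.unit.naturality f
    dsimp at this
    rw [this]

variable {K} {R : C ⥤ C} (adj : tensorRight K ⊣ R) {Y : D} [ExactPairing (F.obj K) Y]

/-- The comparison `F (R M) ⟶ F M ⊗ Y`. -/
def theta : R ⋙ F ⟶ F ⋙ tensorRight Y :=
  conjugateEquiv (adjF.comp adj) ((tensorRightAdjunction (F.obj K) Y).comp adjF) (proj F adjF K)

instance [IsIso (proj F adjF K)] : IsIso (theta F adjF adj (Y := Y)) := by
  unfold theta
  infer_instance

lemma theta_counit (M : C) :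
    (theta F adjF adj (Y := Y)).app M ▷ F.obj K ≫ (α_ (F.obj M) Y (F.obj K)).hom ≫
      F.obj M ◁ ε_ (F.obj K) Y ≫ (ρ_ (F.obj M)).hom =
      μ F (R.obj M) K ≫ F.map (adj.counit.app M) := by
  have h := conjugateEquiv_counit (adjF.comp adj) ((tensorRightAdjunction (F.obj K) Y).comp adjF) (proj F adjF K) M
  have e1 : ((tensorRightAdjunction (F.obj K) Y).comp adjF).counit.app M =
      G.map ((𝟙 (F.obj M ⊗ Y)) ▷ F.obj K ≫ (α_ (F.obj M) Y (F.obj K)).hom ≫
      F.obj M ◁ ε_ (F.obj K) Y ≫ (ρ_ (F.obj M)).hom) ≫ adjF.counit.app M := by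
    rw [Adjunction.comp_counit_app]
    rfl
  have e2 : (adjF.comp adj).counit.app M = adjF.counit.app (R.obj M) ▷ K ≫ adj.counit.app M := by
    rw [Adjunction.comp_counit_app]
    rfl
  rw [e1, e2] at h
  have h' : (adjF.homEquiv _ _).symm ((theta F adjF adj (Y := Y)).app M ▷ F.obj K ≫ (α_ (F.obj M) Y (F.obj K)).hom ≫
      F.obj M ◁ ε_ (F.obj K) Y ≫ (ρ_ (F.obj M)).hom) = (adjF.homEquiv _ _).symm
        ((adjF.unit.app (F.obj (R.obj M)) ▷ F.obj K ≫ μ F (G.obj (F.obj (R.obj M))) K) ≫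
          F.map (adjF.counit.app (R.obj M) ▷ K ≫ adj.counit.app M)) := by
    rw [Adjunction.homEquiv_naturality_right_symm, Adjunction.homEquiv_counit, Functor.map_comp,
      Category.assoc]
    refine Eq.trans ?_ h
    rw [id_whiskerRight, Category.id_comp]
    rfl
  have h'' := (adjF.homEquiv _ _).symm.injective h'
  rw [h'', F.map_comp, Category.assoc, ← μ_natural_left_assoc, ← comp_whiskerRight_assoc]
  have := adjF.right_triangle_components (R.obj M)
  rw [this]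
  exact (congrArg (· ≫ μ F (R.obj M) K ≫ F.map (adj.counit.app M)) (id_whiskerRight _ _)).trans
    (Category.id_comp _)

omit [MonoidalCategory C] [F.Monoidal] in
lemma hom_ext_Y {N M : D} {f g : N ⟶ M ⊗ Y}
    (h : f ▷ F.obj K ≫ (α_ M Y (F.obj K)).hom ≫ M ◁ ε_ (F.obj K) Y ≫ (ρ_ M).hom =
      g ▷ F.obj K ≫ (α_ M Y (F.obj K)).hom ≫ M ◁ ε_ (F.obj K) Y ≫ (ρ_ M).hom) : f = g :=
  (tensorRightHomEquiv N (F.obj K) Y M).symm.injective h

/-- The comparison `F (K^∨) ⟶ Y`. -/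
def thetaUnit : F.obj (R.obj (𝟙_ C)) ⟶ Y :=
  (theta F adjF adj (Y := Y)).app (𝟙_ C) ≫ η F ▷ Y ≫ (λ_ Y).hom

instance [IsIso (proj F adjF K)] : IsIso (thetaUnit F adjF adj (Y := Y)) := by
  unfold thetaUnit
  infer_instance

lemma thetaUnit_ev :
    thetaUnit F adjF adj (Y := Y) ▷ F.obj K ≫ ε_ (F.obj K) Y =
      μ F (R.obj (𝟙_ C)) K ≫ F.map (ev adj) ≫ η F := by
  have h := theta_counit F adjF adj (Y := Y) (𝟙_ C)
  have h2 : μ F (R.obj (𝟙_ C)) K ≫ F.map (ev adj) ≫ η F =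
    ((theta F adjF adj (Y := Y)).app (𝟙_ C) ▷ F.obj K ≫ (α_ (F.obj (𝟙_ C)) Y (F.obj K)).hom ≫
      F.obj (𝟙_ C) ◁ ε_ (F.obj K) Y ≫ (ρ_ (F.obj (𝟙_ C))).hom) ≫ η F := by
    rw [h, Category.assoc]
    rfl
  rw [h2, thetaUnit, comp_whiskerRight, comp_whiskerRight]
  simp only [Category.assoc]
  congr 1
  have h3 : F.obj (𝟙_ C) ◁ ε_ (F.obj K) Y ≫ (ρ_ (F.obj (𝟙_ C))).hom ≫ η F =
      η F ▷ (Y ⊗ F.obj K) ≫ (λ_ _).hom ≫ ε_ (F.obj K) Y := by
    have h4 : (λ_ (𝟙_ D)).hom = (ρ_ (𝟙_ D)).hom := unitors_equal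
    rw [← MonoidalCategory.rightUnitor_naturality, whisker_exchange_assoc, ← h4,
      MonoidalCategory.leftUnitor_naturality]
  rw [h3]
  simp

lemma map_comp (M : C) :
    μ F M (R.obj (𝟙_ C)) ≫ F.map (comp adj M) ≫ (theta F adjF adj (Y := Y)).app M =
      F.obj M ◁ thetaUnit F adjF adj (Y := Y) := by
  apply hom_ext_Y F (K := K)
  have h1 : (F.obj M ◁ thetaUnit F adjF adj (Y := Y)) ▷ F.obj K ≫ (α_ (F.obj M) Y (F.obj K)).hom ≫
      F.obj M ◁ ε_ (F.obj K) Y ≫ (ρ_ (F.obj M)).hom =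
      (α_ _ _ _).hom ≫ F.obj M ◁ (thetaUnit F adjF adj (Y := Y) ▷ F.obj K ≫ ε_ (F.obj K) Y) ≫
        (ρ_ (F.obj M)).hom := by
    simp
  rw [h1, thetaUnit_ev, comp_whiskerRight, comp_whiskerRight, Category.assoc, Category.assoc, theta_counit,
    μ_natural_left_assoc, ← F.map_comp, comp_counit]
  simp

/-- The comparison `M ⊗ K^∨ ⟶ R M` becomes an isomorphism after applying `F`. -/
lemma isIso_map_comp [IsIso (proj F adjF K)] (Y : D) [ExactPairing (F.obj K) Y] (M : C) :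
    IsIso (F.map (comp adj M)) := by
  have h := map_comp F adjF adj (Y := Y) M
  have h1 : IsIso (μ F M (R.obj (𝟙_ C)) ≫ F.map (comp adj M) ≫ (theta F adjF adj (Y := Y)).app M) := by
    rw [h]
    infer_instance
  have h2 : IsIso (F.map (comp adj M) ≫ (theta F adjF adj (Y := Y)).app M) :=
    IsIso.of_isIso_comp_left (μ F M (R.obj (𝟙_ C))) _
  exact IsIso.of_isIso_comp_right _ ((theta F adjF adj (Y := Y)).app M)

end

/-- Dualizability is local: the comparison morphisms `M ⊗ K^∨ ⟶ R M` are isomorphisms when this holds after applying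
a jointly conservative family of monoidal functors with left adjoints satisfying the projection formula. -/
theorem isIso_comp {C : Type u} [Category.{v} C] [MonoidalCategory C] {ι : Type*} (D : ι → Type u')
    [∀ i, Category.{v'} (D i)] [∀ i, MonoidalCategory (D i)] (F : ∀ i, C ⥤ D i) [∀ i, (F i).Monoidal]
    (hF : JointlyReflectIsomorphisms F) (G : ∀ i, D i ⥤ C) (adjF : ∀ i, G i ⊣ F i)
    {K : C} {R : C ⥤ C} (adj : tensorRight K ⊣ R) [∀ i, IsIso (proj (F i) (adjF i) K)]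
    (hd : ∀ i, ∃ Y : D i, Nonempty (ExactPairing ((F i).obj K) Y)) (M : C) : IsIso (comp adj M) := by
  rw [hF.isIso_iff]
  intro i
  obtain ⟨Y, ⟨h⟩⟩ := hd i
  exact isIso_map_comp (F i) (adjF i) adj Y M

end Groth.Agent.Dcoh.DualLoc
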