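import Groth.Agent.Dcoh.LocalD
import Mathlib.Order.Interval.Finset.Basic
import Mathlib.Data.Int.Interval

/-!
# Perfect objects are locally bounded complexes of finite free modules
-/

universe u

open CategoryTheory CategoryTheory.Limits AlgebraicGeometry

attribute [local instance] HasDerivedCategory.standard

namespace Groth.Agent.Dcoh.LocalFree

open LocalD

variable {X Y : Scheme.{u}}

lemma isFinLocFree_freeMod (n : ℕ) : FlatMod.IsFinLocFree (FlatMod.freeMod X n) :=
  fun _ => ⟨⊤, n, trivial, ⟨freeModRestrict _ n⟩⟩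

lemma isFinLocFree_structureModule : FlatMod.IsFinLocFree (Coh.structureModule X) :=
  isFinLocFree_of_iso (coproductUniqueIso fun _ : Fin 1 => Coh.structureModule X)
    (isFinLocFree_freeMod (X := X) 1)

lemma isZero_freeMod_zero : IsZero (FlatMod.freeMod X 0) := by
  rw [IsZero.iff_id_eq_zero]
  exact Sigma.hom_ext _ _ fun i => i.elim0

/-- `M` is isomorphic to a finite free module. -/
def IsFree (M : X.Modules) : Prop := ∃ n : ℕ, Nonempty (M ≅ FlatMod.freeMod X n)

lemma isFree_of_iso {M N : X.Modules} (e : M ≅ N) (h : IsFree M) : IsFree N := by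
  obtain ⟨n, ⟨a⟩⟩ := h
  exact ⟨n, ⟨e.symm ≪≫ a⟩⟩

lemma isFree_of_isZero {M : X.Modules} (h : IsZero M) : IsFree M :=
  ⟨0, ⟨h.iso isZero_freeMod_zero⟩⟩

lemma isFree_restrict (M : Y.Modules) (f : X ⟶ Y) [IsOpenImmersion f] (h : IsFree M) :
    IsFree (M.restrict f) := by
  obtain ⟨n, ⟨a⟩⟩ := h
  exact ⟨n, ⟨(Scheme.Modules.restrictFunctor f).mapIso a ≪≫ freeModRestrict f n⟩⟩

lemma isFinLocFree_of_isFree {M : X.Modules} (h : IsFree M) : FlatMod.IsFinLocFree M := by
  obtain ⟨n, ⟨a⟩⟩ := h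
  exact isFinLocFree_of_iso a.symm (isFinLocFree_freeMod n)

lemma isFree_restrict_le {M : X.Modules} {V W : X.Opens} (h : W ≤ V)
    (hM : IsFree (M.restrict V.ι)) : IsFree (M.restrict W.ι) :=
  isFree_of_iso (((Scheme.Modules.restrictFunctorComp (X.homOfLE h) V.ι).symm ≪≫
    Scheme.Modules.restrictFunctorCongr (X.homOfLE_ι h)).app M) (isFree_restrict _ (X.homOfLE h) hM)

lemma exists_isFree_restrict {M : X.Modules} (hM : FlatMod.IsFinLocFree M) (x : X) :
    ∃ V : X.Opens, x ∈ V ∧ IsFree (M.restrict V.ι) := by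
  obtain ⟨V, n, hx, a⟩ := hM x
  exact ⟨V, hx, n, a⟩

/-- Finitely many finite locally free modules are simultaneously free near a point. -/
lemma exists_isFree_restrict_finset {ι : Type*} (s : Finset ι) (M : ι → X.Modules)
    (hM : ∀ i, FlatMod.IsFinLocFree (M i)) (x : X) :
    ∃ V : X.Opens, x ∈ V ∧ ∀ i ∈ s, IsFree ((M i).restrict V.ι) := by
  classical
  induction s using Finset.induction_on with
  | empty => exact ⟨⊤, trivial, by simp⟩
  | insert i s _ ih =>
    obtain ⟨V, hx, hV⟩ := ih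
    obtain ⟨W, hx', hW⟩ := exists_isFree_restrict (hM i) x
    refine ⟨V ⊓ W, ⟨hx, hx'⟩, fun j hj => ?_⟩
    rw [Finset.mem_insert] at hj
    rcases hj with rfl | hj
    · exact isFree_restrict_le inf_le_right hW
    · exact isFree_restrict_le inf_le_left (hV j hj)

/-- A strictly perfect complex has finite free terms in a neighbourhood of any point. -/
lemma exists_isFree_of_isStrictlyPerfect {E : CochainComplex X.Modules ℤ}
    (hE : DCoh.IsStrictlyPerfect E) (x : X) :
    ∃ V : X.Opens, x ∈ V ∧ ∀ i : ℤ, IsFree (((DCoh.restrictCx V).obj E).X i) := by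
  obtain ⟨⟨a, b, hab⟩, hE⟩ := hE
  obtain ⟨V, hx, hV⟩ := exists_isFree_restrict_finset (Finset.Icc a b) E.X hE x
  refine ⟨V, hx, fun i => ?_⟩
  by_cases hi : i ∈ Finset.Icc a b
  · exact hV i hi
  · refine isFree_of_isZero ((Scheme.Modules.restrictFunctor V.ι).map_isZero (hab i ?_))
    rw [Finset.mem_Icc] at hi
    lia

/-- `K` is isomorphic in `D(O_U)` to a bounded complex of finite free modules. -/
def FreePerf : PropD.{u} := fun U K =>
  ∃ (E : CochainComplex U.Modules ℤ) (a b : ℤ), DCoh.VanishesOutside E a b ∧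
    (∀ i : ℤ, IsFree (E.X i)) ∧ Nonempty (K ≅ DerivedCategory.Q.obj E)

lemma isStable_freePerf : IsStable FreePerf.{u} where
  iso e := fun ⟨E, a, b, hE, h, ⟨c⟩⟩ => ⟨E, a, b, hE, h, ⟨e.symm ≪≫ c⟩⟩
  restrict f _ _ := fun ⟨_, a, b, hE, h, ⟨c⟩⟩ => ⟨_, a, b, vanishesOutside_restrict f hE,
    fun i => isFree_restrict _ f (h i), ⟨(DCoh.restrictD f).mapIso c ≪≫ QRestrict f _⟩⟩

lemma strPerf_of_freePerf {K : DCoh.D X} (h : FreePerf X K) : StrPerf X K := by
  obtain ⟨E, a, b, hE, h, c⟩ := h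
  exact ⟨E, ⟨⟨a, b, hE⟩, fun i => isFinLocFree_of_isFree (h i)⟩, c⟩

lemma locally_freePerf_of_strPerf {K : DCoh.D X} (h : StrPerf X K) : Locally FreePerf X K := by
  obtain ⟨E, hE, ⟨c⟩⟩ := h
  intro x
  obtain ⟨V, hx, hV⟩ := exists_isFree_of_isStrictlyPerfect hE x
  obtain ⟨a, b, hab⟩ := hE.1
  exact ⟨V, hx, _, a, b, vanishesOutside_restrict V.ι hab, hV,
    ⟨(DCoh.restrictD V.ι).mapIso c ≪≫ QRestrict V.ι _⟩⟩

/-- An object is perfect if and only if it is locally a bounded complex of finite free modules. -/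
lemma isPerfect_iff_locally_freePerf (K : DCoh.D X) :
    DCoh.IsPerfect K ↔ Locally FreePerf X K := by
  rw [isPerfect_iff_locally]
  constructor
  · intro h
    exact locally_of_locally isStable_freePerf
      (locally_mono (fun U K => locally_freePerf_of_strPerf) h)
  · exact locally_mono fun U K => strPerf_of_freePerf

end Groth.Agent.Dcoh.LocalFree
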