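import Groth.Agent.Dcoh.MonCx
import Mathlib.Data.Int.Interval

/-!
# Duals of bounded complexes

If `K` is a bounded complex in a monoidal preadditive category (`TensorGood`) all of whose terms have right duals
`L n`, then `K` has a right dual `K'` in the monoidal category of cochain complexes, with `K'.X (-n) ≅ L n`.
-/

set_option autoImplicit false

open CategoryTheory Limits MonoidalCategory

namespace Groth.Agent.Dcoh.DualCx

universe v u

open Groth.Agent.Dcoh.MonCx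

section Mate

variable {A : Type u} [Category.{v} A] [MonoidalCategory A]

/-- The mate of a morphism between objects with (explicit) right duals. -/
noncomputable def mate {X Y X' Y' : A} [ExactPairing X X'] [ExactPairing Y Y'] (f : X ⟶ Y) : Y' ⟶ X' :=
  letI : HasRightDual X := ⟨X'⟩
  letI : HasRightDual Y := ⟨Y'⟩
  (fᘁ : (Yᘁ : A) ⟶ (Xᘁ : A))

@[reassoc]
lemma mate_ev {X Y X' Y' : A} [ExactPairing X X'] [ExactPairing Y Y'] (f : X ⟶ Y) :
    (mate f : Y' ⟶ X') ▷ X ≫ ε_ X X' = Y' ◁ f ≫ ε_ Y Y' :=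
  letI : HasRightDual X := ⟨X'⟩
  letI : HasRightDual Y := ⟨Y'⟩
  rightAdjointMate_comp_evaluation f

@[reassoc]
lemma coev_mate {X Y X' Y' : A} [ExactPairing X X'] [ExactPairing Y Y'] (f : X ⟶ Y) :
    η_ Y Y' ≫ Y ◁ (mate f : Y' ⟶ X') = η_ X X' ≫ f ▷ X' :=
  letI : HasRightDual X := ⟨X'⟩
  letI : HasRightDual Y := ⟨Y'⟩
  coevaluation_comp_rightAdjointMate f

lemma mate_comp {X Y Z X' Y' Z' : A} [ExactPairing X X'] [ExactPairing Y Y'] [ExactPairing Z Z']
    (f : X ⟶ Y) (g : Y ⟶ Z) : (mate (f ≫ g) : Z' ⟶ X') = (mate g : Z' ⟶ Y') ≫ (mate f : Y' ⟶ X') :=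
  letI : HasRightDual X := ⟨X'⟩
  letI : HasRightDual Y := ⟨Y'⟩
  letI : HasRightDual Z := ⟨Z'⟩
  comp_rightAdjointMate

lemma mate_zero [Preadditive A] [MonoidalPreadditive A] {X Y X' Y' : A} [ExactPairing X X']
    [ExactPairing Y Y'] : (mate (0 : X ⟶ Y) : Y' ⟶ X') = 0 := by
  change (ρ_ _).inv ≫ _ ◁ η_ _ _ ≫ _ ◁ (0 : X ⟶ Y) ▷ _ ≫ (α_ _ _ _).inv ≫ ε_ _ _ ▷ _ ≫ (λ_ _).hom = 0
  simp

end Mate

variable {A : Type u} [Category.{v} A] [Preadditive A] [MonoidalCategory A] [TensorGood A]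

variable (K : CochainComplex A ℤ) (L : ℤ → A) [e : ∀ n, ExactPairing (K.X n) (L n)]

/-- The dual complex: `K'.X p = L (-p)` with differential `(-1)^(p+1)` times the mate of the differential of `K`. -/
noncomputable def dualCx : CochainComplex A ℤ where
  X p := L (-p)
  d i j := (i + 1).negOnePow • (mate (K.d (-j) (-i)) : L (-i) ⟶ L (-j))
  shape i j hij := by
    have h : K.d (-j) (-i) = 0 := K.shape _ _ (by
      intro h
      apply hij
      simp only [ComplexShape.up_Rel] at h ⊢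
      lia)
    rw [h, mate_zero, smul_zero]
  d_comp_d' i j k _ _ := by
    rw [Linear.units_smul_comp, Linear.comp_units_smul, ← mate_comp, K.d_comp_d, mate_zero, smul_zero, smul_zero]


/-- The terms of the dual complex are duals of the terms. -/
noncomputable instance pairing (p : ℤ) : ExactPairing (K.X (-p)) ((dualCx K L).X p) := e (-p)

lemma dualCx_d (i j : ℤ) : (dualCx K L).d i j = (i + 1).negOnePow •
    (mate (K.d (-j) (-i)) : (dualCx K L).X i ⟶ (dualCx K L).X j) := rfl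

lemma units_smul_whiskerRight (u : ℤˣ) {X Y : A} (f : X ⟶ Y) (Z : A) : (u • f) ▷ Z = u • (f ▷ Z) := by
  rcases Int.units_eq_one_or u with rfl | rfl
  · simp
  · simp only [Units.smul_def, Units.val_neg, Units.val_one, neg_smul, one_smul]
    exact (tensorRight Z).map_neg

lemma units_smul_whiskerLeft (u : ℤˣ) {X Y : A} (f : X ⟶ Y) (Z : A) : Z ◁ (u • f) = u • (Z ◁ f) := by
  rcases Int.units_eq_one_or u with rfl | rfl
  · simp
  · simp only [Units.smul_def, Units.val_neg, Units.val_one, neg_smul, one_smul]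
    exact (tensorLeft Z).map_neg

/-- The evaluation on a summand. -/
noncomputable def evS (p q : ℤ) (h : p + q = 0) : (dualCx K L).X p ⊗ K.X q ⟶ 𝟙_ A :=
  ((dualCx K L).X p ◁ (K.XIsoOfEq (show q = -p by lia)).hom) ≫ ε_ (K.X (-p)) ((dualCx K L).X p)

/-- The coevaluation on a summand. -/
noncomputable def coevS (p q : ℤ) (h : p + q = 0) : 𝟙_ A ⟶ K.X p ⊗ (dualCx K L).X q :=
  η_ (K.X (-q)) ((dualCx K L).X q) ≫ ((K.XIsoOfEq (show -q = p by lia)).hom ▷ (dualCx K L).X q)

lemma evS_self (p : ℤ) (h : p + -p = 0) : evS K L p (-p) h = ε_ (K.X (-p)) ((dualCx K L).X p) := by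
  rw [evS, HomologicalComplex.XIsoOfEq_rfl, Iso.refl_hom, MonoidalCategory.whiskerLeft_id, Category.id_comp]

lemma coevS_self (q : ℤ) (h : -q + q = 0) : coevS K L (-q) q h = η_ (K.X (-q)) ((dualCx K L).X q) := by
  rw [coevS, HomologicalComplex.XIsoOfEq_rfl, Iso.refl_hom, MonoidalCategory.id_whiskerRight, Category.comp_id]

@[reassoc]
lemma evS_d (p p' q q' : ℤ) (h : p' + q = 0) (h' : p + q' = 0) :
    ((dualCx K L).d p p' ▷ K.X q) ≫ evS K L p' q h =
      (p + 1).negOnePow • (((dualCx K L).X p ◁ K.d q q') ≫ evS K L p q' h') := by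
  obtain rfl : q = -p' := by lia
  obtain rfl : q' = -p := by lia
  rw [evS_self, evS_self, dualCx_d, units_smul_whiskerRight, Linear.units_smul_comp, mate_ev]

@[reassoc]
lemma coevS_d (p p' q q' : ℤ) (h : p' + q = 0) (h' : p + q' = 0) :
    coevS K L p' q h ≫ (K.X p' ◁ (dualCx K L).d q q') =
      (q + 1).negOnePow • (coevS K L p q' h' ≫ (K.d p p' ▷ (dualCx K L).X q')) := by
  obtain rfl : p' = -q := by lia
  obtain rfl : p = -q' := by lia
  rw [coevS_self, coevS_self, dualCx_d, units_smul_whiskerLeft, Linear.comp_units_smul, coev_mate]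

/-- First zigzag identity, on summands. -/
lemma zigzag₁ (p q r : ℤ) (h : p + q = 0) (h' : q + r = 0) :
    (coevS K L p q h ▷ K.X r) ≫ (α_ _ _ _).hom ≫ (K.X p ◁ evS K L q r h') =
      (λ_ _).hom ≫ (K.XIsoOfEq (show r = p by lia)).hom ≫ (ρ_ _).inv := by
  obtain rfl : p = -q := by lia
  obtain rfl : r = -q := by lia
  rw [coevS_self, evS_self, ExactPairing.evaluation_coevaluation, HomologicalComplex.XIsoOfEq_rfl, Iso.refl_hom,
    Category.id_comp]

/-- Second zigzag identity, on summands. -/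
lemma zigzag₂ (q p r : ℤ) (h : p + r = 0) (h' : q + p = 0) :
    ((dualCx K L).X q ◁ coevS K L p r h) ≫ (α_ _ _ _).inv ≫ (evS K L q p h' ▷ (dualCx K L).X r) =
      (ρ_ _).hom ≫ ((dualCx K L).XIsoOfEq (show q = r by lia)).hom ≫ (λ_ _).inv := by
  obtain rfl : r = q := by lia
  obtain rfl : p = -r := by lia
  rw [coevS_self, evS_self, ExactPairing.coevaluation_evaluation, HomologicalComplex.XIsoOfEq_rfl, Iso.refl_hom,
    Category.id_comp]

/-- The evaluation in degree zero. -/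
noncomputable def ev0 : (dualCx K L ⊗ K).X 0 ⟶ 𝟙_ A :=
  HomologicalComplex.mapBifunctorDesc (fun p q h => evS K L p q h)

@[reassoc]
lemma ιT_ev0 (p q : ℤ) (h : p + q = 0) : ιT (dualCx K L) K p q 0 h ≫ ev0 K L = evS K L p q h :=
  HomologicalComplex.ι_mapBifunctorDesc _ p q h

lemma d_ev0 (i : ℤ) (hi : (ComplexShape.up ℤ).Rel i 0) : (dualCx K L ⊗ K).d i 0 ≫ ev0 K L = 0 := by
  have hi' : i + 1 = 0 := hi
  refine hom_ext (fun p q h => ?_)
  rw [← Category.assoc, ιT_d _ _ p q i 0 h hi, comp_zero, Preadditive.add_comp, Category.assoc, ιT_ev0,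
    Linear.units_smul_comp, Category.assoc, ιT_ev0, evS_d K L p (p + 1) q (q + 1) (by lia) (by lia),
    Int.negOnePow_succ, Units.smul_def, Units.smul_def]
  simp

/-- The evaluation. -/
noncomputable def ev : dualCx K L ⊗ K ⟶ 𝟙_ (CochainComplex A ℤ) :=
  HomologicalComplex.mkHomToSingle (ev0 K L) (d_ev0 K L)

@[reassoc]
lemma ev_f0 : (ev K L).f 0 = ev0 K L ≫ (HomologicalComplex.singleObjXSelf (ComplexShape.up ℤ) 0 (𝟙_ A)).inv :=
  HomologicalComplex.mkHomToSingle_f _ _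

lemma ev_f_of_ne (n : ℤ) (hn : n ≠ 0) : (ev K L).f n = 0 :=
  (HomologicalComplex.isZero_single_obj_X (ComplexShape.up ℤ) 0 (𝟙_ A) n hn).eq_of_tgt _ _

/-- The `n`-th term of the coevaluation. -/
noncomputable def coevT (n : ℤ) : 𝟙_ A ⟶ (K ⊗ dualCx K L).X 0 :=
  coevS K L n (-n) (by lia) ≫ ιT K (dualCx K L) n (-n) 0 (by lia)

lemma coevT_eq (p q : ℤ) (h : p + q = 0) : coevT K L p = coevS K L p q h ≫ ιT K (dualCx K L) p q 0 h := by
  obtain rfl : q = -p := by lia
  rfl

/-- The boundary contribution. -/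
noncomputable def bd (p p' q i : ℤ) (h : p + q = 0) (hi : p' + q = i) : 𝟙_ A ⟶ (K ⊗ dualCx K L).X i :=
  coevS K L p q h ≫ (K.d p p' ▷ (dualCx K L).X q) ≫ ιT K (dualCx K L) p' q i hi

lemma bd_congr (p₁ p₁' q₁ p₂ p₂' q₂ i : ℤ) (h₁ : p₁ + q₁ = 0) (hi₁ : p₁' + q₁ = i) (h₂ : p₂ + q₂ = 0)
    (hi₂ : p₂' + q₂ = i) (h : p₁ = p₂) : bd K L p₁ p₁' q₁ i h₁ hi₁ = bd K L p₂ p₂' q₂ i h₂ hi₂ := by
  obtain rfl : q₁ = q₂ := by lia
  obtain rfl : p₁' = p₂' := by lia
  subst h
  rfl

lemma coevT_d (n i : ℤ) (hi : 0 + 1 = i) : coevT K L n ≫ (K ⊗ dualCx K L).d 0 i =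
    bd K L n (n + 1) (-n) i (by lia) (by lia) - bd K L (n - 1) (n - 1 + 1) (-(n - 1)) i (by lia) (by lia) := by
  rw [coevT, Category.assoc, ιT_d _ _ n (-n) 0 i (by lia) hi, Preadditive.comp_add, sub_eq_add_neg]
  congr 1
  rw [Linear.comp_units_smul,
    coevS_d_assoc K L (n - 1) n (-n) (-n + 1) (by lia) (by lia), Linear.units_smul_comp, smul_smul]
  have : n.negOnePow * (-n + 1).negOnePow = -1 := by
    rw [← Int.negOnePow_add]
    have : n + (-n + 1) = 1 := by lia
    rw [this, Int.negOnePow_one]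
  rw [this, Units.neg_smul, one_smul, Category.assoc]
  congr 1
  exact bd_congr K L (n - 1) n (-n + 1) (n - 1) (n - 1 + 1) (-(n - 1)) i _ _ _ _ rfl

lemma isZero_tensor_left {X : A} (hX : IsZero X) (Z : A) : IsZero (X ⊗ Z) :=
  (tensorRight Z).map_isZero hX

lemma coevS_eq_zero (p q : ℤ) (h : p + q = 0) (hp : IsZero (K.X p)) : coevS K L p q h = 0 :=
  (isZero_tensor_left hp _).eq_of_tgt _ _

lemma coevT_eq_zero (n : ℤ) (hp : IsZero (K.X n)) : coevT K L n = 0 := by
  rw [coevT, coevS_eq_zero K L _ _ _ hp, zero_comp]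

lemma bd_eq_zero (p p' q i : ℤ) (h : p + q = 0) (hi : p' + q = i) (hp : IsZero (K.X p) ∨ IsZero (K.X p')) :
    bd K L p p' q i h hi = 0 := by
  rcases hp with hp | hp
  · rw [bd, coevS_eq_zero K L _ _ _ hp, zero_comp]
  · rw [bd, (isZero_tensor_left hp _).eq_of_tgt (K.d p p' ▷ (dualCx K L).X q) 0, zero_comp, comp_zero]

lemma sum_sub_eq_zero {G : Type*} [AddCommGroup G] (U : ℤ → G) (a b : ℤ) (ha : U (a - 1) = 0) (hb : U b = 0) :
    ∑ n ∈ Finset.Icc a b, (U n - U (n - 1)) = 0 := by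
  have h1 : ∑ n ∈ Finset.Icc a b, U n = ∑ n ∈ Finset.Icc (a - 1) b, U n := by
    refine Finset.sum_subset ?_ ?_
    · intro n hn
      simp only [Finset.mem_Icc] at hn ⊢
      lia
    · intro n hn hn'
      simp only [Finset.mem_Icc] at hn hn'
      obtain rfl : n = a - 1 := by lia
      exact ha
  have h2 : ∑ n ∈ Finset.Icc a b, U (n - 1) = ∑ n ∈ Finset.Icc (a - 1) (b - 1), U n := by
    refine Finset.sum_nbij' (fun n => n - 1) (fun n => n + 1) ?_ ?_ ?_ ?_ ?_
    · intro n hn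
      simp only [Finset.mem_Icc] at hn ⊢
      lia
    · intro n hn
      simp only [Finset.mem_Icc] at hn ⊢
      lia
    · intro n _; lia
    · intro n _; lia
    · intro n _; rfl
  have h3 : ∑ n ∈ Finset.Icc (a - 1) (b - 1), U n = ∑ n ∈ Finset.Icc (a - 1) b, U n := by
    refine Finset.sum_subset ?_ ?_
    · intro n hn
      simp only [Finset.mem_Icc] at hn ⊢
      lia
    · intro n hn hn'
      simp only [Finset.mem_Icc] at hn hn'
      obtain rfl : n = b := by lia
      exact hb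
  rw [Finset.sum_sub_distrib, h1, h2, h3, sub_self]

section Bounded

variable (a b : ℤ) (ha : ∀ n, n < a → IsZero (K.X n)) (hb : ∀ n, b < n → IsZero (K.X n))

/-- The coevaluation in degree zero. -/
noncomputable def coev0 : 𝟙_ A ⟶ (K ⊗ dualCx K L).X 0 := ∑ n ∈ Finset.Icc a b, coevT K L n

include ha hb in
lemma coev0_d (i : ℤ) (hi : (ComplexShape.up ℤ).Rel 0 i) : coev0 K L a b ≫ (K ⊗ dualCx K L).d 0 i = 0 := by
  rw [coev0, Preadditive.sum_comp]
  simp only [coevT_d K L _ i hi]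
  refine sum_sub_eq_zero (fun n => bd K L n (n + 1) (-n) i (by lia) (by have : (0 : ℤ) + 1 = i := hi; lia)) a b ?_ ?_
  · exact bd_eq_zero K L _ _ _ _ _ _ (Or.inl (ha _ (by lia)))
  · exact bd_eq_zero K L _ _ _ _ _ _ (Or.inr (hb _ (by lia)))

include ha hb in
lemma coev0_eq (m : ℤ) : coev0 K L a b = ∑ n ∈ insert m (Finset.Icc a b), coevT K L n := by
  refine Finset.sum_subset (Finset.subset_insert _ _) ?_
  intro n _ hn
  simp only [Finset.mem_Icc, not_and_or, not_le] at hn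
  exact coevT_eq_zero K L n (hn.elim (ha n) (hb n))

/-- The coevaluation. -/
noncomputable def coev : 𝟙_ (CochainComplex A ℤ) ⟶ K ⊗ dualCx K L :=
  HomologicalComplex.mkHomFromSingle (coev0 K L a b) (coev0_d K L a b ha hb)

@[reassoc]
lemma coev_f0 : (coev K L a b ha hb).f 0 =
    (HomologicalComplex.singleObjXSelf (ComplexShape.up ℤ) 0 (𝟙_ A)).hom ≫ coev0 K L a b :=
  HomologicalComplex.mkHomFromSingle_f _ _

lemma term₁ (m n s : ℤ) (hs : -m + n = s) (hs' : s ≠ 0) :
    (coevT K L m ▷ K.X n) ≫ ιT (K ⊗ dualCx K L) K 0 n n (zero_add n) ≫ (α_ K (dualCx K L) K).hom.f n ≫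
      (K ◁ ev K L).f n = 0 := by
  rw [coevT, MonoidalCategory.comp_whiskerRight, Category.assoc,
    ιT_associator_hom_assoc K (dualCx K L) K m (-m) n 0 s n (by lia) (by lia) hs (by lia), ιT_whiskerLeft,
    ← MonoidalCategory.whiskerLeft_comp_assoc, ev_f_of_ne K L s hs', comp_zero]
  simp

lemma term₁_self (n : ℤ) :
    (coevT K L n ▷ K.X n) ≫ ιT (K ⊗ dualCx K L) K 0 n n (zero_add n) ≫ (α_ K (dualCx K L) K).hom.f n ≫
      (K ◁ ev K L).f n = (λ_ _).hom ≫ (ρ_ _).inv ≫
        (K.X n ◁ (HomologicalComplex.singleObjXSelf (ComplexShape.up ℤ) 0 (𝟙_ A)).inv) ≫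
      ιT K (𝟙_ _) n 0 n (add_zero n) := by
  rw [coevT, MonoidalCategory.comp_whiskerRight, Category.assoc,
    ιT_associator_hom_assoc K (dualCx K L) K n (-n) n 0 0 n (by lia) (by lia) (by lia) (by lia), ιT_whiskerLeft,
    ← MonoidalCategory.whiskerLeft_comp_assoc, ev_f0, ιT_ev0_assoc, MonoidalCategory.whiskerLeft_comp_assoc,
    reassoc_of% (zigzag₁ K L n (-n) n (by lia) (by lia)), HomologicalComplex.XIsoOfEq_rfl, Iso.refl_hom,
    Category.id_comp]

lemma term₂ (m n s : ℤ) (hs : n + m = s) (hs' : s ≠ 0) :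
    ((dualCx K L).X n ◁ coevT K L m) ≫ ιT (dualCx K L) (K ⊗ dualCx K L) n 0 n (add_zero n) ≫
      (α_ (dualCx K L) K (dualCx K L)).inv.f n ≫ (ev K L ▷ dualCx K L).f n = 0 := by
  rw [coevT, MonoidalCategory.whiskerLeft_comp, Category.assoc,
    ιT_associator_inv_assoc (dualCx K L) K (dualCx K L) n m (-m) s 0 n hs (by lia) (by lia) (by lia),
    ιT_whiskerRight, ← MonoidalCategory.comp_whiskerRight_assoc, ev_f_of_ne K L s hs', comp_zero]
  simp

lemma term₂_self (m n : ℤ) (hmn : n + m = 0) :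
    ((dualCx K L).X n ◁ coevT K L m) ≫ ιT (dualCx K L) (K ⊗ dualCx K L) n 0 n (add_zero n) ≫
      (α_ (dualCx K L) K (dualCx K L)).inv.f n ≫ (ev K L ▷ dualCx K L).f n =
      (ρ_ _).hom ≫ (λ_ _).inv ≫
        ((HomologicalComplex.singleObjXSelf (ComplexShape.up ℤ) 0 (𝟙_ A)).inv ▷ (dualCx K L).X n) ≫
      ιT (𝟙_ _) (dualCx K L) 0 n n (zero_add n) := by
  rw [coevT_eq K L m n (by lia), MonoidalCategory.whiskerLeft_comp, Category.assoc,
    ιT_associator_inv_assoc (dualCx K L) K (dualCx K L) n m n 0 0 n (by lia) (by lia) (by lia) (by lia),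
    ιT_whiskerRight, ← MonoidalCategory.comp_whiskerRight_assoc, ev_f0, ιT_ev0_assoc,
    MonoidalCategory.comp_whiskerRight_assoc,
    reassoc_of% (zigzag₂ K L n m n (by lia) (by lia)), HomologicalComplex.XIsoOfEq_rfl, Iso.refl_hom,
    Category.id_comp]

lemma zig₁ : coev K L a b ha hb ▷ K ≫ (α_ K (dualCx K L) K).hom ≫ K ◁ ev K L = (λ_ K).hom ≫ (ρ_ K).inv := by
  rw [← cancel_epi (λ_ K).inv, Iso.inv_hom_id_assoc]
  ext n
  rw [HomologicalComplex.comp_f, HomologicalComplex.comp_f, HomologicalComplex.comp_f, leftUnitor_inv_f,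
    rightUnitor_inv_f, Category.assoc, Category.assoc, ιT_whiskerRight_assoc,
    ← MonoidalCategory.comp_whiskerRight_assoc, coev_f0, Iso.inv_hom_id_assoc, coev0_eq K L a b ha hb n,
    sum_whiskerRight, Preadditive.sum_comp, Finset.sum_eq_single n, term₁_self, Iso.inv_hom_id_assoc]
  · intro m _ hm
    exact term₁ K L m n (-m + n) rfl (by lia)
  · intro h
    exact absurd (Finset.mem_insert_self _ _) h

lemma zig₂ : dualCx K L ◁ coev K L a b ha hb ≫ (α_ (dualCx K L) K (dualCx K L)).inv ≫ ev K L ▷ dualCx K L =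
    (ρ_ _).hom ≫ (λ_ _).inv := by
  rw [← cancel_epi (ρ_ (dualCx K L)).inv, Iso.inv_hom_id_assoc]
  ext n
  rw [HomologicalComplex.comp_f, HomologicalComplex.comp_f, HomologicalComplex.comp_f, leftUnitor_inv_f,
    rightUnitor_inv_f, Category.assoc, Category.assoc, ιT_whiskerLeft_assoc,
    ← MonoidalCategory.whiskerLeft_comp_assoc, coev_f0, Iso.inv_hom_id_assoc, coev0_eq K L a b ha hb (-n),
    whiskerLeft_sum, Preadditive.sum_comp, Finset.sum_eq_single (-n), term₂_self K L (-n) n (by lia),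
    Iso.inv_hom_id_assoc]
  · intro m _ hm
    exact term₂ K L m n (n + m) rfl (by lia)
  · intro h
    exact absurd (Finset.mem_insert_self _ _) h

/-- The exact pairing between a bounded complex of dualizable objects and its dual complex. -/
@[instance_reducible]
noncomputable def exactPairing : ExactPairing K (dualCx K L) where
  coevaluation' := coev K L a b ha hb
  evaluation' := ev K L
  coevaluation_evaluation' := zig₂ K L a b ha hb
  evaluation_coevaluation' := zig₁ K L a b ha hb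

end Bounded

/-- A bounded complex whose terms have right duals has a right dual. -/
theorem exists_exactPairing {A : Type u} [Category.{v} A] [Preadditive A] [MonoidalCategory A] [TensorGood A]
    (K : CochainComplex A ℤ) (a b : ℤ) (ha : ∀ n, n < a → IsZero (K.X n)) (hb : ∀ n, b < n → IsZero (K.X n))
    (L : ℤ → A) (e : ∀ n, ExactPairing (K.X n) (L n)) :
    ∃ (K' : CochainComplex A ℤ) (_ : ∀ n, K'.X (-n) ≅ L n), Nonempty (ExactPairing K K') :=
  ⟨dualCx K L, fun n => eqToIso (congrArg L (neg_neg n)), ⟨exactPairing K L a b ha hb⟩⟩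

end Groth.Agent.Dcoh.DualCx
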