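import Groth.Agent.Dcoh.MonCat
import Groth.Agent.Dcoh.KFlatMod
import Groth.Agent.Dcoh.DualCx
import Groth.Agent.Dcoh.DualSum

/-!
# `X.Modules` is `TensorGood`; duals of free modules and of bounded complexes of free modules
-/

set_option autoImplicit false

universe u

namespace Groth.Agent.Dcoh.MonInst

open CategoryTheory Category Limits MonoidalCategory AlgebraicGeometry
open Groth.Agent.Dcoh.MonCx
open scoped Groth.Agent.Dcoh.MonCat

variable (X : Scheme.{u})

/-- The tensor product of `O_X`-modules is biadditive. -/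
instance monPre : MonoidalPreadditive X.Modules where
  whiskerLeft_zero {M _ _} := (DCoh.tensorBi.obj M).map_zero _ _
  zero_whiskerRight {M _ _} := by
    exact congrArg (fun t => NatTrans.app t M) ((DCoh.tensorBi (X := X)).map_zero _ _)
  whiskerLeft_add {M _ _} _ _ := (DCoh.tensorBi.obj M).map_add
  add_whiskerRight {M _ _} _ _ := by
    exact congrArg (fun t => NatTrans.app t M) ((DCoh.tensorBi (X := X)).map_add)

instance hasCoproducts₀ : HasCoproducts.{0} X.Modules := by
  have := KFlatMod.isGrothendieckAbelian X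
  have : HasColimitsOfSize.{0, 0} X.Modules := hasColimitsOfSizeShrink.{0, 0, u, u} X.Modules
  intro J
  infer_instance

instance tensorGood : TensorGood X.Modules where
  monPre := inferInstance
  coprod := inferInstance
  zero := inferInstance
  left M := inferInstanceAs (PreservesColimitsOfSize.{0, 0} (DCoh.tensorBi.obj M))
  right M := inferInstanceAs (PreservesColimitsOfSize.{0, 0} (DCoh.tensorBi.flip.obj M))

/-- Finite free modules are self-dual. -/
@[instance_reducible]
noncomputable def freePairing (n : ℕ) : ExactPairing (FlatMod.freeMod X n) (FlatMod.freeMod X n) :=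
  DualSum.exactPairingCoprod (C := X.Modules) (fun _ : Fin n => 𝟙_ X.Modules) (fun _ : Fin n => 𝟙_ X.Modules)

/-- The dual of a zero object is zero. -/
lemma isZero_of_pairing {C : Type*} [Category* C] [MonoidalCategory C] [Preadditive C] [MonoidalPreadditive C]
    {Z Z' : C} [ExactPairing Z Z'] (h : IsZero Z) : IsZero Z' := by
  rw [IsZero.iff_id_eq_zero]
  have e : η_ Z Z' = 0 := ((tensorRight Z').map_isZero h).eq_of_tgt _ _
  have h1 := ExactPairing.coevaluation_evaluation Z Z'
  rw [e, MonoidalPreadditive.whiskerLeft_zero, zero_comp] at h1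
  have h2 : (ρ_ Z').inv ≫ ((ρ_ Z').hom ≫ (λ_ Z').inv) ≫ (λ_ Z').hom = 𝟙 Z' := by simp
  rw [← h2, ← h1, zero_comp, comp_zero]

variable {X}

/-- A bounded complex of finite free modules has a dual which is a bounded complex of finite free modules. -/
theorem exists_dual_of_free (K : CochainComplex X.Modules ℤ) (a b : ℤ) (ha : ∀ n, n < a → IsZero (K.X n))
    (hb : ∀ n, b < n → IsZero (K.X n)) (hK : ∀ n, ∃ r : ℕ, Nonempty (K.X n ≅ FlatMod.freeMod X r)) :
    ∃ K' : CochainComplex X.Modules ℤ, Nonempty (ExactPairing K K') ∧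
      (∀ n, n < -b → IsZero (K'.X n)) ∧ (∀ n, -a < n → IsZero (K'.X n)) ∧
      (∀ n, ∃ r : ℕ, Nonempty (K'.X n ≅ FlatMod.freeMod X r)) := by
  choose r hr using hK
  let φ : ∀ n, K.X n ≅ FlatMod.freeMod X (r n) := fun n => (hr n).some
  let e : ∀ n, ExactPairing (K.X n) (FlatMod.freeMod X (r n)) := fun n =>
    letI := freePairing X (r n)
    exactPairingCongrLeft (φ n)
  obtain ⟨K', ψ, hK'⟩ := DualCx.exists_exactPairing K a b ha hb (fun n => FlatMod.freeMod X (r n)) e
  have hz : ∀ n, IsZero (K.X n) → IsZero (K'.X (-n)) := fun n hn => by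
    letI := e n
    exact (isZero_of_pairing hn : IsZero (FlatMod.freeMod X (r n))).of_iso (ψ n)
  refine ⟨K', hK', fun n hn => ?_, fun n hn => ?_, fun n => ⟨r (-n), ⟨?_⟩⟩⟩
  · have := hz (-n) (hb _ (by lia))
    rwa [neg_neg] at this
  · have := hz (-n) (ha _ (by lia))
    rwa [neg_neg] at this
  · exact eqToIso (by rw [neg_neg]) ≪≫ ψ (-n)

end Groth.Agent.Dcoh.MonInst
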