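import Groth.Agent.Dcoh.DualMap
import Groth.Agent.Dcoh.MonInst
import Groth.Agent.Dcoh.LocalFree

/-!
# Bounded complexes of finite free modules are dualizable in `D(O_X)`
-/

set_option autoImplicit false

universe u

namespace Groth.Agent.Dcoh.DualPerf

open CategoryTheory Category Limits MonoidalCategory AlgebraicGeometry
open Groth.Agent.Dcoh.MonCx Groth.Agent.Dcoh.MonD Groth.Agent.Dcoh.LocalFree Groth.Agent.Dcoh.DualMap
open scoped Groth.Agent.Dcoh.MonCat

attribute [local instance] HasDerivedCategory.standard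

variable {X : Scheme.{u}}

/-- An object of `D(O_X)` which is a bounded complex of finite free modules has a dual of the same kind. -/
theorem exists_pairing_of_freePerf (P : ObjectProperty (CochainComplex X.Modules ℤ)) [Adapted P]
    [MonoidalCategory (DCoh.D X)] [(LP P).Monoidal]
    (hP : ∀ (E : CochainComplex X.Modules ℤ) (a b : ℤ), DCoh.VanishesOutside E a b →
      (∀ i, IsFree (E.X i)) → P E)
    {K : DCoh.D X} (hK : FreePerf X K) : ∃ Y : DCoh.D X, Nonempty (ExactPairing K Y) ∧ FreePerf X Y := by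
  obtain ⟨E, a, b, hE, hF, ⟨c⟩⟩ := hK
  obtain ⟨E', ⟨h⟩, h1, h2, h3⟩ := MonInst.exists_dual_of_free E a b (fun n hn => hE n (Or.inl hn))
    (fun n hn => hE n (Or.inr hn)) hF
  have hE' : DCoh.VanishesOutside E' (-b) (-a) := fun n hn => hn.elim (h1 n) (h2 n)
  let := pairingQ P E E' (hP E a b hE hF) (hP E' (-b) (-a) hE' h3)
  exact ⟨DerivedCategory.Q.obj E', ⟨exactPairingCongrLeft c⟩, E', -b, -a, hE', h3, ⟨Iso.refl _⟩⟩

end Groth.Agent.Dcoh.DualPerf
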