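import Mathlib.CategoryTheory.Monoidal.Rigid.Braided
import Mathlib.CategoryTheory.Monoidal.Rigid.Basic
import Mathlib.CategoryTheory.Adjunction.Mates
import Mathlib.CategoryTheory.Adjunction.Unique

/-!
# Formal consequences of a monoidal structure for internal Homs

`C` a monoidal category, `F K ≅ tensorRight K`, `F K ⊣ R K` (so `R K = RHom(K, -)`).

* `nonempty_tensor`: `RHom(K, RHom(L, -)) ≅ RHom(K ⊗ L, -)`;
* `nonempty_dual`: `- ⊗ Y ≅ RHom(K, -)` for an exact pairing `(K, Y)`;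
* `nonempty_tensor_dual`: `- ⊗ D ≅ RHom(K, -)` for `K` dualizable and `D ≅ RHom(K, 1)`;
* `nonempty_eval`: `RHom(L, -) ⊗ K ≅ RHom(D, -)` for `K` dualizable and `D ≅ RHom(K, L)` (braided case).
-/

set_option autoImplicit false

open CategoryTheory MonoidalCategory

namespace Groth.Agent.Dcoh.MonAdj

universe v u

section

variable {C : Type u} [Category.{v} C]

/-- Right adjoints of isomorphic functors are isomorphic. -/
lemma nonempty_right {F G R S : C ⥤ C} (e : Nonempty (F ≅ G)) (adjF : F ⊣ R) (adjG : G ⊣ S) :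
    Nonempty (R ≅ S) := by
  obtain ⟨e⟩ := e
  exact ⟨conjugateIsoEquiv adjF adjG e.symm⟩

end

section

variable {C : Type u} [Category.{v} C] [MonoidalCategory C]

/-- `tensorRight` of isomorphic objects. -/
def tensorRightIso {K L : C} (e : K ≅ L) : tensorRight K ≅ tensorRight L :=
  (curriedTensor C).flip.mapIso e

/-- `RHom(K, RHom(L, -)) ≅ RHom(K ⊗ L, -)`. -/
theorem nonempty_tensor {K L E : C} (e : Nonempty (K ⊗ L ≅ E)) {FK FL FE RK RL RE : C ⥤ C}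
    (eK : Nonempty (FK ≅ tensorRight K)) (eL : Nonempty (FL ≅ tensorRight L))
    (eE : Nonempty (FE ≅ tensorRight E)) (adjK : FK ⊣ RK) (adjL : FL ⊣ RL) (adjE : FE ⊣ RE) :
    Nonempty (RL ⋙ RK ≅ RE) := by
  obtain ⟨e⟩ := e
  obtain ⟨eK⟩ := eK
  obtain ⟨eL⟩ := eL
  obtain ⟨eE⟩ := eE
  refine nonempty_right ⟨?_⟩ (adjK.comp adjL) adjE
  exact Functor.isoWhiskerRight eK _ ≪≫ Functor.isoWhiskerLeft _ eL ≪≫ (tensorRightTensor K L).symm ≪≫
    tensorRightIso e ≪≫ eE.symm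

/-- `- ⊗ Y ≅ RHom(K, -)` if `Y` is dual to `K`. -/
theorem nonempty_dual {K : C} (Y : C) [ExactPairing K Y] {FK RK : C ⥤ C}
    (eK : Nonempty (FK ≅ tensorRight K)) (adjK : FK ⊣ RK) : Nonempty (tensorRight Y ≅ RK) := by
  obtain ⟨eK⟩ := eK
  exact nonempty_right ⟨eK.symm⟩ (tensorRightAdjunction K Y) adjK

/-- `Y ≅ RHom(K, 1)` if `Y` is dual to `K`. -/
theorem nonempty_dual_unit {K : C} (Y : C) [ExactPairing K Y] {FK RK : C ⥤ C}
    (eK : Nonempty (FK ≅ tensorRight K)) (adjK : FK ⊣ RK) : Nonempty (Y ≅ RK.obj (𝟙_ C)) := by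
  obtain ⟨e⟩ := nonempty_dual Y eK adjK
  exact ⟨(λ_ Y).symm ≪≫ e.app (𝟙_ C)⟩

/-- `- ⊗ D ≅ RHom(K, -)` if `K` is dualizable and `D ≅ RHom(K, 1)`. -/
theorem nonempty_tensor_dual {K : C} (Y : C) [ExactPairing K Y] {FK RK FD : C ⥤ C}
    (eK : Nonempty (FK ≅ tensorRight K)) (adjK : FK ⊣ RK) {D : C} (eFD : Nonempty (FD ≅ tensorRight D))
    (eD : Nonempty (D ≅ RK.obj (𝟙_ C))) : Nonempty (FD ≅ RK) := by
  obtain ⟨e⟩ := nonempty_dual Y eK adjK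
  obtain ⟨e'⟩ := nonempty_dual_unit Y eK adjK
  obtain ⟨eFD⟩ := eFD
  obtain ⟨eD⟩ := eD
  exact ⟨eFD ≪≫ tensorRightIso (eD ≪≫ e'.symm) ≪≫ e⟩

/-- `RHom(L, -) ⊗ K ≅ RHom(D, -)` if `K` is dualizable and `D ≅ RHom(K, L)`. -/
theorem nonempty_eval [BraidedCategory C] {K L D : C} (Y : C) [ExactPairing K Y] {FK FL FD RK RL RD : C ⥤ C}
    (eK : Nonempty (FK ≅ tensorRight K)) (eL : Nonempty (FL ≅ tensorRight L))
    (eD : Nonempty (FD ≅ tensorRight D)) (adjK : FK ⊣ RK) (adjL : FL ⊣ RL) (adjD : FD ⊣ RD)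
    (e : Nonempty (D ≅ RK.obj L)) : Nonempty (RL ⋙ FK ≅ RD) := by
  obtain ⟨e1⟩ := nonempty_dual Y eK adjK
  obtain ⟨eK⟩ := eK
  obtain ⟨eL⟩ := eL
  obtain ⟨eD⟩ := eD
  obtain ⟨e⟩ := e
  let _ : ExactPairing Y K := BraidedCategory.exactPairing_swap K Y
  have adj : tensorRight Y ⋙ tensorRight L ⊣ RL ⋙ tensorRight K :=
    (tensorRightAdjunction Y K).comp (adjL.ofNatIsoLeft eL)
  obtain ⟨e2⟩ := nonempty_right (F := FD) (G := tensorRight Y ⋙ tensorRight L)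
    ⟨eD ≪≫ tensorRightIso (e ≪≫ e1.symm.app L ≪≫ β_ L Y) ≪≫ tensorRightTensor Y L⟩ adjD adj
  exact ⟨Functor.isoWhiskerLeft RL eK ≪≫ e2.symm⟩

end

end Groth.Agent.Dcoh.MonAdj
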