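import Groth.Agent.Dcoh.ModD
import Groth.Agent.Dcoh.MonAdj
import Groth.Agent.PerfC.TensorSymm

/-!
# A weak form of the symmetry of the derived tensor product

* `leftRight Z : Nonempty (tensorLeft Z ≅ tensorRight Z)` for every object `Z` of `D(O_X)`;
* `nonempty_eval'`: the formal evaluation isomorphism `RHom(L, -) ⊗ K ≅ RHom(D, -)` under this weak symmetry.
-/

set_option autoImplicit false

universe w v u

open CategoryTheory Limits MonoidalCategory AlgebraicGeometry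
attribute [local instance] HasDerivedCategory.standard

namespace Groth.Agent.Dcoh.MonSymm293

section

variable {C : Type u} [Category.{v} C] [MonoidalCategory C]

/-- Weak symmetry: `Z ⊗ - ≅ - ⊗ Z` as functors. -/
def WeakSymm (C : Type u) [Category.{v} C] [MonoidalCategory C] : Prop :=
  ∀ Z : C, Nonempty (tensorLeft Z ≅ tensorRight Z)

/-- Under the weak symmetry, `tensorRight K` is right adjoint to `tensorRight Y` for an exact pairing `(K, Y)`. -/
theorem nonempty_adj (h : WeakSymm C) (K Y : C) [ExactPairing K Y] :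
    Nonempty (tensorRight Y ⊣ tensorRight K) := by
  obtain ⟨eY⟩ := h Y
  obtain ⟨eK⟩ := h K
  exact ⟨((tensorLeftAdjunction K Y).ofNatIsoLeft eY).ofNatIsoRight eK⟩

/-- `RHom(L, -) ⊗ K ≅ RHom(D, -)` if `K` is dualizable and `D ≅ RHom(K, L)` (weakly symmetric case). -/
theorem nonempty_eval' (h : WeakSymm C) {K L D : C} (Y : C) [ExactPairing K Y] {FK FL FD RK RL RD : C ⥤ C}
    (eK : Nonempty (FK ≅ tensorRight K)) (eL : Nonempty (FL ≅ tensorRight L))
    (eD : Nonempty (FD ≅ tensorRight D)) (adjK : FK ⊣ RK) (adjL : FL ⊣ RL) (adjD : FD ⊣ RD)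
    (e : Nonempty (D ≅ RK.obj L)) : Nonempty (RL ⋙ FK ≅ RD) := by
  obtain ⟨e1⟩ := MonAdj.nonempty_dual Y eK adjK
  obtain ⟨eK⟩ := eK
  obtain ⟨eL⟩ := eL
  obtain ⟨eD⟩ := eD
  obtain ⟨e⟩ := e
  obtain ⟨eYL⟩ := h Y
  obtain ⟨a⟩ := nonempty_adj h K Y
  have adj : tensorRight Y ⋙ tensorRight L ⊣ RL ⋙ tensorRight K := a.comp (adjL.ofNatIsoLeft eL)
  obtain ⟨e2⟩ := MonAdj.nonempty_right (F := FD) (G := tensorRight Y ⋙ tensorRight L)
    ⟨eD ≪≫ MonAdj.tensorRightIso (e ≪≫ e1.symm.app L ≪≫ (eYL.app L).symm) ≪≫ tensorRightTensor Y L⟩ adjD adj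
  exact ⟨Functor.isoWhiskerLeft RL eK ≪≫ e2.symm⟩

end

open scoped Groth.Agent.Dcoh.MonCat Groth.Agent.Dcoh.ModD
open Groth.Agent.Dcoh.MonD Groth.Agent.Dcoh.ModD

variable {X : Scheme.{u}}

/-- Symmetry on complexes, natural in the first variable. -/
noncomputable def cxSymm (E : CochainComplex X.Modules ℤ) :
    tensorRight E ≅ tensorLeft E :=
  NatIso.ofComponents (fun K => PerfC.TensorSymm.symmIso K E)
    (fun f => PerfC.TensorSymm.symmIso_naturality_left f E)

/-- `TR E ≅ TL E`. -/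
noncomputable def TRTL (E : CochainComplex X.Modules ℤ) (hE : KF X E) :
    TR E hE ≅ TL E hE :=
  letI : Localization.Lifting DerivedCategory.Q (HomologicalComplex.quasiIso X.Modules (ComplexShape.up ℤ))
      (tensorRight E ⋙ DerivedCategory.Q) (TR E hE) := ⟨TRfac E hE⟩
  letI : Localization.Lifting DerivedCategory.Q (HomologicalComplex.quasiIso X.Modules (ComplexShape.up ℤ))
      (tensorLeft E ⋙ DerivedCategory.Q) (TL E hE) := ⟨TLfac E hE⟩
  Localization.liftNatIso DerivedCategory.Q (HomologicalComplex.quasiIso X.Modules (ComplexShape.up ℤ))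
    (tensorRight E ⋙ DerivedCategory.Q) (tensorLeft E ⋙ DerivedCategory.Q) _ _
    (Functor.isoWhiskerRight (cxSymm E) DerivedCategory.Q)

/-- `Z ⊗ - ≅ - ⊗ Z` on `D(O_X)`. -/
theorem weakSymm : WeakSymm (DCoh.D X) := by
  intro Z
  have hes : (LP (KF X)).EssSurj := Localization.essSurj (LP (KF X)) (qisP (KF X))
  obtain ⟨⟨E, hE⟩, ⟨e⟩⟩ := hes.mem_essImage Z
  exact ⟨(curriedTensor (DCoh.D X)).mapIso e.symm ≪≫ (TLIso E hE).symm ≪≫ (TRTL E hE).symm ≪≫ TRIso E hE ≪≫
    MonAdj.tensorRightIso e⟩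

end Groth.Agent.Dcoh.MonSymm293
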