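import Groth.Agent.Dcoh.MonD
import Mathlib.Algebra.Homology.DerivedCategory.ExactFunctor

/-!
# Exact monoidal functors induce monoidal functors on derived categories
-/

set_option autoImplicit false

open CategoryTheory Limits MonoidalCategory

namespace Groth.Agent.Dcoh.MonMapD

open Groth.Agent.Dcoh.MonCx Groth.Agent.Dcoh.MonD

universe w v u w' v' u'

variable {A : Type u} [Category.{v} A] [Abelian A] [MonoidalCategory A] [TensorGood A]
  {B : Type u'} [Category.{v'} B] [Abelian B] [MonoidalCategory B] [TensorGood B]

section

variable (P : ObjectProperty (CochainComplex A ℤ)) [P.IsMonoidal]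
  (P' : ObjectProperty (CochainComplex B ℤ)) [P'.IsMonoidal]
  (F : CochainComplex A ℤ ⥤ CochainComplex B ℤ) [F.Monoidal] (hF : ∀ K, P K → P' (F.obj K))

/-- The functor induced on full subcategories. -/
def liftP : P.FullSubcategory ⥤ P'.FullSubcategory :=
  P'.lift (P.ι ⋙ F) (fun K => hF K.obj K.property)

open Functor.LaxMonoidal Functor.OplaxMonoidal in
noncomputable instance liftPMonoidal : (liftP P P' F hF).Monoidal :=
  Functor.CoreMonoidal.toMonoidal
    { εIso := P'.isoMk (Functor.Monoidal.εIso F)
      μIso := fun X Y => P'.isoMk (Functor.Monoidal.μIso F X.obj Y.obj)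
      μIso_hom_natural_left := fun f X' => by
        ext1
        exact μ_natural_left F f.hom X'.obj
      μIso_hom_natural_right := fun X' f => by
        ext1
        exact μ_natural_right F X'.obj f.hom
      associativity := fun X Y Z => by
        ext1
        exact Functor.LaxMonoidal.associativity F X.obj Y.obj Z.obj
      left_unitality := fun X => by
        ext1
        exact Functor.LaxMonoidal.left_unitality F X.obj
      right_unitality := fun X => by
        ext1
        exact Functor.LaxMonoidal.right_unitality F X.obj }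

end

variable [HasDerivedCategory.{w} A] [HasDerivedCategory.{w'} B]
  (P : ObjectProperty (CochainComplex A ℤ)) [Adapted P]
  (P' : ObjectProperty (CochainComplex B ℤ)) [Adapted P']
  [MonoidalCategory (DerivedCategory A)] [(LP P).Monoidal]
  [MonoidalCategory (DerivedCategory B)] [(LP P').Monoidal]
  (F : A ⥤ B) [F.Additive] [PreservesFiniteLimits F] [PreservesFiniteColimits F]
  [(F.mapHomologicalComplex (ComplexShape.up ℤ)).Monoidal]
  (hF : ∀ K, P K → P' ((F.mapHomologicalComplex (ComplexShape.up ℤ)).obj K))

/-- The functor `F` on derived categories lifts the functor on full subcategories. -/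
@[instance_reducible]
noncomputable def lifting : Localization.Lifting (LP P) (qisP P)
    (liftP P P' (F.mapHomologicalComplex (ComplexShape.up ℤ)) hF ⋙ LP P') F.mapDerivedCategory :=
  ⟨Functor.isoWhiskerLeft P.ι F.mapDerivedCategoryFactors⟩

/-- The functor induced on derived categories by an exact monoidal functor is monoidal. -/
@[instance_reducible]
noncomputable def mapDMonoidal : F.mapDerivedCategory.Monoidal :=
  letI := lifting P P' F hF
  Localization.Monoidal.functorMonoidalOfComp (LP P) (qisP P) F.mapDerivedCategory
    (liftP P P' (F.mapHomologicalComplex (ComplexShape.up ℤ)) hF ⋙ LP P')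

open Functor.LaxMonoidal Functor.OplaxMonoidal in
lemma μ_mapD (K L : CochainComplex A ℤ) (hK : P K) (hL : P L) :
    letI := mapDMonoidal P P' F hF
    μ F.mapDerivedCategory (DerivedCategory.Q.obj K) (DerivedCategory.Q.obj L) =
      (F.mapDerivedCategoryFactors.hom.app K ⊗ₘ F.mapDerivedCategoryFactors.hom.app L) ≫
        μ (LP P') ⟨_, hF K hK⟩ ⟨_, hF L hL⟩ ≫
        DerivedCategory.Q.map (μ (F.mapHomologicalComplex (ComplexShape.up ℤ)) K L) ≫
        F.mapDerivedCategoryFactors.inv.app (K ⊗ L) ≫
        F.mapDerivedCategory.map (δ (LP P) ⟨K, hK⟩ ⟨L, hL⟩) := by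
  let _ := lifting P P' F hF
  have := Localization.Monoidal.functorMonoidalOfComp_μ (LP P) (qisP P) F.mapDerivedCategory
    (liftP P P' (F.mapHomologicalComplex (ComplexShape.up ℤ)) hF ⋙ LP P') ⟨K, hK⟩ ⟨L, hL⟩
  refine this.trans ?_
  rw [Functor.LaxMonoidal.comp_μ, Category.assoc]
  rfl

end Groth.Agent.Dcoh.MonMapD
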