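import Groth.Agent.Dcoh.MonCat
import Mathlib.Algebra.Category.ModuleCat.Monoidal.Adjunction
import Mathlib.Algebra.Category.ModuleCat.Presheaf.PushforwardZeroMonoidal
import Mathlib.CategoryTheory.Localization.Monoidal.Functor

/-!
# Restriction to an open subscheme is braided monoidal

`restrictMonoidal j : (Scheme.Modules.restrictFunctor j).Monoidal` and
`restrictBraided j : (Scheme.Modules.restrictFunctor j).Braided` for an open immersion `j`, for the
symmetric monoidal structure of `Groth.Agent.Dcoh.MonCat`.

* `rsCore α`: restriction of scalars of presheaves of modules along an isomorphism of presheaves of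
  commutative rings is (braided) monoidal;
* `preAdj`: adjunction between pushforwards of presheaves of modules along `F ⊣ G`;
* `resP j ⊣ pushP j` (`resPAdj j`): presheaf level restriction and direct image;
* `resSh j : shP ⋙ restrictFunctor j ≅ resP j ⋙ shP`.
* `functorBraidedOfComp`: braided version of Mathlib's `functorMonoidalOfComp`.
-/

open CategoryTheory MonoidalCategory AlgebraicGeometry Limits Opposite DCoh TopologicalSpace
open Groth.Agent.Dcoh.MonCat

universe v v₁ v₂ u₁ u₂ u

namespace Groth.Agent.Dcoh.MonRes290

section ModuleCat

open TensorProduct Functor.LaxMonoidal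

variable {R S : Type u} [CommRing R] [CommRing S] (f : R →+* S)

theorem bijective_μ (hf : Function.Surjective f) (M N : ModuleCat.{u} S) :
    Function.Bijective (μ (ModuleCat.restrictScalars f) M N) := by
  let := f.toAlgebra
  let : Module R M := Module.compHom M f
  let : Module R N := Module.compHom N f
  have : IsScalarTower R S M := ⟨fun r s m => by
    change (f r * s) • m = f r • s • m
    rw [mul_smul]⟩
  have : IsScalarTower R S N := ⟨fun r s m => by
    change (f r * s) • m = f r • s • m
    rw [mul_smul]⟩
  have : TensorProduct.CompatibleSMul R S M N := ⟨fun s m n => by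
    obtain ⟨r, rfl⟩ := hf s
    exact TensorProduct.smul_tmul (R := R) r m n⟩
  let e : M ⊗[R] N ≃ₗ[R] M ⊗[S] N := (TensorProduct.equivOfCompatibleSMul R S R M N).symm
  have : ∀ x, μ (ModuleCat.restrictScalars f) M N x = e x := by
    intro x
    induction x using TensorProduct.induction_on with
    | zero => exact (map_zero (μ (ModuleCat.restrictScalars f) M N).hom).trans (map_zero e).symm
    | tmul m n => exact ModuleCat.restrictScalars_μ_tmul f M N m n
    | add x y hx hy => 
      exact ((map_add (μ (ModuleCat.restrictScalars f) M N).hom x y).trans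
        (congrArg₂ (· + ·) hx hy)).trans (map_add e x y).symm
  have h2 : ⇑(μ (ModuleCat.restrictScalars f) M N) = ⇑e := funext this
  rw [h2]
  exact e.bijective

theorem isIso_μ (hf : Function.Surjective f) (M N : ModuleCat.{u} S) :
    IsIso (μ (ModuleCat.restrictScalars f) M N) :=
  (ConcreteCategory.isIso_iff_bijective _).2 (bijective_μ f hf M N)

theorem isIso_ε (hf : Function.Bijective f) :
    IsIso (ε (ModuleCat.restrictScalars f)) := by
  refine (ConcreteCategory.isIso_iff_bijective _).2 ?_
  have h2 : ⇑(ε (ModuleCat.restrictScalars f)) = ⇑f := funext fun x => ModuleCat.restrictScalars_η f x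
  rw [h2]
  exact hf

end ModuleCat

section Presheaf

open Functor.LaxMonoidal ModuleCat.MonoidalCategory

variable {C D : Type*} [Category* C] [Category* D] {R S : Cᵒᵖ ⥤ CommRingCat.{u}} (α : R ≅ S)

/-- Restriction of scalars along a morphism of presheaves of commutative rings. -/
noncomputable abbrev rs : PresheafOfModules.{u} (S ⋙ forget₂ CommRingCat RingCat) ⥤
    PresheafOfModules.{u} (R ⋙ forget₂ CommRingCat RingCat) :=
  PresheafOfModules.restrictScalars (Functor.whiskerRight α.hom (forget₂ CommRingCat RingCat))

theorem bijective_app (U : Cᵒᵖ) : Function.Bijective (α.hom.app U).hom :=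
  ConcreteCategory.bijective_of_isIso (α.hom.app U)

/-- the unit comparison -/
noncomputable def rsε : 𝟙_ (PresheafOfModules.{u} (R ⋙ forget₂ CommRingCat RingCat)) ≅
    (rs α).obj (𝟙_ (PresheafOfModules.{u} (S ⋙ forget₂ CommRingCat RingCat))) :=
  PresheafOfModules.isoMk
    (fun U => @asIso _ _ _ _ (ε (ModuleCat.restrictScalars (α.hom.app U).hom))
      (isIso_ε (α.hom.app U).hom (bijective_app α U)))
    (fun U V g => by
      refine ModuleCat.hom_ext (LinearMap.ext fun x => ?_)
      refine (ModuleCat.restrictScalars_η (α.hom.app V).hom (R.map g x)).trans ?_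
      refine (ConcreteCategory.congr_hom (α.hom.naturality g) x).trans ?_
      exact (congrArg (S.map g).hom (ModuleCat.restrictScalars_η (α.hom.app U).hom x)).symm)

/-- the tensor comparison -/
noncomputable def rsμ (M N : PresheafOfModules.{u} (S ⋙ forget₂ CommRingCat RingCat)) :
    (rs α).obj M ⊗ (rs α).obj N ≅ (rs α).obj (M ⊗ N) :=
  PresheafOfModules.isoMk
    (fun U => @asIso _ _ _ _ (μ (ModuleCat.restrictScalars (α.hom.app U).hom) (M.obj U) (N.obj U))
      (isIso_μ (α.hom.app U).hom (bijective_app α U).2 (M.obj U) (N.obj U)))
    (fun U V g => tensor_ext (fun m n => by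
      refine (ModuleCat.restrictScalars_μ_tmul (α.hom.app V).hom (M.obj V) (N.obj V)
        (M.map g m) (N.map g n)).trans ?_
      exact (congrArg ((M ⊗ N).map g).hom (ModuleCat.restrictScalars_μ_tmul (α.hom.app U).hom
        (M.obj U) (N.obj U) m n)).symm))

theorem rsμ_tmul (M N : PresheafOfModules.{u} (S ⋙ forget₂ CommRingCat RingCat)) (U : Cᵒᵖ)
    (m : M.obj U) (n : N.obj U) :
    ((rsμ α M N).hom.app U).hom (TensorProduct.tmul (R.obj U)
      (M := ((rs α).obj M).obj U) (N := ((rs α).obj N).obj U) m n) =
      TensorProduct.tmul (S.obj U) (M := M.obj U) (N := N.obj U) m n :=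
  ModuleCat.restrictScalars_μ_tmul (α.hom.app U).hom (M.obj U) (N.obj U) m n

theorem rsε_apply (U : Cᵒᵖ) (x : R.obj U) :
    ((rsε α).hom.app U).hom x = (α.hom.app U).hom x :=
  ModuleCat.restrictScalars_η (α.hom.app U).hom x

/-- Restriction of scalars along an isomorphism is monoidal. -/
noncomputable def rsCore : (rs α).CoreMonoidal where
  εIso := rsε α
  μIso := rsμ α
  μIso_hom_natural_left {M N} f P := by
    ext1 U
    exact Functor.LaxMonoidal.μ_natural_left (ModuleCat.restrictScalars (α.hom.app U).hom)
      (f.app U) (P.obj U)
  μIso_hom_natural_right {M N} P f := by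
    ext1 U
    exact Functor.LaxMonoidal.μ_natural_right (ModuleCat.restrictScalars (α.hom.app U).hom)
      (P.obj U) (f.app U)
  associativity M N P := by
    ext1 U
    exact Functor.LaxMonoidal.associativity (ModuleCat.restrictScalars (α.hom.app U).hom)
      (M.obj U) (N.obj U) (P.obj U)
  left_unitality M := by
    ext1 U
    exact Functor.LaxMonoidal.left_unitality (ModuleCat.restrictScalars (α.hom.app U).hom)
      (M.obj U)
  right_unitality M := by
    ext1 U
    exact Functor.LaxMonoidal.right_unitality (ModuleCat.restrictScalars (α.hom.app U).hom)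
      (M.obj U)

/-- Restriction of scalars along an isomorphism is monoidal. -/
noncomputable instance : (rs α).Monoidal := (rsCore α).toMonoidal

noncomputable instance : (rs α).Braided where
  braided M N := by
    ext1 U
    refine tensor_ext fun m n => ?_
    exact (congrArg ((β_ M N).hom.app U).hom (rsμ_tmul α M N U m n)).trans
      (rsμ_tmul α N M U n m).symm

noncomputable instance (F : C ⥤ D) (R : Dᵒᵖ ⥤ CommRingCat.{u}) :
    (PresheafOfModules.pushforward₀OfCommRingCat F R).Braided where
  braided M N := by
    ext1 U
    refine tensor_ext fun m n => ?_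
    rfl

end Presheaf


section Adj

variable {C : Type u₁} [Category.{v₁} C] {D : Type u₂} [Category.{v₂} D]
  {F : C ⥤ D} {G : D ⥤ C} {S : Cᵒᵖ ⥤ RingCat.{u}} {R : Dᵒᵖ ⥤ RingCat.{u}} 
  (adj : F ⊣ G) (φ : S ⟶ F.op ⋙ R) (ψ : R ⟶ G.op ⋙ S)
  (H₁ : Functor.whiskerRight (NatTrans.op adj.counit) R = ψ ≫ G.op.whiskerLeft φ)
  (H₂ : φ ≫ F.op.whiskerLeft ψ ≫ Functor.whiskerRight (NatTrans.op adj.unit) S = 𝟙 S)

set_option backward.isDefEq.respectTransparency false in
/-- The unit of the adjunction. -/
noncomputable def adjUnit (M : PresheafOfModules.{v} R) :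
    M ⟶ (PresheafOfModules.pushforward.{v} ψ).obj ((PresheafOfModules.pushforward.{v} φ).obj M) :=
  PresheafOfModules.homMk
    (M₂ := (PresheafOfModules.pushforward.{v} ψ).obj ((PresheafOfModules.pushforward.{v} φ).obj M))
    (Functor.whiskerRight (NatTrans.op adj.counit) M.presheaf) (fun U r m => by
      refine (M.map_smul (adj.counit.app U.unop).op r m).trans ?_
      exact congrArg (fun t => t • M.map (adj.counit.app U.unop).op m) 
        (ConcreteCategory.congr_hom (congr_app H₁ U) r))

set_option backward.isDefEq.respectTransparency false in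
/-- The counit of the adjunction. -/
noncomputable def adjCounit (M : PresheafOfModules.{v} S) :
    (PresheafOfModules.pushforward.{v} φ).obj ((PresheafOfModules.pushforward.{v} ψ).obj M) ⟶ M :=
  PresheafOfModules.homMk
    (M₁ := (PresheafOfModules.pushforward.{v} φ).obj ((PresheafOfModules.pushforward.{v} ψ).obj M))
    (Functor.whiskerRight (NatTrans.op adj.unit) M.presheaf) (fun U r m => by
      refine (M.map_smul (adj.unit.app U.unop).op (ψ.app _ (φ.app U r)) m).trans ?_
      exact congrArg (fun t => t • M.map (adj.unit.app U.unop).op m) 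
        (ConcreteCategory.congr_hom (congr_app H₂ U) r))

set_option backward.isDefEq.respectTransparency false in
/-- If `F ⊣ G`, then the pushforwards of presheaves of modules along `F` and `G` are adjoint. -/
noncomputable def preAdj :
    PresheafOfModules.pushforward.{v} φ ⊣ PresheafOfModules.pushforward.{v} ψ where
  unit :=
    { app M := adjUnit adj φ ψ H₁ M
      naturality M N f := by
        refine (PresheafOfModules.toPresheaf _).map_injective ?_
        ext U x
        exact (PresheafOfModules.naturality_apply f (adj.counit.app U.unop).op x).symm }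
  counit :=
    { app M := adjCounit adj φ ψ H₂ M
      naturality M N f := by
        refine (PresheafOfModules.toPresheaf _).map_injective ?_
        ext U x
        exact (PresheafOfModules.naturality_apply f (adj.unit.app U.unop).op x).symm }
  left_triangle_components M := by
    refine (PresheafOfModules.toPresheaf _).map_injective ?_
    ext U x
    have h : M.presheaf.map (adj.counit.app (F.obj U.unop)).op ≫
        M.presheaf.map (F.map (adj.unit.app U.unop)).op = 𝟙 _ := by
      rw [← Functor.map_comp, ← op_comp]
      exact (congrArg (fun t => M.presheaf.map (Quiver.Hom.op t))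
        (adj.left_triangle_components U.unop)).trans (M.presheaf.map_id _)
    exact congr($h x)
  right_triangle_components M := by
    refine (PresheafOfModules.toPresheaf _).map_injective ?_
    ext U x
    have h : M.presheaf.map (G.map (adj.counit.app U.unop)).op ≫
        M.presheaf.map (adj.unit.app (G.obj U.unop)).op = 𝟙 _ := by
      rw [← Functor.map_comp, ← op_comp]
      exact (congrArg (fun t => M.presheaf.map (Quiver.Hom.op t))
        (adj.right_triangle_components U.unop)).trans (M.presheaf.map_id _)
    exact congr($h x)

end Adj

section BraidedComp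

open Functor.LaxMonoidal Functor.OplaxMonoidal Functor.Monoidal

variable {C D E : Type*} [Category* C] [Category* D] [Category* E]
  [MonoidalCategory C] [MonoidalCategory D] [MonoidalCategory E]
  [BraidedCategory C] [BraidedCategory D] [BraidedCategory E]
  (L : C ⥤ D) (W : MorphismProperty C) [L.IsLocalization W] [L.Braided]
  (F : D ⥤ E) (G : C ⥤ E) [G.Braided] [W.ContainsIdentities] [Localization.Lifting L W G F]

theorem braided_transfer {F : D ⥤ E} [F.Monoidal] {M N M' N' : D} (f : M ≅ M') (g : N ≅ N')
    (h : μ F M' N' ≫ F.map (β_ M' N').hom = (β_ (F.obj M') (F.obj N')).hom ≫ μ F N' M') :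
    μ F M N ≫ F.map (β_ M N).hom = (β_ (F.obj M) (F.obj N)).hom ≫ μ F N M := by
  rw [← cancel_epi (F.map f.inv ⊗ₘ F.map g.inv), μ_natural_assoc, ← F.map_comp,
    BraidedCategory.braiding_naturality, F.map_comp, reassoc_of% h,
    BraidedCategory.braiding_naturality_assoc, μ_natural]

/-- A functor induced on a monoidal localization by a braided functor is braided. -/
@[instance_reducible]
noncomputable def functorBraidedOfComp : F.Braided :=
  letI := Localization.Monoidal.functorMonoidalOfComp L W F G
  { braided := fun M N => by
      have := Localization.essSurj L W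
      refine braided_transfer (L.objObjPreimageIso M).symm (L.objObjPreimageIso N).symm ?_
      generalize L.objPreimage M = P
      generalize L.objPreimage N = Q
      let e := Localization.Lifting.iso L W G F
      have h1 : δ L P Q ≫ (β_ (L.obj P) (L.obj Q)).hom = L.map (β_ P Q).hom ≫ δ L Q P := by
        simp
      have h2 : F.map (L.map (β_ P Q).hom) = e.hom.app _ ≫ G.map (β_ P Q).hom ≫ e.inv.app _ := by
        rw [← reassoc_of% (e.hom.naturality (β_ P Q).hom)]
        simp
      rw [Localization.Monoidal.functorMonoidalOfComp_μ, Localization.Monoidal.functorMonoidalOfComp_μ]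
      simp only [Category.assoc]
      rw [← F.map_comp, h1, F.map_comp, h2]
      simp only [Category.assoc]
      change _ ≫ _ ≫ e.inv.app _ ≫ e.hom.app _ ≫ _ = _
      rw [Iso.inv_hom_id_app_assoc, Functor.LaxBraided.braided_assoc,
        BraidedCategory.braiding_naturality_assoc]
      rfl }

end BraidedComp

section Schemes

variable {X U : Scheme.{u}} (j : U ⟶ X) [IsOpenImmersion j]

/-- The restriction of the structure sheaf. -/
noncomputable def alpha : U.sheaf.obj ≅ j.opensFunctor.op ⋙ X.sheaf.obj :=
  NatIso.ofComponents (fun V => (j.appIso V.unop).symm) (fun {V W} g => by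
    exact j.appIso_inv_naturality g)

/-- Restriction of presheaves of modules. -/
noncomputable def resP : CohB1.PMod X ⥤ CohB1.PMod U :=
  PresheafOfModules.pushforward (F := j.opensFunctor)
    (Functor.whiskerRight (alpha j).hom (forget₂ CommRingCat RingCat))

/-- Direct image of presheaves of modules. -/
noncomputable def pushP : CohB1.PMod U ⥤ CohB1.PMod X :=
  PresheafOfModules.pushforward (F := Opens.map j.base) j.toRingCatSheafHom.hom

/-- `resP ⊣ pushP`. -/
noncomputable def resPAdj : resP j ⊣ pushP j := by
  refine preAdj (by exact j.isOpenEmbedding.isOpenMap.adjunction) _ _ ?_ ?_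
  · ext V x; exact congr($((j.app_appIso_inv _).symm).hom x)
  · ext V x
    have : (j.appIso V.unop).inv ≫ j.app _ ≫
      U.presheaf.map (eqToHom (j.preimage_image_eq V.unop).symm).op = 𝟙 _ := by
      rw [Scheme.Hom.appIso_inv_app_assoc, ← Functor.map_comp, ← U.presheaf.map_id]; rfl
    exact congr($this x)

/-- Restriction of sheaves and of presheaves agree. -/
noncomputable def resToP : toP ⋙ resP j ≅ Scheme.Modules.restrictFunctor j ⋙ toP := Iso.refl _

/-- Direct image of sheaves and of presheaves agree. -/
noncomputable def pushToP : toP ⋙ pushP j ≅ Scheme.Modules.pushforward j ⋙ toP := Iso.refl _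

/-- Restriction of presheaves of modules is braided monoidal. -/
@[instance_reducible]
noncomputable def braidedResP : (resP j).Braided :=
  inferInstanceAs (PresheafOfModules.pushforward₀OfCommRingCat j.opensFunctor X.sheaf.obj ⋙
    rs (alpha j)).Braided

/-- Sheafification commutes with restriction. -/
noncomputable def resSh : shP ⋙ Scheme.Modules.restrictFunctor j ≅ resP j ⋙ shP :=
  ((shAdj X).comp (Scheme.Modules.restrictAdjunction j)).leftAdjointUniq
    (((resPAdj j).comp (shAdj U)).ofNatIsoRight (pushToP j))

noncomputable instance lift : Localization.Lifting shP (WX X) (resP j ⋙ shP)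
    (Scheme.Modules.restrictFunctor j) where
  iso := resSh j

open scoped Groth.Agent.Dcoh.MonCat

/-- Restriction to an open subscheme is monoidal. -/
@[instance_reducible]
noncomputable def restrictMonoidal : (Scheme.Modules.restrictFunctor j).Monoidal :=
  letI := braidedResP j
  Localization.Monoidal.functorMonoidalOfComp shP (WX X) (Scheme.Modules.restrictFunctor j)
    (resP j ⋙ shP)

/-- Restriction to an open subscheme is braided monoidal (extending `restrictMonoidal`). -/
@[instance_reducible]
noncomputable def restrictBraided : (Scheme.Modules.restrictFunctor j).Braided :=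
  letI := braidedResP j
  functorBraidedOfComp shP (WX X) (Scheme.Modules.restrictFunctor j) (resP j ⋙ shP)

example : (restrictBraided j).toMonoidal = restrictMonoidal j := rfl

end Schemes

end Groth.Agent.Dcoh.MonRes290
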