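import Groth.Agent.PerfC.CxNat

/-!
# Projection formulas pass to complexes (abstract)

`F : A ⥤ B' ⥤ C`, `F' : A' ⥤ B ⥤ C'`, `Φ₁ : A ⥤ A'`, `Ψ : B ⥤ B'`, `Φ₃ : C ⥤ C'` and an isomorphism of
bifunctors `Φ₃ (F (a, Ψ b)) ≅ F' (Φ₁ a, b)`: the same for complexes.
-/

set_option autoImplicit false

universe v₁ v₂ v₃ v₁' v₂' v₃' u₁ u₂ u₃ u₁' u₂' u₃'

namespace Groth.Agent.Dcoh.CxProj

open CategoryTheory Category Limits HomologicalComplex

variable {A : Type u₁} [Category.{v₁} A] [Preadditive A]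
  {B : Type u₂} [Category.{v₂} B] [Preadditive B]
  {C : Type u₃} [Category.{v₃} C] [Preadditive C]
  {A' : Type u₁'} [Category.{v₁'} A'] [Preadditive A']
  {B' : Type u₂'} [Category.{v₂'} B'] [Preadditive B']
  {C' : Type u₃'} [Category.{v₃'} C'] [Preadditive C']
  (F : A ⥤ B' ⥤ C) [F.Additive] [∀ X, (F.obj X).Additive]
  (F' : A' ⥤ B ⥤ C') [F'.Additive] [∀ X, (F'.obj X).Additive]
  (Φ₁ : A ⥤ A') [Φ₁.Additive] (Ψ : B ⥤ B') [Ψ.Additive]
  (Φ₃ : C ⥤ C') [Φ₃.Additive]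
  [∀ (K₁ : CochainComplex A ℤ) (K₂ : CochainComplex B' ℤ), CochainComplex.HasMapBifunctor K₁ K₂ F]
  [∀ (K₁ : CochainComplex A' ℤ) (K₂ : CochainComplex B ℤ), CochainComplex.HasMapBifunctor K₁ K₂ F']

instance additive_whisk_obj (a : A) :
    ((F ⋙ (Functor.whiskeringLeft _ _ _).obj Ψ).obj a).Additive :=
  inferInstanceAs (Ψ ⋙ F.obj a).Additive

instance additive_whisk : (F ⋙ (Functor.whiskeringLeft _ _ _).obj Ψ).Additive where
  map_add {N N' f g} := by
    ext M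
    change (F.map (f + g)).app _ = (F.map f).app _ + (F.map g).app _
    rw [Functor.map_add]
    rfl

instance hasMapBifunctor_whisk (K₁ : CochainComplex A ℤ) (K₂ : CochainComplex B ℤ) :
    CochainComplex.HasMapBifunctor K₁ K₂ (F ⋙ (Functor.whiskeringLeft _ _ _).obj Ψ) :=
  inferInstanceAs (CochainComplex.HasMapBifunctor K₁ ((Ψ.mapHomologicalComplex (ComplexShape.up ℤ)).obj K₂) F)

/-- `F (K, Ψ L)` -/
noncomputable def whiskIso :
    (F ⋙ (Functor.whiskeringLeft _ _ _).obj Ψ).map₂CochainComplex ≅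
      F.map₂CochainComplex ⋙ (Functor.whiskeringLeft _ _ _).obj (Ψ.mapHomologicalComplex (ComplexShape.up ℤ)) :=
  NatIso.ofComponents (fun K => NatIso.ofComponents (fun L => Iso.refl _)
    (fun {L L'} g => by
      refine (Category.comp_id _).trans (Eq.trans ?_ (Category.id_comp _).symm)
      rfl))
    (fun {K K'} f => by
      ext1; ext1 L
      refine (Category.comp_id _).trans (Eq.trans ?_ (Category.id_comp _).symm)
      ext n
      refine HomologicalComplex.mapBifunctor.hom_ext (fun p q h => ?_)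
      refine (HomologicalComplex.ι_mapBifunctorMap f (𝟙 L) (F ⋙ (Functor.whiskeringLeft _ _ _).obj Ψ)
        (ComplexShape.up ℤ) p q n h).trans (Eq.trans ?_ (HomologicalComplex.ι_mapBifunctorMap f
          (𝟙 ((Ψ.mapHomologicalComplex (ComplexShape.up ℤ)).obj L)) F (ComplexShape.up ℤ) p q n h).symm)
      change (F.map (f.f p)).app (Ψ.obj (L.X q)) ≫ (F.obj (K'.X p)).map (Ψ.map (𝟙 (L.X q))) ≫ _ =
        (F.map (f.f p)).app (Ψ.obj (L.X q)) ≫ (F.obj (K'.X p)).map (𝟙 (Ψ.obj (L.X q))) ≫ _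
      rw [Ψ.map_id]
      rfl)

/-- Precomposition with the identity functor. -/
noncomputable def idIso : (Functor.whiskeringLeft _ _ (CochainComplex C' ℤ)).obj
    ((𝟭 B).mapHomologicalComplex (ComplexShape.up ℤ)) ≅ 𝟭 _ :=
  (Functor.whiskeringLeft _ _ _).mapIso (Functor.mapHomologicalComplexIdIso B (ComplexShape.up ℤ)) ≪≫
    NatIso.ofComponents (fun G => G.leftUnitor)

variable {F F' Φ₁ Ψ Φ₃}

/-- The projection formula on complexes. -/
noncomputable def projIso [∀ J : Type, PreservesColimitsOfShape (Discrete J) Φ₃]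
    (e : (F ⋙ (Functor.whiskeringLeft _ _ _).obj Ψ) ⋙ (Functor.whiskeringRight _ _ _).obj Φ₃ ≅ Φ₁ ⋙ F') :
    (F.map₂CochainComplex ⋙ (Functor.whiskeringLeft _ _ _).obj (Ψ.mapHomologicalComplex (ComplexShape.up ℤ))) ⋙
      (Functor.whiskeringRight _ _ _).obj (Φ₃.mapHomologicalComplex (ComplexShape.up ℤ)) ≅
    Φ₁.mapHomologicalComplex (ComplexShape.up ℤ) ⋙ F'.map₂CochainComplex :=
  Functor.isoWhiskerRight (whiskIso F Ψ).symm _ ≪≫
  PerfC.CxNat.natIso (Φ₂ := 𝟭 B) (e ≪≫ Functor.isoWhiskerLeft Φ₁ (Functor.isoWhiskerLeft F'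
    (NatIso.ofComponents (fun G => G.leftUnitor.symm))
      : F' ⋙ 𝟭 _ ≅ F' ⋙ (Functor.whiskeringLeft _ _ _).obj (𝟭 B))) ≪≫
  Functor.isoWhiskerLeft (Φ₁.mapHomologicalComplex (ComplexShape.up ℤ)) (Functor.isoWhiskerLeft
    F'.map₂CochainComplex idIso : F'.map₂CochainComplex ⋙ _ ≅ F'.map₂CochainComplex ⋙ 𝟭 _)

end Groth.Agent.Dcoh.CxProj
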