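import Groth.Agent.Dcoh.TensRestr
import Groth.Agent.Dcoh.CxProj
import Groth.Agent.Dcoh.StalkT
import Groth.Agent.PerfC.ExtZeroD2

/-!
# Extension by zero and tensor products

* `isKFlat_restrict`: the restriction of a K-flat complex to an open is K-flat;
* `SuppIn` is detected on stalks, is stable under `⊗`;
* `projApp j N M : j_!(N ⊗ M|_U) ⟶ j_! N ⊗ M` is an isomorphism, natural in `N` and `M`; `projNat` as an
  isomorphism of bifunctors; `projCx` the same for complexes.
-/

set_option autoImplicit false
universe u
open CategoryTheory CategoryTheory.Limits AlgebraicGeometry Opposite TopologicalSpace MonoidalCategory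

namespace Groth.Agent.Dcoh.ProjShriek

open PerfC.ExtZero TensRestr

variable {X U : Scheme.{u}} (j : U ⟶ X) [IsOpenImmersion j]

section KFlat

/-- restriction on complexes -/
noncomputable abbrev resCx : CochainComplex X.Modules ℤ ⥤ CochainComplex U.Modules ℤ :=
  (Scheme.Modules.restrictFunctor j).mapHomologicalComplex (ComplexShape.up ℤ)

/-- extension by zero on complexes -/
noncomputable abbrev shCx : CochainComplex U.Modules ℤ ⥤ CochainComplex X.Modules ℤ :=
  (jShriek j).mapHomologicalComplex (ComplexShape.up ℤ)

lemma isZero_homology_map {A B : Type*} [Category* A] [Category* B] [Abelian A] [Abelian B] (F : A ⥤ B)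
    [F.Additive] [F.PreservesHomology] (K : CochainComplex A ℤ) (i : ℤ) (h : IsZero (K.homology i)) :
    IsZero (((F.mapHomologicalComplex (ComplexShape.up ℤ)).obj K).homology i) :=
  (F.map_isZero h).of_iso ((K.sc i).mapHomologyIso F)

/-- The restriction of a K-flat complex to an open is K-flat. -/
theorem isKFlat_restrict {K : CochainComplex X.Modules ℤ} (hK : DCoh.IsKFlat K) :
    DCoh.IsKFlat ((resCx j).obj K) := by
  intro L hL i
  have h1 : ∀ i, IsZero (((shCx j).obj L).homology i) := fun i =>
    isZero_homology_map (jShriek j) L i (hL i)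
  have h2 := hK _ h1 i
  have h3 := isZero_homology_map (Scheme.Modules.restrictFunctor j) _ i h2
  have e1 : L ≅ (resCx j).obj ((shCx j).obj L) :=
    (Functor.mapHomologicalComplexIdIso U.Modules (ComplexShape.up ℤ)).symm.app L ≪≫
      (NatIso.mapHomologicalComplex (unitIso j) (ComplexShape.up ℤ)).app L
  have e2 : (DCoh.tensorCx.obj L).obj ((resCx j).obj K) ≅
      (resCx j).obj ((DCoh.tensorCx.obj ((shCx j).obj L)).obj K) :=
    (DCoh.tensorCx.mapIso e1).app _ ≪≫ (((restrCx j).app ((shCx j).obj L)).app K).symm
  exact h3.of_iso ((HomologicalComplex.homologyFunctor _ _ i).mapIso e2)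

end KFlat

section Supp

open Ega2.Tens

variable {V : X.Opens}

lemma LocZero.sum {N : X.Modules} {W : X.Opens} {n : ℕ} (s : Fin n → Γ(N, V)) (hs : ∀ i, LocZero W N V (s i)) :
    LocZero W N V (∑ i, s i) := by
  classical
  have key : ∀ t : Finset (Fin n), LocZero W N V (∑ i ∈ t, s i) := by
    intro t
    induction t using Finset.induction_on with
    | empty => rw [Finset.sum_empty]; exact LocZero.zero N V
    | insert a t ha ih => rw [Finset.sum_insert ha]; exact (hs a).add ih
  exact key _

lemma LocZero.tmul {A : X.Modules} {W : X.Opens} {s : Γ(A, V)} (hs : LocZero W A V s) (M : X.Modules)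
    (m : Γ(M, V)) : LocZero W (CohB1.tensorMod A M) V (tmul s m) := by
  intro x hx hxW
  obtain ⟨W', h, hxW', e⟩ := hs x hx hxW
  refine ⟨W', h, hxW', ?_⟩
  rw [tmul_res (M := A) (N := M) (homOfLE h) s m, e, zero_tmul]

/-- The tensor product of a module supported in an open with any module is supported in the open. -/
lemma suppIn_tensor {A : X.Modules} {W : X.Opens} (hA : SuppIn W A) (M : X.Modules) :
    SuppIn W (CohB1.tensorMod A M) := by
  intro V t x hx hxW
  obtain ⟨V', i, hxV', n, a, m, e⟩ := exists_sum_tmul t hx
  have h1 : LocZero W (CohB1.tensorMod A M) V' (∑ i, tmul (a i) (m i)) :=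
    LocZero.sum _ (fun i => LocZero.tmul (hA V' (a i)) M (m i))
  obtain ⟨W', h, hxW', e'⟩ := h1 x hxV' hxW
  refine ⟨W', h.trans (leOfHom i), hxW', ?_⟩
  rw [← e] at e'
  rw [← e']
  exact (res_res (M := CohB1.tensorMod A M) i (homOfLE h) t).symm

lemma isIso_inclT (A : X.Modules) (hA : SuppIn j.opensRange A) : IsIso (inclT j A) := by
  rw [Scheme.Modules.Hom.isIso_iff_isIso_app]
  intro V
  rw [ConcreteCategory.isIso_iff_bijective]
  exact ⟨incl_app_injective _ _ _, fun s => exists_incl_app _ (hA V s)⟩

lemma isIso_counit_app (A : X.Modules) (hA : SuppIn j.opensRange A) : IsIso ((adj j).counit.app A) := by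
  have := isIso_inclT j A hA
  change IsIso (inv (tEta j A) ≫ inclT j A)
  infer_instance

/-- Isomorphisms between modules supported in an open are detected on the open. -/
lemma isIso_of_suppIn {A B : X.Modules} (φ : A ⟶ B) (hA : SuppIn j.opensRange A) (hB : SuppIn j.opensRange B)
    (h : IsIso ((Scheme.Modules.restrictFunctor j).map φ)) : IsIso φ := by
  have h1 := isIso_counit_app j A hA
  have h2 := isIso_counit_app j B hB
  have e := (adj j).counit.naturality φ
  have h3 : IsIso ((adj j).counit.app A ≫ φ) := by
    change IsIso ((adj j).counit.app A ≫ (𝟭 _).map φ)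
    rw [← e]
    change IsIso ((jShriek j).map ((Scheme.Modules.restrictFunctor j).map φ) ≫ (adj j).counit.app B)
    infer_instance
  exact IsIso.of_isIso_comp_left ((adj j).counit.app A) φ

end Supp

section Proj

/-- The projection morphism `j_!(N ⊗ M|_U) ⟶ j_! N ⊗ M`. -/
noncomputable def projApp (N : U.Modules) (M : X.Modules) :
    (jShriek j).obj ((DCoh.tensorBi.obj N).obj ((Scheme.Modules.restrictFunctor j).obj M)) ⟶
      (DCoh.tensorBi.obj ((jShriek j).obj N)).obj M :=
  ((adj j).homEquiv _ _).symm ((DCoh.tensorBi.map ((adj j).unit.app N)).app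
    ((Scheme.Modules.restrictFunctor j).obj M) ≫ (restrApp j ((jShriek j).obj N) M).hom)

lemma homEquiv_projApp (N : U.Modules) (M : X.Modules) :
    (adj j).homEquiv _ _ (projApp j N M) = (DCoh.tensorBi.map ((adj j).unit.app N)).app
    ((Scheme.Modules.restrictFunctor j).obj M) ≫ (restrApp j ((jShriek j).obj N) M).hom :=
  Equiv.apply_symm_apply _ _

instance isIso_projApp (N : U.Modules) (M : X.Modules) : IsIso (projApp j N M) := by
  refine isIso_of_suppIn j _ (suppIn_jShriek j _) (suppIn_tensor (suppIn_jShriek j N) M) ?_
  have h := homEquiv_projApp j N M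
  rw [Adjunction.homEquiv_unit] at h
  have h1 : IsIso ((adj j).unit.app ((DCoh.tensorBi.obj N).obj ((Scheme.Modules.restrictFunctor j).obj M)) ≫
    (Scheme.Modules.restrictFunctor j).map (projApp j N M)) := by
    rw [h]
    infer_instance
  exact IsIso.of_isIso_comp_left ((adj j).unit.app _) _

lemma projApp_naturality_left {N N' : U.Modules} (f : N ⟶ N') (M : X.Modules) :
    (jShriek j).map ((DCoh.tensorBi.map f).app ((Scheme.Modules.restrictFunctor j).obj M)) ≫ projApp j N' M =
      projApp j N M ≫ (DCoh.tensorBi.map ((jShriek j).map f)).app M := by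
  apply ((adj j).homEquiv _ _).injective
  rw [Adjunction.homEquiv_naturality_left, Adjunction.homEquiv_naturality_right, homEquiv_projApp,
    homEquiv_projApp, Category.assoc]
  have h1 := fwd_naturality_left j ((jShriek j).map f) M
  have h2 := (adj j).unit.naturality f
  have h3 : (DCoh.tensorBi.map f).app ((Scheme.Modules.restrictFunctor j).obj M) ≫
      (DCoh.tensorBi.map ((adj j).unit.app N')).app ((Scheme.Modules.restrictFunctor j).obj M) =
      (DCoh.tensorBi.map ((adj j).unit.app N)).app ((Scheme.Modules.restrictFunctor j).obj M) ≫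
        (DCoh.tensorBi.map ((Scheme.Modules.restrictFunctor j).map ((jShriek j).map f))).app
          ((Scheme.Modules.restrictFunctor j).obj M) := by
    rw [← NatTrans.comp_app, ← NatTrans.comp_app, ← Functor.map_comp, ← Functor.map_comp]
    exact congrArg (fun t => (DCoh.tensorBi.map t).app ((Scheme.Modules.restrictFunctor j).obj M)) h2
  rw [reassoc_of% h3]
  congr 1

lemma projApp_naturality_right (N : U.Modules) {M M' : X.Modules} (g : M ⟶ M') :
    (jShriek j).map ((DCoh.tensorBi.obj N).map ((Scheme.Modules.restrictFunctor j).map g)) ≫ projApp j N M' =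
      projApp j N M ≫ (DCoh.tensorBi.obj ((jShriek j).obj N)).map g := by
  apply ((adj j).homEquiv _ _).injective
  rw [Adjunction.homEquiv_naturality_left, Adjunction.homEquiv_naturality_right, homEquiv_projApp,
    homEquiv_projApp, Category.assoc]
  have h1 := fwd_naturality_right j ((jShriek j).obj N) g
  have h2 : (DCoh.tensorBi.obj N).map ((Scheme.Modules.restrictFunctor j).map g) ≫
      (DCoh.tensorBi.map ((adj j).unit.app N)).app ((Scheme.Modules.restrictFunctor j).obj M') =
      (DCoh.tensorBi.map ((adj j).unit.app N)).app ((Scheme.Modules.restrictFunctor j).obj M) ≫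
        (DCoh.tensorBi.obj ((Scheme.Modules.restrictFunctor j).obj ((jShriek j).obj N))).map
          ((Scheme.Modules.restrictFunctor j).map g) :=
    (DCoh.tensorBi.map ((adj j).unit.app N)).naturality _
  rw [reassoc_of% h2]
  congr 1

/-- The projection formula for `j_!`, as an isomorphism of bifunctors. -/
noncomputable def projNat :
    (DCoh.tensorBi (X := U) ⋙ (Functor.whiskeringLeft _ _ _).obj (Scheme.Modules.restrictFunctor j)) ⋙
      (Functor.whiskeringRight _ _ _).obj (jShriek j) ≅
    jShriek j ⋙ DCoh.tensorBi (X := X) :=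
  NatIso.ofComponents (fun N => NatIso.ofComponents (fun M => asIso (projApp j N M))
    (fun {M M'} g => projApp_naturality_right j N g))
    (fun {N N'} f => by
      ext1; ext1 M
      exact projApp_naturality_left j f M)

/-- The projection formula for `j_!` on complexes, as an isomorphism of bifunctors. -/
noncomputable def projCx :
    (DCoh.tensorCx (X := U) ⋙ (Functor.whiskeringLeft _ _ _).obj (resCx j)) ⋙
      (Functor.whiskeringRight _ _ _).obj (shCx j) ≅
    shCx j ⋙ DCoh.tensorCx (X := X) :=
  CxProj.projIso (projNat j)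

end Proj

end Groth.Agent.Dcoh.ProjShriek
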