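import Groth.Agent.Dcoh.ModD
import Groth.Agent.Dcoh.MonMapD
import Groth.Agent.Dcoh.MonMap
import Groth.Agent.Dcoh.MonRes290
import Groth.Agent.Dcoh.ProjShriek
import Groth.Agent.Dcoh.DualLoc

/-!
# Restriction `D(O_X) ⥤ D(O_U)` is monoidal and `j_!` satisfies the projection formula

* `resCxMonoidal j`, `restrictDMonoidal j`;
* `isIso_proj`: for `N : D(O_U)` and `K : D(O_X)`, `j_!(N ⊗ᴸ K|_U) ⟶ j_! N ⊗ᴸ K` is an isomorphism.
-/

set_option autoImplicit false
universe u

open CategoryTheory CategoryTheory.Limits AlgebraicGeometry MonoidalCategory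
attribute [local instance] HasDerivedCategory.standard

open scoped Groth.Agent.Dcoh.MonCat Groth.Agent.Dcoh.ModD

namespace Groth.Agent.Dcoh.ProjShriekD

open PerfA.Restrict PerfC.Supp PerfC.ExtZeroD PerfC.ExtZero ProjShriek MonCx MonD ModD

variable {X U : Scheme.{u}} (j : U ⟶ X) [IsOpenImmersion j]

instance preservesColimitsOfSize_restrict : PreservesColimitsOfSize.{0, 0} (Scheme.Modules.restrictFunctor j) :=
  inferInstance

/-- Restriction of complexes is monoidal. -/
@[instance_reducible]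
noncomputable def resCxMonoidal : (resCx j).Monoidal :=
  letI := MonRes290.restrictMonoidal j
  MonMap.mapCxMonoidal (Scheme.Modules.restrictFunctor j)

/-- Restriction `D(O_X) ⥤ D(O_U)` is monoidal. -/
@[instance_reducible]
noncomputable def restrictDMonoidal : (restrictD j).Monoidal :=
  letI := resCxMonoidal j
  MonMapD.mapDMonoidal (KF X) (KF U) (Scheme.Modules.restrictFunctor j) (fun _ hK => isKFlat_restrict j hK)

/-- `j_! N ⊗ K` is supported in `U`. -/
lemma supp_tensor_subset_range (N : DCoh.D U) (K : DCoh.D X) (i : ℤ) :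
    supp (((shriekD j).obj N) ⊗ K) i ⊆ Set.range j := by
  obtain ⟨N₀, ⟨eN⟩⟩ := exists_rep U N
  obtain ⟨K₀, ⟨eK⟩⟩ := exists_rep X K
  obtain ⟨P, q, hP, hq⟩ := KF_res (X := X) K₀
  have e0 : DerivedCategory.Q.obj P ≅ K := (@asIso _ _ _ _ (DerivedCategory.Q.map q) inferInstance) ≪≫ eK
  have e1 : (shriekD j).obj N ≅ DerivedCategory.Q.obj ((shCx j).obj N₀) :=
    (shriekD j).mapIso eN.symm ≪≫ (jShriek j).mapDerivedCategoryFactors.app N₀
  have e2 : ((shriekD j).obj N) ⊗ K ≅ DerivedCategory.Q.obj ((shCx j).obj N₀ ⊗ P) :=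
    (e1 ⊗ᵢ e0.symm) ≪≫ (μR P hP).app _
  have e3 : (shCx j).obj N₀ ⊗ P ≅ (shCx j).obj ((DCoh.tensorCx.obj N₀).obj ((resCx j).obj P)) :=
    (((projCx j).app N₀).app P).symm
  have e4 : ((shriekD j).obj N) ⊗ K ≅
      (shriekD j).obj (DerivedCategory.Q.obj ((DCoh.tensorCx.obj N₀).obj ((resCx j).obj P))) :=
    e2 ≪≫ DerivedCategory.Q.mapIso e3 ≪≫ ((jShriek j).mapDerivedCategoryFactors.app _).symm
  rw [supp_congr e4]
  exact supp_shriekD_subset_range j _ i

open Functor.LaxMonoidal in
/-- The projection formula for `j_!` in the derived category. -/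
theorem isIso_proj (K : DCoh.D X) :
    letI := restrictDMonoidal j
    IsIso (DualLoc.proj (restrictD j) (PerfC.ExtZeroD.adjunction j) K) := by
  let _ := restrictDMonoidal j
  have key : ∀ N : DCoh.D U, IsIso ((DualLoc.proj (restrictD j) (PerfC.ExtZeroD.adjunction j) K).app N) := by
    intro N
    refine isIso_of_supp (j := j) _ (fun i => supp_shriekD_subset_range j _ i)
      (fun i => supp_tensor_subset_range j N K i) ?_
    let η := (PerfC.ExtZeroD.adjunction j).unit.app (N ⊗ (restrictD j).obj K)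
    let φ := (DualLoc.proj (restrictD j) (PerfC.ExtZeroD.adjunction j) K).app N
    have h : η ≫ (restrictD j).map φ = (PerfC.ExtZeroD.adjunction j).unit.app N ▷ (restrictD j).obj K ≫
          μ (restrictD j) ((shriekD j).obj N) K :=
      (Adjunction.homEquiv_unit (PerfC.ExtZeroD.adjunction j) _ _ φ).symm.trans (Equiv.apply_symm_apply _ _)
    have h1 : IsIso (η ≫ (restrictD j).map φ) := by
      rw [h]
      infer_instance
    have h2 : IsIso η := inferInstance
    exact IsIso.of_isIso_comp_left η ((restrictD j).map φ)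
  exact NatIso.isIso_of_isIso_app _

end Groth.Agent.Dcoh.ProjShriekD
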