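import Groth.Agent.Dcoh.ModTens
import Groth.Agent.Dcoh.DualLoc
import Groth.Agent.Dcoh.DualPerf
import Groth.Agent.Dcoh.ProjShriekD
import Groth.Agent.Dcoh.Spread
import Groth.Agent.Dcoh.MonSymm293

/-!
# Perfect objects of `D(O_X)` are dualizable
-/

set_option autoImplicit false

universe u

open CategoryTheory Limits MonoidalCategory AlgebraicGeometry
attribute [local instance] HasDerivedCategory.standard

open scoped Groth.Agent.Dcoh.MonCat Groth.Agent.Dcoh.ModD

namespace Groth.Agent.Dcoh.DualX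

open Groth.Agent.Dcoh.MonCx Groth.Agent.Dcoh.MonD Groth.Agent.Dcoh.ModD Groth.Agent.Dcoh.LocalFree

variable {X : Scheme.{u}}

lemma KF_of_free (E : CochainComplex X.Modules ℤ) (a b : ℤ) (hE : DCoh.VanishesOutside E a b)
    (hF : ∀ i, LocalFree.IsFree (E.X i)) : KF X E := by
  have : E.IsStrictlyLE b := by
    rw [CochainComplex.isStrictlyLE_iff]
    exact fun i hi => hE i (Or.inr hi)
  exact KFlatMod.isKFlat_of_isStrictlyLE E b (fun n =>
    Spread.isFlat_of_isFinLocFree (isFinLocFree_of_isFree (hF n)))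

/-- Locally a perfect object has a perfect dual. -/
lemma exists_pairing_of_freePerf {K : DCoh.D X} (hK : FreePerf X K) :
    ∃ Y : DCoh.D X, Nonempty (ExactPairing K Y) ∧ FreePerf X Y :=
  DualPerf.exists_pairing_of_freePerf (KF X) KF_of_free hK

lemma jointly (V : X → X.Opens) (hV : ∀ x, x ∈ V x) :
    JointlyReflectIsomorphisms (fun x : X => DCoh.restrictD (V x).ι) :=
  ⟨fun φ h => PerfA.Restrict.isIso_of_restrictD_opens φ (fun x => ⟨V x, hV x, h x⟩)⟩

/-- For `K` perfect, `M ⊗ R(1) ⟶ R(M)` is an isomorphism for the right adjoint `R` of `- ⊗ K`. -/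
theorem isIso_comp {K : DCoh.D X} (hK : DCoh.IsPerfect K) {R : DCoh.D X ⥤ DCoh.D X}
    (adj : tensorRight K ⊣ R) (M : DCoh.D X) : IsIso (DualLoc.comp adj M) := by
  rw [isPerfect_iff_locally_freePerf] at hK
  choose V hxV hV using hK
  let hm := fun x : X => ProjShriekD.restrictDMonoidal (V x).ι
  have := fun x : X => ProjShriekD.isIso_proj (V x).ι K
  exact DualLoc.isIso_comp (fun x : X => DCoh.D (V x)) (fun x => DCoh.restrictD (V x).ι) (jointly V hxV)
    (fun x => PerfC.ExtZeroD.shriekD (V x).ι) (fun x => PerfC.ExtZeroD.adjunction (V x).ι) adj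
    (fun x => by
      obtain ⟨Y, h, _⟩ := exists_pairing_of_freePerf (hV x)
      exact ⟨Y, h⟩) M

/-- A perfect object is dualizable, with dual `R(1)`. -/
@[instance_reducible]
noncomputable def exactPairing {K : DCoh.D X} (hK : DCoh.IsPerfect K) {R : DCoh.D X ⥤ DCoh.D X}
    (adj : tensorRight K ⊣ R) : ExactPairing K (R.obj (𝟙_ (DCoh.D X))) :=
  have := isIso_comp hK adj K
  have := isIso_comp hK adj (𝟙_ (DCoh.D X))
  DualLoc.exactPairing adj

/-- The dual of a perfect object is perfect. -/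
theorem isPerfect_dual {K : DCoh.D X} (hK : DCoh.IsPerfect K) {R : DCoh.D X ⥤ DCoh.D X}
    (adj : tensorRight K ⊣ R) : DCoh.IsPerfect (R.obj (𝟙_ (DCoh.D X))) := by
  rw [isPerfect_iff_locally_freePerf] at hK ⊢
  intro x
  obtain ⟨V, hxV, hV⟩ := hK x
  refine ⟨V, hxV, ?_⟩
  let hm := ProjShriekD.restrictDMonoidal V.ι
  have := ProjShriekD.isIso_proj V.ι K
  obtain ⟨Y, ⟨h⟩, hY⟩ := exists_pairing_of_freePerf hV
  exact isStable_freePerf.iso (asIso (DualLoc.thetaUnit (DCoh.restrictD V.ι) (PerfC.ExtZeroD.adjunction V.ι) adj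
    (Y := Y))).symm hY

variable (X) in
/-- The unit of `D(O_X)` is `O_X` in degree `0`. -/
noncomputable def unitIso : (DerivedCategory.singleFunctor X.Modules 0).obj (Coh.structureModule X) ≅ 𝟙_ (DCoh.D X) :=
  (DerivedCategory.singleFunctorIsoCompQ X.Modules 0).app (Coh.structureModule X)

/-- S0965. -/
theorem dual_perfect_complex (K : CochainComplex X.Modules ℤ)
    (hKp : DCoh.IsPerfect (DerivedCategory.Q.obj K)) [DCoh.HasLTensorCx K] [DCoh.HasRSheafHom K] :
    DCoh.IsPerfect ((DCoh.RSheafHom K).obj ((DerivedCategory.singleFunctor X.Modules 0).obj (Coh.structureModule X))) ∧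
    ∀ (D : CochainComplex X.Modules ℤ),
      Nonempty (DerivedCategory.Q.obj D ≅
        (DCoh.RSheafHom K).obj ((DerivedCategory.singleFunctor X.Modules 0).obj (Coh.structureModule X))) →
      ∀ [DCoh.HasLTensorCx D] (M : DCoh.D X),
        Nonempty ((DCoh.LTensorCx D).obj M ≅ (DCoh.RSheafHom K).obj M) := by
  have e := (DCoh.RSheafHom K).mapIso (unitIso X)
  refine ⟨LocalD.isPerfect_of_iso e.symm (isPerfect_dual hKp (ModTens.adjQ K)), ?_⟩
  rintro D ⟨eD⟩ _ M
  have h := isIso_comp hKp (ModTens.adjQ K) M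
  exact ⟨(ModTens.LTensorCxIso D).app M ≪≫ whiskerLeftIso M (eD ≪≫ e) ≪≫
    asIso (DualLoc.comp (ModTens.adjQ K) M)⟩

/-- S0967. -/
theorem evaluation (K L : CochainComplex X.Modules ℤ)
    (hKp : DCoh.IsPerfect (DerivedCategory.Q.obj K))
    [DCoh.HasLTensorCx K] [DCoh.HasRSheafHom K] [DCoh.HasLTensorCx L] [DCoh.HasRSheafHom L]
    (D : CochainComplex X.Modules ℤ)
    (hDrep : Nonempty (DerivedCategory.Q.obj D ≅ (DCoh.RSheafHom K).obj (DerivedCategory.Q.obj L)))
    [DCoh.HasLTensorCx D] [DCoh.HasRSheafHom D] (M : DCoh.D X) :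
    Nonempty ((DCoh.LTensorCx K).obj ((DCoh.RSheafHom L).obj M) ≅ (DCoh.RSheafHom D).obj M) := by
  let hp := exactPairing hKp (ModTens.adjQ K)
  obtain ⟨e⟩ := MonSymm293.nonempty_eval' MonSymm293.weakSymm
    ((DCoh.RSheafHom K).obj (𝟙_ (DCoh.D X))) (K := DerivedCategory.Q.obj K) (L := DerivedCategory.Q.obj L)
    (D := DerivedCategory.Q.obj D)
    ⟨ModTens.LTensorCxIso K⟩ ⟨ModTens.LTensorCxIso L⟩ ⟨ModTens.LTensorCxIso D⟩ (DCoh.RSheafHomAdj K)
    (DCoh.RSheafHomAdj L) (DCoh.RSheafHomAdj D) hDrep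
  exact ⟨e.app M⟩

end Groth.Agent.Dcoh.DualX
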