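import Groth.Agent.Dcoh.MonLpull182
import Groth.Agent.Dcoh.MonPull292
import Groth.Agent.Dcoh.MonDer
import Groth.Agent.Dcoh.DerSch
import Groth.Agent.Dcoh.MonAdj

/-!
# Projection formula for a dualizable object of `D(O_Y)` (Stacks 0B54)
-/

set_option autoImplicit false

universe u

open CategoryTheory Limits MonoidalCategory AlgebraicGeometry

attribute [local instance] HasDerivedCategory.standard

open scoped Groth.Agent.Dcoh.MonCat Groth.Agent.Dcoh.ModD

namespace Groth.Agent.Dcoh.ProjD182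

open Groth.Agent.Dcoh.MonCx Groth.Agent.Dcoh.MonD Groth.Agent.Dcoh.ModD

/-- `- ⊗^L E` is `- ⊗ Q E` for the monoidal structure on `D(O_X)`. -/
noncomputable def tensorIso {X : Scheme.{u}} (E : CochainComplex X.Modules ℤ) [DCoh.HasLTensorCx E] :
    DCoh.LTensorCx E ≅ tensorRight (DerivedCategory.Q.obj E) :=
  MonDer.derivedIso (KF X) E (DCoh.tensorCxQ E) (Iso.refl _) (DCoh.LTensorCx E)
    ((DCoh.tensorCxQ E).totalLeftDerivedCounit DerivedCategory.Q
      (HomologicalComplex.quasiIso X.Modules (ComplexShape.up ℤ)))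

variable {X Y : Scheme.{u}} (f : X ⟶ Y)

/-- Projection formula for a K-flat complex `P` such that `Q P` is dualizable. -/
theorem nonempty_projection [DCoh.HasRpush f] (hX : ∀ Z : DCoh.D X, Nonempty (tensorLeft Z ≅ tensorRight Z))
    (hY : ∀ Z : DCoh.D Y, Nonempty (tensorLeft Z ≅ tensorRight Z)) (P : CochainComplex Y.Modules ℤ)
    (hP : DCoh.IsKFlat P) (P' : DCoh.D Y) [ExactPairing (DerivedCategory.Q.obj P : DCoh.D Y) P']
    [DCoh.HasLTensorCx P]
    [DCoh.HasLTensorCx (((Scheme.Modules.pullback f).mapHomologicalComplex (ComplexShape.up ℤ)).obj P)] :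
    Nonempty (DCoh.Rpush f ⋙ DCoh.LTensorCx P ≅
      DCoh.LTensorCx (((Scheme.Modules.pullback f).mapHomologicalComplex (ComplexShape.up ℤ)).obj P) ⋙
        DCoh.Rpush f) := by
  have := DerPull.hasLpull f
  let _ := MonPull.monPull f
  let _ := MonLpull182.lpullMonoidal f
  obtain ⟨e⟩ := MonLpull182.nonempty_proj hY hX (DCoh.Lpull f) (DCoh.Rpush f) (DerPull.lpullAdj f)
    (DerivedCategory.Q.obj P) P'
  refine ⟨Functor.isoWhiskerLeft _ (tensorIso P) ≪≫ e ≪≫ Functor.isoWhiskerRight ?_ _⟩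
  exact MonAdj.tensorRightIso (DerPull.lpullIso f P hP) ≪≫ (tensorIso _).symm

end Groth.Agent.Dcoh.ProjD182
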