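import Groth.Agent.PerfB.ResolveDerivedCx
import Mathlib.Algebra.Homology.DerivedCategory.HomologySequence
import Mathlib.Algebra.Homology.DerivedCategory.Fractions

/-!
# Left derived functors on derived categories computed by a class of adapted complexes

`F : A ⥤ B` an additive functor between abelian categories, `P` a class of complexes in `A` such that every
complex is quasi-isomorphic to one in `P`, `F` preserves quasi-isomorphisms between complexes in `P`, and `P` is closed
under mapping cones (`Adapted F P`).  Then the total left derived functor of `K(F)` exists, is computed by complexes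
in `P`, and sends distinguished triangles to distinguished triangles (in the weak form `exists_triangle`, which suffices
for the vanishing statements `isZero₁`, `isZero₂`, `isZero₃`).
-/

universe w₁ w₂ v₁ v₂ u₁ u₂

open CategoryTheory Limits Pretriangulated

namespace Groth.Agent.Dcoh.LDer

open Groth.Agent.PerfB.ResolveDerivedCx

variable {A : Type u₁} [Category.{v₁} A] [Abelian A] {B : Type u₂} [Category.{v₂} B] [Abelian B]
  (F : A ⥤ B) [F.Additive]

/-- Complexes in `P` are adapted to `F`. -/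
structure Adapted (P : ObjectProperty (CochainComplex A ℤ)) : Prop where
  exists_res : ∀ K : CochainComplex A ℤ, ∃ (K' : CochainComplex A ℤ) (w : K' ⟶ K), P K' ∧ QuasiIso w
  inverts : ∀ ⦃K L : CochainComplex A ℤ⦄ (f : K ⟶ L), P K → P L → QuasiIso f →
    QuasiIso ((F.mapHomologicalComplex (ComplexShape.up ℤ)).map f)
  cone : ∀ ⦃K L : CochainComplex A ℤ⦄ (f : K ⟶ L), P K → P L → P (CochainComplex.mappingCone f)

variable [HasDerivedCategory.{w₂} B]

/-- The functor `K(A) ⥤ D(B)` induced by `F`. -/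
noncomputable abbrev Fh : HomotopyCategory A (ComplexShape.up ℤ) ⥤ DerivedCategory B :=
  F.mapHomotopyCategory (ComplexShape.up ℤ) ⋙ DerivedCategory.Qh

/-- `Fh` on the image of a complex. -/
noncomputable def FhIso (K : CochainComplex A ℤ) :
    (Fh F).obj ((HomotopyCategory.quotient A (ComplexShape.up ℤ)).obj K) ≅
      DerivedCategory.Q.obj ((F.mapHomologicalComplex (ComplexShape.up ℤ)).obj K) :=
  DerivedCategory.Qh.mapIso ((F.mapHomotopyCategoryFactors (ComplexShape.up ℤ)).app K) ≪≫
    (DerivedCategory.quotientCompQhIso B).app _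

@[reassoc]
lemma FhIso_naturality {K L : CochainComplex A ℤ} (f : K ⟶ L) :
    (Fh F).map ((HomotopyCategory.quotient A (ComplexShape.up ℤ)).map f) ≫ (FhIso F L).hom =
      (FhIso F K).hom ≫ DerivedCategory.Q.map ((F.mapHomologicalComplex (ComplexShape.up ℤ)).map f) := by
  have h1 := (F.mapHomotopyCategoryFactors (ComplexShape.up ℤ)).hom.naturality f
  have h2 := (DerivedCategory.quotientCompQhIso B).hom.naturality
    ((F.mapHomologicalComplex (ComplexShape.up ℤ)).map f)
  dsimp [FhIso] at h1 h2 ⊢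
  rw [Category.assoc, ← h2, ← Functor.map_comp_assoc, h1, Functor.map_comp_assoc]

variable {F} {P : ObjectProperty (CochainComplex A ℤ)} (hP : Adapted F P)

include hP

lemma isIso_Fh_map ⦃K L : CochainComplex A ℤ⦄ (f : K ⟶ L) (hK : P K) (hL : P L) (hf : QuasiIso f) :
    IsIso ((Fh F).map ((HomotopyCategory.quotient A (ComplexShape.up ℤ)).map f)) := by
  have h1 := FhIso_naturality F f
  have := hP.inverts f hK hL hf
  have h2 : (Fh F).map ((HomotopyCategory.quotient A (ComplexShape.up ℤ)).map f) =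
      (FhIso F K).hom ≫ DerivedCategory.Q.map ((F.mapHomologicalComplex (ComplexShape.up ℤ)).map f) ≫
        (FhIso F L).inv := by
    rw [← Category.assoc, ← h1, Category.assoc, Iso.hom_inv_id, Category.comp_id]
  rw [h2]
  infer_instance

theorem hasLeftDerivedFunctor :
    (Fh F).HasLeftDerivedFunctor (HomotopyCategory.quasiIso A (ComplexShape.up ℤ)) :=
  hasLeftDerivedFunctor_of_complexes (Fh F) P hP.exists_res (isIso_Fh_map hP)

variable [HasDerivedCategory.{w₁} A] (LF : DerivedCategory A ⥤ DerivedCategory B) (α : DerivedCategory.Qh ⋙ LF ⟶ Fh F)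
  [LF.IsLeftDerivedFunctor α (HomotopyCategory.quasiIso A (ComplexShape.up ℤ))]

/-- The counit is an isomorphism on `P`. -/
theorem isIso_app {K : CochainComplex A ℤ} (hK : P K) :
    IsIso (α.app ((HomotopyCategory.quotient A (ComplexShape.up ℤ)).obj K)) :=
  isIso_leftDerivedCounit (Fh F) P hP.exists_res (isIso_Fh_map hP) LF α hK

omit hP [LF.IsLeftDerivedFunctor α (HomotopyCategory.quasiIso A (ComplexShape.up ℤ))] in
/-- the counit in terms of complexes -/
noncomputable def counitQ (K : CochainComplex A ℤ) :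
    LF.obj (DerivedCategory.Q.obj K) ⟶
      DerivedCategory.Q.obj ((F.mapHomologicalComplex (ComplexShape.up ℤ)).obj K) :=
  LF.map ((DerivedCategory.quotientCompQhIso A).inv.app K) ≫ α.app _ ≫ (FhIso F K).hom

omit hP [LF.IsLeftDerivedFunctor α (HomotopyCategory.quasiIso A (ComplexShape.up ℤ))] in
@[reassoc]
lemma counitQ_naturality {K L : CochainComplex A ℤ} (f : K ⟶ L) :
    LF.map (DerivedCategory.Q.map f) ≫ counitQ LF α L =
      counitQ LF α K ≫ DerivedCategory.Q.map ((F.mapHomologicalComplex (ComplexShape.up ℤ)).map f) := by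
  have h1 := (DerivedCategory.quotientCompQhIso A).inv.naturality f
  have h2 := α.naturality ((HomotopyCategory.quotient A (ComplexShape.up ℤ)).map f)
  have h3 := FhIso_naturality F f
  dsimp [counitQ] at h1 h2 h3 ⊢
  simp only [Category.assoc]
  rw [← Functor.map_comp_assoc, h1, Functor.map_comp_assoc, reassoc_of% h2, h3]

theorem isIso_counitQ {K : CochainComplex A ℤ} (hK : P K) : IsIso (counitQ LF α K) := by
  have := isIso_app hP LF α hK
  dsimp only [counitQ]
  infer_instance

/-- The derived functor on complexes in `P`. -/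
noncomputable def isoQ {K : CochainComplex A ℤ} (hK : P K) :
    LF.obj (DerivedCategory.Q.obj K) ≅
      DerivedCategory.Q.obj ((F.mapHomologicalComplex (ComplexShape.up ℤ)).obj K) :=
  have := isIso_counitQ hP LF α hK
  asIso (counitQ LF α K)

@[simp]
lemma isoQ_hom {K : CochainComplex A ℤ} (hK : P K) : (isoQ hP LF α hK).hom = counitQ LF α K := rfl

/-- Cohomology of the derived functor on complexes in `P`. -/
noncomputable def homologyIso {K : CochainComplex A ℤ} (hK : P K) (n : ℤ) :
    (DerivedCategory.homologyFunctor B n).obj (LF.obj (DerivedCategory.Q.obj K)) ≅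
      ((F.mapHomologicalComplex (ComplexShape.up ℤ)).obj K).homology n :=
  (DerivedCategory.homologyFunctor B n).mapIso (isoQ hP LF α hK) ≪≫
    (DerivedCategory.homologyFunctorFactors B n).app _

omit LF α [HasDerivedCategory B] [LF.IsLeftDerivedFunctor α (HomotopyCategory.quasiIso A (ComplexShape.up ℤ))] in
/-- Every object of `D(A)` is represented by a complex in `P`. -/
lemma exists_iso (K : DerivedCategory A) :
    ∃ (K' : CochainComplex A ℤ), P K' ∧ Nonempty (DerivedCategory.Q.obj K' ≅ K) := by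
  obtain ⟨K', w, h1, h2⟩ := hP.exists_res (DerivedCategory.Q.objPreimage K)
  exact ⟨K', h1, ⟨asIso (DerivedCategory.Q.map w) ≪≫ DerivedCategory.Q.objObjPreimageIso K⟩⟩

omit LF α [HasDerivedCategory B] [LF.IsLeftDerivedFunctor α (HomotopyCategory.quasiIso A (ComplexShape.up ℤ))] in
/-- Every morphism in `D(A)` is represented by a morphism of complexes in `P`, where the target
may be prescribed. -/
lemma exists_map {K L : DerivedCategory A} (f : K ⟶ L) (L' : CochainComplex A ℤ)
    (eL : DerivedCategory.Q.obj L' ≅ L) :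
    ∃ (K' : CochainComplex A ℤ) (f' : K' ⟶ L') (eK : DerivedCategory.Q.obj K' ≅ K), P K' ∧
      eK.hom ≫ f = DerivedCategory.Q.map f' ≫ eL.hom := by
  obtain ⟨K₀, hK₀, ⟨e₀⟩⟩ := exists_iso hP K
  obtain ⟨K₁, s, hs, g, hg⟩ := DerivedCategory.right_fac (e₀.hom ≫ f ≫ eL.inv)
  obtain ⟨K₂, w, hK₂, hw⟩ := hP.exists_res K₁
  have : IsIso (DerivedCategory.Q.map (w ≫ s)) := by rw [Functor.map_comp]; infer_instance
  refine ⟨K₂, w ≫ g, asIso (DerivedCategory.Q.map (w ≫ s)) ≪≫ e₀, hK₂, ?_⟩
  have h : e₀.hom ≫ f = (inv (DerivedCategory.Q.map s) ≫ DerivedCategory.Q.map g) ≫ eL.hom := by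
    rw [← hg]; simp
  simp only [Iso.trans_hom, asIso_hom, Category.assoc]
  rw [h, Functor.map_comp, Functor.map_comp]
  simp

omit LF α [HasDerivedCategory B] [LF.IsLeftDerivedFunctor α (HomotopyCategory.quasiIso A (ComplexShape.up ℤ))] in
/-- Every distinguished triangle is the image of the triangle of the mapping cone of a morphism of complexes in `P`. -/
lemma exists_cone (T : Triangle (DerivedCategory A)) (hT : T ∈ distinguishedTriangles) :
    ∃ (K L : CochainComplex A ℤ) (f : K ⟶ L), P K ∧ P L ∧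
      ∃ (e₁ : DerivedCategory.Q.obj K ≅ T.obj₁) (e₂ : DerivedCategory.Q.obj L ≅ T.obj₂)
        (e₃ : DerivedCategory.Q.obj (CochainComplex.mappingCone f) ≅ T.obj₃),
        DerivedCategory.Q.map f ≫ e₂.hom = e₁.hom ≫ T.mor₁ ∧
        DerivedCategory.Q.map (CochainComplex.mappingCone.inr f) ≫ e₃.hom = e₂.hom ≫ T.mor₂ := by
  obtain ⟨L, hL, ⟨eL⟩⟩ := exists_iso hP T.obj₂
  obtain ⟨K, f, eK, hK, h⟩ := exists_map hP T.mor₁ L eL
  let T₀ := DerivedCategory.Q.mapTriangle.obj (CochainComplex.mappingCone.triangle f)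
  have hT₀ : T₀ ∈ distinguishedTriangles := DerivedCategory.mappingCone_triangle_distinguished f
  let e : T₀ ≅ T := isoTriangleOfIso₁₂ _ _ hT₀ hT eK eL h.symm
  have h1 : T₀.mor₁ ≫ e.hom.hom₂ = e.hom.hom₁ ≫ T.mor₁ := e.hom.comm₁
  have h2 : T₀.mor₂ ≫ e.hom.hom₃ = e.hom.hom₂ ≫ T.mor₂ := e.hom.comm₂
  exact ⟨K, L, f, hK, hL, Triangle.π₁.mapIso e, Triangle.π₂.mapIso e, Triangle.π₃.mapIso e, h1, h2⟩

include α in
/-- Weak form of: a left derived functor is triangulated. -/
theorem exists_triangle (T : Triangle (DerivedCategory A)) (hT : T ∈ distinguishedTriangles) :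
    ∃ (T' : Triangle (DerivedCategory B)) (_ : T' ∈ distinguishedTriangles) (e₁ : LF.obj T.obj₁ ≅ T'.obj₁)
      (e₂ : LF.obj T.obj₂ ≅ T'.obj₂) (e₃ : LF.obj T.obj₃ ≅ T'.obj₃),
        LF.map T.mor₁ ≫ e₂.hom = e₁.hom ≫ T'.mor₁ ∧ LF.map T.mor₂ ≫ e₃.hom = e₂.hom ≫ T'.mor₂ := by
  obtain ⟨K, L, f, hK, hL, e₁, e₂, e₃, h1, h2⟩ := exists_cone hP T hT
  let Fc := F.mapHomologicalComplex (ComplexShape.up ℤ)
  have h3 := counitQ_naturality LF α f
  have h4 := counitQ_naturality LF α (CochainComplex.mappingCone.inr f)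
  have h5 := CochainComplex.mappingCone.map_inr f F
  let E₁ : LF.obj T.obj₁ ≅ DerivedCategory.Q.obj (Fc.obj K) := LF.mapIso e₁.symm ≪≫ isoQ hP LF α hK
  let E₂ : LF.obj T.obj₂ ≅ DerivedCategory.Q.obj (Fc.obj L) := LF.mapIso e₂.symm ≪≫ isoQ hP LF α hL
  let E₃ : LF.obj T.obj₃ ≅ DerivedCategory.Q.obj (CochainComplex.mappingCone (Fc.map f)) :=
    LF.mapIso e₃.symm ≪≫ isoQ hP LF α (hP.cone f hK hL) ≪≫
      DerivedCategory.Q.mapIso (CochainComplex.mappingCone.mapHomologicalComplexIso f F)
  have c1 : LF.map T.mor₁ ≫ E₂.hom = E₁.hom ≫ DerivedCategory.Q.map (Fc.map f) := by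
    have : LF.map T.mor₁ ≫ LF.map e₂.inv = LF.map e₁.inv ≫ LF.map (DerivedCategory.Q.map f) := by
      rw [← LF.map_comp, ← LF.map_comp]
      congr 1
      rw [Iso.eq_inv_comp, ← Category.assoc, ← h1, Category.assoc, Iso.hom_inv_id, Category.comp_id]
    simp only [E₁, E₂, Iso.trans_hom, Functor.mapIso_hom, Iso.symm_hom, isoQ_hom, Category.assoc]
    rw [reassoc_of% this, h3]
  have c2 : LF.map T.mor₂ ≫ E₃.hom = E₂.hom ≫ DerivedCategory.Q.map (CochainComplex.mappingCone.inr (Fc.map f)) := by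
    have : LF.map T.mor₂ ≫ LF.map e₃.inv = LF.map e₂.inv ≫
        LF.map (DerivedCategory.Q.map (CochainComplex.mappingCone.inr f)) := by
      rw [← LF.map_comp, ← LF.map_comp]
      congr 1
      rw [Iso.eq_inv_comp, ← Category.assoc, ← h2, Category.assoc, Iso.hom_inv_id, Category.comp_id]
    simp only [E₂, E₃, Iso.trans_hom, Functor.mapIso_hom, Iso.symm_hom, isoQ_hom, Category.assoc]
    rw [reassoc_of% this, reassoc_of% h4, ← h5, Functor.map_comp]
  exact ⟨DerivedCategory.Q.mapTriangle.obj (CochainComplex.mappingCone.triangle (Fc.map f)),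
    DerivedCategory.mappingCone_triangle_distinguished (Fc.map f), E₁, E₂, E₃, c1, c2⟩

include α in
/-- Vanishing in long exact sequences. -/
theorem isZero₃ (T : Triangle (DerivedCategory A)) (hT : T ∈ distinguishedTriangles) (n : ℤ)
    (h₂ : IsZero ((DerivedCategory.homologyFunctor B n).obj (LF.obj T.obj₂)))
    (h₁ : IsZero ((DerivedCategory.homologyFunctor B (n + 1)).obj (LF.obj T.obj₁))) :
    IsZero ((DerivedCategory.homologyFunctor B n).obj (LF.obj T.obj₃)) := by
  obtain ⟨T', hT', e₁, e₂, e₃, -, -⟩ := exists_triangle hP LF α T hT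
  refine IsZero.of_iso ?_ ((DerivedCategory.homologyFunctor B n).mapIso e₃)
  have h₂' := h₂.of_iso ((DerivedCategory.homologyFunctor B n).mapIso e₂.symm)
  have h₁' := h₁.of_iso ((DerivedCategory.homologyFunctor B (n + 1)).mapIso e₁.symm)
  exact (DerivedCategory.HomologySequence.exact₃ T' hT' n (n + 1) rfl).isZero_of_both_zeros
    (h₂'.eq_of_src _ _) (h₁'.eq_of_tgt _ _)

include α in
theorem isZero₂ (T : Triangle (DerivedCategory A)) (hT : T ∈ distinguishedTriangles) (n : ℤ)
    (h₁ : IsZero ((DerivedCategory.homologyFunctor B n).obj (LF.obj T.obj₁)))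
    (h₃ : IsZero ((DerivedCategory.homologyFunctor B n).obj (LF.obj T.obj₃))) :
    IsZero ((DerivedCategory.homologyFunctor B n).obj (LF.obj T.obj₂)) := by
  obtain ⟨T', hT', e₁, e₂, e₃, -, -⟩ := exists_triangle hP LF α T hT
  refine IsZero.of_iso ?_ ((DerivedCategory.homologyFunctor B n).mapIso e₂)
  have h₁' := h₁.of_iso ((DerivedCategory.homologyFunctor B n).mapIso e₁.symm)
  have h₃' := h₃.of_iso ((DerivedCategory.homologyFunctor B n).mapIso e₃.symm)
  exact (DerivedCategory.HomologySequence.exact₂ T' hT' n).isZero_of_both_zeros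
    (h₁'.eq_of_src _ _) (h₃'.eq_of_tgt _ _)

include α in
theorem isZero₁ (T : Triangle (DerivedCategory A)) (hT : T ∈ distinguishedTriangles) (n : ℤ)
    (h₂ : IsZero ((DerivedCategory.homologyFunctor B (n + 1)).obj (LF.obj T.obj₂)))
    (h₃ : IsZero ((DerivedCategory.homologyFunctor B n).obj (LF.obj T.obj₃))) :
    IsZero ((DerivedCategory.homologyFunctor B (n + 1)).obj (LF.obj T.obj₁)) := by
  obtain ⟨T', hT', e₁, e₂, e₃, -, -⟩ := exists_triangle hP LF α T hT
  refine IsZero.of_iso ?_ ((DerivedCategory.homologyFunctor B (n + 1)).mapIso e₁)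
  have h₂' := h₂.of_iso ((DerivedCategory.homologyFunctor B (n + 1)).mapIso e₂.symm)
  have h₃' := h₃.of_iso ((DerivedCategory.homologyFunctor B n).mapIso e₃.symm)
  exact (DerivedCategory.HomologySequence.exact₁ T' hT' n (n + 1) rfl).isZero_of_both_zeros
    (h₃'.eq_of_src _ _) (h₂'.eq_of_tgt _ _)

end Groth.Agent.Dcoh.LDer
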