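import Groth.Prelude.Def_DDual2
import Groth.Prelude.Def_DCoh4

/-!
# The functors `tensorRightMod G`, `tensorBi.obj G`, `tensorBi.flip.obj G` are naturally isomorphic
-/

set_option autoImplicit false
universe u

open CategoryTheory Limits MonoidalCategory AlgebraicGeometry

attribute [local instance] HasDerivedCategory.standard

namespace Groth.Agent.Dcoh.TMod

variable {X : Scheme.{u}}

/-- `- ⊗ G` -/
noncomputable def flipIso (G : X.Modules) : (DCoh.tensorBi (X := X)).flip.obj G ≅ DCoh.tensorRightMod G :=
  NatIso.ofComponents (fun M => Iso.refl _) (fun {M N} f => by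
    refine (Category.comp_id _).trans (Eq.trans ?_ (Category.id_comp _).symm)
    rfl)

/-- `G ⊗ - ≅ - ⊗ G` -/
noncomputable def braidIso (G : X.Modules) : (DCoh.tensorBi (X := X)).obj G ≅ DCoh.tensorRightMod G :=
  Functor.isoWhiskerLeft DCoh.toP (Functor.isoWhiskerRight
    (BraidedCategory.tensorLeftIsoTensorRight (DCoh.toP.obj G : CohB1.PMod X)) DCoh.shP)

end Groth.Agent.Dcoh.TMod
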