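import Groth.Prelude.Def_DTor2
import Groth.Agent.Dcoh.TMod
import Groth.Agent.Dcoh.TensSingle
import Groth.Agent.Dcoh.LDer
import Groth.Agent.PerfB.TensUnit
import Groth.Agent.S0950
import Groth.Agent.S0951
import Groth.Agent.S0953
import Groth.Agent.S0955

/-!
# The derived functor `- ⊗^L G` on `D(O_X)` (`DCoh.LTensorMod G`)

It exists, and it is computed by K-flat complexes, in particular by bounded above complexes of flat modules.
-/

set_option autoImplicit false
universe u

open CategoryTheory Limits Pretriangulated AlgebraicGeometry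

attribute [local instance] HasDerivedCategory.standard

namespace Groth.Agent.Dcoh.LTMod

variable {X : Scheme.{u}}

/-- termwise `- ⊗ G` is the total tensor product with the complex `G` placed in degree `0`, on the left -/
theorem nonempty_singleIso (G : X.Modules) :
    Nonempty ((DCoh.tensorRightMod G).mapHomologicalComplex (ComplexShape.up ℤ) ≅
      DCoh.tensorCx.obj ((HomologicalComplex.single X.Modules (ComplexShape.up ℤ) 0).obj G)) :=
  ⟨NatIso.mapHomologicalComplex (TMod.braidIso G).symm (ComplexShape.up ℤ) ≪≫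
    TensSingle.singleLeftIso DCoh.tensorBi G⟩

/-- termwise `- ⊗ G` is the total tensor product with the complex `G` placed in degree `0`, on the right -/
theorem nonempty_singleIso' (G : X.Modules) :
    Nonempty ((DCoh.tensorRightMod G).mapHomologicalComplex (ComplexShape.up ℤ) ≅
      DCoh.tensorCx.flip.obj ((HomologicalComplex.single X.Modules (ComplexShape.up ℤ) 0).obj G)) :=
  ⟨NatIso.mapHomologicalComplex (TMod.flipIso G).symm (ComplexShape.up ℤ) ≪≫
    TensSingle.singleRightIso DCoh.tensorBi G⟩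

/-- Termwise `- ⊗ G` preserves quasi-isomorphisms between K-flat complexes. -/
theorem quasiIso_tensorRightMod (G : X.Modules) {P Q : CochainComplex X.Modules ℤ} (α : P ⟶ Q)
    (hα : QuasiIso α) (hP : DCoh.IsKFlat P) (hQ : DCoh.IsKFlat Q) :
    QuasiIso (((DCoh.tensorRightMod G).mapHomologicalComplex (ComplexShape.up ℤ)).map α) := by
  have h := Groth.Agent.S0950.result α hP hQ ((HomologicalComplex.single X.Modules (ComplexShape.up ℤ) 0).obj G)
  obtain ⟨s⟩ := nonempty_singleIso G
  have e : Arrow.mk (((DCoh.tensorRightMod G).mapHomologicalComplex (ComplexShape.up ℤ)).map α) ≅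
      Arrow.mk ((DCoh.tensorCx.obj ((HomologicalComplex.single X.Modules (ComplexShape.up ℤ) 0).obj G)).map α) :=
    Arrow.isoMk (s.app P) (s.app Q) (s.hom.naturality α).symm
  exact ((HomologicalComplex.quasiIso X.Modules (ComplexShape.up ℤ)).arrow_mk_iso_iff e).2 h

/-- K-flat complexes are adapted to `- ⊗ G`. -/
theorem adapted (G : X.Modules) : LDer.Adapted (DCoh.tensorRightMod G) (fun K => DCoh.IsKFlat K) where
  exists_res K := by
    obtain ⟨K', q, h1, -, h2, -⟩ := Groth.Agent.S0955.result K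
    exact ⟨K', q, h1, h2⟩
  inverts K L f hK hL hf := quasiIso_tensorRightMod G f hf hK hL
  cone K L f hK hL := (Groth.Agent.S0951.result f).1 hK hL

/-- `- ⊗^L G` exists. -/
theorem hasLTensorMod (G : X.Modules) : DCoh.HasLTensorMod G := LDer.hasLeftDerivedFunctor (adapted G)

variable (G : X.Modules) [DCoh.HasLTensorMod G]

/-- the counit of `- ⊗^L G` -/
noncomputable abbrev counit : DerivedCategory.Qh ⋙ DCoh.LTensorMod G ⟶ DCoh.tensorModKh G :=
  (DCoh.tensorModKh G).totalLeftDerivedCounit DerivedCategory.Qh (HomotopyCategory.quasiIso X.Modules (ComplexShape.up ℤ))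

/-- `P ⊗^L G` for `P` K-flat -/
noncomputable def isoQ {P : CochainComplex X.Modules ℤ} (hP : DCoh.IsKFlat P) :
    (DCoh.LTensorMod G).obj (DCoh.toD X P) ≅
      DCoh.toD X (((DCoh.tensorRightMod G).mapHomologicalComplex (ComplexShape.up ℤ)).obj P) :=
  LDer.isoQ (adapted G) (DCoh.LTensorMod G) (counit G) hP

@[reassoc]
lemma isoQ_naturality {P Q : CochainComplex X.Modules ℤ} (f : P ⟶ Q) (hP : DCoh.IsKFlat P) (hQ : DCoh.IsKFlat Q) :
    (DCoh.LTensorMod G).map (DerivedCategory.Q.map f) ≫ (isoQ G hQ).hom =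
      (isoQ G hP).hom ≫ DerivedCategory.Q.map
        (((DCoh.tensorRightMod G).mapHomologicalComplex (ComplexShape.up ℤ)).map f) :=
  LDer.counitQ_naturality (DCoh.LTensorMod G) (counit G) f

/-- cohomology sheaves of `P ⊗^L G` for `P` K-flat -/
noncomputable def homologyIso {P : CochainComplex X.Modules ℤ} (hP : DCoh.IsKFlat P) (n : ℤ) :
    DCoh.HD ((DCoh.LTensorMod G).obj (DCoh.toD X P)) n ≅
      (((DCoh.tensorRightMod G).mapHomologicalComplex (ComplexShape.up ℤ)).obj P).homology n :=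
  LDer.homologyIso (adapted G) (DCoh.LTensorMod G) (counit G) hP n

/-- If `K` is represented by a K-flat complex `P` with `P^n = 0`, then `H^n(K ⊗^L G) = 0`. -/
theorem isZero_of_isZero_X {P : CochainComplex X.Modules ℤ} (hP : DCoh.IsKFlat P) {K : DCoh.D X}
    (e : DCoh.toD X P ≅ K) (n : ℤ) (h : IsZero (P.X n)) :
    IsZero (DCoh.HD ((DCoh.LTensorMod G).obj K) n) := by
  have h1 : IsZero ((((DCoh.tensorRightMod G).mapHomologicalComplex (ComplexShape.up ℤ)).obj P).X n) :=
    (DCoh.tensorRightMod G).map_isZero h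
  have h2 : IsZero ((((DCoh.tensorRightMod G).mapHomologicalComplex (ComplexShape.up ℤ)).obj P).homology n) :=
    HomologicalComplex.ExactAt.isZero_homology (ShortComplex.exact_of_isZero_X₂ _ h1)
  exact h2.of_iso ((DerivedCategory.homologyFunctor _ n).mapIso ((DCoh.LTensorMod G).mapIso e.symm) ≪≫
    homologyIso G hP n)

omit [DCoh.HasLTensorMod G] in
/-- The flat-representative form of tor amplitude implies the derived-tensor form. -/
theorem torAmplitude_of_flatAmplitude {a b : ℤ} {K : DCoh.D X} (h : DCoh.HasFlatAmplitudeIn a b K) :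
    DCoh.HasTorAmplitudeIn a b K := by
  obtain ⟨E, hE, hflat, ⟨e⟩⟩ := h
  intro F _ i hi
  have hK : DCoh.IsKFlat E := Groth.Agent.S0953.result E b
    ((CochainComplex.isStrictlyLE_iff E b).2 (fun j hj => hE j (Or.inr hj))) hflat
  exact isZero_of_isZero_X F hK e i (hE i hi)

omit [DCoh.HasLTensorMod G] in
/-- Tor amplitude passes to retracts. -/
theorem torAmplitude_of_retract {a b : ℤ} {K L : DCoh.D X} (r : Retract K L)
    (h : DCoh.HasTorAmplitudeIn a b L) : DCoh.HasTorAmplitudeIn a b K := by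
  intro F _ i hi
  have h1 := h F i hi
  have r' := (r.map (DCoh.LTensorMod F)).map (DerivedCategory.homologyFunctor X.Modules i)
  rw [IsZero.iff_id_eq_zero]
  rw [← r'.retract, h1.eq_zero_of_tgt r'.i, zero_comp]

omit [DCoh.HasLTensorMod G] in
theorem torAmplitude_of_iso {a b : ℤ} {K L : DCoh.D X} (e : K ≅ L)
    (h : DCoh.HasTorAmplitudeIn a b K) : DCoh.HasTorAmplitudeIn a b L :=
  torAmplitude_of_retract ⟨e.inv, e.hom, e.inv_hom_id⟩ h

theorem isZero₃ (T : Triangle (DCoh.D X)) (hT : T ∈ distinguishedTriangles) (n : ℤ)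
    (h₂ : IsZero (DCoh.HD ((DCoh.LTensorMod G).obj T.obj₂) n))
    (h₁ : IsZero (DCoh.HD ((DCoh.LTensorMod G).obj T.obj₁) (n + 1))) :
    IsZero (DCoh.HD ((DCoh.LTensorMod G).obj T.obj₃) n) :=
  LDer.isZero₃ (adapted G) (DCoh.LTensorMod G) (counit G) T hT n h₂ h₁

theorem isZero₂ (T : Triangle (DCoh.D X)) (hT : T ∈ distinguishedTriangles) (n : ℤ)
    (h₁ : IsZero (DCoh.HD ((DCoh.LTensorMod G).obj T.obj₁) n))
    (h₃ : IsZero (DCoh.HD ((DCoh.LTensorMod G).obj T.obj₃) n)) :
    IsZero (DCoh.HD ((DCoh.LTensorMod G).obj T.obj₂) n) :=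
  LDer.isZero₂ (adapted G) (DCoh.LTensorMod G) (counit G) T hT n h₁ h₃

theorem isZero₁ (T : Triangle (DCoh.D X)) (hT : T ∈ distinguishedTriangles) (n : ℤ)
    (h₂ : IsZero (DCoh.HD ((DCoh.LTensorMod G).obj T.obj₂) (n + 1)))
    (h₃ : IsZero (DCoh.HD ((DCoh.LTensorMod G).obj T.obj₃) n)) :
    IsZero (DCoh.HD ((DCoh.LTensorMod G).obj T.obj₁) (n + 1)) :=
  LDer.isZero₁ (adapted G) (DCoh.LTensorMod G) (counit G) T hT n h₂ h₃

omit [DCoh.HasLTensorMod G] in
/-- `K ⊗^L O_X ≅ K` -/
theorem nonempty_unitIso [DCoh.HasLTensorMod (Coh.structureModule X)] (K : DCoh.D X) :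
    Nonempty ((DCoh.LTensorMod (Coh.structureModule X)).obj K ≅ K) := by
  obtain ⟨P, hP, ⟨e⟩⟩ := LDer.exists_iso (adapted (Coh.structureModule X)) K
  exact ⟨(DCoh.LTensorMod (Coh.structureModule X)).mapIso e.symm ≪≫ isoQ (Coh.structureModule X) hP ≪≫
    DerivedCategory.Q.mapIso ((NatIso.mapHomologicalComplex PerfB.TensUnit.tensorUnit (ComplexShape.up ℤ) ≪≫
      Functor.mapHomologicalComplexIdIso X.Modules (ComplexShape.up ℤ)).app P) ≪≫ e⟩

end Groth.Agent.Dcoh.LTMod
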