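import Groth.Agent.Dcoh.ClosedProj
import Groth.Agent.PerfC.CxNat
import Groth.Agent.Dcoh.SecCoprod
import Groth.Agent.CycB.ClosedDev
import Groth.Agent.PerfA.TensDev
import Groth.Agent.PerfC.LpullFlat
import Groth.Agent.PerfB.StalkKFlat

/-!
# Projection formula along a closed immersion, on complexes and in the derived category
-/

set_option autoImplicit false
universe u

open CategoryTheory CategoryTheory.Limits AlgebraicGeometry TopologicalSpace Opposite HomologicalComplex

attribute [local instance] HasDerivedCategory.standard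

namespace Groth.Agent.Dcoh.ClosedProjD

open Groth.Agent.Dcoh.ClosedProj Groth.Agent.PerfC.CxNat

variable {X Y : Scheme.{u}} (f : X ⟶ Y)

/-- The bifunctor `(G, E) ↦ G ⊗ f^* E`. -/
noncomputable abbrev tensPull : X.Modules ⥤ Y.Modules ⥤ X.Modules :=
  DCoh.tensorBi ⋙ (Functor.whiskeringLeft _ _ _).obj (Scheme.Modules.pullback f)

instance additive_tensPull_obj (G : X.Modules) : ((tensPull f).obj G).Additive :=
  inferInstanceAs (Scheme.Modules.pullback f ⋙ DCoh.tensorBi.obj G).Additive

instance (G : X.Modules) : ((tensPull f).obj G).PreservesZeroMorphisms := inferInstance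

/-- The natural transformation `f_* G ⊗ E ⟶ f_* (G ⊗ f^* E)`. -/
noncomputable def projNat :
    Scheme.Modules.pushforward f ⋙ DCoh.tensorBi ⋙ (Functor.whiskeringLeft _ _ _).obj (𝟭 Y.Modules) ⟶
      tensPull f ⋙ (Functor.whiskeringRight _ _ _).obj (Scheme.Modules.pushforward f) where
  app G :=
    { app := fun E => proj f G E
      naturality := fun _ _ φ => proj_naturality_right f G φ }
  naturality G G' φ := by
    ext E : 2
    exact proj_naturality_left f φ E

instance isIso_projNat [IsClosedImmersion f] : IsIso (projNat f) := by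
  have : ∀ G, IsIso ((projNat f).app G) := fun G => by
    have : ∀ E, IsIso (((projNat f).app G).app E) := fun E => isIso_proj f G E
    exact NatIso.isIso_of_isIso_app _
  exact NatIso.isIso_of_isIso_app _

/-- `f_*` preserves direct sums for a closed immersion `f`. -/
instance push_preservesCoproducts [IsClosedImmersion f] (I : Type u) :
    PreservesColimitsOfShape (Discrete I) (Scheme.Modules.pushforward f) := by
  refine CycB.ClosedDev.preservesColimitsOfShape_of_stalks _ fun x => ?_
  by_cases hx : x ∈ Set.range f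
  · obtain ⟨z, rfl⟩ := hx
    exact preservesColimitsOfShape_of_natIso (CycB.ClosedDev.pushStalkIso f z).symm
  · refine (Scheme.Modules.pushforward f ⋙
      CycB.StalkExact.stalkFun x).preservesColimitsOfShape_of_isZero ?_ _
    refine Functor.isZero _ fun F => ?_
    have : Subsingleton ((CycB.StalkExact.stalkFun x).obj ((Scheme.Modules.pushforward f).obj F)) :=
      CycB.PushStalk.subsingleton_stalk_push f F x (by
        rwa [f.isClosedEmbedding.isClosed_range.closure_eq])
    exact @AddCommGrpCat.isZero_of_subsingleton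
      ((CycB.StalkExact.stalkFun x).obj ((Scheme.Modules.pushforward f).obj F)) this

instance push_preservesCoproducts₀ [IsClosedImmersion f] (I : Type) :
    PreservesColimitsOfShape (Discrete I) (Scheme.Modules.pushforward f) :=
  preservesColimitsOfShape_of_equiv (Discrete.equivalence Equiv.ulift.{u}) _

/-- The projection formula on complexes. -/
theorem nonempty_cxIso [IsClosedImmersion f] (K : CochainComplex X.Modules ℤ)
    (L : CochainComplex Y.Modules ℤ) :
    Nonempty ((DCoh.tensorCx.obj
        (((Scheme.Modules.pushforward f).mapHomologicalComplex (ComplexShape.up ℤ)).obj K)).obj L ≅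
      ((Scheme.Modules.pushforward f).mapHomologicalComplex (ComplexShape.up ℤ)).obj
        ((DCoh.tensorCx.obj K).obj
          (((Scheme.Modules.pullback f).mapHomologicalComplex (ComplexShape.up ℤ)).obj L))) :=
  have h : IsIso (natHom (projNat f) K L) := isIso_natHom (projNat f) K L
  ⟨@asIso _ _ _ _ _ h⟩

/-- `K ⊗^L P` is computed by `K ⊗ P` if `P` is K-flat. -/
theorem nonempty_isoQ {P : CochainComplex X.Modules ℤ} (hP : DCoh.IsKFlat P) [DCoh.HasLTensorCx P]
    (K : CochainComplex X.Modules ℤ) :
    Nonempty ((DCoh.LTensorCx P).obj (DerivedCategory.Q.obj K) ≅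
      DerivedCategory.Q.obj ((DCoh.tensorCx.obj K).obj P)) := by
  obtain ⟨L, w, hL, hw⟩ := (PerfA.TensDev.bifData (X := X)).exists_res K
  obtain ⟨e⟩ := PerfA.TensDev.nonempty_isoQ P hL
  have h1 : IsIso (DerivedCategory.Q.map w) := (DerivedCategory.isIso_Q_map_iff_quasiIso _ _).2 hw
  have h2 : QuasiIso ((DCoh.tensorCx.map w).app P) := KFlat.quasiIso_tensor hP w
  have h3 : IsIso (DerivedCategory.Q.map ((DCoh.tensorCx.map w).app P)) :=
    (DerivedCategory.isIso_Q_map_iff_quasiIso _ _).2 h2
  exact ⟨(DCoh.LTensorCx P).mapIso (asIso (DerivedCategory.Q.map w)).symm ≪≫ e ≪≫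
    asIso (DerivedCategory.Q.map ((DCoh.tensorCx.map w).app P))⟩

/-- `Rf_*` of a complex, for a closed immersion. -/
noncomputable def rpushQ [IsClosedImmersion f] [DCoh.HasRpush f] (K : CochainComplex X.Modules ℤ) :
    (DCoh.Rpush f).obj (DerivedCategory.Q.obj K) ≅ DerivedCategory.Q.obj
      (((Scheme.Modules.pushforward f).mapHomologicalComplex (ComplexShape.up ℤ)).obj K) :=
  haveI := Groth.Agent.Sga67.ClosedPush.preservesFiniteColimits_pushforward f
  (PerfC.LpullFlat.rpushIso f).app _ ≪≫
    (Scheme.Modules.pushforward f).mapDerivedCategoryFactors.app K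

/-- The projection formula along a closed immersion. -/
theorem projection_formula [IsClosedImmersion f] [DCoh.HasRpush f]
    (P : CochainComplex Y.Modules ℤ) (hP : DCoh.IsKFlat P) [DCoh.HasLTensorCx P]
    [DCoh.HasLTensorCx
      (((Scheme.Modules.pullback f).mapHomologicalComplex (ComplexShape.up ℤ)).obj P)]
    (E : DCoh.D X) :
    Nonempty ((DCoh.LTensorCx P).obj ((DCoh.Rpush f).obj E) ≅
      (DCoh.Rpush f).obj ((DCoh.LTensorCx (((Scheme.Modules.pullback f).mapHomologicalComplex
        (ComplexShape.up ℤ)).obj P)).obj E)) := by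
  have hP' := PerfB.StalkKFlat.isKFlat_pullback f P hP
  let K := DerivedCategory.Q.objPreimage E
  let e : DerivedCategory.Q.obj K ≅ E := DerivedCategory.Q.objObjPreimageIso E
  obtain ⟨e1⟩ := nonempty_isoQ hP
    (((Scheme.Modules.pushforward f).mapHomologicalComplex (ComplexShape.up ℤ)).obj K)
  obtain ⟨e2⟩ := nonempty_isoQ hP' K
  obtain ⟨e3⟩ := nonempty_cxIso f K P
  exact ⟨(DCoh.LTensorCx P).mapIso ((DCoh.Rpush f).mapIso e.symm ≪≫ rpushQ f K) ≪≫ e1 ≪≫
    DerivedCategory.Q.mapIso e3 ≪≫ (rpushQ f _).symm ≪≫
      (DCoh.Rpush f).mapIso (e2.symm ≪≫ (DCoh.LTensorCx _).mapIso e)⟩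

end Groth.Agent.Dcoh.ClosedProjD
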