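import Mathlib.CategoryTheory.Localization.Monoidal.Braided
import Mathlib.CategoryTheory.Monoidal.Transport
import Mathlib.CategoryTheory.Monoidal.Functor
import Mathlib.CategoryTheory.Adjunction.FullyFaithful

/-!
# Monoidal structure on a reflective localization, with the expected tensor product on the nose

Given an adjunction `L ⊣ R` with invertible counit such that `L` is a localization functor with
respect to a monoidal class of morphisms `W`, we put a monoidal structure on the target `D` of `L`
such that `M ⊗ N` is *definitionally* `L (R M ⊗ R N)`, `f ▷ N = L (R f ▷ R N)`,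
`M ◁ g = L (R M ◁ R g)`, and `𝟙_` is a prescribed object `unit` with `L 𝟙_ ≅ unit`.
It is obtained from Mathlib's `LocalizedMonoidal` by transport.
-/

open CategoryTheory MonoidalCategory Category

namespace Groth.Agent.Dcoh.MonRefl

section OfFaithful

open Functor.LaxMonoidal Functor.Monoidal

universe v₁ v₂ v₃ u₁ u₂ u₃

variable {C : Type u₁} {D : Type u₂} {E : Type u₃} [Category.{v₁} C] [Category.{v₂} D]
  [Category.{v₃} E] [MonoidalCategory C] [MonoidalCategory D] [MonoidalCategory E]

/-- Monoidality of a functor can be checked after composing with a faithful monoidal functor. -/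
def coreMonoidalOfFaithful₀ {F : C ⥤ D} (G : D ⥤ E) [G.Monoidal] [G.Faithful] [H : (F ⋙ G).Monoidal]
    (εIso : 𝟙_ D ≅ F.obj (𝟙_ C)) (μIso : ∀ X Y : C, F.obj X ⊗ F.obj Y ≅ F.obj (X ⊗ Y))
    (hμ : ∀ X Y, μ G (F.obj X) (F.obj Y) ≫ G.map (μIso X Y).hom = μ (F ⋙ G) X Y)
    (hε : ε G ≫ G.map εIso.hom = ε (F ⋙ G)) : F.CoreMonoidal where
  εIso := εIso
  μIso := μIso
  μIso_hom_natural_left {X Y} f X' := G.map_injective (by
    rw [← cancel_epi (μ G _ _), Functor.map_comp, ← μ_natural_left_assoc, hμ, Functor.map_comp,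
      reassoc_of% hμ]
    exact μ_natural_left (F ⋙ G) f X')
  μIso_hom_natural_right {X Y} X' f := G.map_injective (by
    rw [← cancel_epi (μ G _ _), Functor.map_comp, ← μ_natural_right_assoc, hμ, Functor.map_comp,
      reassoc_of% hμ]
    exact μ_natural_right (F ⋙ G) X' f)
  associativity X Y Z := G.map_injective (by
    rw [← cancel_epi (μ G _ _), ← cancel_epi (μ G _ _ ▷ _), Functor.map_comp, Functor.map_comp,
      Functor.map_comp, Functor.map_comp, ← μ_natural_left_assoc, ← comp_whiskerRight_assoc, hμ,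
      reassoc_of% hμ, Functor.LaxMonoidal.associativity_assoc, ← μ_natural_right_assoc,
      ← whiskerLeft_comp_assoc, hμ, hμ]
    exact Functor.LaxMonoidal.associativity (F ⋙ G) X Y Z)
  left_unitality X := G.map_injective (by
    rw [Functor.map_comp, Functor.map_comp, ← cancel_epi (μ G _ _), ← cancel_epi (ε G ▷ _),
      ← μ_natural_left_assoc, ← comp_whiskerRight_assoc, hε, reassoc_of% hμ,
      ← Functor.LaxMonoidal.left_unitality]
    exact Functor.LaxMonoidal.left_unitality (F ⋙ G) X)
  right_unitality X := G.map_injective (by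
    rw [Functor.map_comp, Functor.map_comp, ← cancel_epi (μ G _ _), ← cancel_epi (_ ◁ ε G),
      ← μ_natural_right_assoc, ← whiskerLeft_comp_assoc, hε, reassoc_of% hμ,
      ← Functor.LaxMonoidal.right_unitality]
    exact Functor.LaxMonoidal.right_unitality (F ⋙ G) X)

/-- Monoidality of a functor can be checked after composing with a faithful monoidal functor. -/
def coreMonoidalOfFaithful {F : C ⥤ D} (G : D ⥤ E) [G.Monoidal] [G.Faithful] {H : C ⥤ E} [H.Monoidal]
    (e : H ≅ F ⋙ G) (εIso : 𝟙_ D ≅ F.obj (𝟙_ C)) (μIso : ∀ X Y : C, F.obj X ⊗ F.obj Y ≅ F.obj (X ⊗ Y))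
    (hμ : ∀ X Y, μ G (F.obj X) (F.obj Y) ≫ G.map (μIso X Y).hom =
      (e.inv.app X ⊗ₘ e.inv.app Y) ≫ μ H X Y ≫ e.hom.app (X ⊗ Y))
    (hε : ε G ≫ G.map εIso.hom = ε H ≫ e.hom.app (𝟙_ C)) : F.CoreMonoidal :=
  letI : (F ⋙ G).Monoidal := .transport e
  coreMonoidalOfFaithful₀ G εIso μIso hμ hε

end OfFaithful

universe v₁ v₂ u₁ u₂

variable {C : Type u₁} {D : Type u₂} [Category.{v₁} C] [Category.{v₂} D] [MonoidalCategory C]
  {L : C ⥤ D} {R : D ⥤ C} (adj : L ⊣ R) [IsIso adj.counit]
  (W : MorphismProperty C) [W.IsMonoidal] [L.IsLocalization W] {unit : D} (ε : L.obj (𝟙_ C) ≅ unit)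

/-- The identity functor `D ⥤ LocalizedMonoidal L W ε`. -/
def toLoc : D ⥤ LocalizedMonoidal L W ε := 𝟭 D

/-- The identity functor, as a fully faithful functor. -/
def toLocFF : (toLoc W ε).FullyFaithful := .id D

instance toLoc_faithful : (toLoc W ε).Faithful := (toLocFF W ε).faithful
instance toLoc_full : (toLoc W ε).Full := (toLocFF W ε).full

local notation "L'" => Localization.Monoidal.toMonoidalCategory L W ε

/-- The (identity) comparison between `L'` and `L ⋙ toLoc`. -/
def tl : L' ≅ L ⋙ toLoc W ε := Iso.refl _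

@[reassoc]
theorem tl_naturality {P Q : C} (f : P ⟶ Q) :
    (L').map f ≫ (tl W ε).hom.app Q = (tl W ε).hom.app P ≫ (toLoc W ε).map (L.map f) :=
  (tl W ε).hom.naturality f

/-- The counit, as an isomorphism in the localized monoidal category. -/
noncomputable def cou : R ⋙ L' ≅ toLoc W ε :=
  (asIso adj.counit : R ⋙ L ≅ 𝟭 D)

/-- The comparison between the localized tensor product and `L (R M ⊗ R N)`. -/
noncomputable def mu (M N : D) :
    (toLoc W ε).obj M ⊗ (toLoc W ε).obj N ≅ (toLoc W ε).obj (L.obj (R.obj M ⊗ R.obj N)) :=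
  (((cou adj W ε).app M).symm ⊗ᵢ ((cou adj W ε).app N).symm) ≪≫
    Functor.Monoidal.μIso (L') (R.obj M) (R.obj N) ≪≫ (tl W ε).app _

@[reassoc]
theorem mu_hom_natural {M M' N N' : D} (f : M ⟶ M') (g : N ⟶ N') :
    ((toLoc W ε).map f ⊗ₘ (toLoc W ε).map g) ≫ (mu adj W ε M' N').hom =
      (mu adj W ε M N).hom ≫ (toLoc W ε).map (L.map (R.map f ⊗ₘ R.map g)) := by
  simp only [mu, Iso.trans_hom, tensorIso_hom, Iso.symm_hom, assoc, Iso.app_inv, Iso.app_hom,
    Functor.Monoidal.μIso_hom, tensorHom_comp_tensorHom_assoc]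
  rw [(cou adj W ε).inv.naturality f, (cou adj W ε).inv.naturality g]
  have := (tl W ε).hom.naturality (R.map f ⊗ₘ R.map g)
  simp only [Functor.comp_map] at this ⊢
  rw [← this, ← tensorHom_comp_tensorHom_assoc, Functor.LaxMonoidal.μ_natural_assoc]

/-- The (identity) comparison of the units. -/
noncomputable def unitIso₀ : 𝟙_ (LocalizedMonoidal L W ε) ≅ (toLoc W ε).obj unit := Iso.refl _

/-- The fields of the monoidal structure. -/
@[instance_reducible]
noncomputable def struct : MonoidalCategoryStruct D where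
  tensorObj M N := L.obj (R.obj M ⊗ R.obj N)
  whiskerLeft M _ _ g := L.map (R.obj M ◁ R.map g)
  whiskerRight f N := L.map (R.map f ▷ R.obj N)
  tensorHom f g := L.map (R.map f ⊗ₘ R.map g)
  tensorUnit := unit
  associator M N P := (toLocFF W ε).preimageIso
    (((mu adj W ε _ _).symm ≪≫ ((mu adj W ε _ _).symm ⊗ᵢ .refl _))
        ≪≫ α_ ((toLoc W ε).obj M) ((toLoc W ε).obj N) ((toLoc W ε).obj P)
        ≪≫ ((.refl _ ⊗ᵢ mu adj W ε _ _) ≪≫ mu adj W ε _ _))
  leftUnitor M := (toLocFF W ε).preimageIso
    (((mu adj W ε _ _).symm ≪≫ ((unitIso₀ W ε).symm ⊗ᵢ .refl _)) ≪≫ λ_ ((toLoc W ε).obj M))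
  rightUnitor M := (toLocFF W ε).preimageIso
    (((mu adj W ε _ _).symm ≪≫ (.refl _ ⊗ᵢ (unitIso₀ W ε).symm)) ≪≫ ρ_ ((toLoc W ε).obj M))

/-- The comparison data between `struct` and the localized monoidal structure. -/
noncomputable def inducing :
    letI := struct adj W ε
    Monoidal.InducingFunctorData (toLoc W ε) :=
  letI := struct adj W ε
  { μIso := mu adj W ε
    εIso := unitIso₀ W ε
    whiskerLeft_eq := fun M N N' g => by
      rw [Iso.eq_inv_comp]
      have := mu_hom_natural adj W ε (𝟙 M) g
      rw [Functor.map_id, Functor.map_id, id_tensorHom, id_tensorHom] at this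
      exact this.symm
    whiskerRight_eq := fun {M M'} f N => by
      rw [Iso.eq_inv_comp]
      have := mu_hom_natural adj W ε f (𝟙 N)
      rw [Functor.map_id, Functor.map_id, tensorHom_id, tensorHom_id] at this
      exact this.symm
    tensorHom_eq := fun {M M' N N'} f g => by
      rw [Iso.eq_inv_comp]
      exact (mu_hom_natural adj W ε f g).symm
    associator_eq := fun M N P => (toLocFF W ε).map_preimage _
    leftUnitor_eq := fun M => (toLocFF W ε).map_preimage _
    rightUnitor_eq := fun M => (toLocFF W ε).map_preimage _ }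

/-- The monoidal structure on `D` with `M ⊗ N = L (R M ⊗ R N)`. -/
@[instance_reducible]
noncomputable def monoidal : MonoidalCategory D :=
  letI := struct adj W ε
  Monoidal.induced (toLoc W ε) (inducing adj W ε)

/-- The identity functor `D ⥤ LocalizedMonoidal L W ε` is monoidal. -/
@[instance_reducible]
noncomputable def toLocMonoidal :
    letI := monoidal adj W ε
    (toLoc W ε).Monoidal :=
  letI := struct adj W ε
  Monoidal.fromInducedMonoidal (toLoc W ε) (inducing adj W ε)

theorem toLoc_μ (M N : D) :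
    letI := monoidal adj W ε
    letI := toLocMonoidal adj W ε
    Functor.LaxMonoidal.μ (toLoc W ε) M N = (mu adj W ε M N).hom := rfl

@[reassoc]
theorem mu_braiding [BraidedCategory C] (M N : D) :
    (mu adj W ε M N).hom ≫ (toLoc W ε).map (L.map (β_ (R.obj M) (R.obj N)).hom) =
      (β_ ((toLoc W ε).obj M) ((toLoc W ε).obj N)).hom ≫ (mu adj W ε N M).hom := by
  have := (tl W ε).hom.naturality (β_ (R.obj M) (R.obj N)).hom
  simp only [Functor.comp_map] at this
  simp only [mu, Iso.trans_hom, tensorIso_hom, Iso.symm_hom, assoc, Iso.app_inv, Iso.app_hom,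
    Functor.Monoidal.μIso_hom]
  rw [← this, Functor.LaxBraided.braided_assoc]
  erw [BraidedCategory.braiding_naturality_assoc]

/-- The braiding: it is `L (β_ (R M) (R N))`. -/
@[instance_reducible]
noncomputable def braided [BraidedCategory C] :
    letI := monoidal adj W ε
    BraidedCategory D :=
  letI := monoidal adj W ε
  letI := toLocMonoidal adj W ε
  .ofFaithful (toLoc W ε) (fun M N => L.mapIso (β_ (R.obj M) (R.obj N))) fun M N =>
    mu_braiding adj W ε M N

/-- The functor `toLoc` is braided. -/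
@[instance_reducible]
noncomputable def toLocBraided [BraidedCategory C] :
    letI := monoidal adj W ε
    letI := braided adj W ε
    (toLoc W ε).Braided :=
  letI := monoidal adj W ε
  letI := braided adj W ε
  letI := toLocMonoidal adj W ε
  { braided := fun M N => mu_braiding adj W ε M N }

/-- The symmetric monoidal structure. -/
@[instance_reducible]
noncomputable def symmetric [SymmetricCategory C] :
    letI := monoidal adj W ε
    SymmetricCategory D :=
  letI := monoidal adj W ε
  letI := braided adj W ε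
  letI := toLocBraided adj W ε
  { symmetry := fun M N => by
      change L.map _ ≫ L.map _ = _
      rw [← L.map_comp, SymmetricCategory.symmetry, L.map_id]
      rfl }

theorem cou_unit (P : C) :
    (cou adj W ε).inv.app (L.obj P) = (tl W ε).inv.app P ≫ (L').map (adj.unit.app P) := by
  change (asIso adj.counit).inv.app (L.obj P) = 𝟙 _ ≫ L.map (adj.unit.app P)
  rw [id_comp]
  have h1 : L.map (adj.unit.app P) ≫ (asIso adj.counit).hom.app (L.obj P) = 𝟙 _ :=
    adj.left_triangle_components P
  have h2 : (asIso adj.counit).inv.app (L.obj P) ≫ (asIso adj.counit).hom.app (L.obj P) = 𝟙 _ :=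
    Iso.inv_hom_id_app _ _
  exact (cancel_mono ((asIso adj.counit).hom.app (L.obj P))).1 (h2.trans h1.symm)

omit [IsIso adj.counit] in
/-- `L (η_P ⊗ η_Q)` is an isomorphism. -/
theorem isIso_map_unit_tensor_unit (hW : ∀ P, W (adj.unit.app P)) (P Q : C) :
    IsIso (L.map (adj.unit.app P ⊗ₘ adj.unit.app Q)) :=
  Localization.inverts L W _ (W.tensorHom_mem _ _ (hW P) (hW Q))

theorem mu_L (P Q : C) :
    (mu adj W ε (L.obj P) (L.obj Q)).hom =
      ((tl W ε).inv.app P ⊗ₘ (tl W ε).inv.app Q) ≫ Functor.LaxMonoidal.μ (L') P Q ≫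
        (tl W ε).hom.app (P ⊗ Q) ≫ (toLoc W ε).map (L.map (adj.unit.app P ⊗ₘ adj.unit.app Q)) := by
  have h1 := tl_naturality W ε (adj.unit.app P ⊗ₘ adj.unit.app Q)
  simp only [mu, Iso.trans_hom, tensorIso_hom, Iso.symm_hom, Iso.app_inv, Iso.app_hom,
    Functor.Monoidal.μIso_hom, cou_unit]
  rw [← tensorHom_comp_tensorHom_assoc]
  erw [Functor.LaxMonoidal.μ_natural_assoc, h1]
  rfl

/-- The reflector is monoidal, with tensorator the inverse of `L (η_P ⊗ η_Q)`. -/
noncomputable def coreMonoidalL (hW : ∀ P, W (adj.unit.app P)) :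
    letI := monoidal adj W ε
    L.CoreMonoidal :=
  letI := monoidal adj W ε
  letI := toLocMonoidal adj W ε
  coreMonoidalOfFaithful (toLoc W ε) (tl W ε) ε.symm
    (fun P Q => letI := isIso_map_unit_tensor_unit adj W hW P Q
      (asIso (L.map (adj.unit.app P ⊗ₘ adj.unit.app Q))).symm)
    (fun P Q => by
      have := isIso_map_unit_tensor_unit adj W hW P Q
      rw [toLoc_μ, Iso.symm_hom, asIso_inv, Functor.map_inv, IsIso.comp_inv_eq, mu_L]
      simp only [assoc]
      rfl)
    (by
      change 𝟙 _ ≫ ε.inv = ε.inv ≫ 𝟙 _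
      rw [id_comp, comp_id])

/-- The reflector is monoidal. -/
@[instance_reducible]
noncomputable def monoidalL (hW : ∀ P, W (adj.unit.app P)) :
    letI := monoidal adj W ε
    L.Monoidal :=
  letI := monoidal adj W ε
  (coreMonoidalL adj W ε hW).toMonoidal

theorem monoidalL_δ (hW : ∀ P, W (adj.unit.app P)) (P Q : C) :
    letI := monoidal adj W ε
    letI := monoidalL adj W ε hW
    Functor.OplaxMonoidal.δ L P Q = L.map (adj.unit.app P ⊗ₘ adj.unit.app Q) :=
  rfl

/-- The reflector is braided. -/
@[instance_reducible]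
noncomputable def braidedL [BraidedCategory C] (hW : ∀ P, W (adj.unit.app P)) :
    letI := monoidal adj W ε
    letI := braided adj W ε
    L.Braided :=
  letI := monoidal adj W ε
  letI := braided adj W ε
  letI := monoidalL adj W ε hW
  { braided := fun P Q => by
      have := isIso_map_unit_tensor_unit adj W hW P Q
      have := isIso_map_unit_tensor_unit adj W hW Q P
      change inv (L.map (adj.unit.app P ⊗ₘ adj.unit.app Q)) ≫ L.map (β_ P Q).hom =
        L.map (β_ (R.obj (L.obj P)) (R.obj (L.obj Q))).hom ≫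
          inv (L.map (adj.unit.app Q ⊗ₘ adj.unit.app P))
      rw [IsIso.inv_comp_eq, ← assoc, IsIso.eq_comp_inv, ← L.map_comp, ← L.map_comp]
      congr 1
      exact (BraidedCategory.braiding_naturality _ _).symm }

end Groth.Agent.Dcoh.MonRefl
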