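import Groth.Agent.Dcoh.MonW
import Groth.Agent.Dcoh.MonRefl
import Groth.Prelude.Def_DCoh4

/-!
# The symmetric monoidal category of O_X-modules

For a scheme `X` we make `X.Modules` a symmetric monoidal category (scoped instances
`monoidalModules`, `symmetricModules`; use `open scoped Groth.Agent.Dcoh.MonCat`) in which,
DEFINITIONALLY,
* `M ⊗ N = CohB1.tensorMod M N = (DCoh.tensorBi.obj M).obj N`,
* `M ◁ g = (DCoh.tensorBi.obj M).map g`, `f ▷ N = (DCoh.tensorBi.map f).app N`,
* `𝟙_ _ = Coh.structureModule X`,
and such that sheafification `DCoh.shP : CohB1.PMod X ⥤ X.Modules` is a (braided) monoidal functor,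
with `δ = shP.map (η ⊗ η)`.
-/

open CategoryTheory MonoidalCategory AlgebraicGeometry Limits Opposite DCoh TopologicalSpace

universe u

namespace Groth.Agent.Dcoh.MonCat

section

variable (X : Scheme.{u})

/-- Morphisms of presheaves of `O_X`-modules which become isomorphisms after sheafification. -/
abbrev WX : MorphismProperty (CohB1.PMod X) :=
  MonW.W (Opens.grothendieckTopology X) X.sheaf.obj

/-- Sheafification is left adjoint to the forgetful functor. -/
noncomputable def shAdj : shP (X := X) ⊣ toP (X := X) :=
  PresheafOfModules.sheafificationAdjunction (𝟙 X.ringCatSheaf.obj)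

instance isLocalization_shP : (shP (X := X)).IsLocalization (WX X) :=
  inferInstanceAs ((PresheafOfModules.sheafification (𝟙 X.ringCatSheaf.obj)).IsLocalization
    ((Opens.grothendieckTopology X).W.inverseImage
      (PresheafOfModules.toPresheaf X.ringCatSheaf.obj)))

instance isIso_shAdj_counit : IsIso (shAdj X).counit :=
  inferInstanceAs
    (IsIso (PresheafOfModules.sheafificationAdjunction (𝟙 X.ringCatSheaf.obj)).counit)

instance toP_full : (toP (X := X)).Full :=
  inferInstanceAs (Scheme.Modules.toPresheafOfModules X).Full

instance toP_faithful : (toP (X := X)).Faithful :=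
  inferInstanceAs (Scheme.Modules.toPresheafOfModules X).Faithful

theorem WX_iff {P Q : CohB1.PMod X} (f : P ⟶ Q) :
    WX X f ↔ IsIso ((shP (X := X)).map f) := by
  have := PresheafOfModules.inverseImage_W_toPresheaf_eq_inverseImage_isomorphisms
    (𝟙 X.ringCatSheaf.obj)
  change (Opens.grothendieckTopology X).W.inverseImage
    (PresheafOfModules.toPresheaf X.ringCatSheaf.obj) f ↔ _
  rw [this]
  rfl

theorem WX_unit (P : CohB1.PMod X) : WX X ((shAdj X).unit.app P) := by
  rw [WX_iff]
  have h := (shAdj X).left_triangle_components P
  exact IsIso.of_isIso_fac_right h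

/-- `L(𝟙) ≅ O_X`. -/
noncomputable def unitIso : (shP (X := X)).obj (𝟙_ (CohB1.PMod X)) ≅ Coh.structureModule X :=
  (asIso (shAdj X).counit).app (Coh.structureModule X)

/-- The monoidal category structure on `X.Modules`. -/
@[instance_reducible]
noncomputable def monoidalModules : MonoidalCategory X.Modules :=
  MonRefl.monoidal (shAdj X) (WX X) (unitIso X)

attribute [scoped instance] monoidalModules

/-- The symmetric monoidal category structure on `X.Modules`. -/
@[instance_reducible]
noncomputable def symmetricModules : SymmetricCategory X.Modules :=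
  MonRefl.symmetric (shAdj X) (WX X) (unitIso X)

attribute [scoped instance] symmetricModules

/-- Sheafification is braided monoidal. -/
@[instance_reducible]
noncomputable def braidedShP : (shP (X := X)).Braided :=
  MonRefl.braidedL (shAdj X) (WX X) (unitIso X) (WX_unit X)

attribute [scoped instance] braidedShP

end

section Defeq

variable {X : Scheme.{u}} (M N : X.Modules)

example : M ⊗ N = CohB1.tensorMod M N := rfl
example : M ⊗ N = (tensorBi.obj M).obj N := rfl
example {N' : X.Modules} (g : N ⟶ N') : M ◁ g = (tensorBi.obj M).map g := rfl
example {M' : X.Modules} (g : M ⟶ M') : g ▷ N = (tensorBi.map g).app N := rfl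
example : 𝟙_ X.Modules = Coh.structureModule X := rfl
example : (β_ M N).hom = (shP (X := X)).map (β_ (toP.obj M) (toP.obj N)).hom := rfl
example : (CohB1.tensorMod M N : X.Modules) = (tensorRightMod N).obj M := rfl

/-- `tensorBi` is the curried tensor product of the monoidal category `X.Modules`. -/
noncomputable def tensorBiIso : tensorBi (X := X) ≅ curriedTensor X.Modules :=
  NatIso.ofComponents (fun M => NatIso.ofComponents (fun N => Iso.refl _)
    (fun g => (Category.comp_id _).trans (Category.id_comp _).symm))
    (fun f => by ext N : 2; exact (Category.comp_id _).trans (Category.id_comp _).symm)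

end Defeq

end Groth.Agent.Dcoh.MonCat
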