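import Groth.Agent.Ega3B.TensRestrict
import Groth.Agent.PerfC.CxNat
import Groth.Agent.Dcoh.MonCat

/-!
# The tensor product of `O_X`-modules commutes with restriction to opens, naturally

* `tensorBi_map_tmul`, `tensorBi_obj_map_tmul`: functoriality of `DCoh.tensorBi` on pure tensors;
* `restrNat j`: `(M ⊗ N)|_U ≅ M|_U ⊗ N|_U` as an isomorphism of bifunctors, `restrRight` its `tensorRightMod` form;
* `restrCx j`: the same for complexes.
-/

set_option autoImplicit false
universe u
open CategoryTheory CategoryTheory.Limits AlgebraicGeometry Opposite TopologicalSpace MonoidalCategory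

namespace Groth.Agent.Dcoh.TensRestr

open Ega2.Tens Ega3B.TensRestrict

section

variable {X : Scheme.{u}} {M M' N N' : X.Modules} {U : X.Opens}

theorem tensorBi_obj_map_tmul (M : X.Modules) (φ : N ⟶ N') (m : Γ(M, U)) (n : Γ(N, U)) :
    ((DCoh.tensorBi.obj M).map φ).app U (tmul m n) = tmul m (φ.app U n) := by
  have h := (PresheafOfModules.sheafificationAdjunction (R := X.ringCatSheaf)
    (𝟙 X.ringCatSheaf.obj)).unit.naturality
      (show (show X.PresheafOfModules from CohB1.tensorPre M N) ⟶
        (show X.PresheafOfModules from CohB1.tensorPre M N') from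
          ((CohB1.toPMod M) ◁ (show CohB1.toPMod N ⟶ CohB1.toPMod N' from φ.val)))
  let z : TensorProduct Γ(X, U) Γ(M, U) Γ(N, U) := TensorProduct.tmul _ m n
  have h2 := congr((($h).app (op U)).hom z)
  exact h2.symm

theorem tensorBi_map_tmul (φ : M ⟶ M') (N : X.Modules) (m : Γ(M, U)) (n : Γ(N, U)) :
    ((DCoh.tensorBi.map φ).app N).app U (tmul m n) = tmul (φ.app U m) n := by
  have h := (PresheafOfModules.sheafificationAdjunction (R := X.ringCatSheaf)
    (𝟙 X.ringCatSheaf.obj)).unit.naturality
      (show (show X.PresheafOfModules from CohB1.tensorPre M N) ⟶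
        (show X.PresheafOfModules from CohB1.tensorPre M' N) from
          ((show CohB1.toPMod M ⟶ CohB1.toPMod M' from φ.val) ▷ (CohB1.toPMod N)))
  let z : TensorProduct Γ(X, U) Γ(M, U) Γ(N, U) := TensorProduct.tmul _ m n
  have h2 := congr((($h).app (op U)).hom z)
  exact h2.symm

theorem tensorRightMod_map_tmul (φ : M ⟶ M') (N : X.Modules) (m : Γ(M, U)) (n : Γ(N, U)) :
    ((DCoh.tensorRightMod N).map φ).app U (tmul m n) = tmul (φ.app U m) n :=
  tensorBi_map_tmul φ N m n

theorem tensorBi_map_eq (φ : M ⟶ M') (N : X.Modules) : (DCoh.tensorBi.map φ).app N = mapT φ (𝟙 N) :=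
  hom_ext _ _ fun U m n => by
    exact (tensorBi_map_tmul φ N m n).trans (mapT_tmul φ (𝟙 N) m n).symm

theorem tensorBi_obj_map_eq (M : X.Modules) (φ : N ⟶ N') : (DCoh.tensorBi.obj M).map φ = mapT (𝟙 M) φ :=
  hom_ext _ _ fun U m n => by
    exact (tensorBi_obj_map_tmul M φ m n).trans (mapT_tmul (𝟙 M) φ m n).symm

end

variable {X U : Scheme.{u}} (j : U ⟶ X) [IsOpenImmersion j]

/-- Sections of the restriction of a morphism. -/
lemma restrict_map_app {M N : X.Modules} (φ : M ⟶ N) (V : U.Opens) (m : Γ(M, j ''ᵁ V)) :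
    ((Scheme.Modules.restrictFunctor j).map φ).app V m = φ.app (j ''ᵁ V) m := rfl

lemma fwd_naturality_left {M M' : X.Modules} (φ : M ⟶ M') (N : X.Modules) :
    (DCoh.tensorBi.map ((Scheme.Modules.restrictFunctor j).map φ)).app (N.restrict j) ≫ fwd j M' N =
      fwd j M N ≫ (Scheme.Modules.restrictFunctor j).map ((DCoh.tensorBi.map φ).app N) := by
  refine hom_ext _ _ fun V m n => ?_
  change (fwd j M' N).app V (((DCoh.tensorBi.map ((Scheme.Modules.restrictFunctor j).map φ)).app
    (N.restrict j)).app V (tmul m n)) =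
    ((Scheme.Modules.restrictFunctor j).map ((DCoh.tensorBi.map φ).app N)).app V ((fwd j M N).app V (tmul m n))
  refine (congrArg ((fwd j M' N).app V) (tensorBi_map_tmul ((Scheme.Modules.restrictFunctor j).map φ)
    (N.restrict j) m n)).trans ?_
  refine (fwd_tmul j M' N V _ n).trans (Eq.trans ?_
    (congrArg (((Scheme.Modules.restrictFunctor j).map ((DCoh.tensorBi.map φ).app N)).app V)
      (fwd_tmul j M N V m n)).symm)
  exact (tensorBi_map_tmul (U := j ''ᵁ V) φ N m n).symm

lemma fwd_naturality_right (M : X.Modules) {N N' : X.Modules} (φ : N ⟶ N') :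
    (DCoh.tensorBi.obj (M.restrict j)).map ((Scheme.Modules.restrictFunctor j).map φ) ≫ fwd j M N' =
      fwd j M N ≫ (Scheme.Modules.restrictFunctor j).map ((DCoh.tensorBi.obj M).map φ) := by
  refine hom_ext _ _ fun V m n => ?_
  change (fwd j M N').app V (((DCoh.tensorBi.obj (M.restrict j)).map
    ((Scheme.Modules.restrictFunctor j).map φ)).app V (tmul m n)) =
    ((Scheme.Modules.restrictFunctor j).map ((DCoh.tensorBi.obj M).map φ)).app V ((fwd j M N).app V (tmul m n))
  refine (congrArg ((fwd j M N').app V) (tensorBi_obj_map_tmul (M.restrict j)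
    ((Scheme.Modules.restrictFunctor j).map φ) m n)).trans ?_
  refine (fwd_tmul j M N' V m _).trans (Eq.trans ?_
    (congrArg (((Scheme.Modules.restrictFunctor j).map ((DCoh.tensorBi.obj M).map φ)).app V)
      (fwd_tmul j M N V m n)).symm)
  exact (tensorBi_obj_map_tmul (U := j ''ᵁ V) M φ m n).symm

/-- `M|_U ⊗ N|_U ≅ (M ⊗ N)|_U`, sending pure tensors to pure tensors. -/
noncomputable def restrApp (M N : X.Modules) :
    (DCoh.tensorBi.obj ((Scheme.Modules.restrictFunctor j).obj M)).obj ((Scheme.Modules.restrictFunctor j).obj N) ≅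
      (Scheme.Modules.restrictFunctor j).obj ((DCoh.tensorBi.obj M).obj N) :=
  (restrictIso j M N).symm

/-- The tensor product commutes with restriction to opens (isomorphism of bifunctors). -/
noncomputable def restrNat :
    Scheme.Modules.restrictFunctor j ⋙ DCoh.tensorBi ⋙
      (Functor.whiskeringLeft _ _ _).obj (Scheme.Modules.restrictFunctor j) ≅
    DCoh.tensorBi ⋙ (Functor.whiskeringRight _ _ _).obj (Scheme.Modules.restrictFunctor j) :=
  NatIso.ofComponents (fun M => NatIso.ofComponents (fun N => restrApp j M N)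
    (fun {N N'} φ => fwd_naturality_right j M φ))
    (fun {M M'} φ => by
      ext1; ext1 N
      exact fwd_naturality_left j φ N)

/-- `(- ⊗ G)|_U ≅ -|_U ⊗ G|_U`. -/
noncomputable def restrRight (G : X.Modules) :
    DCoh.tensorRightMod G ⋙ Scheme.Modules.restrictFunctor j ≅
      Scheme.Modules.restrictFunctor j ⋙ DCoh.tensorRightMod (G.restrict j) :=
  (NatIso.ofComponents (F := Scheme.Modules.restrictFunctor j ⋙ DCoh.tensorRightMod (G.restrict j))
    (G := DCoh.tensorRightMod G ⋙ Scheme.Modules.restrictFunctor j) (fun M => restrApp j M G)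
    (fun {M M'} φ => fwd_naturality_left j φ G)).symm

/-- The tensor product of complexes commutes with restriction to opens (isomorphism of bifunctors). -/
noncomputable def restrCx :
    DCoh.tensorCx (X := X) ⋙ (Functor.whiskeringRight _ _ _).obj
      ((Scheme.Modules.restrictFunctor j).mapHomologicalComplex (ComplexShape.up ℤ)) ≅
    (Scheme.Modules.restrictFunctor j).mapHomologicalComplex (ComplexShape.up ℤ) ⋙ DCoh.tensorCx (X := U) ⋙
      (Functor.whiskeringLeft _ _ _).obj
        ((Scheme.Modules.restrictFunctor j).mapHomologicalComplex (ComplexShape.up ℤ)) :=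
  PerfC.CxNat.natIso (restrNat j).symm

/-- The restriction of `K ⊗ L` is the tensor product of the restrictions. -/
theorem nonempty_restrCx (K L : CochainComplex X.Modules ℤ) :
    Nonempty (((Scheme.Modules.restrictFunctor j).mapHomologicalComplex (ComplexShape.up ℤ)).obj
      ((DCoh.tensorCx.obj K).obj L) ≅
      (DCoh.tensorCx.obj (((Scheme.Modules.restrictFunctor j).mapHomologicalComplex (ComplexShape.up ℤ)).obj K)).obj
        (((Scheme.Modules.restrictFunctor j).mapHomologicalComplex (ComplexShape.up ℤ)).obj L)) :=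
  ⟨((restrCx j).app K).app L⟩

end Groth.Agent.Dcoh.TensRestr
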