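import Mathlib.Algebra.Homology.BifunctorAssociator
import Groth.Agent.Ega2.TensMon
import Groth.Agent.Dcoh.TensSymm

/-!
# Associativity of the tensor product of complexes of `O_X`-modules

`associatorIso X : bifunctorComp₁₂ tensorBi tensorBi ≅ bifunctorComp₂₃ tensorBi tensorBi`, and
`tensorCxAssoc K L M : (K ⊗ L) ⊗ M ≅ K ⊗ (L ⊗ M)` for complexes of modules.
-/

set_option autoImplicit false

universe u

namespace Groth.Agent.Dcoh.TensAssoc

open CategoryTheory Category Limits HomologicalComplex CochainComplex AlgebraicGeometry MonoidalCategory Opposite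
open Groth.Agent.Ega2

variable {X : Scheme.{u}}

lemma shP_map_eta {P Q : CohB1.PMod X} (φ : P ⟶ Q) (U : X.Opens) (x : P.presheaf.obj (op U)) :
    ((DCoh.shP.map φ).app U) ((toSheafify (Opens.grothendieckTopology X) P.presheaf).app (op U) x) =
      (toSheafify (Opens.grothendieckTopology X) Q.presheaf).app (op U) 
        (((PresheafOfModules.toPresheaf _).map φ).app (op U) x) := by
  have h := toSheafify_naturality (Opens.grothendieckTopology X) ((PresheafOfModules.toPresheaf _).map φ)
  exact congr(($(h).app (op U)) x).symm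

/-- `f ⊗ N`, with the types written in terms of `tensorMod`. -/
noncomputable def mapL {M M' : X.Modules} (f : M ⟶ M') (N : X.Modules) :
    CohB1.tensorMod M N ⟶ CohB1.tensorMod M' N := (DCoh.tensorBi.map f).app N

noncomputable def mapR (M : X.Modules) {N N' : X.Modules} (g : N ⟶ N') :
    CohB1.tensorMod M N ⟶ CohB1.tensorMod M N' := (DCoh.tensorBi.obj M).map g

lemma mapL_tmul {M M' : X.Modules} (f : M ⟶ M') (N : X.Modules) (U : X.Opens) (m : Γ(M, U)) (n : Γ(N, U)) :
    (mapL f N).app U (Tens.tmul m n) = Tens.tmul (f.app U m) n :=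
  shP_map_eta (DCoh.toP.map f ▷ DCoh.toP.obj N) U (Tens.pt m n)

lemma mapR_tmul (M : X.Modules) {N N' : X.Modules} (g : N ⟶ N') (U : X.Opens) (m : Γ(M, U)) (n : Γ(N, U)) :
    (mapR M g).app U (Tens.tmul m n) = Tens.tmul m (g.app U n) :=
  shP_map_eta (DCoh.toP.obj M ◁ DCoh.toP.map g) U (Tens.pt m n)

lemma mapL_eq {M M' : X.Modules} (f : M ⟶ M') (N : X.Modules) :
    mapL f N = Tens.mapT f (𝟙 N) := by
  apply Tens.hom_ext
  intro U m n
  rw [mapL_tmul, Tens.mapT_tmul]
  rfl

lemma mapR_eq (M : X.Modules) {N N' : X.Modules} (g : N ⟶ N') :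
    mapR M g = Tens.mapT (𝟙 M) g := by
  apply Tens.hom_ext
  intro U m n
  rw [mapR_tmul, Tens.mapT_tmul]
  rfl

lemma assoc_naturality {M N P M' N' P' : X.Modules} (f : M ⟶ M') (g : N ⟶ N') (h : P ⟶ P') :
    Tens.mapT (Tens.mapT f g) h ≫ (Tens.assoc M' N' P').hom =
      (Tens.assoc M N P).hom ≫ Tens.mapT f (Tens.mapT g h) :=
  Tens.hom_ext₃ _ _ (fun U m n p => by simp [Tens.assoc])

lemma assoc_mapL {M M' : X.Modules} (f : M ⟶ M') (N P : X.Modules) :
    mapL (mapL f N) P ≫ (Tens.assoc M' N P).hom = (Tens.assoc M N P).hom ≫ mapL f (CohB1.tensorMod N P) := by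
  rw [mapL_eq, mapL_eq, mapL_eq, assoc_naturality, Tens.mapT_id]

lemma assoc_mapRL (M : X.Modules) {N N' : X.Modules} (g : N ⟶ N') (P : X.Modules) :
    mapL (mapR M g) P ≫ (Tens.assoc M N' P).hom = (Tens.assoc M N P).hom ≫ mapR M (mapL g P) := by
  rw [mapL_eq, mapL_eq, mapR_eq, mapR_eq, assoc_naturality]

lemma assoc_mapR (M N : X.Modules) {P P' : X.Modules} (h : P ⟶ P') :
    mapR (CohB1.tensorMod M N) h ≫ (Tens.assoc M N P').hom = (Tens.assoc M N P).hom ≫ mapR M (mapR N h) := by
  rw [mapR_eq, mapR_eq, mapR_eq, ← assoc_naturality, Tens.mapT_id]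

variable (X) in
/-- The associator of `DCoh.tensorBi`, as an isomorphism of trifunctors. -/
noncomputable def associatorIso :
    bifunctorComp₁₂ (DCoh.tensorBi (X := X)) DCoh.tensorBi ≅ bifunctorComp₂₃ DCoh.tensorBi DCoh.tensorBi :=
  NatIso.ofComponents (fun M => NatIso.ofComponents (fun N => NatIso.ofComponents
    (fun P => Tens.assoc M N P) (fun h => assoc_mapR M N h))
    (fun g => by
      ext P : 2
      exact assoc_mapRL M g P))
    (fun f => by
      ext N P : 4
      exact assoc_mapL f N P)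

/-- associativity of the tensor product of complexes -/
noncomputable def tensorCxAssoc (K L M : CochainComplex X.Modules ℤ) :
    (DCoh.tensorCx.obj ((DCoh.tensorCx.obj K).obj L)).obj M ≅
      (DCoh.tensorCx.obj K).obj ((DCoh.tensorCx.obj L).obj M) :=
  mapBifunctorAssociator (associatorIso X) K L M (ComplexShape.up ℤ) (ComplexShape.up ℤ) (ComplexShape.up ℤ)

/-- Stacks 079R: the tensor product of K-flat complexes is K-flat. -/
theorem isKFlat_tensor (K L : CochainComplex X.Modules ℤ) (hK : DCoh.IsKFlat K) (hL : DCoh.IsKFlat L) :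
    DCoh.IsKFlat ((DCoh.tensorCx.obj K).obj L) := by
  rw [KFlat.isKFlat_iff] at hK hL ⊢
  intro M hM
  exact KFlatSingle.acyclic_of_iso (tensorCxAssoc M K L) (hL _ (hK M hM))

end Groth.Agent.Dcoh.TensAssoc
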