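import Groth.Prelude.Def_DCoh2

/-!
# Triangulated functors preserving countable products preserve derived limits
-/

set_option autoImplicit false

universe w v w' v'

open CategoryTheory CategoryTheory.Limits Pretriangulated

namespace Groth.Agent.Dcoh.RlimMap

variable {T : Type v} [Category.{w} T] [Preadditive T] [HasZeroObject T] [HasShift T ℤ]
  [∀ n : ℤ, (shiftFunctor T n).Additive] [Pretriangulated T]
  {T' : Type v'} [Category.{w'} T'] [Preadditive T'] [HasZeroObject T'] [HasShift T' ℤ]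
  [∀ n : ℤ, (shiftFunctor T' n).Additive] [Pretriangulated T']

/-- A triangulated functor which preserves the product of the `K n` preserves derived limits of
`K`. -/
theorem isRlim_map (F : T ⥤ T') [F.CommShift ℤ] [F.IsTriangulated] (K : ℕ → T)
    (t : ∀ n, K (n + 1) ⟶ K n) [HasProduct K] [HasProduct fun n ↦ F.obj (K n)]
    [PreservesLimit (Discrete.functor K) F] (L : T) (hL : DCoh.IsRlim K t L) :
    DCoh.IsRlim (fun n ↦ F.obj (K n)) (fun n ↦ F.map (t n)) (F.obj L) := by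
  obtain ⟨a, c, hT⟩ := hL
  have : F.Additive := inferInstance
  let e : F.obj (∏ᶜ K) ≅ ∏ᶜ fun n ↦ F.obj (K n) := PreservesProduct.iso F K
  have he : ∀ n, e.hom ≫ Pi.π (fun n ↦ F.obj (K n)) n = F.map (Pi.π K n) := by
    intro n
    simp [e]
  refine ⟨F.map a ≫ e.hom, e.inv ≫ F.map c ≫ (F.commShiftIso (1 : ℤ)).hom.app L, ?_⟩
  refine isomorphic_distinguished _ (F.map_distinguished _ hT) _ ?_
  refine (Triangle.isoMk (F.mapTriangle.obj (Triangle.mk a
      (Pi.lift fun n ↦ Pi.π K n - Pi.π K (n + 1) ≫ t n) c)) (Triangle.mk (F.map a ≫ e.hom)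
      (Pi.lift fun n ↦ Pi.π (fun n ↦ F.obj (K n)) n -
        Pi.π (fun n ↦ F.obj (K n)) (n + 1) ≫ F.map (t n))
      (e.inv ≫ F.map c ≫ (F.commShiftIso (1 : ℤ)).hom.app L))
      (Iso.refl _) e e ?_ ?_ ?_).symm
  · change F.map a ≫ e.hom = 𝟙 _ ≫ F.map a ≫ e.hom
    rw [Category.id_comp]
  · change F.map (Pi.lift fun n ↦ Pi.π K n - Pi.π K (n + 1) ≫ t n) ≫ e.hom =
      e.hom ≫ Pi.lift fun n ↦ Pi.π (fun n ↦ F.obj (K n)) n -
        Pi.π (fun n ↦ F.obj (K n)) (n + 1) ≫ F.map (t n)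
    apply limit.hom_ext
    rintro ⟨n⟩
    change (F.map (Pi.lift fun n ↦ Pi.π K n - Pi.π K (n + 1) ≫ t n) ≫ e.hom) ≫
        Pi.π (fun n ↦ F.obj (K n)) n = (e.hom ≫ Pi.lift fun n ↦ Pi.π (fun n ↦ F.obj (K n)) n -
        Pi.π (fun n ↦ F.obj (K n)) (n + 1) ≫ F.map (t n)) ≫ Pi.π (fun n ↦ F.obj (K n)) n
    rw [Category.assoc, Category.assoc, he, ← F.map_comp, Pi.lift_π, Pi.lift_π, F.map_sub,
      F.map_comp, Preadditive.comp_sub, he, ← Category.assoc, he]
  · change (F.map c ≫ (F.commShiftIso (1 : ℤ)).hom.app L) ≫ (𝟙 (F.obj L))⟦(1 : ℤ)⟧' =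
      e.hom ≫ e.inv ≫ F.map c ≫ (F.commShiftIso (1 : ℤ)).hom.app L
    simp

end Groth.Agent.Dcoh.RlimMap
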