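import Groth.Agent.Dcoh.FlatAmp
import Groth.Agent.Dcoh.Spread
import Groth.Agent.Dcoh.StrPerf
import Groth.Agent.Dcoh.MapDer
import Groth.Prelude.Def_DTor2

/-!
# Perfect = pseudo-coherent + finite flat amplitude (Stacks 08CP, 08CQ)
-/

set_option autoImplicit false
universe u

open CategoryTheory CategoryTheory.Limits AlgebraicGeometry
attribute [local instance] HasDerivedCategory.standard

namespace Groth.Agent.Dcoh.PerfFlat

open LocalD StalkMod Groth.Agent.CycB.StalkExact StalkRestrict FreeSec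

variable {X Y : Scheme.{u}}

section exact

variable {C D : Type*} [Category* C] [Category* D] [Abelian C] [Abelian D]

/-- `opcycles` commute with exact functors. -/
theorem nonempty_opcycles_map_iso (G : C ⥤ D) [G.Additive] [PreservesFiniteColimits G]
    (K : CochainComplex C ℤ) (i : ℤ) :
    Nonempty (((G.mapHomologicalComplex (ComplexShape.up ℤ)).obj K).opcycles i ≅
      G.obj (K.opcycles i)) := by
  have h1 := ((G.mapHomologicalComplex (ComplexShape.up ℤ)).obj K).opcyclesIsCokernel (i - 1) i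
    (by simp)
  have h2 := CokernelCofork.mapIsColimit _ (K.opcyclesIsCokernel (i - 1) i (by simp)) G
  exact ⟨IsColimit.coconePointUniqueUpToIso h1 h2⟩

end exact

section semilinear

/-- Transport of a basis along a semilinear equivalence. -/
noncomputable def basisOfSemilinear {R S : Type*} [CommRing R] [CommRing S] (σ : R ≃+* S)
    {M N : Type*} [AddCommGroup M] [AddCommGroup N] [Module R M] [Module S N] (e : M ≃+ N)
    (he : ∀ (r : R) (m : M), e (r • m) = σ r • e m) {ι : Type*} (b : Module.Basis ι R M) :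
    Module.Basis ι S N :=
  letI : Module R N := Module.compHom N σ.toRingHom
  (b.map ({ e with map_smul' := fun r m => he r m } : M ≃ₗ[R] N)).mapCoeffs σ (fun _ _ => rfl)

end semilinear

/-- The stalks of a finite locally free module are free of finite rank. -/
theorem exists_basis_stalk {M : X.Modules} (h : FlatMod.IsFinLocFree M) (x : X) :
    ∃ n : ℕ, Nonempty (Module.Basis (Fin n) (X.presheaf.stalk x) (M.presheaf.stalk x)) := by
  obtain ⟨U, n, hx, ⟨a⟩⟩ := h x
  let b : Module.Basis (Fin n) ((U : Scheme.{u}).presheaf.stalk (pt U hx))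
      ((M.restrict U.ι).presheaf.stalk (pt U hx)) :=
    Module.Basis.ofEquivFun ((stalkLinEquiv a (pt U hx)).trans (stalkFree n (pt U hx)).symm)
  exact ⟨n, ⟨basisOfSemilinear (σo U hx).symm (ρo U hx M) (ρo_smul' U hx M) b⟩⟩

/-- The stalk of a flat module is flat. -/
lemma flatP_stalk {M : X.Modules} {x : X} (h : FlatMod.IsFlatAt M x) :
    FlatAmp.FlatP (X.presheaf.stalk x) ((stalkMod x).obj M) := h

lemma projective_stalk {M : X.Modules} (h : FlatMod.IsFinLocFree M) (x : X) :
    Projective ((stalkMod x).obj M) := by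
  obtain ⟨n, ⟨b⟩⟩ := exists_basis_stalk h x
  have : Module.Free (X.presheaf.stalk x) ((stalkMod x).obj M) := Module.Free.of_basis b
  infer_instance

open DerivedCategory in
/-- Key step: let `α : Q E ⟶ Q F` with `E` strictly perfect, `F` a complex of flat modules in degrees `[a, b]`, and
`α` an isomorphism on `H^i` for `i ≥ a`. Then `E.opcycles a` is flat. -/
theorem isFlat_opcycles {E F : CochainComplex X.Modules ℤ} (hE : DCoh.IsStrictlyPerfect E)
    {a b : ℤ} (hF : DCoh.VanishesOutside F a b) (hF' : ∀ i, FlatMod.IsFlat (F.X i))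
    (α : Q.obj E ⟶ Q.obj F) (hα : ∀ i, a ≤ i → IsIso ((homologyFunctor _ i).map α)) :
    FlatMod.IsFlat (E.opcycles a) := by
  intro x
  obtain ⟨⟨a', b', hab⟩, hE⟩ := hE
  let G := stalkMod x
  let E' : CochainComplex (ModuleCat.{u} (X.presheaf.stalk x)) ℤ :=
    (G.mapHomologicalComplex (ComplexShape.up ℤ)).obj E
  let F' : CochainComplex (ModuleCat.{u} (X.presheaf.stalk x)) ℤ :=
    (G.mapHomologicalComplex (ComplexShape.up ℤ)).obj F
  let α' : Q.obj E' ⟶ Q.obj F' := G.mapDerivedCategoryFactors.inv.app E ≫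
    G.mapDerivedCategory.map α ≫ G.mapDerivedCategoryFactors.hom.app F
  have hα' : ∀ i, a ≤ i → IsIso ((homologyFunctor _ i).map α') := by
    intro i hi
    have := MapDer.isIso_homology_map G α i (hα i hi)
    simp only [α', Functor.map_comp]
    infer_instance
  have hproj : ∀ i, Projective (E'.X i) := fun i => projective_stalk (hE i) x
  have hLE : E'.IsStrictlyLE b' := by
    rw [CochainComplex.isStrictlyLE_iff]
    intro i hi
    exact G.map_isZero (hab i (Or.inr hi))
  have := CochainComplex.isKProjective_of_projective E' b'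
  obtain ⟨φ, hφ⟩ := FlatAmp.exists_map_eq α'
  have h := FlatAmp.prop_opcycles_of_map (FlatAmp.FlatP (X.presheaf.stalk x))
    FlatAmp.closedKer_flat FlatAmp.flat_of_isZero (fun _ _ => FlatAmp.flat_biprod) φ a (max b b')
    (fun i => flatP_stalk (Spread.isFlat_of_isFinLocFree (hE i) x))
    (fun i => flatP_stalk (hF' i x))
    (fun i hi => G.map_isZero (hab i (Or.inr (by lia))))
    (fun i hi => G.map_isZero (hF i (Or.inr (by lia))))
    (fun i hi => G.map_isZero (hF i (Or.inl (by lia))))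
    (fun i hi => by rw [hφ]; exact hα' i hi)
  obtain ⟨e⟩ := nonempty_opcycles_map_iso G E a
  exact (FlatAmp.FlatP (X.presheaf.stalk x)).prop_of_iso e h

open DerivedCategory in
/-- An object which receives a good approximation by a strictly perfect complex in degrees `≥ a - 1` and is
represented by a flat complex in degrees `[a, b]` is strictly perfect. -/
theorem strPerf_of_strPC {K : DCoh.D X} {a b : ℤ} (h1 : DCoh.HasFlatAmplitudeIn a b K)
    (h2 : StrPC (a - 1) X K) : StrPerf X K := by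
  obtain ⟨F, hF, hF', ⟨e⟩⟩ := h1
  obtain ⟨E, α, hE, hα, -⟩ := h2
  have hα' : ∀ i, a ≤ i → IsIso ((homologyFunctor _ i).map α) := fun i hi => hα i (by lia)
  have h3 : FlatMod.IsFlat (E.opcycles a) := by
    refine isFlat_opcycles hE hF hF' (α ≫ e.inv) fun i hi => ?_
    have := hα' i hi
    rw [Functor.map_comp]
    infer_instance
  have h4 : FlatMod.IsFinLocFree (E.opcycles a) :=
    Spread.isFinLocFree_of_cokernel (hE.2 (a - 1)) (hE.2 a) (E.d (a - 1) a) (E.pOpcycles a)
      (E.d_pOpcycles _ _) (E.opcyclesIsCokernel (a - 1) a (by simp)) h3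
  have h5 : ∀ i, i < a → IsZero ((homologyFunctor _ i).obj K) := by
    intro i hi
    have hz : IsZero (F.homology i) :=
      (HomologicalComplex.ExactAt.of_isZero (hF i (Or.inl hi))).isZero_homology
    exact (hz.of_iso ((homologyFunctorFactors _ i).app F)).of_iso
      ((homologyFunctor _ i).mapIso e).symm
  obtain ⟨f⟩ := BddCx.nonempty_iso_truncGE E K a h5 α hα'
  exact ⟨_, StrPerf.isStrictlyPerfect_truncGE hE a h4, ⟨f⟩⟩

/-- Flat amplitude restricts to open subschemes. -/
theorem hasFlatAmplitudeIn_restrict (f : X ⟶ Y) [IsOpenImmersion f] {K : DCoh.D Y} {a b : ℤ}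
    (h : DCoh.HasFlatAmplitudeIn a b K) :
    DCoh.HasFlatAmplitudeIn a b ((DCoh.restrictD f).obj K) := by
  obtain ⟨F, hF, hF', ⟨e⟩⟩ := h
  exact ⟨_, vanishesOutside_restrict f hF, fun i => isFlat_restrict f (hF' i),
    ⟨(QRestrict f F).symm ≪≫ (DCoh.restrictD f).mapIso e⟩⟩

theorem hasFlatAmplitudeIn_of_iso {K L : DCoh.D X} {a b : ℤ} (e : K ≅ L)
    (h : DCoh.HasFlatAmplitudeIn a b K) : DCoh.HasFlatAmplitudeIn a b L := by
  obtain ⟨F, hF, hF', ⟨f⟩⟩ := h
  exact ⟨F, hF, hF', ⟨f ≪≫ e⟩⟩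

/-- Stacks 08CP. -/
theorem isPerfect_of_flatAmplitude {K : DCoh.D X} {a b : ℤ}
    (h1 : DCoh.HasFlatAmplitudeIn a b K) (h2 : DCoh.IsPseudoCoherentD (a - 1) K) :
    DCoh.IsPerfect K := by
  rw [isPerfect_iff_locally]
  rw [isPseudoCoherentD_iff_locally] at h2
  intro x
  obtain ⟨V, hx, hV⟩ := h2 x
  exact ⟨V, hx, strPerf_of_strPC (hasFlatAmplitudeIn_restrict V.ι h1) hV⟩

/-- A strictly perfect complex has finite flat amplitude. -/
theorem exists_flatAmplitude_of_strPerf {K : DCoh.D X} (h : StrPerf X K) :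
    ∃ a b : ℤ, DCoh.HasFlatAmplitudeIn a b K := by
  obtain ⟨E, ⟨⟨a, b, hab⟩, hE⟩, ⟨e⟩⟩ := h
  exact ⟨a, b, E, hab, fun i => Spread.isFlat_of_isFinLocFree (hE i), ⟨e.symm⟩⟩

/-- Local finite tor dimension through the restriction functor. -/
theorem locHasFiniteTorDim_iff (K : DCoh.D X) : DCoh.LocHasFiniteTorDim K ↔
    ∀ x : X, ∃ (V : X.Opens) (a b : ℤ), x ∈ V ∧
      DCoh.HasFlatAmplitudeIn a b ((DCoh.restrictD V.ι).obj K) := by
  constructor
  · intro h x
    obtain ⟨V, a, b, hx, hV⟩ := h x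
    exact ⟨V, a, b, hx, hasFlatAmplitudeIn_of_iso ((QRestrict V.ι _).symm ≪≫
      (DCoh.restrictD V.ι).mapIso (DerivedCategory.Q.objObjPreimageIso K))
      (hV (DerivedCategory.Q.objPreimage K) ⟨DerivedCategory.Q.objObjPreimageIso K⟩)⟩
  · intro h x
    obtain ⟨V, a, b, hx, hV⟩ := h x
    refine ⟨V, a, b, hx, fun F' ⟨e⟩ => ?_⟩
    exact hasFlatAmplitudeIn_of_iso ((DCoh.restrictD V.ι).mapIso e.symm ≪≫ QRestrict V.ι F') hV

/-- Stacks 08CQ. -/
theorem isPerfect_iff (K : DCoh.D X) :
    DCoh.IsPerfect K ↔ (∀ m : ℤ, DCoh.IsPseudoCoherentD m K) ∧ DCoh.LocHasFiniteTorDim K := by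
  constructor
  · intro h
    refine ⟨fun m => isPseudoCoherentD_of_isPerfect m h, ?_⟩
    rw [locHasFiniteTorDim_iff]
    rw [isPerfect_iff_locally] at h
    intro x
    obtain ⟨V, hx, hV⟩ := h x
    obtain ⟨a, b, hab⟩ := exists_flatAmplitude_of_strPerf hV
    exact ⟨V, a, b, hx, hab⟩
  · rintro ⟨h1, h2⟩
    rw [locHasFiniteTorDim_iff] at h2
    refine isPerfect_of_cover fun x => ?_
    obtain ⟨V, a, b, hx, hV⟩ := h2 x
    exact ⟨V, V.ι, inferInstance, by simpa using hx,
      isPerfect_of_flatAmplitude hV (isPseudoCoherentD_restrict V.ι (h1 (a - 1)))⟩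

end Groth.Agent.Dcoh.PerfFlat
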