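import Mathlib.Algebra.Homology.DerivedCategory.KInjective
import Mathlib.Algebra.Homology.DerivedCategory.DerivabilityStructureInjectives
import Mathlib.Algebra.Homology.HomotopyCategory.HomComplexSingle
import Mathlib.Algebra.Homology.DerivedCategory.ShortExact

/-!
# Maps in the derived category from a single object to a bounded below complex of acyclic objects

Let `F` be a class of objects of an abelian category `C` (with enough injectives) which contains the
injective objects, is stable under biproducts and under cokernels of monomorphisms in `F`, and such that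
`Hom(P, -)` is exact on short exact sequences whose first term is in `F`.  Then, for a bounded below
complex `T` with terms in `F`, every map `P[-n] ⟶ T` in the derived category is represented by a
morphism of complexes, uniquely up to homotopy.
-/

set_option autoImplicit false
universe v u w

open CategoryTheory CategoryTheory.Limits CochainComplex CochainComplex.HomComplex

namespace Groth.Agent.Dcoh.AcycHom

variable {C : Type u} [Category.{v} C] [Abelian C]

/-- The class `F` computes `Hom(P, -)`. -/
structure IsAdapted (P : C) (F : ObjectProperty C) : Prop where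
  of_isZero : ∀ X : C, IsZero X → F X
  of_iso : ∀ X Y : C, (X ≅ Y) → F X → F Y
  biprod : ∀ X Y : C, F X → F Y → F (X ⊞ Y)
  coker : ∀ S : ShortComplex C, S.ShortExact → F S.X₁ → F S.X₂ → F S.X₃
  lift : ∀ S : ShortComplex C, S.ShortExact → F S.X₁ → ∀ f : P ⟶ S.X₃, ∃ g : P ⟶ S.X₂, g ≫ S.g = f
  of_injective : ∀ X : C, Injective X → F X

variable {P : C} {F : ObjectProperty C}

/-- `0 → Z^n → T^n → Z^{n+1} → 0` for an acyclic complex. -/
theorem shortExact_cycles (T : CochainComplex C ℤ) (n m : ℤ) (hnm : n + 1 = m) (h : IsZero (T.homology m)) :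
    (ShortComplex.mk (T.iCycles n) (T.toCycles n m) (by
      rw [← cancel_mono (T.iCycles m), Category.assoc, T.toCycles_i, T.iCycles_d, zero_comp])).ShortExact where
  exact := by
    apply ShortComplex.exact_of_f_is_kernel
    refine KernelFork.IsLimit.ofι _ _ (fun x hx => T.liftCycles x m (by simp [hnm]) (by
      rw [← T.toCycles_i n m, ← Category.assoc, hx, zero_comp])) (fun x hx => ?_) (fun x hx y hy => ?_)
    · simp
    · rw [← cancel_mono (T.iCycles n), hy]; simp
  mono_f := by dsimp; infer_instance
  epi_g := by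
    exact Preadditive.epi_of_isZero_cokernel' _ (T.homologyIsCokernel n m (by simp [← hnm])) h

/-- The cycles of a bounded below acyclic complex in `F` are in `F`. -/
theorem cycles_mem (hF : IsAdapted P F) (T : CochainComplex C ℤ) (a : ℤ) [T.IsStrictlyGE a]
    (hT : ∀ n, F (T.X n)) (hac : ∀ n, IsZero (T.homology n)) (n : ℤ) : F (T.cycles n) := by
  have h0 : ∀ n, n < a → F (T.cycles n) := fun n hn =>
    hF.of_isZero _ (IsZero.of_mono (T.iCycles n) (T.isZero_of_isStrictlyGE a n hn))
  have h1 : ∀ k : ℕ, F (T.cycles (a - 1 + k)) := by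
    intro k
    induction k with
    | zero => exact h0 _ (by simp)
    | succ k ih =>
      have := hF.coker _ (shortExact_cycles T (a - 1 + k) (a - 1 + (k + 1 : ℕ)) (by push_cast; ring) (hac _))
        ih (hT _)
      exact this
  by_cases hn : n < a
  · exact h0 n hn
  · obtain ⟨k, hk⟩ : ∃ k : ℕ, n = a - 1 + k := ⟨(n - (a - 1)).toNat, by lia⟩
    rw [hk]
    exact h1 k

/-- Maps from `P` to the cycles of a bounded below acyclic complex in `F` are boundaries. -/
theorem exists_comp_d (hF : IsAdapted P F) (T : CochainComplex C ℤ) (a : ℤ) [T.IsStrictlyGE a]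
    (hT : ∀ n, F (T.X n)) (hac : ∀ n, IsZero (T.homology n)) (n m q : ℤ) (hnm : n + 1 = m)
    (hmq : m + 1 = q)
    (x : P ⟶ T.X m) (hx : x ≫ T.d m q = 0) : ∃ y : P ⟶ T.X n, y ≫ T.d n m = x := by
  obtain ⟨y, hy⟩ := hF.lift _ (shortExact_cycles T n m hnm (hac _)) (cycles_mem hF T a hT hac n)
    (T.liftCycles x q (by simp [hmq]) hx)
  dsimp at y hy
  refine ⟨y, ?_⟩
  rw [← T.toCycles_i n m, ← Category.assoc, hy, T.liftCycles_i]

/-- Maps from a single object to a bounded below acyclic complex in `F` are null-homotopic. -/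
theorem nonempty_homotopy_zero (hF : IsAdapted P F) (T : CochainComplex C ℤ) (a : ℤ) [T.IsStrictlyGE a]
    (hT : ∀ n, F (T.X n)) (hac : ∀ n, IsZero (T.homology n)) (n : ℤ)
    (φ : (CochainComplex.singleFunctor C n).obj P ⟶ T) : Nonempty (Homotopy φ 0) := by
  obtain ⟨x, hx, hφ⟩ := Cocycle.fromSingleMk_surjective (Cocycle.ofHom φ) n (add_zero n) (n + 1) rfl
  obtain ⟨y, hy⟩ := exists_comp_d hF T a hT hac (n - 1) n (n + 1) (by simp) rfl x hx
  refine ⟨(Cochain.equivHomotopy φ 0).symm ⟨Cochain.fromSingleMk y (by lia : n + (-1) = n - 1), ?_⟩⟩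
  rw [Cochain.ofHom_zero, add_zero, Cochain.δ_fromSingleMk y _ 0 n (add_zero n), hy]
  exact (congrArg (fun z : Cocycle _ _ _ => z.1) hφ).symm

variable [HasDerivedCategory.{w} C]

/-- The mapping cone of a quasi-isomorphism is acyclic. -/
theorem isZero_homology_mappingCone {K L : CochainComplex C ℤ} (s : K ⟶ L) [QuasiIso s] (n : ℤ) :
    IsZero ((CochainComplex.mappingCone s).homology n) := by
  have h := DerivedCategory.mappingCone_triangle_distinguished s
  have h2 : IsZero (DerivedCategory.Q.obj (CochainComplex.mappingCone s)) :=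
    Pretriangulated.Triangle.isZero₃_of_isIso₁ _ h (inferInstanceAs (IsIso (DerivedCategory.Q.map s)))
  exact (Functor.map_isZero (DerivedCategory.homologyFunctor C n) h2).of_iso
    ((DerivedCategory.homologyFunctorFactors C n).app _).symm

/-- In the derived category, maps from a single object to a bounded below complex with adapted terms are
represented by morphisms of complexes. -/
theorem exists_Q_map_eq [EnoughInjectives C] (hF : IsAdapted P F) (T : CochainComplex C ℤ) (a : ℤ)
    [T.IsStrictlyGE a] (hT : ∀ n, F (T.X n)) (n : ℤ)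
    (f : DerivedCategory.Q.obj ((CochainComplex.singleFunctor C n).obj P) ⟶ DerivedCategory.Q.obj T) :
    ∃ φ : (CochainComplex.singleFunctor C n).obj P ⟶ T, DerivedCategory.Q.map φ = f := by
  obtain ⟨J, s, hs, hJ, hJa⟩ := CochainComplex.Plus.modelCategoryQuillen.exists_quasiIso_injective T a
  have : J.IsKInjective := CochainComplex.isKInjective_of_injective J a
  let S := (CochainComplex.singleFunctor C n).obj P
  -- the representative of `f ≫ Q s`
  obtain ⟨ψ, hψ⟩ : ∃ ψ : S ⟶ J, DerivedCategory.Q.map ψ = f ≫ DerivedCategory.Q.map s := by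
    obtain ⟨g, hg⟩ := (CochainComplex.IsKInjective.Qh_map_bijective
      ((HomotopyCategory.quotient _ _).obj S) J).surjective
      ((DerivedCategory.quotientCompQhIso C).hom.app S ≫ (f ≫ DerivedCategory.Q.map s) ≫
        (DerivedCategory.quotientCompQhIso C).inv.app J)
    obtain ⟨ψ, rfl⟩ := (HomotopyCategory.quotient _ _).map_surjective g
    refine ⟨ψ, ?_⟩
    rw [← cancel_epi ((DerivedCategory.quotientCompQhIso C).hom.app S)]
    have h1 := (DerivedCategory.quotientCompQhIso C).hom.naturality ψ
    dsimp at h1 hg
    rw [← h1, hg]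
    simp
  -- the composition with `J ⟶ cone s` is null-homotopic
  let M := CochainComplex.mappingCone s
  have hM : M.IsStrictlyGE (a - 1) := CochainComplex.isStrictlyGE_mappingCone s a a (a - 1)
  have hMF : ∀ m, F (M.X m) := fun m =>
    hF.of_iso _ _ (HomologicalComplex.homotopyCofiber.XIsoBiprod s m (m + 1) (by simp)).symm
      (hF.biprod _ _ (hT _) (hF.of_injective _ (hJ _)))
  obtain ⟨h⟩ := nonempty_homotopy_zero hF M (a - 1) hMF (isZero_homology_mappingCone s) n
    (ψ ≫ CochainComplex.mappingCone.inr s)
  have hd := HomotopyCategory.mappingCone_triangleh_distinguished s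
  obtain ⟨φ', hφ'⟩ := Pretriangulated.Triangle.coyoneda_exact₂ _ hd
    ((HomotopyCategory.quotient _ _).map ψ) (by
      have := HomotopyCategory.eq_of_homotopy _ _ h
      rw [Functor.map_comp, Functor.map_zero] at this
      exact this)
  obtain ⟨φ, rfl⟩ := (HomotopyCategory.quotient _ _).map_surjective φ'
  refine ⟨φ, ?_⟩
  have : IsIso (DerivedCategory.Q.map s) := inferInstance
  rw [← cancel_mono (DerivedCategory.Q.map s), ← hψ, ← Functor.map_comp]
  have h2 : (HomotopyCategory.quotient _ _).map (φ ≫ s) = (HomotopyCategory.quotient _ _).map ψ := by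
    rw [Functor.map_comp]
    exact hφ'.symm
  rw [← cancel_epi ((DerivedCategory.quotientCompQhIso C).hom.app S)]
  have h1 := (DerivedCategory.quotientCompQhIso C).hom.naturality ψ
  have h3 := (DerivedCategory.quotientCompQhIso C).hom.naturality (φ ≫ s)
  refine h3.symm.trans (Eq.trans ?_ h1)
  exact congrArg (fun z => DerivedCategory.Qh.map z ≫ (DerivedCategory.quotientCompQhIso C).hom.app J) h2

end Groth.Agent.Dcoh.AcycHom
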