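import Groth.Agent.PerfB.StalkKFlat
import Groth.Agent.Dcoh.DerHo
import Groth.Agent.Dcoh.LTMod

/-!
# K-flat complexes are adapted to `f^*`; tor amplitude of `Lf^* E`
-/

set_option autoImplicit false
universe u

open CategoryTheory Limits AlgebraicGeometry HomologicalComplex

attribute [local instance] HasDerivedCategory.standard

namespace Groth.Agent.Dcoh.AdPull

variable {X Y : Scheme.{u}} (f : X ⟶ Y)

/-- K-flat complexes are adapted to `f^*`. -/
theorem adapted : LDer.Adapted (Scheme.Modules.pullback f) (fun K : CochainComplex Y.Modules ℤ => DCoh.IsKFlat K) where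
  exists_res K := by
    obtain ⟨K', q, h1, -, h2, -⟩ := Groth.Agent.S0955.result K
    exact ⟨K', q, h1, h2⟩
  inverts K L φ hK hL hφ :=
    DerHo.quasiIso_map_of_acyclic (Scheme.Modules.pullback f) (fun K => DCoh.IsKFlat K)
      (fun φ hK hL => (Groth.Agent.S0951.result φ).1 hK hL)
      (fun K hK hK' => PerfB.StalkKFlat.acyclic_pullback f K hK hK') φ hK hL hφ
  cone K L φ hK hL := (Groth.Agent.S0951.result φ).1 hK hL

theorem hasLpull : DCoh.HasLpull f := LDer.hasLeftDerivedFunctor (adapted f)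

variable [DCoh.HasLpull f]

/-- the counit of `Lf^*` -/
noncomputable abbrev counit : DerivedCategory.Qh ⋙ DCoh.Lpull f ⟶ DCoh.pullKh f :=
  (DCoh.pullKh f).totalLeftDerivedCounit DerivedCategory.Qh (HomotopyCategory.quasiIso Y.Modules (ComplexShape.up ℤ))

/-- `Lf^* P` for `P` K-flat -/
noncomputable def isoQ {P : CochainComplex Y.Modules ℤ} (hP : DCoh.IsKFlat P) :
    (DCoh.Lpull f).obj (DCoh.toD Y P) ≅
      DCoh.toD X (((Scheme.Modules.pullback f).mapHomologicalComplex (ComplexShape.up ℤ)).obj P) :=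
  LDer.isoQ (adapted f) (DCoh.Lpull f) (counit f) hP

@[reassoc]
lemma isoQ_naturality {P Q : CochainComplex Y.Modules ℤ} (φ : P ⟶ Q) (hP : DCoh.IsKFlat P) (hQ : DCoh.IsKFlat Q) :
    (DCoh.Lpull f).map (DerivedCategory.Q.map φ) ≫ (isoQ f hQ).hom =
      (isoQ f hP).hom ≫ DerivedCategory.Q.map
        (((Scheme.Modules.pullback f).mapHomologicalComplex (ComplexShape.up ℤ)).map φ) :=
  LDer.counitQ_naturality (DCoh.Lpull f) (counit f) φ

omit [DCoh.HasLpull f] in
/-- The pullback of a flat module is flat. -/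
theorem isFlat_pullback (M : Y.Modules) (hM : FlatMod.IsFlat M) :
    FlatMod.IsFlat ((Scheme.Modules.pullback f).obj M) := by
  intro x
  letI := Fdesc.PullbackStalk.stalkAlg f x
  have h1 : Module.Flat (Y.presheaf.stalk (f.base x)) (M.presheaf.stalk (f.base x)) := hM (f.base x)
  have h2 := Module.Flat.baseChange (Y.presheaf.stalk (f.base x)) (X.presheaf.stalk x)
    (M.presheaf.stalk (f.base x))
  exact Module.Flat.of_linearEquiv (Fdesc.PullbackStalk.stalkPullbackEquiv f M x).symm

omit [DCoh.HasLpull f] in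
lemma isZero_pullback {M : Y.Modules} (hM : IsZero M) : IsZero ((Scheme.Modules.pullback f).obj M) :=
  (Scheme.Modules.pullback f).map_isZero hM

/-- `Lf^*` preserves the flat-representative form of tor amplitude. -/
theorem flatAmplitude {E : DCoh.D Y} {a b : ℤ} (hE : DCoh.HasFlatAmplitudeIn a b E) :
    DCoh.HasFlatAmplitudeIn a b ((DCoh.Lpull f).obj E) := by
  obtain ⟨P, hP, hflat, ⟨e⟩⟩ := hE
  have hK : DCoh.IsKFlat P := Groth.Agent.S0953.result P b
    ((CochainComplex.isStrictlyLE_iff P b).2 (fun j hj => hP j (Or.inr hj))) hflat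
  exact ⟨((Scheme.Modules.pullback f).mapHomologicalComplex (ComplexShape.up ℤ)).obj P,
    fun i hi => isZero_pullback f (hP i hi), fun i => isFlat_pullback f _ (hflat i),
    ⟨(isoQ f hK).symm ≪≫ (DCoh.Lpull f).mapIso e⟩⟩

end Groth.Agent.Dcoh.AdPull
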