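import Groth.Agent.PerfB.BCTot
import Mathlib.CategoryTheory.Adjunction.Mates

/-!
# From formal base change to the canonical base change morphism

For a commutative square `g' ≫ f = f' ≫ g`, adjunctions `f^* ⊣ f_*` etc. for a contravariant pseudofunctor, there is an
identification `e : g'_* ⋙ f_* ≅ f'_* ⋙ g_*` such that the base change morphism built from it is an isomorphism at `K` as
soon as `BC` holds for the cartesian arrow `(X', g'^* K) ⟶ (X, K)`.
-/

set_option autoImplicit false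

universe v₁ u₁ v₂ u₂

open CategoryTheory

namespace Groth.Agent.Dcoh.BCCanon300

open Groth.Agent.PerfB.BCTot Groth.Agent.PerfB.BCTot.Tot

variable {𝒮 : Type u₁} [Category.{v₁} 𝒮] {D : 𝒮 → Type u₂} [∀ X, Category.{v₂} (D X)]
  (P : PullData D)

section

variable {X S X' S' : 𝒮} {f : X ⟶ S} {g : S' ⟶ S} {g' : X' ⟶ X} {f' : X' ⟶ S'}
  (w : g' ≫ f = f' ≫ g)

/-- The comparison of the two composite pullbacks. -/
def cIso : P.pull g ⋙ P.pull f' ≅ P.pull f ⋙ P.pull g' :=
  P.compI f' g ≪≫ eqToIso (by rw [w]) ≪≫ (P.compI g' f).symm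

lemma cIso_hom_app (L : D S) : (cIso P w).hom.app L =
    (P.compI f' g).hom.app L ≫ eqToHom (by rw [w]) ≫ (P.compI g' f).inv.app L := by
  simp [cIso, eqToHom_app]

variable {Rf : D X ⥤ D S} {Rf' : D X' ⥤ D S'} {Rg : D S' ⥤ D S} {Rg' : D X' ⥤ D X}
  (adjf : P.pull f ⊣ Rf) (adjf' : P.pull f' ⊣ Rf') (adjg : P.pull g ⊣ Rg)
  (adjg' : P.pull g' ⊣ Rg')

/-- The identification of composite direct images. -/
def eIso : Rg' ⋙ Rf ≅ Rf' ⋙ Rg :=
  conjugateIsoEquiv (adjf.comp adjg') (adjg.comp adjf') (cIso P w)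

/-- The base change morphism. -/
def bcMor (K : D X) : (P.pull g).obj (Rf.obj K) ⟶ Rf'.obj ((P.pull g').obj K) :=
  (adjg.homEquiv _ _).symm (Rf.map (adjg'.unit.app K) ≫
    (eIso P w adjf adjf' adjg adjg').hom.app ((P.pull g').obj K))

lemma bcMor_fac (K : D X) :
    (P.pull f').map (bcMor P w adjf adjf' adjg adjg' K) ≫ adjf'.counit.app ((P.pull g').obj K) =
      (cIso P w).hom.app (Rf.obj K) ≫ (P.pull g').map (adjf.counit.app K) := by
  have h1 := conjugateEquiv_counit (adjf.comp adjg') (adjg.comp adjf') (cIso P w).hom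
    ((P.pull g').obj K)
  have h2 : (eIso P w adjf adjf' adjg adjg').hom =
      conjugateEquiv (adjf.comp adjg') (adjg.comp adjf') (cIso P w).hom := rfl
  rw [← h2] at h1
  simp only [Adjunction.comp_counit_app, Functor.comp_map, Functor.comp_obj] at h1
  have h3 := (cIso P w).hom.naturality (Rf.map (adjg'.unit.app K))
  simp only [Functor.comp_map] at h3
  unfold bcMor
  rw [Adjunction.homEquiv_counit, Functor.map_comp, Functor.map_comp, Functor.map_comp,
    Category.assoc, Category.assoc]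
  rw [h1, reassoc_of% h3, ← Functor.map_comp_assoc, adjf.counit_naturality, Functor.map_comp,
    Category.assoc, adjg'.left_triangle_components, Category.comp_id]

theorem isIso_bcMor (K : D X)
    (h : BC (cartLift (P := P) ⟨X, K⟩ g') f f' g) : IsIso (bcMor P w adjf adjf' adjg adjg' K) := by
  refine h (Rf.obj K) (Rf'.obj ((P.pull g').obj K)) (cocartLift f adjf K)
    (cocartLift f' adjf' ((P.pull g').obj K)) ⟨g, bcMor P w adjf adjf' adjg adjg' K⟩ rfl rfl rfl
    (isCocart_cocartLift _ _ _) (isCocart_cocartLift _ _ _) ?_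
  refine hom_ext w.symm ?_
  rw [comp_fib, comp_fib]
  change (P.compI f' g).inv.app (Rf.obj K) ≫ (P.pull f').map (bcMor P w adjf adjf' adjg adjg' K) ≫
    adjf'.counit.app ((P.pull g').obj K) = eqToHom _ ≫ (P.compI g' f).inv.app (Rf.obj K) ≫
      (P.pull g').map (adjf.counit.app K) ≫ 𝟙 _
  rw [bcMor_fac, cIso_hom_app]
  simp

/-- The same, with explicit names for the pullback functors. -/
theorem exists_iso {Lf : D S ⥤ D X} {Lf' : D S' ⥤ D X'} {Lg : D S ⥤ D S'} {Lg' : D X ⥤ D X'}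
    (hf : P.pull f = Lf) (hf' : P.pull f' = Lf') (hg : P.pull g = Lg) (hg' : P.pull g' = Lg')
    (adjf : Lf ⊣ Rf) (adjf' : Lf' ⊣ Rf') (adjg : Lg ⊣ Rg) (adjg' : Lg' ⊣ Rg')
    (w : g' ≫ f = f' ≫ g) :
    ∃ e : Rg' ⋙ Rf ≅ Rf' ⋙ Rg, ∀ K : D X, BC (cartLift (P := P) ⟨X, K⟩ g') f f' g →
      IsIso ((adjg.homEquiv (Rf.obj K) (Rf'.obj (Lg'.obj K))).symm
        (Rf.map (adjg'.unit.app K) ≫ e.hom.app (Lg'.obj K))) := by
  subst hf hf' hg hg'
  exact ⟨eIso P w adjf adjf' adjg adjg', fun K h => isIso_bcMor P w adjf adjf' adjg adjg' K h⟩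

end

end Groth.Agent.Dcoh.BCCanon300
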