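import Groth.Agent.PerfB.BCPush
import Groth.Agent.Dcoh.BCCanon300
import Groth.Prelude.Def_DCoh3
import Groth.Agent.PerfA.QCohD

/-!
# The frozen form of flat base change (S1058) from formal base change
-/

set_option autoImplicit false

universe u

open CategoryTheory CategoryTheory.Limits AlgebraicGeometry Pretriangulated

attribute [local instance] HasDerivedCategory.standard

namespace Groth.Agent.Dcoh.BCFrozen1058

open Groth.Agent.PerfB.BCTot Groth.Agent.PerfB.BCTot.Tot Groth.Agent.PerfB.BCMod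
  Groth.Agent.PerfB.BCCx Groth.Agent.PerfB.BCDer Groth.Agent.PerfB.BCSch Groth.Agent.PerfB.BCTri
  Groth.Agent.PerfB.BCShift Groth.Agent.PerfB.BCPush Groth.Agent.Dcoh.BCCanon300
  Groth.Agent.Dcoh.DerSch

section Abs

variable {𝒮 : Type*} [Category 𝒮] {D : 𝒮 → Type*} [∀ X, Category (D X)] {P : PullData D}

/-- Base change for a cartesian arrow `θ` over `g'` with target `(X, K)`, in terms of the standard one. -/
lemma bc_cartLift_of_isCart {X X' S S' : 𝒮} {K E : D X} {K' : D X'}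
    {θ : (⟨X', K'⟩ : Tot P) ⟶ ⟨X, K⟩} (hθ : IsCart θ) (i : K ≅ E) {f : X ⟶ S} {f' : X' ⟶ S'}
    {g : S' ⟶ S} (h : BC θ f f' g) : BC (cartLift (P := P) ⟨X, E⟩ θ.base) f f' g := by
  have : IsIso θ.fib := hθ
  refine BC.congr_fib i ((asIso θ.fib).symm ≪≫ (P.pull θ.base).mapIso i) ?_ h
  obtain ⟨b, x⟩ := θ
  refine (ver_comp' _ (B := ⟨X, K⟩) b x).trans ?_
  refine Eq.trans ?_ (comp_ver' (A := ⟨X', (P.pull b).obj E⟩) i.hom b (𝟙 _)).symm
  simp

end Abs

attribute [local instance] hasLpull hasRpush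

lemma pull_eq {X Y : Scheme.{u}} (f : X ⟶ Y) : (dPull.{u}).pull f = DCoh.Lpull f := rfl

/-- The frozen form, from base change for objects of `D(O_X)`. -/
theorem main {X S S' : Scheme.{u}} (f : X ⟶ S) (g : S' ⟶ S)
    [DCoh.HasRpush f] [DCoh.HasRpush g] [DCoh.HasLpull g] [DCoh.HasRpush (pullback.snd f g)]
    [DCoh.HasRpush (pullback.fst f g)] [DCoh.HasLpull (pullback.fst f g)]
    (adjg : DCoh.Lpull g ⊣ DCoh.Rpush g)
    (adjg' : DCoh.Lpull (pullback.fst f g) ⊣ DCoh.Rpush (pullback.fst f g)) :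
    ∃ e : DCoh.Rpush (pullback.fst f g) ⋙ DCoh.Rpush f ≅ DCoh.Rpush (pullback.snd f g) ⋙ DCoh.Rpush g,
      ∀ E : DCoh.D X, BC (cartLift (P := dPull.{u}) ⟨X, E⟩ (pullback.fst f g)) f (pullback.snd f g) g →
        IsIso (DCoh.baseChangeApp adjg adjg' e E) :=
  exists_iso dPull.{u} (pull_eq f) (pull_eq (pullback.snd f g)) (pull_eq g)
    (pull_eq (pullback.fst f g)) (lAdj f) (lAdj (pullback.snd f g)) adjg adjg'
    (pullback.condition (f := f) (g := g))

/-- Base change for `E ∈ D(O_X)` and `g'` flat, from base change for complexes. -/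
theorem bc_of_cx {X X' S S' : Scheme.{u}} {f : X ⟶ S} {f' : X' ⟶ S'} {g : S' ⟶ S} {g' : X' ⟶ X}
    [Flat g'] (C : CochainComplex X.Modules ℤ) (E : DCoh.D X) (i : DerivedCategory.Q.obj C ≅ E)
    (h : BC (toD.tot.map (cartLift (P := cxMod.{u}) ⟨X, C⟩ g')) f f' g) :
    BC (cartLift (P := dPull.{u}) ⟨X, E⟩ g') f f' g := by
  have : Flat (cartLift (P := cxMod.{u}) ⟨X, C⟩ g').base := inferInstanceAs (Flat g')
  exact bc_cartLift_of_isCart (P := dPull.{u}) (K := DerivedCategory.Q.obj C)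
    (θ := toD.tot.map (cartLift (P := cxMod.{u}) ⟨X, C⟩ g'))
    (isCart_toD_of_flat (isCart_cartLift _ _)) i h

/-- Base change for `E ∈ D(O_X)`, from base change for a K-flat complex representing it. -/
theorem bc_of_kflat {X X' S S' : Scheme.{u}} {f : X ⟶ S} {f' : X' ⟶ S'} {g : S' ⟶ S} {g' : X' ⟶ X}
    (C : CochainComplex X.Modules ℤ) (hC : DCoh.IsKFlat C) (E : DCoh.D X)
    (i : DerivedCategory.Q.obj C ≅ E)
    (h : BC (toD.tot.map (cartLift (P := cxMod.{u}) ⟨X, C⟩ g')) f f' g) :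
    BC (cartLift (P := dPull.{u}) ⟨X, E⟩ g') f f' g :=
  bc_cartLift_of_isCart (P := dPull.{u}) (K := DerivedCategory.Q.obj C)
    (θ := toD.tot.map (cartLift (P := cxMod.{u}) ⟨X, C⟩ g'))
    (isCart_toD_of_kflat (isCart_cartLift _ _) hC) i h

/-- S1058 from base change on objects with quasi-coherent cohomology. -/
theorem S1058_of {X S S' : Scheme.{u}} (f : X ⟶ S) (g : S' ⟶ S) [Flat g]
    [DCoh.HasRpush f] [DCoh.HasRpush g] [DCoh.HasLpull g] [DCoh.HasRpush (pullback.snd f g)]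
    [DCoh.HasRpush (pullback.fst f g)] [DCoh.HasLpull (pullback.fst f g)]
    (adjg : DCoh.Lpull g ⊣ DCoh.Rpush g)
    (adjg' : DCoh.Lpull (pullback.fst f g) ⊣ DCoh.Rpush (pullback.fst f g))
    (H : ∀ C : CochainComplex X.Modules ℤ, DCoh.IsQCohD (DerivedCategory.Q.obj C) →
      BC (toD.tot.map (cartLift (P := cxMod.{u}) ⟨X, C⟩ (pullback.fst f g))) f (pullback.snd f g) g) :
    ∃ e : DCoh.Rpush (pullback.fst f g) ⋙ DCoh.Rpush f ≅ DCoh.Rpush (pullback.snd f g) ⋙ DCoh.Rpush g,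
      ∀ E : DCoh.D X, DCoh.IsQCohD E → IsIso (DCoh.baseChangeApp adjg adjg' e E) := by
  obtain ⟨e, he⟩ := main f g adjg adjg'
  refine ⟨e, fun E hE => he E ?_⟩
  have i := DerivedCategory.Q.objObjPreimageIso E
  have hC : DCoh.IsQCohD (DerivedCategory.Q.obj (DerivedCategory.Q.objPreimage E)) :=
    Groth.Agent.PerfA.QCohD.isQCohD_of_iso i.symm hE
  exact bc_of_cx _ E i (H _ hC)

end Groth.Agent.Dcoh.BCFrozen1058
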