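import Mathlib.Algebra.Homology.BifunctorShift
import Mathlib.Algebra.Homology.BifunctorFlip
import Mathlib.Algebra.Homology.HomologicalComplexLimits

/-!
# Functoriality of `F.map₂CochainComplex` in the bifunctor `F`; compatibility with the flip

* `biNat α : F.map₂CochainComplex ⟶ F'.map₂CochainComplex` for `α : F ⟶ F'`, `biIso` for isomorphisms;
* `flipNatIso F : F.flip.map₂CochainComplex ≅ F.map₂CochainComplex.flip`;
* `symmIso`: if `F.flip ≅ F` then `F(K, L) ≅ F(L, K)` naturally in the complexes `K` and `L`.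
-/

set_option autoImplicit false
set_option backward.defeqAttrib.useBackward true
set_option backward.isDefEq.respectTransparency false

universe v₁ v₂ v₃ u₁ u₂ u₃

namespace Groth.Agent.Dcoh.BiNat

open CategoryTheory Category Limits HomologicalComplex

variable {C₁ : Type u₁} {C₂ : Type u₂} {D : Type u₃} [Category.{v₁} C₁] [Category.{v₂} C₂] [Category.{v₃} D]
  [Preadditive C₁] [Preadditive C₂] [Preadditive D]

section

variable {F F' F'' : C₁ ⥤ C₂ ⥤ D} [F.PreservesZeroMorphisms] [∀ X₁, (F.obj X₁).PreservesZeroMorphisms]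
  [F'.PreservesZeroMorphisms] [∀ X₁, (F'.obj X₁).PreservesZeroMorphisms]
  [F''.PreservesZeroMorphisms] [∀ X₁, (F''.obj X₁).PreservesZeroMorphisms]
  (α : F ⟶ F') (β : F' ⟶ F'')

section Obj

variable (K : CochainComplex C₁ ℤ) (L : CochainComplex C₂ ℤ)
  [CochainComplex.HasMapBifunctor K L F] [CochainComplex.HasMapBifunctor K L F']
  [CochainComplex.HasMapBifunctor K L F'']

/-- The map in degree `n`. -/
noncomputable def biNatX (n : ℤ) :
    (mapBifunctor K L F (ComplexShape.up ℤ)).X n ⟶ (mapBifunctor K L F' (ComplexShape.up ℤ)).X n :=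
  mapBifunctorDesc (fun p q h => (α.app (K.X p)).app (L.X q) ≫ ιMapBifunctor K L F' (ComplexShape.up ℤ) p q n h)

@[reassoc (attr := simp)]
lemma ι_biNatX (p q n : ℤ) (h : ComplexShape.π (ComplexShape.up ℤ) (ComplexShape.up ℤ)
    (ComplexShape.up ℤ) (p, q) = n) :
    ιMapBifunctor K L F (ComplexShape.up ℤ) p q n h ≫ biNatX α K L n =
      (α.app (K.X p)).app (L.X q) ≫ ιMapBifunctor K L F' (ComplexShape.up ℤ) p q n h := by
  simp [biNatX]

lemma ιOrZero_biNatX (p q n : ℤ) :
    ιMapBifunctorOrZero K L F (ComplexShape.up ℤ) p q n ≫ biNatX α K L n =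
      (α.app (K.X p)).app (L.X q) ≫ ιMapBifunctorOrZero K L F' (ComplexShape.up ℤ) p q n := by
  by_cases h : ComplexShape.π (ComplexShape.up ℤ) (ComplexShape.up ℤ) (ComplexShape.up ℤ) (p, q) = n
  · rw [ιMapBifunctorOrZero_eq _ _ _ _ _ _ _ h, ιMapBifunctorOrZero_eq _ _ _ _ _ _ _ h, ι_biNatX]
  · rw [ιMapBifunctorOrZero_eq_zero _ _ _ _ _ _ _ h, ιMapBifunctorOrZero_eq_zero _ _ _ _ _ _ _ h,
      zero_comp, comp_zero]

/-- The morphism of complexes `F(K, L) ⟶ F'(K, L)`. -/
noncomputable def biNatHom :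
    mapBifunctor K L F (ComplexShape.up ℤ) ⟶ mapBifunctor K L F' (ComplexShape.up ℤ) where
  f n := biNatX α K L n
  comm' n n' hn := by
    refine mapBifunctor.hom_ext (fun p q h => ?_)
    have hp : (ComplexShape.up ℤ).Rel p (p + 1) := rfl
    have hq : (ComplexShape.up ℤ).Rel q (q + 1) := rfl
    rw [ι_biNatX_assoc, mapBifunctor.d_eq, mapBifunctor.d_eq, Preadditive.add_comp, Preadditive.comp_add,
      Preadditive.comp_add, Preadditive.comp_add, mapBifunctor.ι_D₁, mapBifunctor.ι_D₂,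
      mapBifunctor.ι_D₁_assoc, mapBifunctor.ι_D₂_assoc, mapBifunctor.d₁_eq' _ _ _ _ hp,
      mapBifunctor.d₂_eq' _ _ _ _ _ hq, mapBifunctor.d₁_eq' _ _ _ _ hp, mapBifunctor.d₂_eq' _ _ _ _ _ hq]
    have h1 := NatTrans.congr_app (α.naturality (K.d p (p + 1))) (L.X q)
    dsimp at h1
    simp only [Linear.units_smul_comp, Linear.comp_units_smul, assoc, ιOrZero_biNatX,
      ← NatTrans.naturality_assoc, ← reassoc_of% h1]

@[reassoc (attr := simp)]
lemma biNatHom_comp : biNatHom α K L ≫ biNatHom β K L = biNatHom (α ≫ β) K L := by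
  ext n : 1
  refine mapBifunctor.hom_ext (fun p q h => ?_)
  change _ ≫ biNatX α K L n ≫ biNatX β K L n = _ ≫ biNatX (α ≫ β) K L n
  simp

@[simp]
lemma biNatHom_id : biNatHom (𝟙 F) K L = 𝟙 _ := by
  ext n : 1
  refine mapBifunctor.hom_ext (fun p q h => ?_)
  change _ ≫ biNatX (𝟙 F) K L n = _ ≫ 𝟙 _
  simp

end Obj

@[reassoc]
lemma biNatHom_naturality {K K' : CochainComplex C₁ ℤ} {L L' : CochainComplex C₂ ℤ} (f : K ⟶ K') (g : L ⟶ L')
    [CochainComplex.HasMapBifunctor K L F] [CochainComplex.HasMapBifunctor K L F']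
    [CochainComplex.HasMapBifunctor K' L' F] [CochainComplex.HasMapBifunctor K' L' F'] :
    mapBifunctorMap f g F (ComplexShape.up ℤ) ≫ biNatHom α K' L' =
      biNatHom α K L ≫ mapBifunctorMap f g F' (ComplexShape.up ℤ) := by
  ext n : 1
  refine mapBifunctor.hom_ext (fun p q h => ?_)
  change _ ≫ (mapBifunctorMap f g F (ComplexShape.up ℤ)).f n ≫ biNatX α K' L' n =
    _ ≫ biNatX α K L n ≫ (mapBifunctorMap f g F' (ComplexShape.up ℤ)).f n
  rw [ι_mapBifunctorMap_assoc, ι_biNatX, ι_biNatX_assoc, ι_mapBifunctorMap]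
  have := NatTrans.congr_app (α.naturality (f.f p)) (L.X q)
  dsimp at this
  rw [← reassoc_of% this, NatTrans.naturality_assoc]

variable [∀ (K₁ : CochainComplex C₁ ℤ) (K₂ : CochainComplex C₂ ℤ), CochainComplex.HasMapBifunctor K₁ K₂ F]
  [∀ (K₁ : CochainComplex C₁ ℤ) (K₂ : CochainComplex C₂ ℤ), CochainComplex.HasMapBifunctor K₁ K₂ F']

/-- Functoriality of `F.map₂CochainComplex` in `F`. -/
noncomputable def biNat : F.map₂CochainComplex ⟶ F'.map₂CochainComplex where
  app K :=
    { app := fun L => biNatHom α K L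
      naturality := fun L L' g => biNatHom_naturality α (𝟙 K) g }
  naturality K K' f := by
    ext L : 2
    exact biNatHom_naturality α f (𝟙 L)

/-- Isomorphic bifunctors induce isomorphic functors on complexes. -/
noncomputable def biIso (e : F ≅ F') : F.map₂CochainComplex ≅ F'.map₂CochainComplex where
  hom := biNat e.hom
  inv := biNat e.inv
  hom_inv_id := by
    ext K L : 4
    exact (biNatHom_comp e.hom e.inv K L).trans (by simp)
  inv_hom_id := by
    ext K L : 4
    exact (biNatHom_comp e.inv e.hom K L).trans (by simp)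

end

section Flip

variable (F : C₁ ⥤ C₂ ⥤ D) [F.PreservesZeroMorphisms] [∀ X₁, (F.obj X₁).PreservesZeroMorphisms]
  [∀ (K₁ : CochainComplex C₁ ℤ) (K₂ : CochainComplex C₂ ℤ), CochainComplex.HasMapBifunctor K₁ K₂ F]

/-- `F.flip(L, K) ≅ F(K, L)` -/
noncomputable def flipNatIso : F.flip.map₂CochainComplex ≅ F.map₂CochainComplex.flip :=
  NatIso.ofComponents (fun L => NatIso.ofComponents (fun K => mapBifunctorFlipIso K L F (ComplexShape.up ℤ))
    (fun f => mapBifunctorFlipIso_hom_naturality (F := F) (c := ComplexShape.up ℤ) f (𝟙 L)))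
    (fun g => by
      ext K : 2
      exact mapBifunctorFlipIso_hom_naturality (F := F) (c := ComplexShape.up ℤ) (𝟙 K) g)

end Flip

section Symm

variable (F : C₁ ⥤ C₁ ⥤ D) [F.PreservesZeroMorphisms] [∀ X₁, (F.obj X₁).PreservesZeroMorphisms]
  [∀ (K₁ : CochainComplex C₁ ℤ) (K₂ : CochainComplex C₁ ℤ), CochainComplex.HasMapBifunctor K₁ K₂ F]

/-- symmetry of the total complex of a symmetric bifunctor: `F(K, L) ≅ F(L, K)` naturally in `K` and `L`. -/
noncomputable def symmNatIso (e : F.flip ≅ F) : F.map₂CochainComplex ≅ F.map₂CochainComplex.flip :=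
  (biIso e).symm ≪≫ flipNatIso F

end Symm

end Groth.Agent.Dcoh.BiNat
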