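import Groth.Agent.Dcoh.CellStep
import Groth.Agent.Dcoh.HomColim
import Mathlib.CategoryTheory.Functor.OfSequence

/-!
# Factorizations `K ⟶ N ⟶ G` with `N ⟶ G` a quasi-isomorphism and `N` obtained from `K` by attaching cells

`C` abelian category with exact sequential colimits, `P` a class of objects such that every object is a quotient of
an object of `P`.
-/

set_option autoImplicit false
set_option backward.defeqAttrib.useBackward true
set_option backward.isDefEq.respectTransparency false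

universe v u

namespace Groth.Agent.Dcoh.CellRes

open CategoryTheory Category Limits HomologicalComplex CochainComplex HomComplex
open CellStep

section

variable {A : Type u} [Category.{v} A] {F : ℕ ⥤ A} {c : Cocone F} (hc : IsColimit c) (c' : Cocone F)

include hc in
/-- A morphism from a sequential colimit is an isomorphism if there are compatible "diagonal" lifts. -/
lemma isIso_desc (h : ∀ m : ℕ, Epi (c'.ι.app (m + 1)))
    (hs : ∀ m : ℕ, ∃ s : c'.pt ⟶ F.obj (m + 1 + 1),
      c'.ι.app (m + 1) ≫ s = F.map (homOfLE (Nat.le_add_right (m + 1) 1))) : IsIso (hc.desc c') := by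
  choose s hs using hs
  have hσ : ∀ m : ℕ, c'.ι.app (m + 1) ≫ s m ≫ c.ι.app (m + 1 + 1) = c.ι.app (m + 1) := fun m => by
    rw [reassoc_of% (hs m), c.w]
  have hσ' : ∀ m : ℕ, s m ≫ c.ι.app (m + 1 + 1) = s 0 ≫ c.ι.app (0 + 1 + 1) := by
    intro m
    induction m with
    | zero => rfl
    | succ m hm =>
      rw [← hm, ← cancel_epi (c'.ι.app (m + 1)), hσ, ← c'.w (homOfLE (Nat.le_add_right (m + 1) 1)), assoc, hσ, c.w]
  have hσ'' : ∀ m : ℕ, c'.ι.app (m + 1) ≫ s 0 ≫ c.ι.app (0 + 1 + 1) = c.ι.app (m + 1) := fun m => by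
    rw [← hσ' m, hσ]
  refine ⟨s 0 ≫ c.ι.app (0 + 1 + 1), hc.hom_ext (fun j => ?_), ?_⟩
  · rw [hc.fac_assoc, comp_id]
    cases j with
    | zero => rw [← c'.w (homOfLE (Nat.le_add_right 0 1)), assoc, hσ'' 0, c.w]
    | succ m => rw [hσ'']
  · rw [← cancel_epi (c'.ι.app (0 + 1)), ← assoc, hσ'', hc.fac]
    exact (comp_id _).symm

end

variable {C : Type u} [Category.{v} C] [Abelian C] {P : ObjectProperty C} (hP : Enough P)
  {K G : CochainComplex C ℤ}

/-- iterated attachment of cells. -/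
noncomputable def stage (a : K ⟶ G) : ℕ → Over G
  | 0 => Over.mk a
  | n + 1 => Over.mk (g' hP (stage a n).hom)

noncomputable def trans (a : K ⟶ G) (n : ℕ) : stage hP a n ⟶ stage hP a (n + 1) :=
  Over.homMk (mappingCone.inr (att hP (stage hP a n).hom)) (inr_g' _ _)

noncomputable def seqOver (a : K ⟶ G) : ℕ ⥤ Over G := Functor.ofSequence (trans hP a)

/-- the sequence of complexes -/
noncomputable abbrev seq (a : K ⟶ G) : ℕ ⥤ CochainComplex C ℤ := seqOver hP a ⋙ Over.forget G

noncomputable abbrev cocone (a : K ⟶ G) : Cocone (seq hP a) := (Over.forgetCocone G).whisker (seqOver hP a)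

variable [HasColimitsOfShape ℕ C] [HasExactColimitsOfShape ℕ C]

lemma quasiIso_desc (a : K ⟶ G) : QuasiIso (colimit.desc (seq hP a) (cocone hP a)) := by
  rw [quasiIso_iff]
  intro n
  rw [quasiIsoAt_iff_isIso_homologyMap]
  have hc := isColimitOfPreserves (homologyFunctor C (ComplexShape.up ℤ) n) (colimit.isColimit (seq hP a))
  have h : homologyMap (colimit.desc (seq hP a) (cocone hP a)) n =
      hc.desc ((homologyFunctor C (ComplexShape.up ℤ) n).mapCocone (cocone hP a)) := by
    refine hc.hom_ext (fun j => ?_)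
    rw [hc.fac]
    dsimp
    rw [← homologyMap_comp, colimit.ι_desc]
    rfl
  rw [h]
  have hepi : ∀ m : ℕ, Epi (homologyMap (stage hP a (m + 1)).hom n) := fun m => epi_homologyMap_g' hP _ n
  refine isIso_desc hc _ hepi (fun m => ?_)
  have := hepi m
  obtain ⟨s, hs⟩ := exists_section hP (stage hP a (m + 1)).hom n
  refine ⟨s, hs.trans ?_⟩
  dsimp [seq, seqOver]
  rw [Functor.ofSequence_map_homOfLE_succ]
  rfl

include hP in
/-- **Factorization theorem.** -/
theorem exists_factorization (a : K ⟶ G) :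
    ∃ (N : CochainComplex C ℤ) (b : K ⟶ N) (c : N ⟶ G), b ≫ c = a ∧ QuasiIso c ∧
      ∀ (Q : ObjectProperty (CochainComplex C ℤ)), Q K →
        (∀ (F : ℤ → C), (∀ n, P (F n)) → ∀ (K' : CochainComplex C ℤ) (φ : zd F ⟶ K'), Q K' →
          Q (mappingCone φ)) →
        (∀ (S : ℕ ⥤ CochainComplex C ℤ) (cc : Cocone S) (_ : IsColimit cc), (∀ j, Q (S.obj j)) → Q cc.pt) →
        Q N := by
  refine ⟨colimit (seq hP a), colimit.ι (seq hP a) 0, colimit.desc (seq hP a) (cocone hP a), ?_, quasiIso_desc hP a,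
    fun Q hK hQ hQ' => hQ' _ _ (colimit.isColimit (seq hP a)) ?_⟩
  · rw [colimit.ι_desc]
    rfl
  · intro j
    induction j with
    | zero => exact hK
    | succ m hm => exact hQ _ (cov_prop hP _) _ _ hm

omit [HasColimitsOfShape ℕ C] [HasExactColimitsOfShape ℕ C] in
include hP in
/-- a contractible complex mapping onto a given complex. -/
lemma exists_disks (G : CochainComplex C ℤ) :
    ∃ (F : ℤ → C) (p : mappingCone (𝟙 (zd F)) ⟶ G), (∀ n, P (F n)) ∧ ∀ n, Epi (p.f n) := by
  choose F c hF hc using fun n : ℤ => hP (G.X (n + -1))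
  let α : Cochain (zd F) G (-1) := Cochain.mk (fun p q hpq => c p ≫ (G.XIsoOfEq hpq).hom)
  have hα : ∀ n, α.v n (n + -1) rfl = c n := fun n => by simp [α]
  let β : zd F ⟶ G :=
    { f := fun n => c n ≫ G.d (n + -1) n
      comm' := fun _ _ _ => by simp }
  have hβ : δ (-1) 0 α = Cochain.ofHom (𝟙 (zd F) ≫ β) := by
    ext p
    rw [δ_v (-1) 0 (by simp) _ p p (by simp) (p + -1) (p + 1) (by lia) (by lia), hα]
    simp [β]
  refine ⟨F, mappingCone.desc (𝟙 (zd F)) α β hβ, hF, fun n => ?_⟩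
  obtain ⟨q, rfl⟩ : ∃ q, n = q + -1 := ⟨n + 1, by lia⟩
  have h := mappingCone.inl_v_desc_f (𝟙 (zd F)) α β hβ q (q + -1) rfl
  rw [hα] at h
  have := hc q
  exact epi_of_epi_fac h

include hP in
/-- **Termwise epimorphic resolutions.** -/
theorem exists_resolution (G : CochainComplex C ℤ) :
    ∃ (N : CochainComplex C ℤ) (c : N ⟶ G), QuasiIso c ∧ (∀ n, Epi (c.f n)) ∧
      ∀ (Q : ObjectProperty (CochainComplex C ℤ)),
        (∀ (F : ℤ → C), (∀ n, P (F n)) → Q (zd F)) →
        (∀ (F : ℤ → C), (∀ n, P (F n)) → ∀ (K' : CochainComplex C ℤ) (φ : zd F ⟶ K'), Q K' →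
          Q (mappingCone φ)) →
        (∀ (S : ℕ ⥤ CochainComplex C ℤ) (cc : Cocone S) (_ : IsColimit cc), (∀ j, Q (S.obj j)) → Q cc.pt) →
        Q N := by
  obtain ⟨F, p, hF, hp⟩ := exists_disks hP G
  obtain ⟨N, b, c, fac, hc, h⟩ := exists_factorization hP p
  refine ⟨N, c, hc, fun n => ?_, fun Q h1 h2 h3 => h Q (h2 F hF _ _ (h1 F hF)) h2 h3⟩
  have : b.f n ≫ c.f n = p.f n := by rw [← comp_f, fac]
  have := hp n
  exact epi_of_epi_fac ‹b.f n ≫ c.f n = p.f n›

end Groth.Agent.Dcoh.CellRes
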