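import Mathlib.Algebra.Homology.Refinements
import Mathlib.Algebra.Homology.HomotopyCategory.MappingCone
import Mathlib.Algebra.Homology.HomologicalComplexLimits
import Mathlib.Algebra.Homology.HomologicalComplexAbelian
import Mathlib.CategoryTheory.ObjectProperty.Basic

/-!
# Attaching cells to a complex over `G`

`C` abelian, `P` a class of objects such that every object is a quotient of an object of `P`. For a morphism
`g : K ⟶ G` of cochain complexes we construct a complex with zero differential `zd F` (with `F n` in `P`),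
a morphism `φ : zd F ⟶ K` and an extension `g' : mappingCone φ ⟶ G` of `g` such that `g'` is surjective on
homology, and the kernel of `H^n(g)` dies in `H^n (mappingCone φ)`.
-/

set_option autoImplicit false
set_option backward.defeqAttrib.useBackward true
set_option backward.isDefEq.respectTransparency false

universe v u

namespace Groth.Agent.Dcoh.CellStep

open CategoryTheory Category Limits HomologicalComplex CochainComplex HomComplex

/-- every object is a quotient of an object of `P` -/
def Enough {C : Type u} [Category.{v} C] (P : ObjectProperty C) : Prop :=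
  ∀ X : C, ∃ (Y : C) (c : Y ⟶ X), P Y ∧ Epi c

section Zd

variable {C : Type u} [Category.{v} C] [Preadditive C]

/-- the complex with zero differential -/
@[simps] def zd (F : ℤ → C) : CochainComplex C ℤ where
  X := F
  d _ _ := 0

variable [HasZeroObject C] (F : ℤ → C)

/-- the inclusion of the `n`-th term of a complex with zero differential -/
noncomputable def zdι (n : ℤ) : (single C (ComplexShape.up ℤ) n).obj (F n) ⟶ zd F :=
  mkHomFromSingle (𝟙 (F n)) (by intros; simp)

/-- a complex with zero differential is the coproduct of its terms. -/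
noncomputable def isColimitZd :
    IsColimit (Cofan.mk (zd F) (zdι F)) :=
  Cofan.IsColimit.mk _
    (fun s =>
      { f := fun n => (singleObjXSelf (ComplexShape.up ℤ) n (F n)).inv ≫ (s.inj n).f n
        comm' := fun n m _ => by simp })
    (fun s n => by
      apply from_single_hom_ext
      simp [zdι])
    (fun s m hm => by
      ext n
      have := congr_arg (fun φ => φ.f n) (hm n)
      dsimp at this ⊢
      rw [← this]
      simp [zdι])

end Zd

variable {C : Type u} [Category.{v} C] [Abelian C] {P : ObjectProperty C} (hP : Enough P)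
  {K G : CochainComplex C ℤ} (g : K ⟶ G)

/-- the object parametrising the cells to be attached. -/
noncomputable abbrev A (n : ℤ) : C := pullback (K.iCycles n ≫ g.f n) (G.d (n + -1) n)

noncomputable def cov (n : ℤ) : C := (hP (A g n)).choose

lemma cov_prop (n : ℤ) : P (cov hP g n) := (hP (A g n)).choose_spec.choose_spec.1

noncomputable def π (n : ℤ) : cov hP g n ⟶ A g n := (hP (A g n)).choose_spec.choose

instance (n : ℤ) : Epi (π hP g n) := (hP (A g n)).choose_spec.choose_spec.2

/-- the attaching map -/
noncomputable def att : zd (cov hP g) ⟶ K where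
  f n := π hP g n ≫ pullback.fst _ _ ≫ K.iCycles n
  comm' n m _ := by simp

/-- the null-homotopy of `att ≫ g` -/
noncomputable def hom : Cochain (zd (cov hP g)) G (-1) :=
  Cochain.mk (fun _ _ hpq => π hP g _ ≫ pullback.snd _ _ ≫ (G.XIsoOfEq hpq).hom)

lemma hom_v (n : ℤ) : (hom hP g).v n (n + -1) rfl = π hP g n ≫ pullback.snd _ _ := by
  simp [hom]

lemma δ_hom : δ (-1) 0 (hom hP g) = Cochain.ofHom (att hP g ≫ g) := by
  ext p
  rw [δ_v (-1) 0 (by simp) _ p p (by simp) (p + -1) (p + 1) (by lia) (by lia), hom_v]
  simp [att, pullback.condition]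

/-- `K` with the cells attached. -/
noncomputable abbrev K' : CochainComplex C ℤ := mappingCone (att hP g)

/-- the extension of `g` -/
noncomputable def g' : K' hP g ⟶ G := mappingCone.desc (att hP g) (hom hP g) g (δ_hom hP g)

@[reassoc (attr := simp)]
lemma inr_g' : mappingCone.inr (att hP g) ≫ g' hP g = g := by simp [g']

lemma prev_eq (n : ℤ) : (ComplexShape.up ℤ).prev n = n + -1 := by
  simp only [CochainComplex.prev]
  lia

lemma epi_homologyMap_g' (n : ℤ) : Epi (homologyMap (g' hP g) n) := by
  obtain ⟨q, rfl⟩ : ∃ q, n = q + -1 := ⟨n + 1, by lia⟩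
  rw [epi_homologyMap_iff_up_to_refinements _ (q + -1 + -1) (q + -1) q (prev_eq _) (by simp)]
  intro Y y hy
  let w : Y ⟶ A g q := pullback.lift 0 y (by simp [hy])
  obtain ⟨Y', p, _, z, hz⟩ := surjective_up_to_refinements_of_epi (π hP g q) w
  refine ⟨Y', p, inferInstance, z ≫ (mappingCone.inl (att hP g)).v q (q + -1) rfl, ?_, 0, ?_⟩
  · have hz' := (hz =≫ pullback.fst _ _) =≫ K.iCycles q
    rw [assoc, mappingCone.inl_v_d _ q (q + -1) (q + 1) rfl (by simp)]
    simp only [w, assoc, limit.lift_π, PullbackCone.mk_π_app, comp_zero, zero_comp] at hz'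
    simp [att, ← reassoc_of% hz']
  · have hz' := hz =≫ pullback.snd _ _
    simp only [w, assoc, limit.lift_π, PullbackCone.mk_π_app] at hz'
    simp [g', hz', hom_v]

lemma kernel_ι_homologyMap_inr (n : ℤ) :
    kernel.ι (homologyMap g n) ≫ homologyMap (mappingCone.inr (att hP g)) n = 0 := by
  obtain ⟨Y, p, _, z, hz, h⟩ := eq_liftCycles_homologyπ_up_to_refinements K (kernel.ι (homologyMap g n)) (n + 1)
    (by simp)
  have hc : ∀ {L : CochainComplex C ℤ} (f : K ⟶ L),
      L.liftCycles (z ≫ f.f n) (n + 1) (by simp) (by simp [reassoc_of% hz]) =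
        K.liftCycles z (n + 1) (by simp) hz ≫ cyclesMap f n := fun f => by
    simp
  have h1 : G.liftCycles (z ≫ g.f n) (n + 1) (by simp) (by simp [reassoc_of% hz]) ≫ G.homologyπ n = 0 := by
    have := h =≫ homologyMap g n
    rw [hc, assoc, ← homologyπ_naturality, ← assoc, ← this, assoc, kernel.condition, comp_zero]
  obtain ⟨Y', p', _, y, hy⟩ := (liftCycles_comp_homologyπ_eq_zero_iff_up_to_refinements G (n + -1) n (n + 1)
    (prev_eq _) (by simp) _ _).1 h1
  let w : Y' ⟶ A g n := pullback.lift (K.liftCycles (p' ≫ z) (n + 1) (by simp) (by simp [hz])) y (by simpa using hy)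
  obtain ⟨Y'', p'', _, x, hx⟩ := surjective_up_to_refinements_of_epi (π hP g n) w
  rw [← cancel_epi p, ← assoc, h, assoc, comp_zero, homologyπ_naturality, ← assoc, ← hc]
  rw [liftCycles_comp_homologyπ_eq_zero_iff_up_to_refinements _ (n + -1) n (n + 1) (prev_eq _) (by simp)]
  refine ⟨Y'', p'' ≫ p', inferInstance, x ≫ (mappingCone.inl (att hP g)).v n (n + -1) rfl, ?_⟩
  have hx' := (hx =≫ pullback.fst _ _) =≫ K.iCycles n
  simp only [w, assoc, limit.lift_π, PullbackCone.mk_π_app, liftCycles_i] at hx'
  rw [assoc, assoc, mappingCone.inl_v_d _ n (n + -1) (n + 1) rfl (by simp)]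
  simp [att, ← reassoc_of% hx']

/-- A section of `H(g')` on which `H(g)` becomes the transition map. -/
lemma exists_section (n : ℤ) [Epi (homologyMap g n)] :
    ∃ s : G.homology n ⟶ (K' hP g).homology n,
      homologyMap g n ≫ s = homologyMap (mappingCone.inr (att hP g)) n :=
  ⟨Abelian.epiDesc (homologyMap g n) _ (kernel_ι_homologyMap_inr hP g n), by simp⟩

end Groth.Agent.Dcoh.CellStep
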