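import Groth.Agent.Sga67.ClosedPush
import Groth.Agent.Fdesc.AssFlat
import Groth.Agent.Fdesc.LocGenPullback
import Groth.Agent.PerfC.TensRestr

/-!
# Projection formula for modules along a closed immersion

`proj f G E : f_* G ⊗ E ⟶ f_* (G ⊗ f^* E)`, natural in both variables; it is an isomorphism for every
`G` and `E` if `f` is a closed immersion.
-/

set_option autoImplicit false
set_option linter.style.haveILetI false
universe u

open CategoryTheory CategoryTheory.Limits AlgebraicGeometry TopologicalSpace Opposite MonoidalCategory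

namespace Groth.Agent.Dcoh.ClosedProj

open Groth.Agent.Fdesc.Skyscraper Groth.Agent.Fdesc.PullbackStalk Groth.Agent.Sga67.FlatPre
open Groth.Agent.Fdesc.LocGen (pullSec pullSec_smul res_pullSec pullSec_add)
open Groth.Agent.PerfC.TensRestr Groth.Agent.Fdesc.AssFlat Groth.Agent.Ega2.Tens

variable {X Y : Scheme.{u}} (f : X ⟶ Y)

/-- The projection map `f_* G ⊗ E ⟶ f_* (G ⊗ f^* E)`. -/
noncomputable def proj (G : X.Modules) (E : Y.Modules) :
    (DCoh.tensorBi.obj ((Scheme.Modules.pushforward f).obj G)).obj E ⟶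
      (Scheme.Modules.pushforward f).obj
        ((DCoh.tensorBi.obj G).obj ((Scheme.Modules.pullback f).obj E)) :=
  Groth.Agent.Ega2.Tens.lift (M := (Scheme.Modules.pushforward f).obj G) (N := E)
    (P := (Scheme.Modules.pushforward f).obj
        (CohB1.tensorMod G ((Scheme.Modules.pullback f).obj E)))
    (fun U => LinearMap.mk₂ Γ(Y, U)
      (fun (g : Γ((Scheme.Modules.pushforward f).obj G, U)) (e : Γ(E, U)) =>
        (show Γ((Scheme.Modules.pushforward f).obj
          (CohB1.tensorMod G ((Scheme.Modules.pullback f).obj E)), U) from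
            tmul (show Γ(G, f ⁻¹ᵁ U) from g) (pullSec f e)))
      (fun g g' e => add_tmul _ _ _)
      (fun r g e => smul_tmul (f.app U r : Γ(X, f ⁻¹ᵁ U)) _ _)
      (fun g e e' => by
        change tmul (show Γ(G, f ⁻¹ᵁ U) from g) (pullSec f (e + e')) = _
        rw [pullSec_add, tmul_add]; rfl)
      (fun r g e => by
        change tmul (show Γ(G, f ⁻¹ᵁ U) from g) (pullSec f (r • e)) = _
        rw [pullSec_smul, tmul_smul]; rfl))
    (fun U V i g e => by
      have h1 := tmul_res (M := G) (N := (Scheme.Modules.pullback f).obj E)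
        (homOfLE (f.preimage_mono i.le) : f ⁻¹ᵁ V ⟶ f ⁻¹ᵁ U)
        (show Γ(G, f ⁻¹ᵁ U) from g) (pullSec f e)
      refine Eq.trans h1 ?_
      exact congrArg (fun z => tmul (M := G) (N := (Scheme.Modules.pullback f).obj E)
        (U := f ⁻¹ᵁ V) _ z) (res_pullSec f i.le e))

theorem proj_tm (G : X.Modules) (E : Y.Modules) {U : Y.Opens}
    (g : Γ(G, f ⁻¹ᵁ U)) (e : Γ(E, U)) :
    (proj f G E).app U (tm (M := (Scheme.Modules.pushforward f).obj G) (N := E) (U := U) g e) =
      (show Γ((Scheme.Modules.pushforward f).obj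
        ((DCoh.tensorBi.obj G).obj ((Scheme.Modules.pullback f).obj E)), U) from
        tm (M := G) (N := (Scheme.Modules.pullback f).obj E) (U := f ⁻¹ᵁ U) g (pullSec f e)) :=
  Groth.Agent.Ega2.Tens.lift_tmul _ _ _ _ _

theorem proj_naturality_left {G G' : X.Modules} (φ : G ⟶ G') (E : Y.Modules) :
    (DCoh.tensorBi.map ((Scheme.Modules.pushforward f).map φ)).app E ≫ proj f G' E =
      proj f G E ≫ (Scheme.Modules.pushforward f).map
        ((DCoh.tensorBi.map φ).app ((Scheme.Modules.pullback f).obj E)) := by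
  refine tensorBi_hom_ext _ _ fun U g e => ?_
  rw [comp_app_apply, comp_app_apply, tensorBi_map_app_app_tm]
  refine (proj_tm f G' E _ e).trans ?_
  refine Eq.trans ?_ (congrArg (fun z => ((Scheme.Modules.pushforward f).map
    ((DCoh.tensorBi.map φ).app ((Scheme.Modules.pullback f).obj E))).app U z)
      (proj_tm f G E g e).symm)
  exact (tensorBi_map_app_app_tm (U := f ⁻¹ᵁ U) φ ((Scheme.Modules.pullback f).obj E) g
    (pullSec f e)).symm

theorem proj_naturality_right (G : X.Modules) {E E' : Y.Modules} (φ : E ⟶ E') :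
    (DCoh.tensorBi.obj ((Scheme.Modules.pushforward f).obj G)).map φ ≫ proj f G E' =
      proj f G E ≫ (Scheme.Modules.pushforward f).map
        ((DCoh.tensorBi.obj G).map ((Scheme.Modules.pullback f).map φ)) := by
  refine tensorBi_hom_ext _ _ fun U g e => ?_
  rw [comp_app_apply, comp_app_apply, tensorBi_obj_map_app_tm]
  refine (proj_tm f G E' _ _).trans ?_
  refine Eq.trans ?_ (congrArg (fun z => ((Scheme.Modules.pushforward f).map
    ((DCoh.tensorBi.obj G).map ((Scheme.Modules.pullback f).map φ))).app U z)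
      (proj_tm f G E g e).symm)
  refine Eq.trans ?_ (tensorBi_obj_map_app_tm (U := f ⁻¹ᵁ U) G ((Scheme.Modules.pullback f).map φ) g
    (pullSec f e)).symm
  exact congrArg (fun z => tm (M := G) (N := (Scheme.Modules.pullback f).obj E') (U := f ⁻¹ᵁ U) g z)
    (Groth.Agent.Fdesc.LocGen.pullback_map_pullSec f φ e).symm

/-- The stalk of a pure tensor. -/
theorem tensorModStalk_germ (M N : X.Modules) (x : X) (U : X.Opens) (hx : x ∈ U)
    (m : Γ(M, U)) (n : Γ(N, U)) :
    tensorModStalk M N x ((CohB1.tensorMod M N).presheaf.germ U x hx (tmul m n)) =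
      M.presheaf.germ U x hx m ⊗ₜ[X.presheaf.stalk x] N.presheaf.germ U x hx n := by
  have h1 : ((Dcoh.Stalk.stalkShIso x).inv.app (DCoh.toP.obj M ⊗ DCoh.toP.obj N)).hom
      (Dcoh.StalkP.germ (R := X.presheaf) (DCoh.toP.obj M ⊗ DCoh.toP.obj N) U x hx
        (Dcoh.StalkP.tmul m n)) =
      (CohB1.tensorMod M N).presheaf.germ U x hx (tmul m n) :=
    Dcoh.StalkP.stalkMap_germ (R := X.presheaf) _ U x hx _
  have h2 : ((Dcoh.Stalk.stalkShIso x).hom.app (DCoh.toP.obj M ⊗ DCoh.toP.obj N)).hom
      ((CohB1.tensorMod M N).presheaf.germ U x hx (tmul m n)) =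
      Dcoh.StalkP.germ (R := X.presheaf) (DCoh.toP.obj M ⊗ DCoh.toP.obj N) U x hx
        (Dcoh.StalkP.tmul m n) := by
    rw [← h1]
    exact congr(($((Dcoh.Stalk.stalkShIso x).inv_hom_id_app
      (DCoh.toP.obj M ⊗ DCoh.toP.obj N))).hom _)
  refine (congrArg (Dcoh.Stalk.stalkPSTensor (DCoh.toP.obj M) (DCoh.toP.obj N) x).hom.hom
    h2).trans ?_
  exact Dcoh.StalkP.stalkTensorEquiv_germ_tmul (R := X.presheaf) (DCoh.toP.obj M)
    (DCoh.toP.obj N) x U hx m n

section Stalk

open TensorProduct

variable (x : X) (G : X.Modules) (E : Y.Modules)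

/-- `(f_* G)_{f x} ≃ G_x`, linear over `O_{Y, f x}`. -/
noncomputable def pushLin (hf : Topology.IsInducing f.base) :
    letI := FlatMod.moduleStalkOver f G x
    ((Scheme.Modules.pushforward f).obj G).presheaf.stalk (f.base x)
      ≃ₗ[Y.presheaf.stalk (f.base x)] G.presheaf.stalk x :=
  letI := FlatMod.moduleStalkOver f G x
  LinearEquiv.ofBijective
    (show ((Scheme.Modules.pushforward f).obj G).presheaf.stalk (f.base x)
      →ₗ[Y.presheaf.stalk (f.base x)] G.presheaf.stalk x from
    { toFun := pushAdd f G x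
      map_add' := map_add _
      map_smul' := pushAdd_smul f G x }) (pushAdd_bijective f hf G x)

/-- The stalk of `f_* G ⊗ E` at `f x`. -/
noncomputable def phi (hf : Topology.IsInducing f.base) :
    letI := stalkAlg f x
    letI := FlatMod.moduleStalkOver f G x
    (CohB1.tensorMod ((Scheme.Modules.pushforward f).obj G) E).presheaf.stalk (f.base x)
      ≃ₗ[Y.presheaf.stalk (f.base x)]
      (G.presheaf.stalk x) ⊗[Y.presheaf.stalk (f.base x)] (E.presheaf.stalk (f.base x)) :=
  letI := stalkAlg f x
  letI := FlatMod.moduleStalkOver f G x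
  (tensorModStalk ((Scheme.Modules.pushforward f).obj G) E (f.base x)).trans
    (TensorProduct.congr (pushLin f x G hf) (LinearEquiv.refl _ _))

theorem phi_germ (hf : Topology.IsInducing f.base) (U : Y.Opens) (hx : f.base x ∈ U)
    (g : Γ(G, f ⁻¹ᵁ U)) (e : Γ(E, U)) :
    letI := stalkAlg f x
    letI := FlatMod.moduleStalkOver f G x
    phi f x G E hf ((CohB1.tensorMod ((Scheme.Modules.pushforward f).obj G) E).presheaf.germ U
      (f.base x) hx (tmul (M := (Scheme.Modules.pushforward f).obj G) (N := E) (U := U) g e)) =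
      G.presheaf.germ (f ⁻¹ᵁ U) x hx g ⊗ₜ[Y.presheaf.stalk (f.base x)]
        E.presheaf.germ U (f.base x) hx e := by
  letI := stalkAlg f x
  letI := FlatMod.moduleStalkOver f G x
  refine (congrArg (TensorProduct.congr (pushLin f x G hf) (LinearEquiv.refl _ _))
    (tensorModStalk_germ ((Scheme.Modules.pushforward f).obj G) E (f.base x) U hx g e)).trans ?_
  refine (TensorProduct.congr_tmul _ _ _ _).trans ?_
  refine congrArg₂ (fun a b => a ⊗ₜ[Y.presheaf.stalk (f.base x)] b) ?_ rfl
  exact pushAdd_germ f G x U hx g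

/-- The stalk of `G ⊗ f^* E` at `x`. -/
noncomputable def psi :
    letI := stalkAlg f x
    letI := FlatMod.moduleStalkOver f G x
    haveI := isScalarTower f G x
    (CohB1.tensorMod G ((Scheme.Modules.pullback f).obj E)).presheaf.stalk x
      ≃ₗ[X.presheaf.stalk x]
      (G.presheaf.stalk x) ⊗[Y.presheaf.stalk (f.base x)] (E.presheaf.stalk (f.base x)) :=
  letI := stalkAlg f x
  letI := FlatMod.moduleStalkOver f G x
  haveI := isScalarTower f G x
  (tensorModStalk G _ x).trans
    ((TensorProduct.congr (LinearEquiv.refl _ _) (stalkPullbackEquiv f E x).symm).trans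
        (AlgebraTensorModule.cancelBaseChange _ _ _ _ _))

theorem psi_germ (U : Y.Opens) (hx : f.base x ∈ U) (g : Γ(G, f ⁻¹ᵁ U)) (e : Γ(E, U)) :
    letI := stalkAlg f x
    letI := FlatMod.moduleStalkOver f G x
    haveI := isScalarTower f G x
    psi f x G E ((CohB1.tensorMod G ((Scheme.Modules.pullback f).obj E)).presheaf.germ (f ⁻¹ᵁ U) x hx
      (tmul g (pullSec f e))) =
      G.presheaf.germ (f ⁻¹ᵁ U) x hx g ⊗ₜ[Y.presheaf.stalk (f.base x)]
        E.presheaf.germ U (f.base x) hx e := by
  letI := stalkAlg f x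
  letI := FlatMod.moduleStalkOver f G x
  haveI := isScalarTower f G x
  have h1 : (stalkPullbackEquiv f E x).symm
      (((Scheme.Modules.pullback f).obj E).presheaf.germ (f ⁻¹ᵁ U) x hx (pullSec f e)) =
      (1 : X.presheaf.stalk x) ⊗ₜ[Y.presheaf.stalk (f.base x)] E.presheaf.germ U (f.base x) hx e := by
    rw [LinearEquiv.symm_apply_eq, stalkPullbackEquiv_tmul, one_smul, canAdd_germ]
    rfl
  refine (congrArg (((TensorProduct.congr (LinearEquiv.refl _ _)
    (stalkPullbackEquiv f E x).symm).trans
        (AlgebraTensorModule.cancelBaseChange _ _ _ _ _)))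
    (tensorModStalk_germ G _ x (f ⁻¹ᵁ U) hx g (pullSec f e))).trans ?_
  rw [LinearEquiv.trans_apply, TensorProduct.congr_tmul, h1]
  refine (AlgebraTensorModule.cancelBaseChange_tmul _ _ _ _ _ _).trans ?_
  rw [one_smul]
  rfl

theorem psi_proj (hf : Topology.IsInducing f.base)
    (t : (CohB1.tensorMod ((Scheme.Modules.pushforward f).obj G) E).presheaf.stalk (f.base x)) :
    letI := stalkAlg f x
    letI := FlatMod.moduleStalkOver f G x
    haveI := isScalarTower f G x
    psi f x G E (pushAdd f _ x (stalkMap (proj f G E) (f.base x) t)) = phi f x G E hf t := by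
  letI := stalkAlg f x
  letI := FlatMod.moduleStalkOver f G x
  haveI := isScalarTower f G x
  obtain ⟨U, hU, s, rfl⟩ := TopCat.Presheaf.exists_germ_eq _ t
  obtain ⟨V, i, hV, n, g, e, hs⟩ := exists_sum_tmul (M := (Scheme.Modules.pushforward f).obj G)
    (N := E) s hU
  have h1 : (CohB1.tensorMod ((Scheme.Modules.pushforward f).obj G) E).presheaf.germ U
      (f.base x) hU s = ∑ k, (CohB1.tensorMod ((Scheme.Modules.pushforward f).obj G) E).presheaf.germ V
      (f.base x) hV (tmul (g k) (e k)) := by
    rw [← map_sum, ← hs]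
    exact (TopCat.Presheaf.germ_res_apply _ i (f.base x) hV s).symm
  let A : (CohB1.tensorMod ((Scheme.Modules.pushforward f).obj G) E).presheaf.stalk (f.base x) →+
      (G.presheaf.stalk x) ⊗[Y.presheaf.stalk (f.base x)] (E.presheaf.stalk (f.base x)) :=
    (psi f x G E).toLinearMap.toAddMonoidHom.comp ((pushAdd f _ x).comp
      (stalkMap (proj f G E) (f.base x)).toAddMonoidHom)
  change A _ = _
  rw [h1, map_sum, map_sum]
  refine Finset.sum_congr rfl fun k _ => ?_
  rw [phi_germ f x G E hf V hV (g k) (e k)]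
  change psi f x G E (pushAdd f _ x (stalkMap (proj f G E) (f.base x) _)) = _
  refine Eq.trans ?_ (psi_germ f x G E V hV (g k) (e k))
  refine congrArg (psi f x G E) ?_
  refine (congrArg (pushAdd f _ x) (stalkMap_germ (proj f G E) (f.base x) V hV _)).trans ?_
  refine (congrArg (fun z => pushAdd f _ x (((Scheme.Modules.pushforward f).obj
        ((DCoh.tensorBi.obj G).obj ((Scheme.Modules.pullback f).obj E))).presheaf.germ V
          (f.base x) hV z)) (proj_tm f G E (g k) (e k))).trans ?_
  exact pushAdd_germ f _ x V hV _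

theorem stalkMap_proj_bijective (hf : Topology.IsInducing f.base) :
    Function.Bijective (stalkMap (proj f G E) (f.base x)) := by
  letI := stalkAlg f x
  letI := FlatMod.moduleStalkOver f G x
  haveI := isScalarTower f G x
  have h1 : Function.Bijective (fun z => psi f x G E (pushAdd f _ x z)) :=
    (psi f x G E).bijective.comp (pushAdd_bijective f hf _ x)
  refine (Function.Bijective.of_comp_iff' h1 _).1 ?_
  have h2 : (fun z => psi f x G E (pushAdd f _ x z)) ∘ (stalkMap (proj f G E) (f.base x)) =
      phi f x G E hf := funext (psi_proj f x G E hf)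
  rw [h2]
  exact (phi f x G E hf).bijective

end Stalk

theorem isIso_proj [IsClosedImmersion f] (G : X.Modules) (E : Y.Modules) : IsIso (proj f G E) := by
  refine isIso_of_stalkMap_bijective _ fun y => ?_
  by_cases hy : y ∈ Set.range f
  · obtain ⟨x, rfl⟩ := hy
    exact stalkMap_proj_bijective f x G E f.isClosedEmbedding.isInducing
  · have h1 := Groth.Agent.CycB.PushStalk.subsingleton_stalk_push f G y (by
      rwa [f.isClosedEmbedding.isClosed_range.closure_eq])
    have h2 := Groth.Agent.CycB.PushStalk.subsingleton_stalk_push f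
      ((DCoh.tensorBi.obj G).obj ((Scheme.Modules.pullback f).obj E)) y (by
      rwa [f.isClosedEmbedding.isClosed_range.closure_eq])
    have h3 : Subsingleton ((CohB1.tensorMod ((Scheme.Modules.pushforward f).obj G)
        E).presheaf.stalk y) := by
      refine (tensorModStalk ((Scheme.Modules.pushforward f).obj G) E y).toEquiv.subsingleton_congr.2 ?_
      infer_instance
    exact ⟨fun a b _ => h3.elim a b, fun b => ⟨0, h2.elim _ _⟩⟩

end Groth.Agent.Dcoh.ClosedProj
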