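import Groth.Agent.Dcoh.CompactPlus
import Groth.Agent.PerfA.PerfInd

/-!
# Perfect objects are compact with respect to uniformly bounded below direct sums
-/

set_option autoImplicit false
universe u

open CategoryTheory CategoryTheory.Limits AlgebraicGeometry TopologicalSpace Opposite

attribute [local instance] HasDerivedCategory.standard

namespace Groth.Agent.Dcoh.CompactPerf

open Groth.Agent.Dcoh.FinFactor Groth.Agent.Dcoh.CompactPlus Groth.Agent.PerfA.ExtZero

variable {X : Scheme.{u}}

/-- Perfect objects are compact with respect to uniformly bounded below direct sums. -/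
theorem CP_of_isPerfect [CompactSpace X] [QuasiSeparatedSpace X] (K : DCoh.D X)
    (hK : DCoh.IsPerfect K) : CP K :=
  Groth.Agent.PerfA.PerfInd.prop_of_isPerfect (fun K : DCoh.D X => CP K)
    (fun U hU => CP_singleFunctor_OU U hU.isCompact 0) K hK

/-- Lifting the index type of a colimit cofan. -/
noncomputable def isColimitULift {D : Type*} [Category D] {I : Type u} {M : I → D} {c : Cofan M}
    (hc : IsColimit c) :
    IsColimit (Cofan.mk c.pt (fun i : ULift.{u + 1} I => c.inj i.down) :
      Cofan fun i : ULift.{u + 1} I => M i.down) :=
  Cofan.IsColimit.mk _ (fun s => Cofan.IsColimit.desc hc (fun i => s.inj (ULift.up i)))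
    (fun s i => Cofan.IsColimit.fac hc _ i.down)
    (fun s m hm => Cofan.IsColimit.hom_ext hc _ _ fun i =>
      (hm (ULift.up i)).trans (Cofan.IsColimit.fac hc (fun i => s.inj (ULift.up i)) i).symm)

/-- From finite factorization for `u`-small families to the canonical map for lifted index types. -/
theorem bijective_of_FF' {K : DCoh.D X} {I : Type u} (M : I → DCoh.D X)
    [HasCoproduct fun i : ULift.{u + 1} I => M i.down]
    (h : ∀ (c : Cofan M) (_ : IsColimit c), FF K c) :
    Function.Bijective (CohDer.homSumToHomCoprod K (fun i : ULift.{u + 1} I => M i.down)) := by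
  have := CompactPlus.hasExactCoproducts X I
  exact bijective_of_FF _ (isColimitULift (coproductIsCoproduct M))
    (FF.reindex Equiv.ulift (h _ (coproductIsCoproduct M)))

end Groth.Agent.Dcoh.CompactPerf
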