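import Groth.Agent.Cohder.StupidGE
import Groth.Agent.CohtopA.DerProd
import Mathlib.Algebra.Homology.DerivedCategory.TStructure

/-!
# Vanishing of maps to unbounded complexes from vanishing for single objects
-/

set_option autoImplicit false
universe w' w v u

open CategoryTheory CategoryTheory.Limits DerivedCategory

namespace Groth.Agent.Dcoh.VanSingle

open Groth.Agent.Cohder.StupidGE

variable {C : Type u} [Category.{v} C] [Abelian C] [HasDerivedCategory.{w'} C]

/-- The stupid truncation of a complex without cohomology in degrees `≥ k` is concentrated in degree `k`. -/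
lemma isLE_σ (J : CochainComplex C ℤ) (k : ℤ) (hJ : ∀ i, k ≤ i → IsZero (J.homology i)) :
    (Q.obj (σ J k)).IsLE k := by
  rw [isLE_Q_obj_iff, CochainComplex.isLE_iff]
  intro i hi
  rw [HomologicalComplex.exactAt_iff_isZero_homology]
  have := isIso_homologyMap_σι J k i hi
  exact (hJ i hi.le).of_iso (asIso (HomologicalComplex.homologyMap (σι J k) i))

omit [HasDerivedCategory.{w'} C] in
/-- A morphism from a complex in degrees `≥ k` factors through the stupid truncation. -/
lemma exists_factor_σ (K J : CochainComplex C ℤ) (k : ℤ) [K.IsStrictlyGE k] (f : K ⟶ J) :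
    ∃ g : K ⟶ σ J k, g ≫ σι J k = f := by
  have hX : ∀ i, ∃ g : K.X i ⟶ (σ J k).X i, g ≫ (σι J k).f i = f.f i := by
    intro i
    by_cases h : k ≤ i
    · have := isIso_σι_f J k i h
      exact ⟨f.f i ≫ inv ((σι J k).f i), by simp⟩
    · exact ⟨0, (K.isZero_of_isStrictlyGE k i (by lia)).eq_of_src _ _⟩
  choose g hg using hX
  refine ⟨{ f := g, comm' := ?_ }, ?_⟩
  · intro i j _
    have := mono_σι_f J k j
    rw [← cancel_mono ((σι J k).f j), Category.assoc, Category.assoc, hg,
      ← (σι J k).comm, ← Category.assoc, hg, f.comm]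
  · ext i
    exact hg i

/-- If `K` is `≥ a` and has no maps to `F[-k]` for all objects `F`, `k ≤ a`, then `K` has no maps to
objects `≤ k - 1`, bounded or not. -/
theorem hom_eq_zero_of_isLE [IsGrothendieckAbelian.{w} C] (K : DerivedCategory C) (a k : ℤ)
    [K.IsGE a] (hk : k ≤ a)
    (h : ∀ (F : C) (f : K ⟶ (singleFunctor C k).obj F), f = 0)
    (N : DerivedCategory C) [N.IsLE (k - 1)] (f : K ⟶ N) : f = 0 := by
  obtain ⟨J, _, ⟨e⟩⟩ := Groth.Agent.CohtopA.DerProd.exists_kInjective_iso.{w', w} N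
  obtain ⟨K', _, ⟨e'⟩⟩ := exists_iso_Q_obj_of_isGE K a
  have hK' : K'.IsStrictlyGE k := K'.isStrictlyGE_of_ge k a hk
  obtain ⟨φ, hφ⟩ := Groth.Agent.CohtopA.DerProd.Q_map_surjective K' J (e'.inv ≫ f ≫ e.hom)
  obtain ⟨g, hg⟩ := exists_factor_σ K' J k φ
  have hJ : ∀ i, k ≤ i → IsZero (J.homology i) := by
    intro i hi
    have h1 : IsZero ((homologyFunctor C i).obj N) := N.isZero_of_isLE (k - 1) i (by lia)
    exact h1.of_iso (((homologyFunctorFactors C i).app J).symm ≪≫ (homologyFunctor C i).mapIso e.symm)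
  have h1 : (Q.obj (σ J k)).IsLE k := isLE_σ J k hJ
  have h2 : (Q.obj (σ J k)).IsGE k := by
    rw [isGE_Q_obj_iff]
    infer_instance
  obtain ⟨F, ⟨e''⟩⟩ := exists_iso_singleFunctor_obj_of_isGE_of_isLE (Q.obj (σ J k)) k
  have h3 : e'.hom ≫ Q.map g ≫ e''.hom = 0 := h F _
  have h4 : Q.map g = 0 := by
    rw [← cancel_epi e'.hom, ← cancel_mono e''.hom, Category.assoc, h3]
    simp
  have h5 : e'.inv ≫ f ≫ e.hom = 0 := by
    rw [← hφ, ← hg, Functor.map_comp, h4, zero_comp]
  rw [← cancel_epi e'.inv, ← cancel_mono e.hom, Category.assoc, h5]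
  simp

end Groth.Agent.Dcoh.VanSingle
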