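import Groth.Agent.Dcoh.CompactVan
import Groth.Agent.Dcoh.VanSingle
import Groth.Agent.Dcoh.CompactPerf
import Groth.Agent.PerfA.AffVan
import Groth.Agent.CohqA.HOpen

/-!
# The structure sheaf is compact on a scheme of finite cohomological dimension
-/

set_option autoImplicit false
universe w u

open CategoryTheory CategoryTheory.Limits AlgebraicGeometry TopologicalSpace Opposite

attribute [local instance] HasDerivedCategory.standard

namespace Groth.Agent.Dcoh.CompactAll

open Groth.Agent.Dcoh.FinFactor Groth.Agent.Dcoh.CompactPlus Groth.Agent.PerfA.ExtZero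

section Single

variable {C : Type*} [Category* C] [Abelian C] [HasDerivedCategory.{w} C] [HasExt.{w} C]

/-- Vanishing of an `Ext` group, in terms of morphisms between single complexes. -/
theorem hom_single_eq_zero (G M : C) (n : ℕ) (h : ∀ x : Abelian.Ext.{w} G M n, x = 0)
    (a b : ℤ) (hn : b + (n : ℤ) = a)
    (f : (DerivedCategory.singleFunctor C a).obj G ⟶ (DerivedCategory.singleFunctor C b).obj M) :
    f = 0 := by
  let e₁ : (shiftFunctor (DerivedCategory C) a).obj ((DerivedCategory.singleFunctor C a).obj G) ≅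
      (DerivedCategory.singleFunctor C 0).obj G :=
    ((DerivedCategory.singleFunctors C).shiftIso a 0 a (by omega)).app G
  let e₂ : (shiftFunctor (DerivedCategory C) a).obj ((DerivedCategory.singleFunctor C b).obj M) ≅
      (shiftFunctor (DerivedCategory C) (n : ℤ)).obj
        ((DerivedCategory.singleFunctor C 0).obj M) :=
    ((DerivedCategory.singleFunctors C).shiftIso a (b - a) b (by omega)).app M ≪≫
      (((DerivedCategory.singleFunctors C).shiftIso (n : ℤ) (b - a) 0 (by omega)).app M).symm
  have h0 : e₁.inv ≫ (shiftFunctor (DerivedCategory C) a).map f ≫ e₂.hom = 0 := by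
    have := h (Abelian.Ext.homEquiv.symm (e₁.inv ≫ (shiftFunctor (DerivedCategory C) a).map f ≫ e₂.hom))
    rw [Equiv.symm_apply_eq] at this
    rw [this]
    exact Abelian.Ext.zero_hom _ _ _
  apply (shiftFunctor (DerivedCategory C) a).map_injective
  rw [Functor.map_zero]
  rw [← cancel_epi e₁.inv, ← cancel_mono e₂.hom, Category.assoc, h0]
  simp

end Single

variable {X : Scheme.{u}}

/-- If `H^n(X, F) = 0` then `Hom(O_X, F[n]) = 0`. -/
theorem hom_OU_eq_zero (n : ℕ) (F : X.Modules) (h : Subsingleton (Coh.HH X F n))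
    (a b : ℤ) (hn : b + (n : ℤ) = a)
    (f : (DerivedCategory.singleFunctor X.Modules a).obj (OU (⊤ : X.Opens)) ⟶
      (DerivedCategory.singleFunctor X.Modules b).obj F) : f = 0 := by
  have := HasExt.standard X.Modules
  refine hom_single_eq_zero _ _ n (fun x => ?_) a b hn f
  have h1 : Subsingleton (CohTop.HU (X := X.toTopCat) (Coh.toAb F) n ⊤) :=
    (Groth.Agent.CohqA.HOpen.HHTopEquiv F n).symm.injective.subsingleton
  exact (Groth.Agent.PerfA.AffVan.extEquiv ⊤ F n).injective (Subsingleton.elim _ _)

/-- On a quasi-compact quasi-separated scheme of finite cohomological dimension, morphisms from `O_X` to any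
direct sum of objects of `D(O_X)` factor through finite partial sums. -/
theorem FF_OU_top [CompactSpace X] [QuasiSeparatedSpace X] (d : ℕ)
    (h : ∀ (F : X.Modules) (i : ℕ), d < i → Subsingleton (Coh.HH X F i))
    (I : Type u) (M : I → DCoh.D X) (c : Cofan M) (hc : IsColimit c) :
    FF ((DerivedCategory.singleFunctor X.Modules 0).obj (OU (⊤ : X.Opens))) c := by
  have := CompactPlus.hasExactCoproducts X I
  have hGA := CompactPlus.isGA X
  refine FF.of_isColimit (fun i => Iso.refl _) (coproductIsCoproduct M) hc ?_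
  refine CompactVan.FF_of_vanish DerivedCategory.TStructure.t (-(d + 1 : ℕ) - 1 : ℤ) ?_ M ?_
  · intro N f hN
    have h1 : DerivedCategory.IsGE ((DerivedCategory.singleFunctor X.Modules 0).obj (OU (⊤ : X.Opens))) 0 :=
      inferInstance
    have hN' : N.IsLE (-(d + 1 : ℕ) - 1 : ℤ) := hN
    exact VanSingle.hom_eq_zero_of_isLE _ 0 (-(d + 1 : ℕ) : ℤ) (by lia)
      (fun F f => hom_OU_eq_zero (d + 1) F (h F _ (by lia)) 0 _ (by lia) f) N f
  · exact CP_singleFunctor_OU (⊤ : X.Opens) isCompact_univ 0 I _ _ (coproductIsCoproduct _)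
      (-(d + 1 : ℕ) - 1 + 1 : ℤ) (fun i => DerivedCategory.TStructure.t.isGE_truncGE_obj (M i) _ _ (by lia))

end Groth.Agent.Dcoh.CompactAll
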