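import Groth.Agent.Dcoh.CompactPlus
import Mathlib.CategoryTheory.Monoidal.Rigid.Braided
import Mathlib.CategoryTheory.Preadditive.AdditiveFunctor

/-!
# Compactness of dualizable objects
-/

set_option autoImplicit false
universe w u v

open CategoryTheory CategoryTheory.Limits MonoidalCategory

namespace Groth.Agent.Dcoh.CompactDual

open Groth.Agent.Dcoh.FinFactor Groth.Agent.Dcoh.CompactPlus

variable {D : Type u} [Category.{v} D] [Preadditive D] [HasBinaryBiproducts D]

/-- A left adjoint functor between preadditive categories with binary biproducts is additive. -/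
theorem additive_of_isLeftAdjoint {D' : Type*} [Category D'] [Preadditive D'] [HasZeroObject D]
    [HasZeroObject D'] (F : D ⥤ D') [F.IsLeftAdjoint] : F.Additive := by
  have : PreservesColimitsOfSize.{0, 0} F := (Adjunction.ofIsLeftAdjoint F).leftAdjoint_preservesColimits
  have h0 : F.PreservesZeroMorphisms := F.preservesZeroMorphisms_of_isLeftAdjoint
  have : PreservesBinaryBiproducts F := preservesBinaryBiproducts_of_preservesBinaryCoproducts F
  exact Functor.additive_of_preservesBinaryBiproducts F

variable [HasZeroObject D] [MonoidalCategory D]

/-- If morphisms from the unit into coproducts factor finitely, then so do morphisms from dualizable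
objects whose dual tensors compatibly with coproducts. -/
theorem FF_of_exactPairing {K Y : D} [ExactPairing K Y] {I : Type w}
    (h : ∀ (M : I → D) (c : Cofan M), IsColimit c → FF (𝟙_ D) c)
    (M : I → D) (c : Cofan M) (hc : IsColimit c)
    [PreservesColimit (Discrete.functor M) (tensorRight Y)] : FF K c := by
  have : (tensorRight K).IsLeftAdjoint := ⟨_, ⟨tensorRightAdjunction K Y⟩⟩
  have := additive_of_isLeftAdjoint (tensorRight K)
  refine FF.of_iso (λ_ K).symm (FF.of_adj (tensorRightAdjunction K Y) c ?_)
  exact h _ _ (isColimitCofanMkObjOfIsColimit (tensorRight Y) _ _ hc)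

end Groth.Agent.Dcoh.CompactDual
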