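import Groth.Agent.Dcoh.PerfDual
import Groth.Agent.Dcoh.CompactAll
import Groth.Agent.Dcoh.CompactDual
import Groth.Agent.PerfA.UnitOU

/-!
# Perfect objects are compact on a scheme of finite cohomological dimension
-/

set_option autoImplicit false

universe u

open CategoryTheory Limits MonoidalCategory AlgebraicGeometry
attribute [local instance] HasDerivedCategory.standard

open scoped Groth.Agent.Dcoh.MonCat Groth.Agent.Dcoh.ModD

namespace Groth.Agent.Dcoh.Compact295

open Groth.Agent.Dcoh.FinFactor Groth.Agent.Dcoh.CompactPlus Groth.Agent.PerfA.ExtZero Groth.Agent.PerfC.DTens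

variable {X : Scheme.{u}}

/-- The unit is compact when the cohomological dimension is finite. -/
theorem FF_unit [CompactSpace X] [QuasiSeparatedSpace X] (d : ℕ)
    (h : ∀ (F : X.Modules) (i : ℕ), d < i → Subsingleton (Coh.HH X F i))
    (I : Type u) (M : I → DCoh.D X) (c : Cofan M) (hc : IsColimit c) :
    FF (𝟙_ (DCoh.D X)) c :=
  FF.of_iso ((DualX.unitIso X).symm ≪≫
    (DerivedCategory.singleFunctor X.Modules 0).mapIso (Groth.Agent.PerfA.UnitOU.unitIsoOU X))
    (CompactAll.FF_OU_top d h I M c hc)

/-- Tensoring on the right preserves coproducts. -/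
theorem preserves_tensorRight (J : Type u) (K : DCoh.D X) :
    PreservesColimitsOfShape (Discrete J) (tensorRight K) := by
  obtain ⟨e⟩ := PerfDual.nonempty_flipIso K
  have := preservesCoproducts_LTX_flip_obj J K
  exact preservesColimitsOfShape_of_natIso e

theorem FF_of_isPerfect [CompactSpace X] [QuasiSeparatedSpace X] (K : DCoh.D X) (hK : DCoh.IsPerfect K) (d : ℕ)
    (h : ∀ (F : X.Modules) (i : ℕ), d < i → Subsingleton (Coh.HH X F i))
    (I : Type u) (M : I → DCoh.D X) (c : Cofan M) (hc : IsColimit c) : FF K c := by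
  obtain ⟨K', -, ⟨hp⟩⟩ := PerfDual.exists_exactPairing K hK
  have := preserves_tensorRight I K'
  exact CompactDual.FF_of_exactPairing (K := K) (Y := K') (fun M c hc => FF_unit d h I M c hc) M c hc

end Groth.Agent.Dcoh.Compact295
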