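import Groth.Agent.Dcoh.SecCoprod
import Groth.Agent.Dcoh.AcycHom
import Groth.Agent.PerfA.ExtZero

/-!
# Modules whose sections extend from quasi-compact opens to quasi-compact opens

`QF F`: for quasi-compact opens `V ≤ U` the restriction `Γ(F, U) ⟶ Γ(F, V)` is surjective.  On a
quasi-separated scheme these modules are adapted to `Γ(W, -) = Hom(j_!O_W, -)` for quasi-compact `W`, and
direct sums of such modules (e.g. of injective modules) are of the same kind.
-/

set_option autoImplicit false
universe u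

open CategoryTheory CategoryTheory.Limits AlgebraicGeometry TopologicalSpace Opposite

namespace Groth.Agent.Dcoh.QcFlasque

open Groth.Agent.CycB.StalkExact Groth.Agent.Dcoh.SecCoprod Groth.Agent.PerfA.ExtZero

variable {X : Scheme.{u}}

/-- Sections extend from quasi-compact opens to quasi-compact opens. -/
def QF (X : Scheme.{u}) : ObjectProperty X.Modules := fun F =>
  ∀ (U V : X.Opens) (h : V ≤ U), IsCompact (U : Set X) → IsCompact (V : Set X) →
    ∀ s : Γ(F, V), ∃ t : Γ(F, U), F.presheaf.map (homOfLE h).op t = s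

theorem QF.of_split {F G : X.Modules} (i : G ⟶ F) (r : F ⟶ G) (h : i ≫ r = 𝟙 G) (hF : QF X F) : QF X G := by
  intro U V hVU hU hV s
  obtain ⟨t, ht⟩ := hF U V hVU hU hV (i.app V s)
  refine ⟨r.app U t, ?_⟩
  rw [← app_map, ht]
  change (i ≫ r).app V s = s
  rw [h]
  rfl

theorem QF.of_iso {F G : X.Modules} (e : F ≅ G) (hF : QF X F) : QF X G :=
  QF.of_split e.inv e.hom e.inv_hom_id hF

theorem qf_of_injective (J : X.Modules) [Injective J] : QF X J := by
  intro U V h _ _ s
  obtain ⟨t, ht⟩ := desc_surjective (Injective.factorThru (desc s) ((OUF X).map (homOfLE h)))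
  refine ⟨t, ?_⟩
  apply desc_injective
  rw [← map_desc, ← ht, Injective.comp_factorThru]

theorem QF.coproduct {I : Type u} {M : I → X.Modules} (c : Cofan M) (hc : IsColimit c)
    (hM : ∀ i, QF X (M i)) : QF X c.pt := by
  intro U V h hU hV s
  obtain ⟨t, m, rfl⟩ := isFinSum_of_isCompact hc hV s
  choose m' hm' using fun i => hM i U V h hU hV (m i)
  refine ⟨∑ i ∈ t, (c.inj i).app U (m' i), ?_⟩
  rw [map_sum]
  refine Finset.sum_congr rfl fun i _ => ?_
  rw [← app_map, hm']

theorem QF.biprod {F G : X.Modules} (hF : QF X F) (hG : QF X G) : QF X (F ⊞ G) := by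
  intro U V h hU hV s
  obtain ⟨a, ha⟩ := hF U V h hU hV ((biprod.fst : F ⊞ G ⟶ F).app V s)
  obtain ⟨b, hb⟩ := hG U V h hU hV ((biprod.snd : F ⊞ G ⟶ G).app V s)
  refine ⟨(biprod.inl : F ⟶ F ⊞ G).app U a + (biprod.inr : G ⟶ F ⊞ G).app U b, ?_⟩
  rw [map_add, ← app_map, ← app_map, ha, hb]
  have := congrArg (fun φ : F ⊞ G ⟶ F ⊞ G => φ.app V s) (biprod.total (X := F) (Y := G))
  exact this

theorem qf_of_isZero (F : X.Modules) (hF : IsZero F) : QF X F := by
  intro U V h hU hV s
  refine ⟨0, ?_⟩
  have h0 : 𝟙 F = 0 := hF.eq_of_src _ _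
  have : (𝟙 F : F ⟶ F).app V s = 0 := by rw [h0]; rfl
  rw [map_zero]
  exact this.symm

/-- Sections over quasi-compact opens lift along epimorphisms whose kernel is in `QF`. -/
theorem exists_lift [QuasiSeparatedSpace X] (S : ShortComplex X.Modules) (hS : S.ShortExact)
    (h1 : QF X S.X₁) (U : X.Opens) (hU : IsCompact (U : Set X)) (s : Γ(S.X₃, U)) :
    ∃ t : Γ(S.X₂, U), S.g.app U t = s := by
  have := hS.mono_f
  have := hS.epi_g
  -- local statement
  have hloc : ∀ x : U, ∃ (V : X.Opens) (_ : x.1 ∈ V) (hVU : V ≤ U) (_ : IsCompact (V : Set X))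
      (t : Γ(S.X₂, V)), S.g.app V t = S.X₃.presheaf.map (homOfLE hVU).op s := by
    intro x
    obtain ⟨z, hz⟩ := stalkLin_surjective S.g x.1 (S.X₃.presheaf.germ U x.1 x.2 s)
    obtain ⟨W, hxW, t, rfl⟩ := S.X₂.presheaf.exists_germ_eq z
    rw [stalkLin_germ] at hz
    obtain ⟨W', hxW', i1, i2, h12⟩ := S.X₃.presheaf.germ_eq x.1 hxW x.2 _ _ hz
    obtain ⟨V, hV, hxV, hVW⟩ := exists_isAffineOpen_mem_and_subset (U := W') hxW'
    have hVW' : V ≤ W' := hVW
    refine ⟨V, hxV, hVW'.trans (leOfHom i2), hV.isCompact,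
      S.X₂.presheaf.map (homOfLE (hVW'.trans (leOfHom i1))).op t, ?_⟩
    refine (app_map S.g _ t).trans ?_
    have h13 : ∀ (A B : X.Opens) (i : B ⟶ A) (hB : V ≤ B) (z : Γ(S.X₃, A)),
        S.X₃.presheaf.map (homOfLE hB).op (S.X₃.presheaf.map i.op z) =
          S.X₃.presheaf.map (homOfLE (hB.trans (leOfHom i))).op z := by
      intro A B i hB z
      rw [← ConcreteCategory.comp_apply, ← Functor.map_comp]
      rfl
    refine (h13 W W' i1 hVW' (S.g.app W t)).symm.trans ?_
    refine Eq.trans ?_ (h13 U W' i2 hVW' s)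
    exact congrArg (S.X₃.presheaf.map (homOfLE hVW').op) h12
  choose V hxV hVU hVc t ht using hloc
  obtain ⟨T, hT⟩ := hU.elim_finite_subcover (fun x : U => (V x : Set X)) (fun x => (V x).2)
    (fun x hx => Set.mem_iUnion.2 ⟨⟨x, hx⟩, hxV _⟩)
  have key : ∀ T : Finset U, IsCompact ((T.sup V : X.Opens) : Set X) ∧
      ∀ (W : X.Opens) (hW : W = T.sup V) (hWU : W ≤ U),
        ∃ t : Γ(S.X₂, W), S.g.app W t = S.X₃.presheaf.map (homOfLE hWU).op s := by
    classical
    intro T
    induction T using Finset.induction_on with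
    | empty =>
      refine ⟨by simp, ?_⟩
      intro W hW hWU
      refine ⟨0, ?_⟩
      refine TopCat.Presheaf.IsSheaf.section_ext S.X₃.isSheaf ?_
      intro x hx
      rw [hW] at hx
      exact absurd hx (by simp)
    | insert a T _ ih =>
      obtain ⟨ihc, ih⟩ := ih
      refine ⟨?_, ?_⟩
      · rw [Finset.sup_insert, Opens.coe_sup]
        exact (hVc a).union ihc
      · intro W hW hWU
        rw [Finset.sup_insert] at hW
        subst hW
        obtain ⟨t₂, ht₂⟩ := ih _ rfl (le_sup_right.trans hWU)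
        have hi : IsCompact ((V a ⊓ T.sup V : X.Opens) : Set X) :=
          QuasiSeparatedSpace.inter_isCompact _ _ (V a).2 (hVc a) (T.sup V).2 ihc
        -- the difference on the intersection
        have hd : S.g.app (V a ⊓ T.sup V) (S.X₂.presheaf.map (homOfLE inf_le_left).op (t a) -
            S.X₂.presheaf.map (homOfLE inf_le_right).op t₂) = 0 := by
          rw [map_sub, app_map, app_map, ht, ht₂, ← ConcreteCategory.comp_apply,
            ← ConcreteCategory.comp_apply, ← Functor.map_comp, ← Functor.map_comp]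
          exact sub_self _
        obtain ⟨r, hr⟩ : ∃ r : Γ(S.X₁, V a ⊓ T.sup V), S.f.app _ r =
            S.X₂.presheaf.map (homOfLE inf_le_left).op (t a) -
              S.X₂.presheaf.map (homOfLE inf_le_right).op t₂ := by
          obtain ⟨r, hr⟩ := desc_surjective (hS.exact.lift (desc
            (S.X₂.presheaf.map (homOfLE inf_le_left).op (t a) -
              S.X₂.presheaf.map (homOfLE inf_le_right).op t₂)) (by
                rw [desc_comp, hd, desc_zero]))
          refine ⟨r, desc_injective ?_⟩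
          rw [← desc_comp, ← hr, hS.exact.lift_f]
        obtain ⟨r', hr'⟩ := h1 (T.sup V) (V a ⊓ T.sup V) inf_le_right ihc hi r
        obtain ⟨q, hq1, hq2⟩ := exists_glue (V a) (T.sup V) S.X₂ (t a) (t₂ + S.f.app _ r') (by
          rw [map_add]
          have h3 := app_map S.f (inf_le_right : V a ⊓ T.sup V ≤ T.sup V) r'
          rw [hr', hr] at h3
          refine Eq.trans ?_ (congrArg (fun z => S.X₂.presheaf.map (homOfLE inf_le_right).op t₂ + z) h3)
          abel)
        refine ⟨q, ?_⟩
        refine TopCat.Sheaf.eq_of_locally_eq₂ ⟨S.X₃.presheaf, S.X₃.isSheaf⟩ (homOfLE le_sup_left)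
          (homOfLE le_sup_right) le_rfl _ _ ?_ ?_
        · refine (app_map S.g le_sup_left q).symm.trans ?_
          refine (congrArg (S.g.app (V a)) hq1).trans ?_
          rw [ht]
          change _ = (S.X₃.presheaf.map _ ≫ S.X₃.presheaf.map _) s
          rw [← Functor.map_comp]
          rfl
        · refine (app_map S.g le_sup_right q).symm.trans ?_
          refine (congrArg (S.g.app (T.sup V)) hq2).trans ?_
          rw [map_add, ht₂]
          have : S.g.app (T.sup V) (S.f.app (T.sup V) r') = 0 := by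
            change (S.f ≫ S.g).app (T.sup V) r' = 0
            rw [S.zero]; rfl
          rw [this, add_zero]
          change _ = (S.X₃.presheaf.map _ ≫ S.X₃.presheaf.map _) s
          rw [← Functor.map_comp]
          rfl
  have hUt : U = T.sup V := by
    apply le_antisymm
    · intro x hx
      obtain ⟨y, hy, hxy⟩ := Set.mem_iUnion₂.1 (hT hx)
      exact (Finset.le_sup (f := V) hy) hxy
    · exact Finset.sup_le fun x _ => hVU x
  obtain ⟨t, ht⟩ := (key T).2 U hUt le_rfl
  refine ⟨t, ht.trans ?_⟩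
  have : (homOfLE (le_refl U)).op = 𝟙 (op U) := rfl
  rw [this, S.X₃.presheaf.map_id]
  rfl

/-- The class `QF` is adapted to `Γ(W, -)`, `W` quasi-compact. -/
theorem isAdapted [QuasiSeparatedSpace X] (W : X.Opens) (hW : IsCompact (W : Set X)) :
    AcycHom.IsAdapted (OU W) (QF X) where
  of_isZero := qf_of_isZero
  of_iso _ _ e h := QF.of_iso e h
  biprod _ _ h1 h2 := QF.biprod h1 h2
  coker S hS h1 h2 := by
    intro U V h hU hV s
    obtain ⟨t, rfl⟩ := exists_lift S hS h1 V hV s
    obtain ⟨t', rfl⟩ := h2 U V h hU hV t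
    exact ⟨S.g.app U t', (app_map _ _ _).symm⟩
  lift S hS h1 f := by
    obtain ⟨s, rfl⟩ := desc_surjective f
    obtain ⟨t, rfl⟩ := exists_lift S hS h1 W hW s
    exact ⟨desc t, desc_comp _ _⟩
  of_injective J hJ := qf_of_injective J

end Groth.Agent.Dcoh.QcFlasque
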