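import Groth.Agent.Dcoh.FinFactor
import Groth.Agent.Dcoh.QcFlasque
import Groth.Agent.PerfB.CoprodDerived
import Groth.Agent.CohtopA.ExactDer
import Groth.Agent.S0484
import Groth.Prelude.Def_DCoh2

/-!
# Compactness with respect to uniformly bounded below direct sums in `D(O_X)`
-/

set_option autoImplicit false
universe u

open CategoryTheory CategoryTheory.Limits AlgebraicGeometry TopologicalSpace Opposite

attribute [local instance] HasDerivedCategory.standard

namespace Groth.Agent.Dcoh.CompactPlus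

open Groth.Agent.Dcoh.FinFactor Groth.Agent.Dcoh.QcFlasque Groth.Agent.PerfA.ExtZero
  Groth.Agent.Dcoh.SecCoprod

variable {X : Scheme.{u}}

theorem isGA (X : Scheme.{u}) : IsGrothendieckAbelian.{u} X.Modules :=
  Groth.Agent.S0484.result _ X.ringCatSheaf

attribute [local instance] isGA

theorem enoughInj (X : Scheme.{u}) : EnoughInjectives X.Modules := inferInstance

attribute [local instance 2000] enoughInj

theorem hasExactCoproducts (X : Scheme.{u}) (I : Type u) : HasExactColimitsOfShape (Discrete I) X.Modules :=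
  inferInstance

attribute [local instance 2000] hasExactCoproducts

section Termwise

variable {I : Type u} (J : I → CochainComplex X.Modules ℤ)

/-- The terms of a coproduct of complexes. -/
noncomputable def isColimitTerm (n : ℤ) :
    IsColimit (Cofan.mk ((∐ J).X n) (fun i => (Sigma.ι J i).f n)) :=
  isColimitCofanMkObjOfIsColimit (HomologicalComplex.eval X.Modules (ComplexShape.up ℤ) n) _ _
    (coproductIsCoproduct J)

theorem isStrictlyGE_coproduct (a : ℤ) (h : ∀ i, (J i).IsStrictlyGE a) : (∐ J).IsStrictlyGE a := by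
  rw [CochainComplex.isStrictlyGE_iff]
  intro n hn
  rw [IsZero.iff_id_eq_zero]
  apply Cofan.IsColimit.hom_ext (isColimitTerm J n)
  intro i
  exact ((J i).isZero_of_isStrictlyGE a n hn).eq_of_src _ _

/-- Maps from `j_!O_W[-n]` to a uniformly bounded below direct sum of complexes with terms in `QF`
factor through finitely many summands. -/
theorem FF_OU [QuasiSeparatedSpace X] (W : X.Opens) (hW : IsCompact (W : Set X)) (n a : ℤ)
    (h : ∀ i, (J i).IsStrictlyGE a) (hJ : ∀ i m, QF X ((J i).X m)) :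
    FF (DerivedCategory.Q.obj ((CochainComplex.singleFunctor X.Modules n).obj (OU W)))
      (Cofan.mk (DerivedCategory.Q.obj (∐ J)) (fun i => DerivedCategory.Q.map (Sigma.ι J i))) := by
  intro f
  have := isStrictlyGE_coproduct J a h
  have hQF : ∀ m, QF X ((∐ J).X m) := fun m => QF.coproduct _ (isColimitTerm J m) (fun i => hJ i m)
  obtain ⟨φ, rfl⟩ := AcycHom.exists_Q_map_eq (isAdapted W hW) (∐ J) a hQF n f
  -- the section
  let x : OU W ⟶ (∐ J).X n := (HomologicalComplex.singleObjXSelf (ComplexShape.up ℤ) n (OU W)).inv ≫ φ.f n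
  obtain ⟨s, hs⟩ := desc_surjective x
  obtain ⟨t, ht, -⟩ := (isFinSum_of_isCompact (isColimitTerm J n) hW s).eq_sum_proj (isColimitTerm J n)
  let π : ∀ i, ∐ J ⟶ J i := fun i => FinFactor.proj (coproductIsCoproduct J) i
  have hπ : ∀ i, (π i).f n = SecCoprod.proj (isColimitTerm J n) i := by
    intro i
    apply Cofan.IsColimit.hom_ext (isColimitTerm J n)
    intro j
    by_cases hij : j = i
    · subst hij
      rw [SecCoprod.inj_proj]
      have := congrArg (fun z : J j ⟶ J j => z.f n) (FinFactor.inj_proj (coproductIsCoproduct J) j)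
      exact this
    · rw [SecCoprod.inj_proj_ne _ hij]
      have := congrArg (fun z : J j ⟶ J i => z.f n) (FinFactor.inj_proj_ne (coproductIsCoproduct J) hij)
      exact this
  have hφ : φ = ∑ i ∈ t, (φ ≫ π i) ≫ Sigma.ι J i := by
    apply HomologicalComplex.from_single_hom_ext
    have h1 : φ.f n = (HomologicalComplex.singleObjXSelf (ComplexShape.up ℤ) n (OU W)).hom ≫ desc s := by
      rw [← hs]
      simp [x]
    have h2 : (∑ i ∈ t, (φ ≫ π i) ≫ Sigma.ι J i).f n =
        ∑ i ∈ t, (φ.f n ≫ (π i).f n) ≫ (Sigma.ι J i).f n := by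
      have := map_sum (HomologicalComplex.Hom.fAddMonoidHom (C₁ := (CochainComplex.singleFunctor X.Modules n).obj (OU W))
        (C₂ := ∐ J) n) (fun i => (φ ≫ π i) ≫ Sigma.ι J i) t
      exact this
    refine Eq.trans ?_ h2.symm
    rw [h1]
    have h3 : desc s = ∑ i ∈ t, (desc s ≫ (π i).f n) ≫ (Sigma.ι J i).f n := by
      have : ∀ i, (desc s ≫ (π i).f n) ≫ (Sigma.ι J i).f n =
          desc ((Sigma.ι J i).f n |>.app W ((SecCoprod.proj (isColimitTerm J n) i).app W s)) := by
        intro i
        rw [hπ, desc_comp, desc_comp]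
      rw [Finset.sum_congr rfl (fun i _ => this i)]
      have hsum : ∀ (t : Finset I) (g : I → Γ((∐ J).X n, W)), desc (∑ i ∈ t, g i) = ∑ i ∈ t, desc (g i) :=
        fun t g => map_sum (homEquiv W ((∐ J).X n)).symm g t
      rw [← hsum]
      exact congrArg desc ht
    refine (congrArg (fun z => (HomologicalComplex.singleObjXSelf (ComplexShape.up ℤ) n (OU W)).hom ≫ z) h3).trans ?_
    rw [Preadditive.comp_sum]
    refine Finset.sum_congr rfl fun i _ => ?_
    refine (Category.assoc _ _ _).symm.trans ?_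
    exact congrArg (fun z => z ≫ (Sigma.ι J i).f n) (Category.assoc _ _ _).symm
  refine ⟨t, fun i => DerivedCategory.Q.map (φ ≫ π i), ?_⟩
  refine (congrArg DerivedCategory.Q.map hφ).trans ?_
  rw [Functor.map_sum]
  refine Finset.sum_congr rfl fun i _ => ?_
  rw [Functor.map_comp]
  rfl

end Termwise

section Calculus

/-- Finite factorization passes to left adjoints. -/
theorem FF.of_adj {D₁ D₂ : Type*} [Category D₁] [Category D₂] [Preadditive D₁] [Preadditive D₂]
    {L : D₁ ⥤ D₂} {R : D₂ ⥤ D₁} (adj : L ⊣ R) [L.Additive] {I : Type*} {M : I → D₂} (c : Cofan M)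
    {K : D₁} (h : FF K (Cofan.mk (R.obj c.pt) (fun i => R.map (c.inj i)) : Cofan fun i => R.obj (M i))) :
    FF (L.obj K) c := by
  intro f
  obtain ⟨t, g, hg⟩ := h (adj.homEquiv _ _ f)
  refine ⟨t, fun i => (adj.homEquiv _ _).symm (g i), ?_⟩
  have h1 : f = (adj.homEquiv _ _).symm (adj.homEquiv _ _ f) := by simp
  rw [h1, hg]
  rw [Adjunction.homEquiv_counit, Functor.map_sum, Preadditive.sum_comp]
  refine Finset.sum_congr rfl fun i _ => ?_
  simp [Adjunction.homEquiv_counit]

/-- `K` is compact with respect to uniformly bounded below direct sums. -/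
def CP (K : DCoh.D X) : Prop :=
  ∀ (I : Type u) (M : I → DCoh.D X) (c : Cofan M) (_ : IsColimit c) (a : ℤ),
    (∀ i, (M i).IsGE a) → FF K c

theorem CP.of_retract {K L : DCoh.D X} (i : K ⟶ L) (r : L ⟶ K) (h : i ≫ r = 𝟙 K)
    (hL : CP L) : CP K :=
  fun _ _ c hc a hM => FF.of_retract i r h (hL _ _ c hc a hM)

theorem CP.of_iso {K L : DCoh.D X} (e : K ≅ L) (hL : CP L) : CP K :=
  hL.of_retract e.hom e.inv e.hom_inv_id

theorem CP.of_isZero {K : DCoh.D X} (hK : IsZero K) : CP K :=
  fun _ _ _ _ _ _ => FF.of_isZero hK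

theorem CP.biprod {K L : DCoh.D X} (hK : CP K) (hL : CP L) :
    CP (K ⊞ L) :=
  fun _ _ c hc a hM => FF.biprod (hK _ _ c hc a hM) (hL _ _ c hc a hM)

open Pretriangulated in
theorem CP.ext_triangle (T : Triangle (DCoh.D X)) (hT : T ∈ distTriang (DCoh.D X))
    (h₁ : CP T.obj₁) (h₃ : CP T.obj₃) : CP T.obj₂ :=
  fun _ _ c hc a hM => FF.ext_triangle hc T hT (h₁ _ _ c hc a hM) (h₃ _ _ c hc a hM)

theorem CP.shift {K : DCoh.D X} (hK : CP K) (n : ℤ) : CP (K⟦n⟧) := by
  intro I M c hc a hM
  have hadd : (shiftEquiv (DCoh.D X) n).functor.Additive :=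
    inferInstanceAs (shiftFunctor (DCoh.D X) n).Additive
  refine FF.of_adj (shiftEquiv (DCoh.D X) n).toAdjunction c ?_
  refine hK I (fun i => (M i)⟦-n⟧) _ ?_ (a + n) ?_
  · exact isColimitCofanMkObjOfIsColimit (shiftFunctor (DCoh.D X) (-n)) _ _ (by
      exact hc)
  · intro i
    have := hM i
    exact DerivedCategory.TStructure.t.isGE_shift (M i) a (-n) (a + n) (by lia)

open Pretriangulated in
theorem CP.ext_triangle₁ (T : Triangle (DCoh.D X)) (hT : T ∈ distTriang (DCoh.D X))
    (h₂ : CP T.obj₂) (h₃ : CP T.obj₃) : CP T.obj₁ :=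
  CP.ext_triangle _ (inv_rot_of_distTriang _ hT) (h₃.shift (-1)) h₂

open Pretriangulated in
theorem CP.ext_triangle₃ (T : Triangle (DCoh.D X)) (hT : T ∈ distTriang (DCoh.D X))
    (h₁ : CP T.obj₁) (h₂ : CP T.obj₂) : CP T.obj₃ :=
  CP.ext_triangle _ (rot_of_distTriang _ hT) h₂ (h₁.shift 1)

/-- Bounded below objects are represented by bounded below complexes of injectives. -/
theorem exists_injective_rep (M : DCoh.D X) (a : ℤ) [M.IsGE a] :
    ∃ (J : CochainComplex X.Modules ℤ) (_ : DerivedCategory.Q.obj J ≅ M),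
      J.IsStrictlyGE a ∧ ∀ n, Injective (J.X n) := by
  obtain ⟨L, hL, ⟨e⟩⟩ := DerivedCategory.exists_iso_Q_obj_of_isGE M a
  obtain ⟨J, s, hs, hJ, hJa⟩ := CochainComplex.Plus.modelCategoryQuillen.exists_quasiIso_injective L a
  have : IsIso (DerivedCategory.Q.map s) := by
    rw [DerivedCategory.isIso_Q_map_iff_quasiIso]; exact hs
  exact ⟨J, (asIso (DerivedCategory.Q.map s)).symm ≪≫ e.symm, hJa, hJ⟩

/-- `j_!O_W[-n]` is compact with respect to uniformly bounded below direct sums. -/
theorem CP_OU [QuasiSeparatedSpace X] (W : X.Opens) (hW : IsCompact (W : Set X)) (n : ℤ) :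
    CP (DerivedCategory.Q.obj ((CochainComplex.singleFunctor X.Modules n).obj (OU W))) := by
  intro I M c hc a hM
  choose J e hJa hJ using fun i => exists_injective_rep (M i) a
  exact FF.of_isColimit e (PerfB.CoprodDerived.isColimitQCofan J) hc
    (FF_OU J W hW n a hJa fun i m => have := hJ i m; qf_of_injective _)

instance isClosedUnderIsomorphisms_CP :
    ObjectProperty.IsClosedUnderIsomorphisms (fun K : DCoh.D X => CP K) where
  of_iso e h := h.of_iso e.symm

instance isTriangulated_CP : ObjectProperty.IsTriangulated (fun K : DCoh.D X => CP K) where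
  exists_zero := by
    obtain ⟨Z, hZ⟩ := HasZeroObject.zero (C := DCoh.D X)
    exact ⟨Z, hZ, CP.of_isZero hZ⟩
  isStableUnderShiftBy n := ⟨fun _ hK => hK.shift n⟩
  ext₂' T hT h₁ h₃ := ObjectProperty.le_isoClosure _ _ (CP.ext_triangle T hT h₁ h₃)

theorem CP_singleFunctor_OU [QuasiSeparatedSpace X] (W : X.Opens) (hW : IsCompact (W : Set X)) (n : ℤ) :
    CP ((DerivedCategory.singleFunctor X.Modules n).obj (OU W)) :=
  (CP_OU W hW n).of_iso ((DerivedCategory.singleFunctorIsoCompQ X.Modules n).app (OU W))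

end Calculus

end Groth.Agent.Dcoh.CompactPlus
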