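import Groth.Agent.Dcoh.FinFactor
import Mathlib.CategoryTheory.Triangulated.TStructure.TruncLTGE

/-!
# Compactness from uniformly bounded below compactness and vanishing
-/

set_option autoImplicit false
universe w v u

open CategoryTheory CategoryTheory.Limits CategoryTheory.Pretriangulated CategoryTheory.Triangulated

namespace Groth.Agent.Dcoh.CompactVan

open Groth.Agent.Dcoh.FinFactor

variable {D : Type u} [Category.{v} D] [Preadditive D] [HasZeroObject D] [HasShift D ℤ]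
  [∀ n : ℤ, (shiftFunctor D n).Additive] [Pretriangulated D]

/-- A morphism into a coproduct killed by the coproduct of the second maps of distinguished
triangles factors through the coproduct of the first maps. -/
lemma coprod_factor {κ : Type w} {K A B : κ → D} (m₁ : ∀ k, K k ⟶ A k) (m₂ : ∀ k, A k ⟶ B k)
    (m₃ : ∀ k, B k ⟶ (K k)⟦(1 : ℤ)⟧)
    (hT : ∀ k, Triangle.mk (m₁ k) (m₂ k) (m₃ k) ∈ distTriang D)
    [HasCoproduct K] [HasCoproduct A] [HasCoproduct B]
    {C : D} (f : C ⟶ ∐ A) (hf : f ≫ Limits.Sigma.map m₂ = 0) :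
    ∃ g : C ⟶ ∐ K, g ≫ Limits.Sigma.map m₁ = f := by
  obtain ⟨Z, p, q, hZ⟩ := distinguished_cocone_triangle (Limits.Sigma.map m₁)
  have key : ∀ k, ∃ ψ : B k ⟶ Z, m₂ k ≫ ψ = Sigma.ι A k ≫ p := by
    intro k
    obtain ⟨c, hc, -⟩ := complete_distinguished_triangle_morphism _ _ (hT k) hZ
      (Sigma.ι K k) (Sigma.ι A k) (Sigma.ι_map m₁ k).symm
    exact ⟨c, hc⟩
  choose ψ hψ using key
  have hp : p = Limits.Sigma.map m₂ ≫ Sigma.desc ψ := by
    ext k
    simp [hψ]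
  have hfp : f ≫ p = 0 := by rw [hp, ← Category.assoc, hf, zero_comp]
  obtain ⟨g, hg⟩ := Triangle.coyoneda_exact₂ _ hZ f hfp
  exact ⟨g, hg.symm⟩

variable (t : TStructure D)

/-- A coproduct of objects `≤ n` is `≤ n`. -/
lemma isLE_coproduct {I : Type w} (M : I → D) [HasCoproduct M] (n : ℤ) (h : ∀ i, t.IsLE (M i) n) :
    t.IsLE (∐ M) n := by
  rw [t.isLE_iff_orthogonal n (n + 1) rfl]
  intro Y f hY
  ext i
  rw [comp_zero]
  exact (t.isLE_iff_orthogonal n (n + 1) rfl (M i)).1 (h i) _ _ hY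

/-- If `K` has no maps to objects `≤ n₀` then finite factorization for the families `τ_{≥ n₀ + 1} M i`
implies finite factorization for `M i`. -/
theorem FF_of_vanish {K : D} (n₀ : ℤ) (hK : ∀ (N : D) (f : K ⟶ N), t.IsLE N n₀ → f = 0)
    {I : Type w} (M : I → D) [HasCoproduct M] [HasCoproduct fun i => (t.truncLT (n₀ + 1)).obj (M i)]
    [HasCoproduct fun i => (t.truncGE (n₀ + 1)).obj (M i)]
    (h : FF K (colimit.cocone (Discrete.functor fun i => (t.truncGE (n₀ + 1)).obj (M i)))) :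
    FF K (colimit.cocone (Discrete.functor M)) := by
  intro (f : K ⟶ ∐ M)
  let π : ∐ M ⟶ ∐ (fun i => (t.truncGE (n₀ + 1)).obj (M i)) :=
    Limits.Sigma.map (fun i => (t.truncGEπ (n₀ + 1)).app (M i))
  obtain ⟨s, g, hg⟩ := h (f ≫ π)
  -- lift the components
  have hlift : ∀ i, ∃ g' : K ⟶ M i, g' ≫ (t.truncGEπ (n₀ + 1)).app (M i) = g i := by
    intro i
    have hT := t.triangleLTGE_distinguished (n₀ + 1) (M i)
    obtain ⟨g', hg'⟩ := Triangle.coyoneda_exact₃ _ hT (g i) (by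
      refine hK _ _ ?_
      have : t.IsLE ((t.truncLT (n₀ + 1)).obj (M i)) n₀ := t.isLE_truncLT_obj (M i) (n₀ + 1) n₀ (by lia)
      have h2 : t.IsLE (((t.truncLT (n₀ + 1)).obj (M i))⟦(1 : ℤ)⟧) (n₀ - 1) :=
        t.isLE_shift ((t.truncLT (n₀ + 1)).obj (M i)) n₀ 1 (n₀ - 1) (by lia)
      exact t.isLE_of_le (((t.truncLT (n₀ + 1)).obj (M i))⟦(1 : ℤ)⟧) (n₀ - 1) n₀ (by lia))
    exact ⟨g', hg'.symm⟩
  choose g' hg' using hlift
  refine ⟨s, g', ?_⟩
  have hz : (f - ∑ i ∈ s, g' i ≫ Sigma.ι M i) ≫ π = 0 := by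
    rw [Preadditive.sub_comp, hg, Preadditive.sum_comp, sub_eq_zero]
    refine Finset.sum_congr rfl fun i _ => ?_
    rw [Category.assoc, Sigma.ι_map, ← Category.assoc, hg']
    rfl
  obtain ⟨k, hk⟩ := coprod_factor (A := M) (fun i => (t.truncLTι (n₀ + 1)).app (M i))
    (fun i => (t.truncGEπ (n₀ + 1)).app (M i)) (fun i => (t.truncGEδLT (n₀ + 1)).app (M i))
    (fun i => t.triangleLTGE_distinguished (n₀ + 1) (M i)) _ hz
  have hk0 : k = 0 := hK _ _ (isLE_coproduct t _ n₀ fun i =>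
    t.isLE_truncLT_obj (M i) (n₀ + 1) n₀ (by lia))
  rw [hk0, zero_comp] at hk
  exact (sub_eq_zero.1 hk.symm)

end Groth.Agent.Dcoh.CompactVan
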