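import Groth.Agent.Dcoh.DerComp2

/-!
# Weakly K-injective complexes

Let `P` be a class of objects of `K(A)` (K-flat complexes) such that every complex has a left
resolution in `P`.  `wInj P` is the class of complexes `J` such that `Hom_{K(A)}(K, J) = 0` for all
acyclic `K` in `P`.  If `F ⊣ G` and `F` preserves `P` and acyclic complexes in `P`, then
`G` preserves `wInj P` and acyclic complexes in `wInj P`, so that `RG` is computed by `wInj P`.
-/

set_option autoImplicit false

universe w₁ w₂ w₃ v₁ v₂ v₃ u₁ u₂ u₃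

open CategoryTheory CategoryTheory.Limits Pretriangulated

namespace Groth.Agent.Dcoh.WKInj

open Groth.Agent.Dcoh.DerAbs Groth.Agent.Dcoh.DerHo Groth.Agent.Dcoh.DerAdj
  Groth.Agent.Dcoh.DerComp

section

variable {A : Type u₁} [Category.{v₁} A] [Abelian A]

/-- Classes of complexes giving left resolutions, triangulated. -/
structure Cls (P : ObjectProperty (HomotopyCategory A (ComplexShape.up ℤ))) : Prop where
  res : ∀ X : HomotopyCategory A (ComplexShape.up ℤ), ∃ (Y : HomotopyCategory A (ComplexShape.up ℤ))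
    (f : Y ⟶ X), P Y ∧ qis A f
  shift : ∀ (X : HomotopyCategory A (ComplexShape.up ℤ)) (n : ℤ), P X → P (X⟦n⟧)
  cone : ∀ (T : Triangle (HomotopyCategory A (ComplexShape.up ℤ))), T ∈ distTriang _ →
    P T.obj₁ → P T.obj₂ → P T.obj₃

/-- Acyclic complexes of the class. -/
def ac (P : ObjectProperty (HomotopyCategory A (ComplexShape.up ℤ))) :
    ObjectProperty (HomotopyCategory A (ComplexShape.up ℤ)) :=
  P ⊓ HomotopyCategory.subcategoryAcyclic A

/-- Weakly K-injective complexes. -/
def wInj (P : ObjectProperty (HomotopyCategory A (ComplexShape.up ℤ))) :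
    ObjectProperty (HomotopyCategory A (ComplexShape.up ℤ)) :=
  (ac P).rightOrthogonal

lemma kInj_le (P : ObjectProperty (HomotopyCategory A (ComplexShape.up ℤ))) :
    kInj A ≤ wInj P :=
  fun _ hX _ f hY ↦ hX f hY.2

variable {P : ObjectProperty (HomotopyCategory A (ComplexShape.up ℤ))}

lemma Cls.ac_shift (hP : Cls P) : (ac P).IsStableUnderShift ℤ where
  isStableUnderShiftBy n := ⟨fun X hX ↦
    ⟨hP.shift X n hX.1, (HomotopyCategory.subcategoryAcyclic A).le_shift n _ hX.2⟩⟩

lemma Cls.wInj_isTriangulated (hP : Cls P) : (wInj P).IsTriangulated := by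
  have := hP.ac_shift
  dsimp [wInj]
  infer_instance

instance : (wInj P).IsClosedUnderIsomorphisms := by
  dsimp [wInj]
  infer_instance

lemma qis_iff {X Y : HomotopyCategory A (ComplexShape.up ℤ)} (s : X ⟶ Y) :
    qis A s ↔ (HomotopyCategory.subcategoryAcyclic A).trW s := by
  change HomotopyCategory.quasiIso A (ComplexShape.up ℤ) s ↔ _
  rw [HomotopyCategory.quasiIso_eq_trW_subcategoryAcyclic]

lemma qis_iff_of_distTriang {X Y Z : HomotopyCategory A (ComplexShape.up ℤ)} {f : X ⟶ Y}
    {g : Y ⟶ Z} {h : Z ⟶ X⟦(1 : ℤ)⟧} (hT : Triangle.mk f g h ∈ distTriang _) :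
    qis A f ↔ HomotopyCategory.subcategoryAcyclic A Z :=
  (qis_iff f).trans (ObjectProperty.trW_iff_of_distinguished _ _ hT)

lemma qis_zero {J : HomotopyCategory A (ComplexShape.up ℤ)}
    (hJ : HomotopyCategory.subcategoryAcyclic A J) : qis A (0 : J ⟶ J) := by
  intro n
  have h := (HomotopyCategory.mem_subcategoryAcyclic_iff J).1 hJ n
  exact ⟨0, h.eq_of_src _ _, h.eq_of_src _ _⟩

/-- Precomposition with quasi-isomorphisms in the class is bijective on `Hom(-, J)`. -/
lemma Cls.precomp_bijective (hP : Cls P) {J : HomotopyCategory A (ComplexShape.up ℤ)}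
    (hJ : wInj P J) {K' K : HomotopyCategory A (ComplexShape.up ℤ)} (s : K' ⟶ K) (hs : qis A s)
    (hK' : P K') (hK : P K) : Function.Bijective (fun (f : K ⟶ J) ↦ s ≫ f) := by
  obtain ⟨C, g, k, hT⟩ := Pretriangulated.distinguished_cocone_triangle s
  have hC : P C := hP.cone _ hT hK' hK
  have hC' : HomotopyCategory.subcategoryAcyclic A C := (qis_iff_of_distTriang hT).1 hs
  have hC1 : ∀ (a : C ⟶ J), a = 0 := fun a ↦ hJ a ⟨hC, hC'⟩
  have hC2 : ∀ (a : C⟦(-1 : ℤ)⟧ ⟶ J), a = 0 := fun a ↦ hJ a
    ⟨hP.shift _ _ hC, (HomotopyCategory.subcategoryAcyclic A).le_shift (-1) _ hC'⟩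
  constructor
  · intro f₁ f₂ hf
    dsimp at hf
    rw [← sub_eq_zero]
    obtain ⟨a, ha⟩ := Triangle.yoneda_exact₂ _ hT (f₁ - f₂) (by
      change s ≫ (f₁ - f₂) = 0
      rw [Preadditive.comp_sub, hf, sub_self])
    change C ⟶ J at a
    change f₁ - f₂ = g ≫ a at ha
    rw [ha, hC1 a, comp_zero]
  · intro f
    obtain ⟨a, ha⟩ := Triangle.yoneda_exact₂ _ (inv_rot_of_distTriang _ hT) f (hC2 _)
    exact ⟨a, ha.symm⟩

end

section

variable {A : Type u₁} [Category.{v₁} A] [Abelian A] [HasDerivedCategory.{w₁} A]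
  {P : ObjectProperty (HomotopyCategory A (ComplexShape.up ℤ))}

/-- Morphisms in `D(A)` from an object of the class to a weakly K-injective object are computed
in the homotopy category. -/
lemma Cls.map_bijective (hP : Cls P) {J : HomotopyCategory A (ComplexShape.up ℤ)}
    (hJ : wInj P J) {K : HomotopyCategory A (ComplexShape.up ℤ)} (hK : P K) :
    Function.Bijective (DerivedCategory.Qh.map : (K ⟶ J) → _) := by
  constructor
  · intro f₁ f₂ hf
    rw [MorphismProperty.map_eq_iff_precomp DerivedCategory.Qh (qis A)] at hf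
    obtain ⟨Z, s, hs, eq⟩ := hf
    obtain ⟨Z', t, hZ', ht⟩ := hP.res Z
    apply (hP.precomp_bijective hJ (t ≫ s) ((qis A).comp_mem _ _ ht hs) hZ' hK).1
    dsimp
    rw [Category.assoc, Category.assoc, eq]
  · intro g
    obtain ⟨φ, hφ⟩ := Localization.exists_rightFraction DerivedCategory.Qh (qis A) g
    obtain ⟨Z', t, hZ', ht⟩ := hP.res φ.X'
    obtain ⟨a, ha⟩ := (hP.precomp_bijective hJ (t ≫ φ.s) ((qis A).comp_mem _ _ ht φ.hs) hZ' hK).2
      (t ≫ φ.f)
    refine ⟨a, ?_⟩
    dsimp at ha
    have h1 : IsIso (DerivedCategory.Qh.map t) := Localization.inverts DerivedCategory.Qh (qis A) _ ht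
    have h2 : IsIso (DerivedCategory.Qh.map φ.s) :=
      Localization.inverts DerivedCategory.Qh (qis A) _ φ.hs
    rw [hφ, ← cancel_epi (DerivedCategory.Qh.map φ.s), MorphismProperty.RightFraction.map_s_comp_map,
      ← cancel_epi (DerivedCategory.Qh.map t), ← Functor.map_comp, ← Functor.map_comp,
      ← Category.assoc, ha, Functor.map_comp]

/-- No morphism from the class to an acyclic weakly K-injective object. -/
lemma Cls.eq_zero (hP : Cls P) {J : HomotopyCategory A (ComplexShape.up ℤ)}
    (hJ : wInj P J) (hJ' : HomotopyCategory.subcategoryAcyclic A J)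
    {K : HomotopyCategory A (ComplexShape.up ℤ)} (hK : P K) (f : K ⟶ J) : f = 0 := by
  apply (hP.map_bijective hJ hK).1
  have h1 : IsZero (DerivedCategory.Qh.obj J) := by
    have h2 : IsIso (DerivedCategory.Qh.map (0 : J ⟶ J)) :=
      Localization.inverts DerivedCategory.Qh (qis A) _ (qis_zero hJ')
    rw [Functor.map_zero] at h2
    exact ((isIsoZero_iff_source_target_isZero _ _).1 h2).1
  exact h1.eq_of_tgt _ _

lemma subcategoryAcyclic_iff_isZero (X : HomotopyCategory A (ComplexShape.up ℤ)) :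
    HomotopyCategory.subcategoryAcyclic A X ↔ IsZero (DerivedCategory.Qh.obj X) := by
  constructor
  · intro hX
    have h2 : IsIso (DerivedCategory.Qh.map (0 : X ⟶ X)) :=
      Localization.inverts DerivedCategory.Qh (qis A) _ (qis_zero hX)
    rw [Functor.map_zero] at h2
    exact ((isIsoZero_iff_source_target_isZero _ _).1 h2).1
  · intro hX
    rw [HomotopyCategory.mem_subcategoryAcyclic_iff]
    intro n
    exact ((DerivedCategory.homologyFunctor A n).map_isZero hX).of_iso
      ((DerivedCategory.homologyFunctorFactorsh A n).app X).symm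

end

section

variable {A : Type u₁} [Category.{v₁} A] [Abelian A] [HasDerivedCategory.{w₁} A]
  {B : Type u₂} [Category.{v₂} B] [Abelian B] [HasDerivedCategory.{w₂} B]
  {F : A ⥤ B} {G : B ⥤ A} [F.Additive] [G.Additive] (adj : F ⊣ G)
  {P : ObjectProperty (HomotopyCategory A (ComplexShape.up ℤ))}
  {P' : ObjectProperty (HomotopyCategory B (ComplexShape.up ℤ))}

include adj

omit [HasDerivedCategory.{w₁} A] [HasDerivedCategory.{w₂} B] in
/-- The right adjoint preserves weakly K-injective objects. -/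
lemma wInj_map (h₁ : ∀ K, P K → P' ((F.mapHomotopyCategory (ComplexShape.up ℤ)).obj K))
    (h₂ : ∀ K, P K → HomotopyCategory.subcategoryAcyclic A K →
      HomotopyCategory.subcategoryAcyclic B ((F.mapHomotopyCategory (ComplexShape.up ℤ)).obj K))
    (J : HomotopyCategory B (ComplexShape.up ℤ)) (hJ : wInj P' J) :
    wInj P ((G.mapHomotopyCategory (ComplexShape.up ℤ)).obj J) := by
  intro K f hK
  let a := adjHo adj (ComplexShape.up ℤ)
  have h2 : (a.homEquiv K J).symm f = 0 := hJ _ ⟨h₁ K hK.1, h₂ K hK.1 hK.2⟩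
  have h3 : f = (a.homEquiv K J) 0 := by
    rw [← h2, Equiv.apply_symm_apply]
  rw [h3, Adjunction.homEquiv_unit, Functor.map_zero, comp_zero]

omit [HasDerivedCategory.{w₁} A] in
/-- The right adjoint preserves acyclic weakly K-injective objects. -/
lemma acyclic_map (hres : ∀ X : HomotopyCategory A (ComplexShape.up ℤ),
      ∃ (Y : HomotopyCategory A (ComplexShape.up ℤ)) (f : Y ⟶ X), P Y ∧ qis A f)
    (hP' : Cls P')
    (h₁ : ∀ K, P K → P' ((F.mapHomotopyCategory (ComplexShape.up ℤ)).obj K))
    (J : HomotopyCategory B (ComplexShape.up ℤ)) (hJ : wInj P' J)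
    (hJ' : HomotopyCategory.subcategoryAcyclic B J) :
    HomotopyCategory.subcategoryAcyclic A
      ((G.mapHomotopyCategory (ComplexShape.up ℤ)).obj J) := by
  obtain ⟨K, f, hK, hf⟩ := hres ((G.mapHomotopyCategory (ComplexShape.up ℤ)).obj J)
  let a := adjHo adj (ComplexShape.up ℤ)
  have h2 : (a.homEquiv K J).symm f = 0 := hP'.eq_zero hJ hJ' (h₁ K hK) _
  have h3 : f = (a.homEquiv K J) 0 := by
    rw [← h2, Equiv.apply_symm_apply]
  rw [Adjunction.homEquiv_unit, Functor.map_zero, comp_zero] at h3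
  subst h3
  rw [HomotopyCategory.mem_subcategoryAcyclic_iff]
  intro n
  have h4 := hf n
  rw [Functor.map_zero] at h4
  exact ((isIsoZero_iff_source_target_isZero _ _).1 h4).2

/-- A right derived functor of `G` is computed by weakly K-injective complexes. -/
lemma rightDataW (hB : HasKInj B) (hres : ∀ X : HomotopyCategory A (ComplexShape.up ℤ),
      ∃ (Y : HomotopyCategory A (ComplexShape.up ℤ)) (f : Y ⟶ X), P Y ∧ qis A f)
    (hP' : Cls P')
    (h₁ : ∀ K, P K → P' ((F.mapHomotopyCategory (ComplexShape.up ℤ)).obj K)) :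
    RightData (𝟭 _) (qis B) (mapQh G) (wInj P') where
  full := inferInstance
  essSurj := inferInstance
  frac := (rightData hB (mapQh G)).frac
  respectsIso := inferInstance
  map_eq f g hfg := by
    obtain rfl : f = g := hfg
    rfl
  exists_res X := by
    obtain ⟨I, f, hI, hf⟩ := (rightData hB (mapQh G)).exists_res X
    exact ⟨I, f, kInj_le _ _ hI, hf⟩
  isIso_map {X Y} w hX hY hw := by
    obtain ⟨C, g, k, hT⟩ := Pretriangulated.distinguished_cocone_triangle w
    have hC : HomotopyCategory.subcategoryAcyclic B C := (qis_iff_of_distTriang hT).1 hw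
    have := hP'.wInj_isTriangulated
    have hC' : wInj P' C := (wInj P').ext_of_isTriangulatedClosed₃ _ hT hX hY
    have hC2 := acyclic_map adj hres hP' h₁ C hC' hC
    have hT2 := (G.mapHomotopyCategory (ComplexShape.up ℤ)).map_distinguished _ hT
    have hw2 : qis A ((G.mapHomotopyCategory (ComplexShape.up ℤ)).map w) :=
      (qis_iff_of_distTriang hT2).2 hC2
    exact Localization.inverts DerivedCategory.Qh (qis A) _ hw2

end

end Groth.Agent.Dcoh.WKInj
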