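import Groth.Agent.Dcoh.DerPull2
import Groth.Agent.Dcoh.WKInj

/-!
# `Rf_*` is computed by weakly K-injective complexes; composition of derived direct images
-/

set_option autoImplicit false

universe u

open CategoryTheory CategoryTheory.Limits AlgebraicGeometry Pretriangulated

attribute [local instance] HasDerivedCategory.standard

namespace Groth.Agent.Dcoh.DerPull

open Groth.Agent.Dcoh.DerAbs Groth.Agent.Dcoh.DerHo Groth.Agent.Dcoh.DerAdj
  Groth.Agent.Dcoh.DerComp Groth.Agent.Dcoh.DerSch Groth.Agent.Dcoh.CxFun Groth.Agent.Dcoh.KFlat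
  Groth.Agent.Dcoh.WKInj

/-- K-flat complexes form a resolving triangulated class. -/
lemma kFlatCls (X : Scheme.{u}) : Cls (kFlatHo X) where
  res K := by
    obtain ⟨L, f, hL, hf⟩ := KFlatInput.exists_kflat K.as
    exact ⟨(HomotopyCategory.quotient _ _).obj L, (HomotopyCategory.quotient _ _).map f, hL,
      (HomotopyCategory.quotient_map_mem_quasiIso_iff f).2 hf⟩
  shift := kFlatHo_shift
  cone := kFlatHo_cone

/-- Weakly K-injective complexes of `O_X`-modules. -/
abbrev wkInj (X : Scheme.{u}) : ObjectProperty (HomotopyCategory X.Modules (ComplexShape.up ℤ)) :=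
  wInj (kFlatHo X)

variable {X Y Z : Scheme.{u}} (f : X ⟶ Y)

lemma kFlatHo_pullback (K : HomotopyCategory Y.Modules (ComplexShape.up ℤ)) (hK : kFlatHo Y K) :
    kFlatHo X (((Scheme.Modules.pullback f).mapHomotopyCategory (ComplexShape.up ℤ)).obj K) :=
  KFlatInput.isKFlat_pullback f K.as hK

lemma acyclic_pullback (K : HomotopyCategory Y.Modules (ComplexShape.up ℤ)) (hK : kFlatHo Y K)
    (hK' : HomotopyCategory.subcategoryAcyclic Y.Modules K) :
    HomotopyCategory.subcategoryAcyclic X.Modules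
      (((Scheme.Modules.pullback f).mapHomotopyCategory (ComplexShape.up ℤ)).obj K) := by
  change HomotopyCategory.subcategoryAcyclic Y.Modules
    ((HomotopyCategory.quotient _ _).obj K.as) at hK'
  rw [HomotopyCategory.quotient_obj_mem_subcategoryAcyclic_iff_acyclic] at hK'
  have h := KFlatInput.acyclic_pullback f K.as hK hK'
  rw [← HomotopyCategory.quotient_obj_mem_subcategoryAcyclic_iff_acyclic] at h
  exact h

/-- `f_*` preserves weakly K-injective complexes. -/
lemma wkInj_pushforward (J : HomotopyCategory X.Modules (ComplexShape.up ℤ)) (hJ : wkInj X J) :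
    wkInj Y (((Scheme.Modules.pushforward f).mapHomotopyCategory (ComplexShape.up ℤ)).obj J) :=
  wInj_map (Scheme.Modules.pullbackPushforwardAdjunction f) (kFlatHo_pullback f)
    (acyclic_pullback f) J hJ

lemma pushData : RightData (𝟭 _) (qis X.Modules) (DCoh.pushKh f) (wkInj X) :=
  rightDataW (Scheme.Modules.pullbackPushforwardAdjunction f) (hasKInj X) (kFlatCls Y).res
    (kFlatCls X) (kFlatHo_pullback f)

/-- `Rf_*` is computed by weakly K-injective complexes. -/
lemma isIso_rpushUnit_app_of_wkInj [DCoh.HasRpush f]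
    (J : HomotopyCategory X.Modules (ComplexShape.up ℤ)) (hJ : wkInj X J) :
    IsIso ((rpushUnit f).app J) :=
  (pushData f).isIso_app (W₀ := qis X.Modules) (DerivedCategory.Qh.leftUnitor)
    (fun _ hw ↦ hw) (DCoh.Rpush f) (rpushUnit f) J hJ

lemma isIso_rpushUnitQ_app_of_wkInj [DCoh.HasRpush f] (J : CochainComplex X.Modules ℤ)
    (hJ : wkInj X ((HomotopyCategory.quotient _ _).obj J)) :
    IsIso ((rpushUnitQ f).app J) :=
  isIso_unitQ_app _ _ _ _ (isIso_rpushUnit_app_of_wkInj f _ hJ)

/-- Composition of derived direct images, compatible with the units. -/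
noncomputable def rpushComp (g : Y ⟶ Z) [DCoh.HasRpush f] [DCoh.HasRpush g]
    [DCoh.HasRpush (f ≫ g)] : DCoh.Rpush f ⋙ DCoh.Rpush g ≅ DCoh.Rpush (f ≫ g) :=
  (nonempty_compIso_right_of_isIso (Scheme.Modules.pushforwardComp f g) (hasKInj X)
    (DCoh.Rpush f) (rpushUnit f) (DCoh.Rpush g) (rpushUnit g)
    (fun I hI ↦ isIso_rpushUnit_app_of_wkInj g _ (wkInj_pushforward f _
      (kInj_le _ _ (kInj_quotient_obj I hI))))
    (DCoh.Rpush (f ≫ g)) (rpushUnit (f ≫ g))).choose

lemma rpushComp_fac (g : Y ⟶ Z) [DCoh.HasRpush f] [DCoh.HasRpush g]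
    [DCoh.HasRpush (f ≫ g)] (K : HomotopyCategory X.Modules (ComplexShape.up ℤ)) :
    DerivedCategory.Qh.map ((Functor.mapHomotopyCategoryCompIso
        (Scheme.Modules.pushforwardComp f g) (ComplexShape.up ℤ)).inv.app K) ≫
      (rpushUnit g).app
        (((Scheme.Modules.pushforward f).mapHomotopyCategory (ComplexShape.up ℤ)).obj K) ≫
        (DCoh.Rpush g).map ((rpushUnit f).app K) ≫
          (rpushComp f g).hom.app (DerivedCategory.Qh.obj K) =
      (rpushUnit (f ≫ g)).app K :=
  (nonempty_compIso_right_of_isIso (Scheme.Modules.pushforwardComp f g) (hasKInj X)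
    (DCoh.Rpush f) (rpushUnit f) (DCoh.Rpush g) (rpushUnit g)
    (fun I hI ↦ isIso_rpushUnit_app_of_wkInj g _ (wkInj_pushforward f _
      (kInj_le _ _ (kInj_quotient_obj I hI))))
    (DCoh.Rpush (f ≫ g)) (rpushUnit (f ≫ g))).choose_spec K

end Groth.Agent.Dcoh.DerPull
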