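import Mathlib.CategoryTheory.Monoidal.Rigid.Braided
import Mathlib.CategoryTheory.Monoidal.Rigid.Basic
import Mathlib.CategoryTheory.Adjunction.Mates
import Mathlib.CategoryTheory.Adjunction.Limits
import Mathlib.CategoryTheory.Adjunction.Additive
import Mathlib.CategoryTheory.Abelian.RightDerived
import Mathlib.CategoryTheory.Preadditive.Injective.Basic
import Mathlib.CategoryTheory.Preadditive.Injective.Resolution
import Mathlib.CategoryTheory.Abelian.Injective.Resolution
import Mathlib.Algebra.Homology.ShortComplex.ExactFunctor

/-!
# Dualizable objects: images under monoidal functors, projection formula, injectives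

Abstract consequences of dualizability (`ExactPairing E E'`).
-/

set_option autoImplicit false

open CategoryTheory MonoidalCategory Category Limits

namespace Groth.Agent.Dcoh.MonDual

universe v v' u u'

section Map

variable {C : Type u} [Category.{v} C] [MonoidalCategory C] {D : Type u'} [Category.{v'} D]
  [MonoidalCategory D] (F : C ⥤ D) [F.Monoidal]

open Functor.LaxMonoidal Functor.OplaxMonoidal Functor.Monoidal

/-- A monoidal functor preserves exact pairings. -/
@[instance_reducible]
noncomputable def mapExactPairing (E E' : C) [ExactPairing E E'] : ExactPairing (F.obj E) (F.obj E') where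
  coevaluation' := ε F ≫ F.map (η_ E E') ≫ δ F E E'
  evaluation' := μ F E' E ≫ F.map (ε_ E E') ≫ η F
  coevaluation_evaluation' := by
    have h := congrArg F.map (ExactPairing.coevaluation_evaluation E E')
    simp only [Functor.map_comp] at h
    have h1 : F.obj E' ◁ (ε F ≫ F.map (η_ E E') ≫ δ F E E') ≫
        (α_ (F.obj E') (F.obj E) (F.obj E')).inv ≫ (μ F E' E ≫ F.map (ε_ E E') ≫ η F) ▷ F.obj E' =
        F.obj E' ◁ ε F ≫ μ F E' (𝟙_ C) ≫ (F.map (E' ◁ η_ E E') ≫ F.map (α_ E' E E').inv ≫
          F.map (ε_ E E' ▷ E')) ≫ δ F (𝟙_ C) E' ≫ η F ▷ F.obj E' := by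
      rw [map_associator_inv']
      simp only [whiskerLeft_comp, comp_whiskerRight, assoc, whiskerLeft_δ_μ_assoc,
        whiskerRight_δ_μ_assoc]
      rw [Functor.LaxMonoidal.μ_natural_right_assoc, ← Functor.OplaxMonoidal.δ_natural_left_assoc]
    rw [h1, h]
    simp
  evaluation_coevaluation' := by
    have h := congrArg F.map (ExactPairing.evaluation_coevaluation E E')
    simp only [Functor.map_comp] at h
    have h1 : (ε F ≫ F.map (η_ E E') ≫ δ F E E') ▷ F.obj E ≫
        (α_ (F.obj E) (F.obj E') (F.obj E)).hom ≫ F.obj E ◁ (μ F E' E ≫ F.map (ε_ E E') ≫ η F) =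
        ε F ▷ F.obj E ≫ μ F (𝟙_ C) E ≫ (F.map (η_ E E' ▷ E) ≫ F.map (α_ E E' E).hom ≫
          F.map (E ◁ ε_ E E')) ≫ δ F E (𝟙_ C) ≫ F.obj E ◁ η F := by
      rw [map_associator']
      simp only [whiskerLeft_comp, comp_whiskerRight, assoc, whiskerLeft_δ_μ_assoc,
        whiskerRight_δ_μ_assoc]
      rw [Functor.LaxMonoidal.μ_natural_left_assoc, ← Functor.OplaxMonoidal.δ_natural_right_assoc]
    rw [h1, h]
    simp

end Map

section Projection

variable {C : Type u} [Category.{v} C] [MonoidalCategory C] {D : Type u'} [Category.{v'} D]
  [MonoidalCategory D] {F : C ⥤ D} [F.Monoidal] {G : D ⥤ C} (adj : F ⊣ G)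

/-- The projection formula for a dualizable object `E`: `E ⊗ G N ≅ G (F E ⊗ N)`, natural in `N`. -/
noncomputable def projectionIso (E E' : C) [ExactPairing E E'] :
    G ⋙ tensorLeft E ≅ tensorLeft (F.obj E) ⋙ G :=
  letI := mapExactPairing F E E'
  ((conjugateIsoEquiv
    ((adj.comp (tensorLeftAdjunction (F.obj E) (F.obj E'))))
    ((tensorLeftAdjunction E E').comp adj)) (Functor.Monoidal.commTensorLeft F E').symm).symm

end Projection

section Injective

variable {C : Type u} [Category.{v} C] [MonoidalCategory C]

/-- Tensoring with a dualizable object is a right adjoint. -/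
theorem isRightAdjoint_tensorLeft (E E' : C) [ExactPairing E E'] : (tensorLeft E).IsRightAdjoint :=
  (tensorLeftAdjunction E E').isRightAdjoint

variable [BraidedCategory C]

/-- Tensoring with a dualizable object is a left adjoint (braided case). -/
theorem isLeftAdjoint_tensorLeft (E E' : C) [ExactPairing E E'] : (tensorLeft E).IsLeftAdjoint :=
  letI := BraidedCategory.exactPairing_swap E E'
  (tensorLeftAdjunction E' E).isLeftAdjoint

/-- The tensor product of a dualizable object with an injective object is injective. -/
theorem injective_tensorLeft (E E' : C) [ExactPairing E E'] (I : C) [Injective I] :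
    Injective (E ⊗ I) := by
  have h : (tensorLeft E').IsRightAdjoint :=
    letI := BraidedCategory.exactPairing_swap E E'
    isRightAdjoint_tensorLeft E' E
  have : (tensorLeft E').PreservesMonomorphisms := inferInstance
  exact Injective.injective_of_adjoint (tensorLeftAdjunction E E') I

end Injective

section Derived

variable {A : Type u} [Category.{v} A] [Abelian A]

/-- The image of an injective resolution under an exact functor preserving injectives. -/
@[simps cocomplex]
noncomputable def mapRes {A' : Type u'} [Category.{v'} A'] [Abelian A'] (T : A ⥤ A') [T.Additive]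
    [T.PreservesHomology] (hT : ∀ I, Injective I → Injective (T.obj I)) {Z : A}
    (I : InjectiveResolution Z) : InjectiveResolution (T.obj Z) where
  cocomplex := (T.mapHomologicalComplex (ComplexShape.up ℕ)).obj I.cocomplex
  injective n := hT _ (I.injective n)
  ι := (HomologicalComplex.singleMapHomologicalComplex T (ComplexShape.up ℕ) 0).inv.app Z ≫
    (T.mapHomologicalComplex (ComplexShape.up ℕ)).map I.ι
  quasiIso := by
    have : QuasiIso ((T.mapHomologicalComplex (ComplexShape.up ℕ)).map I.ι) := inferInstance
    exact inferInstance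

/-- Homology commutes with an exact functor. -/
noncomputable def homologyMapIso {B : Type u'} [Category.{v'} B] [Abelian B] (S : A ⥤ B) [S.Additive]
    [S.PreservesHomology] (K : CochainComplex A ℕ) (q : ℕ) :
    ((S.mapHomologicalComplex (ComplexShape.up ℕ)).obj K).homology q ≅ S.obj (K.homology q) :=
  (K.sc q).mapHomologyIso S

/-- If `S` and `T` are exact, `T` preserves injectives and `S G ≅ G T`, then `S` commutes with the right derived
functors of `G`. -/
noncomputable def rightDerivedComm [HasInjectiveResolutions A] {B : Type u'} [Category.{v'} B] [Abelian B]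
    (G : A ⥤ B) [G.Additive] (T : A ⥤ A) [T.Additive] [T.PreservesHomology]
    (hT : ∀ I, Injective I → Injective (T.obj I)) (S : B ⥤ B) [S.Additive] [S.PreservesHomology]
    (e : G ⋙ S ≅ T ⋙ G) (q : ℕ) (F : A) :
    S.obj ((G.rightDerived q).obj F) ≅ (G.rightDerived q).obj (T.obj F) :=
  S.mapIso ((injectiveResolution F).isoRightDerivedObj G q) ≪≫
    (homologyMapIso S ((G.mapHomologicalComplex _).obj (injectiveResolution F).cocomplex) q).symm ≪≫
      (HomologicalComplex.homologyFunctor B _ q).mapIso
        ((NatIso.mapHomologicalComplex e (ComplexShape.up ℕ)).app (injectiveResolution F).cocomplex) ≪≫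
      ((mapRes T hT (injectiveResolution F)).isoRightDerivedObj G q).symm

end Derived

end Groth.Agent.Dcoh.MonDual
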