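import Groth.Agent.Dcoh.MonInst
import Groth.Agent.Dcoh.MonDual
import Groth.Agent.Dcoh.DualLoc
import Groth.Agent.Dcoh.MonRes290
import Groth.Agent.PerfC.TensRestr
import Groth.Agent.PerfA.Restrict
import Mathlib.CategoryTheory.Adjunction.AdjointFunctorTheorems

/-!
# Finite locally free modules are dualizable
-/

set_option autoImplicit false
universe u v

open CategoryTheory Limits MonoidalCategory AlgebraicGeometry

namespace Groth.Agent.Dcoh.DualFLF

open scoped Groth.Agent.Dcoh.MonCat

attribute [local instance] MonRes290.restrictMonoidal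

/-- A cocontinuous functor from a Grothendieck abelian category has a right adjoint. -/
theorem isLeftAdjoint_of_preservesColimits {C : Type (u + 1)} [Category.{u} C] [Abelian C]
    [IsGrothendieckAbelian.{u} C] {D : Type (u + 1)} [Category.{u} D] (F : C ⥤ D) [PreservesColimits F] :
    F.IsLeftAdjoint := by
  have h := isSeparator_separator C
  exact isLeftAdjoint_of_preservesColimits_of_isSeparating h F

variable {X : Scheme.{u}}

instance isLeftAdjoint_tensorRight (E : X.Modules) : (tensorRight E).IsLeftAdjoint := by
  have := KFlatMod.isGrothendieckAbelian X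
  have : PreservesColimits (tensorRight E) :=
    inferInstanceAs (PreservesColimits (DCoh.tensorBi.flip.obj E))
  exact isLeftAdjoint_of_preservesColimits _

instance isLeftAdjoint_tensorLeft (E : X.Modules) : (tensorLeft E).IsLeftAdjoint := by
  have := KFlatMod.isGrothendieckAbelian X
  have : PreservesColimits (tensorLeft E) :=
    inferInstanceAs (PreservesColimits (DCoh.tensorBi.obj E))
  exact isLeftAdjoint_of_preservesColimits _

section Proj

variable {U : Scheme.{u}} (j : U ⟶ X) [IsOpenImmersion j]

open Functor.LaxMonoidal PerfC.ExtZero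

instance isIso_proj (K : X.Modules) :
    IsIso (DualLoc.proj (Scheme.Modules.restrictFunctor j) (adj j) K) := by
  rw [NatTrans.isIso_iff_isIso_app]
  intro N
  let g : N ⊗ (Scheme.Modules.restrictFunctor j).obj K ⟶ _ := (adj j).unit.app N ▷
    (Scheme.Modules.restrictFunctor j).obj K ≫ μ (Scheme.Modules.restrictFunctor j) ((jShriek j).obj N) K
  have hg : IsIso g := inferInstance
  have e : (DualLoc.proj (Scheme.Modules.restrictFunctor j) (adj j) K).app N =
    ((adj j).homEquiv _ _).symm g := rfl
  rw [e]
  have h1 : (adj j).unit.app _ ≫ (Scheme.Modules.restrictFunctor j).map (((adj j).homEquiv _ _).symm g) =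
      g :=
    ((adj j).homEquiv_unit _ _ _).symm.trans (((adj j).homEquiv _ _).apply_symm_apply _)
  have h2 : IsIso ((adj j).unit.app _ ≫
      (Scheme.Modules.restrictFunctor j).map (((adj j).homEquiv _ _).symm g)) := by
    rw [h1]
    exact hg
  have h3 : IsIso ((Scheme.Modules.restrictFunctor j).map (((adj j).homEquiv _ _).symm g)) :=
    IsIso.of_isIso_comp_left ((adj j).unit.app _) _
  exact @PerfC.TensRestr.isIso_of_suppIn _ _ j _ _ _ (suppIn_jShriek j _)
    (PerfC.TensRestr.suppIn_tensor _ (suppIn_jShriek j _) _) _ h3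

end Proj

section Local

/-- Dualizability of an `O_X`-module is local. -/
theorem exists_exactPairing_of_local (E : X.Modules)
    (h : ∀ x : X, ∃ U : X.Opens, x ∈ U ∧ ∃ Y : (U : Scheme.{u}).Modules,
      Nonempty (ExactPairing (E.restrict U.ι) Y)) :
    ∃ E' : X.Modules, Nonempty (ExactPairing E E') := by
  choose U hU Y hY using h
  let adjT := Adjunction.ofIsLeftAdjoint (tensorRight E)
  have key : ∀ M, IsIso (DualLoc.comp adjT M) := fun M =>
    DualLoc.isIso_comp (fun x : X => (U x : Scheme.{u}).Modules)
      (fun x => Scheme.Modules.restrictFunctor (U x).ι)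
      ⟨fun {M N} f hf => PerfA.Restrict.isIso_of_restrict_opens f fun x => ⟨U x, hU x, hf x⟩⟩
      (fun x => PerfC.ExtZero.jShriek (U x).ι) (fun x => PerfC.ExtZero.adj (U x).ι) adjT
      (fun x => ⟨Y x, hY x⟩) M
  have h1 := key E
  have h2 := key (𝟙_ X.Modules)
  exact ⟨_, ⟨DualLoc.exactPairing adjT⟩⟩

/-- Finite locally free modules are dualizable. -/
theorem exists_exactPairing {E : X.Modules} (hE : FlatMod.IsFinLocFree E) :
    ∃ E' : X.Modules, Nonempty (ExactPairing E E') := by
  refine exists_exactPairing_of_local E fun x => ?_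
  obtain ⟨U, n, hx, ⟨e⟩⟩ := hE x
  refine ⟨U, hx, FlatMod.freeMod (↑U) n, ⟨?_⟩⟩
  letI := MonInst.freePairing (↑U) n
  exact exactPairingCongrLeft e

/-- The restriction of an exact pairing to an open. -/
@[instance_reducible]
noncomputable def restrictPairing {U : Scheme.{u}} (j : U ⟶ X) [IsOpenImmersion j] (E E' : X.Modules)
    [ExactPairing E E'] : ExactPairing (E.restrict j) (E'.restrict j) :=
  MonDual.mapExactPairing (Scheme.Modules.restrictFunctor j) E E'

/-- The dual of a finite locally free module is finite locally free. -/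
theorem isFinLocFree_dual {E : X.Modules} (hE : FlatMod.IsFinLocFree E) (E' : X.Modules) [ExactPairing E E'] :
    FlatMod.IsFinLocFree E' := by
  intro x
  obtain ⟨U, n, hx, ⟨e⟩⟩ := hE x
  let := MonInst.freePairing (↑U) n
  exact ⟨U, n, hx, ⟨rightDualIso (restrictPairing U.ι E E') (exactPairingCongrLeft e)⟩⟩

end Local

end Groth.Agent.Dcoh.DualFLF
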