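import Groth.Agent.Dcoh.Spread
import Groth.Agent.CohqA.FinLocal

/-!
# Finite type and finite presentation: quotients / cokernels of finite locally free modules
-/

set_option autoImplicit false
universe u

open CategoryTheory CategoryTheory.Limits AlgebraicGeometry TopologicalSpace Opposite
open Groth.Agent.Dcoh.LocalD Groth.Agent.CohqA.FinLocal

namespace Groth.Agent.Dcoh.FTFP

variable {X Y : Scheme.{u}}

/-- `FlatMod.freeMod X n` in terms of Mathlib's free sheaf of modules. -/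
noncomputable def freeIso (X : Scheme.{u}) (n : ℕ) :
    @Iso X.Modules _ (SheafOfModules.free (R := X.ringCatSheaf) (ULift.{u} (Fin n)))
      (FlatMod.freeMod X n) :=
  Sigma.reindex (C := X.Modules) Equiv.ulift.{u} (fun _ : Fin n => Coh.structureModule X)

/-- A quotient of a finite free module is generated by finitely many sections. -/
theorem gfg_of_epi {M : X.Modules} {n : ℕ} (p : FlatMod.freeMod X n ⟶ M) [Epi p] : GFG M := by
  let q : @Quiver.Hom X.Modules _ (SheafOfModules.free (R := X.ringCatSheaf) (ULift.{u} (Fin n))) M :=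
    (freeIso X n).hom ≫ p
  have hq : Epi q := epi_comp _ _
  refine ⟨⟨ULift.{u} (Fin n), SheafOfModules.freeHomEquiv (R := X.ringCatSheaf) M q, ?_⟩, ⟨?_⟩⟩
  · rw [Equiv.symm_apply_apply]; exact hq
  · dsimp; infer_instance

/-- A cokernel of a morphism of finite free modules has a finite presentation. -/
theorem gfp_of_cokernel {M : X.Modules} {p q : ℕ} (Φ : FlatMod.freeMod X p ⟶ FlatMod.freeMod X q)
    (π : FlatMod.freeMod X q ⟶ M) (w : Φ ≫ π = 0) (hπ : IsColimit (CokernelCofork.ofπ π w)) :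
    GFP M := by
  let Φ' : @Quiver.Hom X.Modules _ (SheafOfModules.free (R := X.ringCatSheaf) (ULift.{u} (Fin p)))
    (SheafOfModules.free (R := X.ringCatSheaf) (ULift.{u} (Fin q))) :=
    (freeIso X p).hom ≫ Φ ≫ (freeIso X q).inv
  let π' : @Quiver.Hom X.Modules _ (SheafOfModules.free (R := X.ringCatSheaf) (ULift.{u} (Fin q)))
    M := (freeIso X q).hom ≫ π
  have w' : Φ' ≫ π' = 0 := by
    simp only [Φ', π', Category.assoc, Iso.inv_hom_id_assoc, w, comp_zero]
  have hπ' : IsColimit (CokernelCofork.ofπ π' w') := by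
    refine CokernelCofork.IsColimit.ofπ _ _
      (fun g hg => (CokernelCofork.IsColimit.desc' hπ ((freeIso X q).inv ≫ g) ?_).1)
      (fun g hg => ?_) (fun g hg m hm => ?_)
    · have h1 : (freeIso X p).hom ≫ (Φ ≫ (freeIso X q).inv ≫ g) = 0 := by
        rw [← hg]; simp [Φ']
      exact (cancel_epi (freeIso X p).hom).mp (h1.trans comp_zero.symm)
    · have h2 := (CokernelCofork.IsColimit.desc' hπ ((freeIso X q).inv ≫ g) (by
        have h1 : (freeIso X p).hom ≫ (Φ ≫ (freeIso X q).inv ≫ g) = 0 := by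
          rw [← hg]; simp [Φ']
        exact (cancel_epi (freeIso X p).hom).mp (h1.trans comp_zero.symm))).2
      change π ≫ _ = _ at h2
      simp only [π', Category.assoc, h2, Iso.hom_inv_id_assoc]
    · have hepi : Epi π := Cofork.IsColimit.epi hπ
      have h2 := (CokernelCofork.IsColimit.desc' hπ ((freeIso X q).inv ≫ g) (by
        have h1 : (freeIso X p).hom ≫ (Φ ≫ (freeIso X q).inv ≫ g) = 0 := by
          rw [← hg]; simp [Φ']
        exact (cancel_epi (freeIso X p).hom).mp (h1.trans comp_zero.symm))).2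
      change π ≫ _ = _ at h2
      rw [← cancel_epi π, h2, ← hm]
      simp [π']
  let P := SheafOfModules.presentationOfIsCokernelFree.{u, u, u} (R := X.ringCatSheaf) Φ' π' w' hπ'
  refine ⟨P, ⟨⟨?_⟩, ⟨?_⟩⟩⟩
  · change Finite (ULift.{u} (Fin q)); infer_instance
  · change Finite (ULift.{u} (Fin p)); infer_instance

/-- `GFP` along the open range of an open immersion. -/
theorem GFP.restrict_range {M : X.Modules} (j : Y ⟶ X) [IsOpenImmersion j]
    (h : GFP (M.restrict j)) : GFP (M.restrict j.opensRange.ι) :=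
  ((h.restrict j.isoOpensRange.inv).of_iso
    ((Scheme.Modules.restrictFunctorComp j.isoOpensRange.inv j).app M).symm).of_iso
    ((Scheme.Modules.restrictFunctorCongr j.isoOpensRange_inv_comp).app M)

theorem GFG.restrict_range {M : X.Modules} (j : Y ⟶ X) [IsOpenImmersion j]
    (h : GFG (M.restrict j)) : GFG (M.restrict j.opensRange.ι) :=
  ((h.restrict j.isoOpensRange.inv).of_iso
    ((Scheme.Modules.restrictFunctorComp j.isoOpensRange.inv j).app M).symm).of_iso
    ((Scheme.Modules.restrictFunctorCongr j.isoOpensRange_inv_comp).app M)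

/-- Criterion for finite presentation with arbitrary open immersions. -/
theorem isFP_iff' (M : X.Modules) : CohB1.IsFP M ↔
    ∀ x : X, ∃ (U : Scheme.{u}) (j : U ⟶ X) (_ : IsOpenImmersion j), x ∈ Set.range j ∧
      GFP (M.restrict j) := by
  rw [CohB1.IsFP, isFP_iff]
  constructor
  · intro h x
    obtain ⟨U, hx, hU⟩ := h x
    exact ⟨U, U.ι, inferInstance, by simpa using hx, hU⟩
  · intro h x
    obtain ⟨U, j, hj, hx, hU⟩ := h x
    exact ⟨j.opensRange, by simpa using hx, GFP.restrict_range j hU⟩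

/-- Criterion for finite type with arbitrary open immersions. -/
theorem isFT_iff' (M : X.Modules) : CohB1.IsFT M ↔
    ∀ x : X, ∃ (U : Scheme.{u}) (j : U ⟶ X) (_ : IsOpenImmersion j), x ∈ Set.range j ∧
      GFG (M.restrict j) := by
  rw [CohB1.IsFT, isFT_iff]
  constructor
  · intro h x
    obtain ⟨U, hx, hU⟩ := h x
    exact ⟨U, U.ι, inferInstance, by simpa using hx, hU⟩
  · intro h x
    obtain ⟨U, j, hj, hx, hU⟩ := h x
    exact ⟨j.opensRange, by simpa using hx, GFG.restrict_range j hU⟩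

/-- Finite presentation is local. -/
theorem isFP_of_cover {M : X.Modules}
    (h : ∀ x : X, ∃ (U : Scheme.{u}) (j : U ⟶ X) (_ : IsOpenImmersion j), x ∈ Set.range j ∧
      CohB1.IsFP (M.restrict j)) : CohB1.IsFP M := by
  rw [isFP_iff']
  intro x
  obtain ⟨U, j, hj, ⟨y, rfl⟩, hU⟩ := h x
  rw [isFP_iff'] at hU
  obtain ⟨W, k, hk, ⟨z, rfl⟩, hW⟩ := hU y
  exact ⟨W, k ≫ j, inferInstance, ⟨z, by simp⟩,
    hW.of_iso ((Scheme.Modules.restrictFunctorComp k j).app M).symm⟩

/-- Finite type is local. -/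
theorem isFT_of_cover {M : X.Modules}
    (h : ∀ x : X, ∃ (U : Scheme.{u}) (j : U ⟶ X) (_ : IsOpenImmersion j), x ∈ Set.range j ∧
      CohB1.IsFT (M.restrict j)) : CohB1.IsFT M := by
  rw [isFT_iff']
  intro x
  obtain ⟨U, j, hj, ⟨y, rfl⟩, hU⟩ := h x
  rw [isFT_iff'] at hU
  obtain ⟨W, k, hk, ⟨z, rfl⟩, hW⟩ := hU y
  exact ⟨W, k ≫ j, inferInstance, ⟨z, by simp⟩,
    hW.of_iso ((Scheme.Modules.restrictFunctorComp k j).app M).symm⟩

theorem isFT_of_iso {M N : X.Modules} (e : M ≅ N) (h : CohB1.IsFT M) : CohB1.IsFT N := by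
  rw [isFT_iff'] at h ⊢
  intro x
  obtain ⟨U, j, hj, hx, hU⟩ := h x
  exact ⟨U, j, hj, hx, hU.of_iso ((Scheme.Modules.restrictFunctor j).mapIso e)⟩

theorem isFP_of_iso {M N : X.Modules} (e : M ≅ N) (h : CohB1.IsFP M) : CohB1.IsFP N := by
  rw [isFP_iff'] at h ⊢
  intro x
  obtain ⟨U, j, hj, hx, hU⟩ := h x
  exact ⟨U, j, hj, hx, hU.of_iso ((Scheme.Modules.restrictFunctor j).mapIso e)⟩

/-- A quotient of a finite locally free module is of finite type. -/
theorem isFT_of_epi_finLocFree {F M : X.Modules} (hF : FlatMod.IsFinLocFree F) (p : F ⟶ M) [Epi p] :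
    CohB1.IsFT M := by
  rw [CohB1.IsFT, isFT_iff]
  intro x
  obtain ⟨U, n, hx, ⟨a⟩⟩ := hF x
  exact ⟨U, hx, gfg_of_epi (a.inv ≫ (Scheme.Modules.restrictFunctor U.ι).map p)⟩

/-- A cokernel of a morphism of finite locally free modules is of finite presentation. -/
theorem isFP_of_cokernel_finLocFree {F₁ F₀ M : X.Modules} (hF₁ : FlatMod.IsFinLocFree F₁)
    (hF₀ : FlatMod.IsFinLocFree F₀) (Φ : F₁ ⟶ F₀) (π : F₀ ⟶ M) (w : Φ ≫ π = 0)
    (hπ : IsColimit (CokernelCofork.ofπ π w)) : CohB1.IsFP M := by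
  rw [CohB1.IsFP, isFP_iff]
  intro x
  obtain ⟨U₁, n₁, hx₁, hU₁⟩ := FinLocFree.exists_triv hF₁ x
  obtain ⟨U₀, n₀, hx₀, hU₀⟩ := FinLocFree.exists_triv hF₀ x
  let V := U₁ ⊓ U₀
  obtain ⟨a₁⟩ := hU₁ V inf_le_left
  obtain ⟨a₀⟩ := hU₀ V inf_le_right
  have hcok := CokernelCofork.mapIsColimit _ hπ (Scheme.Modules.restrictFunctor V.ι)
  refine ⟨V, ⟨hx₁, hx₀⟩, ?_⟩
  have w' : (a₁.inv ≫ (Scheme.Modules.restrictFunctor V.ι).map Φ ≫ a₀.hom) ≫
      (a₀.inv ≫ (Scheme.Modules.restrictFunctor V.ι).map π) = 0 := by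
    simp only [Category.assoc, Iso.hom_inv_id_assoc]
    rw [← Functor.map_comp, w, Functor.map_zero, comp_zero]
  refine gfp_of_cokernel (a₁.inv ≫ (Scheme.Modules.restrictFunctor V.ι).map Φ ≫ a₀.hom)
    (a₀.inv ≫ (Scheme.Modules.restrictFunctor V.ι).map π) w' ?_
  have hcond : ∀ {W : (V : Scheme.{u}).Modules} (g : FlatMod.freeMod V n₀ ⟶ W),
      (a₁.inv ≫ (Scheme.Modules.restrictFunctor V.ι).map Φ ≫ a₀.hom) ≫ g = 0 →
      (Scheme.Modules.restrictFunctor V.ι).map Φ ≫ (a₀.hom ≫ g) = 0 := by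
    intro W g hg
    rw [← cancel_epi a₁.inv, comp_zero, ← hg]
    simp only [Category.assoc]
  have hepi : Epi ((Scheme.Modules.restrictFunctor V.ι).map π) := Cofork.IsColimit.epi hcok
  refine CokernelCofork.IsColimit.ofπ _ _
    (fun g hg => (CokernelCofork.IsColimit.desc' hcok (a₀.hom ≫ g) (hcond g hg)).1)
    (fun g hg => ?_) (fun g hg m hm => ?_)
  · have h2 := (CokernelCofork.IsColimit.desc' hcok (a₀.hom ≫ g) (hcond g hg)).2
    change (Scheme.Modules.restrictFunctor V.ι).map π ≫ _ = _ at h2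
    rw [Category.assoc, h2, Iso.inv_hom_id_assoc]
  · have h2 := (CokernelCofork.IsColimit.desc' hcok (a₀.hom ≫ g) (hcond g hg)).2
    change (Scheme.Modules.restrictFunctor V.ι).map π ≫ _ = _ at h2
    rw [← cancel_epi ((Scheme.Modules.restrictFunctor V.ι).map π), h2, ← hm]
    simp only [Category.assoc, Iso.hom_inv_id_assoc]

end Groth.Agent.Dcoh.FTFP
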