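import Groth.Agent.CurvesB.FreeHOne
import Groth.Agent.Ega3A.TFunTensor
import Groth.Agent.Ega3A.TFunFlat
import Groth.Agent.Ega3B.SplitCx

/-!
# Vanishing of the fibre cohomology in positive degrees

`P` a complex of finite projective `A`-modules, zero in very negative homological degrees, with
`H_i(P ⊗ A/m) = 0` for all `i < 0` and all maximal ideals `m`.  Then `H_i(P ⊗ M) = 0` for all `i < 0` and all
modules `M`, `H_0(P ⊗ M) = H_0(P) ⊗ M` naturally, and `H_0(P)` is finitely presented; it is projective if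
moreover `H_1(P ⊗ M) = 0` for all `M`.
-/

set_option autoImplicit false
universe u

open CategoryTheory CategoryTheory.Limits MonoidalCategory TensorProduct

namespace Groth.Agent.Dcoh.FibVan304

open Groth.Agent.CurvesB.FreeHOne Groth.Agent.Ega3A.TFunBasic Groth.Agent.Ega3A.TFunFlat
  Groth.Agent.Ega3A.TFunTensor

variable {A : Type u} [CommRing A]

/-- `ker (d : P_i → P_{i-1})` is a direct summand for `i ≤ 0`. -/
theorem hasRet_zero (P : ChainComplex (ModuleCat.{u} A) ℤ)
    (hP : ∀ i, Module.Finite A (P.X i) ∧ Module.Projective A (P.X i))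
    (b : ℤ) (hb : ∀ i, i < b → IsZero (P.X i))
    (h : ∀ m : Ideal A, m.IsMaximal → ∀ i < (0 : ℤ), IsZero (CohIII.T P i (ModuleCat.of A (A ⧸ m)))) :
    (∀ i < (0 : ℤ), Function.Exact (P.d (i + 1) i).hom (P.d i (i - 1)).hom) ∧
      ∀ i ≤ (0 : ℤ), HasRet P i := by
  have h1 := hasRet P hP b hb (fun m hm i hi => h m hm i (by omega))
  have h2 : ∀ i < (0 : ℤ), Function.Exact (P.d (i + 1) i).hom (P.d i (i - 1)).hom ∧ HasRet P (i + 1) :=
    fun i hi => step' P hP i (fun m hm => h m hm i hi) (h1 i (by omega))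
  refine ⟨fun i hi => (h2 i hi).1, fun i hi => ?_⟩
  by_cases hi' : i ≤ -1
  · exact h1 i hi'
  · have hi0 : i = 0 := by omega
    subst hi0
    exact (h2 (-1) (by omega)).2

theorem isZero_homology (P : ChainComplex (ModuleCat.{u} A) ℤ)
    (hP : ∀ i, Module.Finite A (P.X i) ∧ Module.Projective A (P.X i))
    (b : ℤ) (hb : ∀ i, i < b → IsZero (P.X i))
    (h : ∀ m : Ideal A, m.IsMaximal → ∀ i < (0 : ℤ), IsZero (CohIII.T P i (ModuleCat.of A (A ⧸ m))))
    (i : ℤ) (hi : i < 0) : IsZero (P.homology i) :=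
  exact_of_function_exact P (i + 1) i (i - 1) rfl (by ring) ((hasRet_zero P hP b hb h).1 i hi)

theorem flat_opcycles (P : ChainComplex (ModuleCat.{u} A) ℤ)
    (hP : ∀ i, Module.Finite A (P.X i) ∧ Module.Projective A (P.X i))
    (b : ℤ) (hb : ∀ i, i < b → IsZero (P.X i))
    (h : ∀ m : Ideal A, m.IsMaximal → ∀ i < (0 : ℤ), IsZero (CohIII.T P i (ModuleCat.of A (A ⧸ m))))
    (i : ℤ) (hi : i < 0) : Module.Flat A (P.opcycles i) := by
  refine Groth.Agent.Ega3B.SplitCx.flat_opcycles_of_flat_homology P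
    (fun i => ⟨(hP i).1, have := (hP i).2; inferInstance⟩) b hb (-1) (fun j hj => ?_) i (by omega)
  have : Subsingleton (P.homology j) :=
    ModuleCat.subsingleton_of_isZero (isZero_homology P hP b hb h j (by omega))
  infer_instance

/-- the kernel of `opcycles P p → P_j` is the homology. -/
noncomputable def kerObjIso (P : ChainComplex (ModuleCat.{u} A) ℤ) (p j : ℤ) (hj : j + 1 = p) :
    kerObj P p j ≅ P.homology p := by
  have hex : Function.Exact (P.homologyι p).hom (P.fromOpcycles p j).hom :=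
    exact_homologyι_fromOpcycles P p j ((ComplexShape.down ℤ).next_eq' hj)
  exact ((LinearEquiv.ofInjective _ (homologyι_injective P p)).trans
    (LinearEquiv.ofEq _ _ hex.linearMap_ker_eq.symm)).symm.toModuleIso

/-- `T_i ≅ H_i(P) ⊗ -` for `i ≤ 0`. -/
theorem exists_iso_tensorLeft' (P : ChainComplex (ModuleCat.{u} A) ℤ)
    (hP : ∀ i, Module.Finite A (P.X i) ∧ Module.Projective A (P.X i))
    (b : ℤ) (hb : ∀ i, i < b → IsZero (P.X i))
    (h : ∀ m : Ideal A, m.IsMaximal → ∀ i < (0 : ℤ), IsZero (CohIII.T P i (ModuleCat.of A (A ⧸ m))))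
    (i : ℤ) (hi : i ≤ 0) : Nonempty (CohIII.TFun P i ≅ tensorLeft (P.homology i)) := by
  have := (hP (i - 1)).2
  have := flat_opcycles P hP b hb h (i - 1) (by omega)
  obtain ⟨e⟩ := exists_iso_tensorLeft P i (i - 1) ((ComplexShape.down ℤ).next_eq' (by simp))
    ((ComplexShape.down ℤ).prev_eq' (by simp))
  exact ⟨e ≪≫ (tensoringLeft _).mapIso (kerObjIso P i (i - 1) (by ring))⟩

/-- `H_i(P ⊗ M) = 0` for `i < 0`. -/
theorem isZero_T (P : ChainComplex (ModuleCat.{u} A) ℤ)
    (hP : ∀ i, Module.Finite A (P.X i) ∧ Module.Projective A (P.X i))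
    (b : ℤ) (hb : ∀ i, i < b → IsZero (P.X i))
    (h : ∀ m : Ideal A, m.IsMaximal → ∀ i < (0 : ℤ), IsZero (CohIII.T P i (ModuleCat.of A (A ⧸ m))))
    (i : ℤ) (hi : i < 0) (M : ModuleCat.{u} A) : IsZero ((CohIII.TFun P i).obj M) := by
  obtain ⟨e⟩ := exists_iso_tensorLeft' P hP b hb h i hi.le
  have h1 : IsZero (P.homology i) := isZero_homology P hP b hb h i hi
  have h2 : IsZero ((tensorLeft (P.homology i)).obj M) :=
    (tensorRight M).map_isZero h1
  exact h2.of_iso (e.app M)

/-- `H_0(P)` is finitely presented. -/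
theorem finitePresentation_homology (P : ChainComplex (ModuleCat.{u} A) ℤ)
    (hP : ∀ i, Module.Finite A (P.X i) ∧ Module.Projective A (P.X i))
    (b : ℤ) (hb : ∀ i, i < b → IsZero (P.X i))
    (h : ∀ m : Ideal A, m.IsMaximal → ∀ i < (0 : ℤ), IsZero (CohIII.T P i (ModuleCat.of A (A ⧸ m)))) :
    Module.FinitePresentation A (P.homology 0) := by
  obtain ⟨r, hr⟩ := (hasRet_zero P hP b hb h).2 0 le_rfl
  have := (hP 0).1
  have := (hP 0).2
  have := (hP 1).1
  have hrs : Function.Surjective r := fun z => ⟨z, LinearMap.congr_fun hr z⟩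
  have hZf : Module.Finite A (LinearMap.ker (P.d 0 (0 - 1)).hom) := Module.Finite.of_surjective r hrs
  have hZp : Module.Projective A (LinearMap.ker (P.d 0 (0 - 1)).hom) :=
    Module.Projective.of_split (LinearMap.ker (P.d 0 (0 - 1)).hom).subtype r hr
  have hgf : (P.d 0 (0 - 1)).hom ∘ₗ (P.d 1 0).hom = 0 := by
    rw [← ModuleCat.hom_comp, P.d_comp_d]; rfl
  obtain ⟨e⟩ := homology_linearEquiv P 1 0 (0 - 1) rfl rfl
    ((P.d 1 0).hom.codRestrict _ (fun x => LinearMap.congr_fun hgf x)) (fun x => rfl)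
  have : Module.FinitePresentation A (LinearMap.ker (P.d 0 (0 - 1)).hom) :=
    Module.finitePresentation_of_projective A _
  have h2 : Module.FinitePresentation A (LinearMap.ker (P.d 0 (0 - 1)).hom ⧸
      LinearMap.range ((P.d 1 0).hom.codRestrict (LinearMap.ker (P.d 0 (0 - 1)).hom)
        (fun x => LinearMap.congr_fun hgf x))) :=
    Module.finitePresentation_of_surjective (LinearMap.range _).mkQ
      (Submodule.mkQ_surjective _) (by
        rw [Submodule.ker_mkQ, LinearMap.range_eq_map]
        exact (Module.Finite.fg_top).map _)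
  exact Module.FinitePresentation.of_equiv e.symm

/-- `H_0(P)` is projective as soon as `T_0` preserves monomorphisms, e.g. if `T_1 = 0`. -/
theorem projective_homology (P : ChainComplex (ModuleCat.{u} A) ℤ)
    (hP : ∀ i, Module.Finite A (P.X i) ∧ Module.Projective A (P.X i))
    (b : ℤ) (hb : ∀ i, i < b → IsZero (P.X i))
    (h : ∀ m : Ideal A, m.IsMaximal → ∀ i < (0 : ℤ), IsZero (CohIII.T P i (ModuleCat.of A (A ⧸ m))))
    (h1 : ∀ M : ModuleCat.{u} A, IsZero ((CohIII.TFun P 1).obj M)) :
    Module.Projective A (P.homology 0) := by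
  have hfl : ∀ i, Module.Flat A (P.X i) := fun i => have := (hP i).2; inferInstance
  have hepi : (CohIII.TFun P 0).PreservesMonomorphisms := by
    rw [← chain_preservesEpi_iff_preservesMono P hfl 1 0 rfl]
    exact ⟨fun {M N} g _ => (IsZero.epi (h1 N) _)⟩
  have := finitePresentation_homology P hP b hb h
  have hflat : Module.Flat A (P.homology 0) := by
    obtain ⟨e⟩ := exists_iso_tensorLeft' P hP b hb h 0 le_rfl
    have h2 : (tensorLeft (P.homology 0)).PreservesMonomorphisms :=
      Functor.PreservesMonomorphisms.of_iso e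
    rw [Module.Flat.iff_lTensor_preserves_injective_linearMap]
    intro N N' _ _ _ _ f hf
    have h3 : Mono (ModuleCat.ofHom f) := (ModuleCat.mono_iff_injective _).2 hf
    have h4 : Mono ((tensorLeft (P.homology 0)).map (ModuleCat.ofHom f)) := inferInstance
    exact (ModuleCat.mono_iff_injective _).1 h4
  exact Groth.Agent.Ega3B.SplitCx.projective_of_flat _

/-- Summary. -/
theorem main (P : ChainComplex (ModuleCat.{u} A) ℤ)
    (hP : ∀ i, Module.Finite A (P.X i) ∧ Module.Projective A (P.X i))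
    (b : ℤ) (hb : ∀ i, i < b → IsZero (P.X i))
    (h : ∀ m : Ideal A, m.IsMaximal → ∀ i < (0 : ℤ), IsZero (CohIII.T P i (ModuleCat.of A (A ⧸ m))))
    (h1 : ∀ M : ModuleCat.{u} A, IsZero ((CohIII.TFun P 1).obj M)) :
    (∀ (i : ℤ), i < 0 → ∀ M : ModuleCat.{u} A, IsZero ((CohIII.TFun P i).obj M)) ∧
      Module.Finite A (P.homology 0) ∧ Module.Projective A (P.homology 0) ∧
      Nonempty (CohIII.TFun P 0 ≅ tensorLeft (P.homology 0)) := by
  have := finitePresentation_homology P hP b hb h
  exact ⟨isZero_T P hP b hb h, inferInstance, projective_homology P hP b hb h h1,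
    exists_iso_tensorLeft' P hP b hb h 0 le_rfl⟩

section Cycles

/-- One splitting step. -/
theorem ker_step {X Y Z : Type*} [AddCommGroup X] [AddCommGroup Y] [AddCommGroup Z] [Module A X] [Module A Y]
    [Module A Z] [Module.Finite A X] [Module.Projective A X] (f : X →ₗ[A] Y) (g : Y →ₗ[A] Z)
    (hex : Function.Exact f g) [Module.Projective A (LinearMap.ker g)] :
    (∃ r : X →ₗ[A] LinearMap.ker f, r ∘ₗ (LinearMap.ker f).subtype = LinearMap.id) ∧
      Module.Finite A (LinearMap.ker f) ∧ Module.Projective A (LinearMap.ker f) := by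
  let f' : X →ₗ[A] LinearMap.ker g := f.codRestrict _ (fun x => hex.apply_apply_eq_zero x)
  have hsurj : Function.Surjective f' := by
    rintro ⟨y, hy⟩
    obtain ⟨x, hx⟩ := (hex y).1 hy
    exact ⟨x, Subtype.ext hx⟩
  obtain ⟨s, hs⟩ := Module.projective_lifting_property f' LinearMap.id hsurj
  have hk : ∀ x, f x = 0 → f' x = 0 := fun x hx => Subtype.ext hx
  let t : X →ₗ[A] X := LinearMap.id - s ∘ₗ f'
  have ht : ∀ x, f (t x) = 0 := fun x => by
    have h1 : f' (t x) = 0 := by
      have h2 := LinearMap.congr_fun hs (f' x)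
      simp only [LinearMap.comp_apply, LinearMap.id_apply] at h2
      change f' (x - s (f' x)) = 0
      rw [map_sub, h2, sub_self]
    exact congrArg Subtype.val h1
  let r : X →ₗ[A] LinearMap.ker f := LinearMap.codRestrict (LinearMap.ker f) t ht
  have hr : r ∘ₗ (LinearMap.ker f).subtype = LinearMap.id := by
    ext x
    have hx : f' x = 0 := hk _ x.2
    simp [r, t, hx]
  refine ⟨⟨r, hr⟩, ?_, ?_⟩
  · exact Module.Finite.of_surjective r (fun z => ⟨z, LinearMap.congr_fun hr z⟩)
  · exact Module.Projective.of_split (LinearMap.ker f).subtype r hr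

/-- `K` a cochain complex of finite projective modules, zero in large degrees and exact in degrees `> a`:
the cycles in degrees `≥ a` are finite projective direct summands. -/
theorem cochain_ker (K : CochainComplex (ModuleCat.{u} A) ℤ)
    (hK : ∀ i, Module.Finite A (K.X i) ∧ Module.Projective A (K.X i))
    (b : ℤ) (hb : ∀ i, b < i → IsZero (K.X i)) (a : ℤ)
    (h : ∀ i, a < i → IsZero (K.homology i)) (i : ℤ) (hi : a ≤ i) :
    (∃ r : K.X i →ₗ[A] LinearMap.ker (K.d i (i + 1)).hom,
      r ∘ₗ (LinearMap.ker (K.d i (i + 1)).hom).subtype = LinearMap.id) ∧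
      Module.Finite A (LinearMap.ker (K.d i (i + 1)).hom) ∧
      Module.Projective A (LinearMap.ker (K.d i (i + 1)).hom) := by
  have h0 : ∀ i, b < i → (∃ r : K.X i →ₗ[A] LinearMap.ker (K.d i (i + 1)).hom,
      r ∘ₗ (LinearMap.ker (K.d i (i + 1)).hom).subtype = LinearMap.id) ∧
      Module.Finite A (LinearMap.ker (K.d i (i + 1)).hom) ∧
      Module.Projective A (LinearMap.ker (K.d i (i + 1)).hom) := by
    intro i hi
    have : Subsingleton (K.X i) := ModuleCat.subsingleton_of_isZero (hb i hi)
    exact ⟨⟨0, by ext x; exact Subsingleton.elim _ _⟩, inferInstance, inferInstance⟩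
  have key : ∀ n : ℕ, ∀ i, a ≤ i → b < i + n → (∃ r : K.X i →ₗ[A] LinearMap.ker (K.d i (i + 1)).hom,
      r ∘ₗ (LinearMap.ker (K.d i (i + 1)).hom).subtype = LinearMap.id) ∧
      Module.Finite A (LinearMap.ker (K.d i (i + 1)).hom) ∧
      Module.Projective A (LinearMap.ker (K.d i (i + 1)).hom) := by
    intro n
    induction n with
    | zero => intro i _ hi; exact h0 i (by simpa using hi)
    | succ n ih =>
      intro i hai hi
      obtain ⟨-, h1, h2⟩ := ih (i + 1) (by omega) (by push_cast at hi; omega)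
      have h3 : Function.Exact (K.d i (i + 1)).hom (K.d (i + 1) (i + 1 + 1)).hom := by
        have h4 := h (i + 1) (by omega)
        rw [← HomologicalComplex.exactAt_iff_isZero_homology,
          HomologicalComplex.exactAt_iff' _ i (i + 1) (i + 1 + 1) (by simp) (by simp)] at h4
        exact (ShortComplex.ShortExact.moduleCat_exact_iff_function_exact _).mp h4
      have := (hK i).1
      have := (hK i).2
      exact ker_step _ _ h3
  exact key (b - i + 1).toNat i hi (by omega)

/-- The same for chain complexes: exact in degrees `< a`. -/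
theorem chain_ker (K : ChainComplex (ModuleCat.{u} A) ℤ)
    (hK : ∀ i, Module.Finite A (K.X i) ∧ Module.Projective A (K.X i))
    (b : ℤ) (hb : ∀ i, i < b → IsZero (K.X i)) (a : ℤ)
    (h : ∀ i, i < a → IsZero (K.homology i)) (i : ℤ) (hi : i ≤ a) :
    (∃ r : K.X i →ₗ[A] LinearMap.ker (K.d i (i - 1)).hom,
      r ∘ₗ (LinearMap.ker (K.d i (i - 1)).hom).subtype = LinearMap.id) ∧
      Module.Finite A (LinearMap.ker (K.d i (i - 1)).hom) ∧
      Module.Projective A (LinearMap.ker (K.d i (i - 1)).hom) := by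
  have h0 : ∀ i, i < b → (∃ r : K.X i →ₗ[A] LinearMap.ker (K.d i (i - 1)).hom,
      r ∘ₗ (LinearMap.ker (K.d i (i - 1)).hom).subtype = LinearMap.id) ∧
      Module.Finite A (LinearMap.ker (K.d i (i - 1)).hom) ∧
      Module.Projective A (LinearMap.ker (K.d i (i - 1)).hom) := by
    intro i hi
    have : Subsingleton (K.X i) := ModuleCat.subsingleton_of_isZero (hb i hi)
    exact ⟨⟨0, by ext x; exact Subsingleton.elim _ _⟩, inferInstance, inferInstance⟩
  have key : ∀ n : ℕ, ∀ i, i ≤ a → i - n < b → (∃ r : K.X i →ₗ[A] LinearMap.ker (K.d i (i - 1)).hom,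
      r ∘ₗ (LinearMap.ker (K.d i (i - 1)).hom).subtype = LinearMap.id) ∧
      Module.Finite A (LinearMap.ker (K.d i (i - 1)).hom) ∧
      Module.Projective A (LinearMap.ker (K.d i (i - 1)).hom) := by
    intro n
    induction n with
    | zero => intro i _ hi; exact h0 i (by simpa using hi)
    | succ n ih =>
      intro i hai hi
      obtain ⟨-, h1, h2⟩ := ih (i - 1) (by omega) (by push_cast at hi; omega)
      have h3 : Function.Exact (K.d i (i - 1)).hom (K.d (i - 1) (i - 1 - 1)).hom := by
        have h4 := h (i - 1) (by omega)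
        rw [← HomologicalComplex.exactAt_iff_isZero_homology,
          HomologicalComplex.exactAt_iff' _ i (i - 1) (i - 1 - 1) (by simp) (by simp)] at h4
        exact (ShortComplex.ShortExact.moduleCat_exact_iff_function_exact _).mp h4
      have := (hK i).1
      have := (hK i).2
      exact ker_step _ _ h3
  exact key (i - b + 1).toNat i hi (by omega)

end Cycles

end Groth.Agent.Dcoh.FibVan304
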