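import Groth.Prelude.Def_FilD
import Mathlib.CategoryTheory.Abelian.Refinements
import Mathlib.Algebra.Homology.ShortComplex.ShortExact
import Mathlib.Algebra.Homology.ShortComplex.Abelian

/-!
# Finite filtered objects: level functors, elements up to refinements, strictness
-/

set_option autoImplicit false
set_option linter.unusedSectionVars false

universe v u

open CategoryTheory CategoryTheory.Limits Opposite

namespace Groth.Agent.Dcoh.Fil

noncomputable section

variable {A : Type u} [Category.{v} A] [Abelian A]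

/-- the `p`-th level of a filtered object -/
abbrev lev (F : FilD.FilF A) (p : ℤ) : A := F.obj.obj (op p)

/-- transition map `F q ⟶ F p` for `p ≤ q` -/
abbrev tr (F : FilD.FilF A) {p q : ℤ} (h : p ≤ q) : lev F q ⟶ lev F p := F.obj.map (homOfLE h).op

/-- the `p`-th level of a morphism -/
abbrev lmap {F G : FilD.FilF A} (φ : F ⟶ G) (p : ℤ) : lev F p ⟶ lev G p := φ.hom.app (op p)

instance mono_tr (F : FilD.FilF A) {p q : ℤ} (h : p ≤ q) : Mono (tr F h) := F.property.1 _

@[reassoc]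
lemma tr_comp (F : FilD.FilF A) {p q r : ℤ} (h : p ≤ q) (h' : q ≤ r) :
    tr F h' ≫ tr F h = tr F (h.trans h') := by
  rw [← F.obj.map_comp]; rfl

lemma tr_refl (F : FilD.FilF A) (p : ℤ) : tr F (le_refl p) = 𝟙 _ := by
  exact F.obj.map_id _

@[reassoc]
lemma lmap_tr {F G : FilD.FilF A} (φ : F ⟶ G) {p q : ℤ} (h : p ≤ q) :
    tr F h ≫ lmap φ p = lmap φ q ≫ tr G h := φ.hom.naturality _

@[reassoc]
lemma lmap_comp {F G H : FilD.FilF A} (φ : F ⟶ G) (ψ : G ⟶ H) (p : ℤ) :
    lmap (φ ≫ ψ) p = lmap φ p ≫ lmap ψ p := rfl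

lemma lmap_zero (F G : FilD.FilF A) (p : ℤ) : lmap (0 : F ⟶ G) p = 0 := rfl

lemma lmap_id (F : FilD.FilF A) (p : ℤ) : lmap (𝟙 F) p = 𝟙 _ := rfl

lemma lmap_add {F G : FilD.FilF A} (φ ψ : F ⟶ G) (p : ℤ) :
    lmap (φ + ψ) p = lmap φ p + lmap ψ p := rfl

lemma lmap_sub {F G : FilD.FilF A} (φ ψ : F ⟶ G) (p : ℤ) :
    lmap (φ - ψ) p = lmap φ p - lmap ψ p := rfl

lemma lmap_neg {F G : FilD.FilF A} (φ : F ⟶ G) (p : ℤ) :
    lmap (-φ) p = -lmap φ p := rfl

lemma hom_ext_lmap {F G : FilD.FilF A} {φ ψ : F ⟶ G} (h : ∀ p, lmap φ p = lmap ψ p) : φ = ψ := by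
  apply ObjectProperty.hom_ext
  ext ⟨p⟩
  exact h p

/-- projection to the graded piece -/
def grπ (F : FilD.FilF A) (p : ℤ) : lev F p ⟶ (FilD.grF A p).obj F := cokernel.π (F.obj.map (FilD.stepHom p))

instance epi_grπ (F : FilD.FilF A) (p : ℤ) : Epi (grπ F p) := by
  unfold grπ
  exact (inferInstance : Epi (cokernel.π (F.obj.map (FilD.stepHom p))))

lemma stepHom_eq (F : FilD.FilF A) (p : ℤ) :
    F.obj.map (FilD.stepHom p) = tr F (Int.le_add_one le_rfl : p ≤ p + 1) := rfl

@[reassoc]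
lemma grπ_naturality {F G : FilD.FilF A} (φ : F ⟶ G) (p : ℤ) :
    grπ F p ≫ (FilD.grF A p).map φ = lmap φ p ≫ grπ G p := by
  exact cokernel.π_desc _ _ _

@[reassoc (attr := simp)]
lemma tr_grπ (F : FilD.FilF A) (p : ℤ) :
    tr F (Int.le_add_one le_rfl : p ≤ p + 1) ≫ grπ F p = 0 := cokernel.condition _

/-- the short exact sequence `0 → F (p+1) → F p → gr p F → 0` -/
def grS (F : FilD.FilF A) (p : ℤ) : ShortComplex A :=
  ShortComplex.mk (tr F (Int.le_add_one le_rfl : p ≤ p + 1)) (grπ F p) (tr_grπ F p)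

lemma grS_shortExact (F : FilD.FilF A) (p : ℤ) : (grS F p).ShortExact where
  exact := ShortComplex.exact_of_g_is_cokernel _ (cokernelIsCokernel _)
  mono_f := by dsimp [grS]; infer_instance
  epi_g := by dsimp [grS]; infer_instance

/-- an element of `F p` which is zero in `gr p` comes (without refinement) from `F (p+1)` -/
lemma exists_lift_of_grπ {F : FilD.FilF A} {p : ℤ} {T : A} (x : T ⟶ lev F p) (hx : x ≫ grπ F p = 0) :
    ∃ y : T ⟶ lev F (p + 1), y ≫ tr F (Int.le_add_one le_rfl : p ≤ p + 1) = x :=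
  have := (grS_shortExact F p).mono_f
  ⟨(grS_shortExact F p).exact.lift x hx, (grS_shortExact F p).exact.lift_f x hx⟩

/-- vanishing in high degrees -/
lemma exists_isZero (F : FilD.FilF A) : ∃ b : ℤ, ∀ p : ℤ, b ≤ p → IsZero (lev F p) := F.property.2.1

/-- stabilisation in low degrees -/
lemma exists_isIso (F : FilD.FilF A) : ∃ a : ℤ, ∀ ⦃p q : ℤ⦄ (h : p ≤ q), q ≤ a → IsIso (tr F h) := by
  obtain ⟨a, ha⟩ := F.property.2.2
  exact ⟨a, fun p q h hq => ha _ hq⟩

/-- Descending induction on the filtration level. -/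
lemma desc_induction {P : ℤ → Prop} {b : ℤ} (hb : ∀ p, b ≤ p → P p) (h : ∀ p, P (p + 1) → P p) (p : ℤ) : P p := by
  by_cases hp : b ≤ p
  · exact hb p hp
  · have key : ∀ n : ℕ, P (b - n) := by
      intro n
      induction n with
      | zero => exact hb _ (by simp)
      | succ n ih =>
        apply h
        have : b - ((n + 1 : ℕ) : ℤ) + 1 = b - n := by omega
        rw [this]; exact ih
    have := key (b - p).toNat
    have h2 : b - ((b - p).toNat : ℤ) = p := by omega
    rwa [h2] at this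

/-- the short complex of levels -/
abbrev levS (S : ShortComplex (FilD.FilF A)) (p : ℤ) : ShortComplex A :=
  S.map ((FilD.IsFinFil A).ι ⋙ (evaluation ℤᵒᵖ A).obj (op p))

/-- **half exactness**: if all graded pieces of `X ⟶ Y ⟶ Z` are exact then all the levels are. -/
lemma levS_exact (S : ShortComplex (FilD.FilF A)) (hS : ∀ p : ℤ, (S.map (FilD.grF A p)).Exact) (p : ℤ) :
    (levS S p).Exact := by
  obtain ⟨b, hb⟩ := exists_isZero S.X₂
  refine desc_induction (b := b) (P := fun p => (levS S p).Exact) ?_ ?_ p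
  · intro p hp
    exact ShortComplex.exact_of_isZero_X₂ _ (hb p hp)
  · intro p ih
    rw [ShortComplex.exact_iff_exact_up_to_refinements] at ih ⊢
    have hp := hS p
    rw [ShortComplex.exact_iff_exact_up_to_refinements] at hp
    intro T y hy
    change T ⟶ lev S.X₂ p at y
    change y ≫ lmap S.g p = 0 at hy
    -- image of y in gr
    obtain ⟨T₁, π₁, hπ₁, x₁, hx₁⟩ := hp (y ≫ grπ S.X₂ p) (by
      change (y ≫ grπ S.X₂ p) ≫ (FilD.grF A p).map S.g = 0
      rw [Category.assoc, grπ_naturality, reassoc_of% hy, zero_comp])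
    change T₁ ⟶ (FilD.grF A p).obj S.X₁ at x₁
    change π₁ ≫ y ≫ grπ S.X₂ p = x₁ ≫ (FilD.grF A p).map S.f at hx₁
    obtain ⟨T₂, π₂, hπ₂, x₂, hx₂⟩ := surjective_up_to_refinements_of_epi (grπ S.X₁ p) x₁
    -- y - f x₂ in level p+1
    obtain ⟨y', hy'⟩ := exists_lift_of_grπ (F := S.X₂) (π₂ ≫ π₁ ≫ y - x₂ ≫ lmap S.f p) (by
      rw [Preadditive.sub_comp, Category.assoc, Category.assoc, hx₁, reassoc_of% hx₂, Category.assoc,
        ← grπ_naturality, sub_self])
    obtain ⟨T₃, π₃, hπ₃, x₃, hx₃⟩ := ih y' (by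
      change y' ≫ lmap S.g (p + 1) = 0
      rw [← cancel_mono (tr S.X₃ (Int.le_add_one le_rfl : p ≤ p + 1)), Category.assoc, ← lmap_tr,
        reassoc_of% hy', Preadditive.sub_comp, Category.assoc, Category.assoc, hy, Category.assoc,
        ← lmap_comp, S.zero, lmap_zero]
      simp)
    change T₃ ⟶ lev S.X₁ (p + 1) at x₃
    change π₃ ≫ y' = x₃ ≫ lmap S.f (p + 1) at hx₃
    refine ⟨T₃, π₃ ≫ π₂ ≫ π₁, inferInstance, π₃ ≫ x₂ + x₃ ≫ tr S.X₁ (Int.le_add_one le_rfl), ?_⟩
    change (π₃ ≫ π₂ ≫ π₁) ≫ y = (π₃ ≫ x₂ + x₃ ≫ tr S.X₁ (Int.le_add_one le_rfl)) ≫ lmap S.f p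
    rw [Preadditive.add_comp, Category.assoc x₃, lmap_tr, ← reassoc_of% hx₃, hy']
    simp

/-- membership in the image subobject, up to refinements -/
lemma factors_imageSubobject_iff {X Y T : A} (f : X ⟶ Y) (y : T ⟶ Y) :
    (imageSubobject f).Factors y ↔
      ∃ (T' : A) (π : T' ⟶ T) (_ : Epi π) (x : T' ⟶ X), π ≫ y = x ≫ f := by
  constructor
  · intro h
    obtain ⟨T', π, hπ, x, hx⟩ := surjective_up_to_refinements_of_epi (factorThruImageSubobject f)
      ((imageSubobject f).factorThru y h)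
    refine ⟨T', π, hπ, x, ?_⟩
    have := hx =≫ (imageSubobject f).arrow
    simpa using this
  · rintro ⟨T', π, _, x, hx⟩
    -- use that the composite with the cokernel vanishes
    have h00 : f ≫ cokernel.π (imageSubobject f).arrow = 0 := by
      have := imageSubobject_arrow_comp f =≫ cokernel.π (imageSubobject f).arrow
      rw [← this, Category.assoc, cokernel.condition, comp_zero]
    have h0 : y ≫ cokernel.π (imageSubobject f).arrow = 0 := by
      rw [← cancel_epi π, reassoc_of% hx, h00]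
      simp
    rw [Subobject.factors_iff]
    have hex : (ShortComplex.mk (imageSubobject f).arrow (cokernel.π (imageSubobject f).arrow)
      (cokernel.condition _)).Exact := ShortComplex.exact_of_g_is_cokernel _ (cokernelIsCokernel _)
    refine ⟨hex.lift y h0, ?_⟩
    exact hex.lift_f y h0

/-- strictness in terms of generalized elements -/
lemma isStrict_iff {F G : FilD.FilF A} (φ : F ⟶ G) :
    FilD.IsStrict φ ↔ ∀ (p q : ℤ) (h : p ≤ q) ⦃T : A⦄ (x : T ⟶ lev F p) (y : T ⟶ lev G q),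
      x ≫ lmap φ p = y ≫ tr G h →
      ∃ (T' : A) (π : T' ⟶ T) (_ : Epi π) (x' : T' ⟶ lev F q), π ≫ y = x' ≫ lmap φ q := by
  constructor
  · intro hφ p q h T x y hxy
    have h1 : (imageSubobject (lmap φ p) ⊓ @Subobject.mk _ _ _ _ (tr G h) (mono_tr G h)).Factors (y ≫ tr G h) := by
      rw [Subobject.inf_factors]
      refine ⟨?_, ?_⟩
      · rw [factors_imageSubobject_iff]
        exact ⟨T, 𝟙 T, inferInstance, x, by simp [hxy]⟩
      · rw [Subobject.mk_factors_iff]
        exact ⟨y, rfl⟩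
    have h2 := hφ p q h
    change imageSubobject (lmap φ q ≫ tr G h) = _ at h2
    rw [← h2, factors_imageSubobject_iff] at h1
    obtain ⟨T', π, hπ, x', hx'⟩ := h1
    refine ⟨T', π, hπ, x', ?_⟩
    rw [← cancel_mono (tr G h), Category.assoc, Category.assoc, hx']
  · intro hφ p q h
    change imageSubobject (lmap φ q ≫ tr G h) =
      imageSubobject (lmap φ p) ⊓ @Subobject.mk _ _ _ _ (tr G h) (mono_tr G h)
    apply le_antisymm
    · apply le_inf
      · rw [← lmap_tr]
        exact imageSubobject_comp_le _ _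
      · have := mono_tr G h
        apply imageSubobject_le_mk _ _ (lmap φ q) rfl
    · set S := imageSubobject (lmap φ p) ⊓ @Subobject.mk _ _ _ _ (tr G h) (mono_tr G h) with hS
      have hS1 : S.Factors S.arrow := Subobject.factors_self S
      rw [hS, Subobject.inf_factors] at hS1
      obtain ⟨h1, h2⟩ := hS1
      rw [factors_imageSubobject_iff] at h1
      obtain ⟨T, π, hπ, x, hx⟩ := h1
      rw [Subobject.mk_factors_iff] at h2
      obtain ⟨y, hy⟩ := h2
      change _ ⟶ lev G q at y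
      change y ≫ tr G h = _ at hy
      obtain ⟨T', π', hπ', x', hx'⟩ := hφ p q h x (π ≫ y) (by
        rw [Category.assoc, hy, hx])
      apply Subobject.le_of_comm ((imageSubobject (lmap φ q ≫ tr G h)).factorThru S.arrow (by
        rw [factors_imageSubobject_iff]
        refine ⟨T', π' ≫ π, inferInstance, x', ?_⟩
        rw [← reassoc_of% hx', hy, Category.assoc]))
      simp

/-- One-step criterion for strictness. -/
lemma isStrict_of_step {F G : FilD.FilF A} (φ : F ⟶ G)
    (hφ : ∀ (p : ℤ) ⦃T : A⦄ (x : T ⟶ lev F p) (y : T ⟶ lev G (p + 1)),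
      x ≫ lmap φ p = y ≫ tr G (Int.le_add_one le_rfl : p ≤ p + 1) →
      ∃ (T' : A) (π : T' ⟶ T) (_ : Epi π) (x' : T' ⟶ lev F (p + 1)), π ≫ y = x' ≫ lmap φ (p + 1)) :
    FilD.IsStrict φ := by
  rw [isStrict_iff]
  intro p q h
  obtain ⟨n, rfl⟩ := Int.le.dest h
  induction n with
  | zero =>
    intro T x y hxy
    have e : p + ((0 : ℕ) : ℤ) = p := by simp
    refine ⟨T, 𝟙 T, inferInstance, x ≫ tr F (le_of_eq e), ?_⟩
    rw [Category.assoc, lmap_tr]
    rw [← cancel_mono (tr G h)]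
    simp only [Category.assoc, tr_comp]
    rw [Category.id_comp, ← hxy, tr_refl, Category.comp_id]
  | succ n ih =>
    intro T x y hxy
    have e : p + ((n + 1 : ℕ) : ℤ) = p + n + 1 := by omega
    obtain ⟨T₁, π₁, hπ₁, x₁, hx₁⟩ := ih (by omega) x (y ≫ tr G (by omega)) (by
      rw [hxy, Category.assoc, tr_comp])
    obtain ⟨T₂, π₂, hπ₂, x₂, hx₂⟩ := hφ (p + n) x₁ (π₁ ≫ y ≫ tr G (le_of_eq e.symm)) (by
      rw [← hx₁, Category.assoc, Category.assoc, tr_comp])
    refine ⟨T₂, π₂ ≫ π₁, inferInstance, x₂ ≫ tr F (le_of_eq e), ?_⟩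
    rw [Category.assoc, Category.assoc, lmap_tr, ← reassoc_of% hx₂, tr_comp, tr_refl, Category.comp_id]

end

end Groth.Agent.Dcoh.Fil
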