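import Groth.Agent.Dcoh.FilBase

/-!
# Exactness on graded pieces implies strictness; characterisations via graded pieces
-/

set_option autoImplicit false
set_option linter.unusedSectionVars false

universe v u

open CategoryTheory CategoryTheory.Limits Opposite

namespace Groth.Agent.Dcoh.Fil

noncomputable section

variable {A : Type u} [Category.{v} A] [Abelian A]

/-- exactness of levels in terms of elements -/
lemma exists_lift_of_exact (S : ShortComplex (FilD.FilF A)) (hS : ∀ p : ℤ, (S.map (FilD.grF A p)).Exact) (p : ℤ)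
    {T : A} (y : T ⟶ lev S.X₂ p) (hy : y ≫ lmap S.g p = 0) :
    ∃ (T' : A) (π : T' ⟶ T) (_ : Epi π) (x : T' ⟶ lev S.X₁ p), π ≫ y = x ≫ lmap S.f p :=
  (levS_exact S hS p).exact_up_to_refinements y hy

/-- exactness of graded pieces in terms of elements -/
lemma exists_gr_lift_of_exact (S : ShortComplex (FilD.FilF A)) {p : ℤ} (hS : (S.map (FilD.grF A p)).Exact)
    {T : A} (y : T ⟶ (FilD.grF A p).obj S.X₂) (hy : y ≫ (FilD.grF A p).map S.g = 0) :
    ∃ (T' : A) (π : T' ⟶ T) (_ : Epi π) (x : T' ⟶ (FilD.grF A p).obj S.X₁), π ≫ y = x ≫ (FilD.grF A p).map S.f :=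
  hS.exact_up_to_refinements y hy

lemma isStrict_f_of_exact (S : ShortComplex (FilD.FilF A)) (hS : ∀ p : ℤ, (S.map (FilD.grF A p)).Exact) :
    FilD.IsStrict S.f := by
  rw [isStrict_iff]
  intro p q h T x y hxy
  obtain ⟨T', π, hπ, x', hx'⟩ := (levS_exact S hS q).exact_up_to_refinements (A := T) y (by
    change y ≫ lmap S.g q = 0
    rw [← cancel_mono (tr S.X₃ h), Category.assoc, ← lmap_tr, ← reassoc_of% hxy, ← lmap_comp, S.zero,
      lmap_zero]
    simp)
  exact ⟨T', π, hπ, x', hx'⟩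

lemma isStrict_g_of_exact (S : ShortComplex (FilD.FilF A)) (hS : ∀ p : ℤ, (S.map (FilD.grF A p)).Exact) :
    FilD.IsStrict S.g := by
  apply isStrict_of_step
  intro p T y z hyz
  obtain ⟨T₁, π₁, hπ₁, x₁, hx₁⟩ := (hS p).exact_up_to_refinements (A := T) (y ≫ grπ S.X₂ p) (by
    change (y ≫ grπ S.X₂ p) ≫ (FilD.grF A p).map S.g = 0
    rw [Category.assoc, grπ_naturality, reassoc_of% hyz, tr_grπ, comp_zero])
  change T₁ ⟶ (FilD.grF A p).obj S.X₁ at x₁
  change π₁ ≫ y ≫ grπ S.X₂ p = x₁ ≫ (FilD.grF A p).map S.f at hx₁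
  obtain ⟨T₂, π₂, hπ₂, x₂, hx₂⟩ := surjective_up_to_refinements_of_epi (grπ S.X₁ p) x₁
  obtain ⟨y', hy'⟩ := exists_lift_of_grπ (F := S.X₂) (π₂ ≫ π₁ ≫ y - x₂ ≫ lmap S.f p) (by
    rw [Preadditive.sub_comp, Category.assoc, Category.assoc, hx₁, reassoc_of% hx₂, Category.assoc,
      ← grπ_naturality, sub_self])
  refine ⟨T₂, π₂ ≫ π₁, inferInstance, y', ?_⟩
  rw [← cancel_mono (tr S.X₃ (Int.le_add_one le_rfl : p ≤ p + 1)), Category.assoc, Category.assoc, Category.assoc,
    ← lmap_tr, reassoc_of% hy', Preadditive.sub_comp, Category.assoc, Category.assoc, Category.assoc,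
    ← lmap_comp, S.zero, lmap_zero, hyz, comp_zero, sub_zero]

/-- strictness implies that elements of `F p` landing in `G (p+1)` are equal mod kernel to elements of `F (p+1)` -/
lemma exists_lift_of_isStrict {F G : FilD.FilF A} {φ : F ⟶ G} (hφ : FilD.IsStrict φ) {p q : ℤ} (h : p ≤ q) {T : A}
    (x : T ⟶ lev F p) (y : T ⟶ lev G q) (hxy : x ≫ lmap φ p = y ≫ tr G h) :
    ∃ (T' : A) (π : T' ⟶ T) (_ : Epi π) (x' : T' ⟶ lev F q), π ≫ y = x' ≫ lmap φ q :=
  (isStrict_iff φ).1 hφ p q h x y hxy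

end

end Groth.Agent.Dcoh.Fil
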