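import Groth.Agent.Dcoh.FilExact
import Mathlib.Algebra.Homology.ShortComplex.ExactFunctor
import Mathlib.CategoryTheory.Preadditive.Injective.Basic
import Mathlib.CategoryTheory.Abelian.Injective.Basic

/-!
# Extension of morphisms into filtered injective objects
-/

set_option autoImplicit false
set_option linter.unusedSectionVars false

universe v u

open CategoryTheory CategoryTheory.Limits Opposite

namespace Groth.Agent.Dcoh.Fil

noncomputable section

variable {A : Type u} [Category.{v} A] [Abelian A]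

/-- `F` is constant below `a` -/
def Stable (F : FilD.FilF A) (a : ℤ) : Prop := ∀ ⦃p q : ℤ⦄ (h : p ≤ q), q ≤ a → IsIso (tr F h)

lemma exists_stable (F : FilD.FilF A) : ∃ a : ℤ, Stable F a := exists_isIso F

lemma Stable.mono {F : FilD.FilF A} {a a' : ℤ} (h : Stable F a) (ha : a' ≤ a) : Stable F a' :=
  fun _ _ hpq hq => h hpq (hq.trans ha)

lemma hom_ext_at {F G : FilD.FilF A} {a : ℤ} (hF : Stable F a) {φ ψ : F ⟶ G} (h : lmap φ a = lmap ψ a) :
    φ = ψ := by
  apply hom_ext_lmap
  intro p
  rcases le_total a p with hp | hp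
  · rw [← cancel_mono (tr G hp), ← lmap_tr, ← lmap_tr, h]
  · have := hF hp le_rfl
    rw [← cancel_epi (tr F hp), lmap_tr, lmap_tr, h]

/-- constructing a morphism from a compatible family of maps in degrees `≥ a` -/
lemma exists_hom_of_family {F G : FilD.FilF A} {a : ℤ} (hF : Stable F a)
    (r : ∀ q : ℤ, lev F q ⟶ lev G q)
    (hr : ∀ q : ℤ, a ≤ q → tr F (Int.le_add_one le_rfl : q ≤ q + 1) ≫ r q =
      r (q + 1) ≫ tr G (Int.le_add_one le_rfl : q ≤ q + 1)) :
    ∃ φ : F ⟶ G, ∀ q : ℤ, a ≤ q → lmap φ q = r q := by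
  -- compatibility for all pairs ≥ a
  have hr' : ∀ (p : ℤ) (_ : a ≤ p) (n : ℕ) (h : p ≤ p + n), tr F h ≫ r p = r (p + n) ≫ tr G h := by
    intro p hp n
    induction n with
    | zero =>
      intro h
      have e : p + ((0 : ℕ) : ℤ) = p := by simp
      have : ∀ (q : ℤ) (hq : q = p) (h : p ≤ q), tr F h ≫ r p = r q ≫ tr G h := by
        rintro q rfl h
        rw [tr_refl, tr_refl, Category.id_comp, Category.comp_id]
      exact this _ e h
    | succ n ih =>
      intro h
      have e : p + ((n + 1 : ℕ) : ℤ) = p + n + 1 := by omega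
      have : ∀ (q : ℤ) (hq : q = p + n + 1) (h : p ≤ q), tr F h ≫ r p = r q ≫ tr G h := by
        rintro q rfl h
        rw [← tr_comp F (by omega : p ≤ p + n) (Int.le_add_one le_rfl), Category.assoc, ih (by omega),
          reassoc_of% hr (p + n) (by omega), tr_comp]
      exact this _ e h
  have hr2 : ∀ (p q : ℤ) (_ : a ≤ p) (h : p ≤ q), tr F h ≫ r p = r q ≫ tr G h := by
    intro p q hp h
    obtain ⟨n, rfl⟩ := Int.le.dest h
    exact hr' p hp n h
  let s : ∀ q : ℤ, lev F q ⟶ lev G q := fun q =>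
    if h : a ≤ q then r q else
      haveI := hF (show q ≤ a by omega) le_rfl
      inv (tr F (show q ≤ a by omega)) ≫ r a ≫ tr G (show q ≤ a by omega)
  have hs1 : ∀ q (_ : a ≤ q), s q = r q := fun q h => dif_pos h
  have hs2 : ∀ q (h : q ≤ a), tr F h ≫ s q = r a ≫ tr G h := by
    intro q h
    by_cases h' : a ≤ q
    · obtain rfl : a = q := le_antisymm h' h
      rw [hs1 _ le_rfl, tr_refl, tr_refl, Category.id_comp, Category.comp_id]
    · have : s q = _ := dif_neg h'
      rw [this]
      have := hF h le_rfl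
      simp
  have hs : ∀ (p q : ℤ) (h : p ≤ q), tr F h ≫ s p = s q ≫ tr G h := by
    intro p q h
    rcases le_total a p with hp | hp
    · rw [hs1 p hp, hs1 q (hp.trans h), hr2 p q hp h]
    · rcases le_total a q with hq | hq
      · rw [hs1 q hq, ← tr_comp F hp hq, Category.assoc, hs2, reassoc_of% hr2 a q le_rfl hq, tr_comp]
      · have := hF hq le_rfl
        rw [← cancel_epi (tr F hq), reassoc_of% tr_comp F h hq, hs2 p hp, reassoc_of% hs2 q hq, tr_comp]
  refine ⟨ObjectProperty.homMk
    { app := fun q => s q.unop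
      naturality := fun p q f => hs q.unop p.unop (leOfHom f.unop) }, fun q hq => hs1 q hq⟩

/-- maps out of the middle term vanishing on the kernel of `h` extend to injectives -/
lemma exists_extension {B C J : A} [Injective J] (h : B ⟶ C) (k : B ⟶ J)
    (hk : ∀ ⦃T : A⦄ (x : T ⟶ B), x ≫ h = 0 → x ≫ k = 0) : ∃ l : C ⟶ J, h ≫ l = k := by
  have hex : (ShortComplex.mk (kernel.ι h) h (kernel.condition h)).Exact :=
    ShortComplex.exact_of_f_is_kernel _ (kernelIsKernel h)
  exact ⟨hex.descToInjective k (hk _ (kernel.condition h)), hex.comp_descToInjective _ _⟩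

lemma injective_lev {I : FilD.FilF A} (hI : FilD.IsFilteredInjective I) (p : ℤ) : Injective (lev I p) := by
  obtain ⟨b, hb⟩ := exists_isZero I
  refine desc_induction (b := b) (P := fun p => Injective (lev I p)) ?_ ?_ p
  · intro p hp
    exact (hb p hp).injective
  · intro p ih
    have h1 : Injective (grS I p).X₁ := ih
    have h3 : Injective (grS I p).X₃ := hI p
    let sp := (grS_shortExact I p).splittingOfInjective
    have := Injective.of_iso (sp.isoBinaryBiproduct).symm (inferInstance : Injective ((grS I p).X₁ ⊞ (grS I p).X₃))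
    exact this

/-- **Filtered injectives are injective with respect to gr-exact sequences.** -/
theorem exists_desc (S : ShortComplex (FilD.FilF A)) (hS : ∀ p : ℤ, (S.map (FilD.grF A p)).Exact)
    {I : FilD.FilF A} (hI : FilD.IsFilteredInjective I) (ψ : S.X₂ ⟶ I) (hψ : S.f ≫ ψ = 0) :
    ∃ h : S.X₃ ⟶ I, S.g ≫ h = ψ := by
  obtain ⟨b, hb⟩ := exists_isZero S.X₂
  obtain ⟨a₂, ha₂⟩ := exists_stable S.X₂
  obtain ⟨a₃, ha₃⟩ := exists_stable S.X₃
  have key : ∀ p : ℤ, ∃ r : ∀ q : ℤ, lev S.X₃ q ⟶ lev I q,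
      (∀ q : ℤ, p ≤ q → lmap S.g q ≫ r q = lmap ψ q) ∧
      (∀ q : ℤ, p ≤ q → tr S.X₃ (Int.le_add_one le_rfl : q ≤ q + 1) ≫ r q =
        r (q + 1) ≫ tr I (Int.le_add_one le_rfl : q ≤ q + 1)) := by
    intro p
    refine desc_induction (b := b) (P := fun p => ∃ r : ∀ q : ℤ, lev S.X₃ q ⟶ lev I q,
      (∀ q : ℤ, p ≤ q → lmap S.g q ≫ r q = lmap ψ q) ∧
      (∀ q : ℤ, p ≤ q → tr S.X₃ (Int.le_add_one le_rfl : q ≤ q + 1) ≫ r q =
        r (q + 1) ≫ tr I (Int.le_add_one le_rfl : q ≤ q + 1))) ?_ ?_ p
    · intro p hp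
      exact ⟨fun _ => 0, fun q hq => (hb q (hp.trans hq)).eq_of_src _ _, fun q hq => by simp⟩
    · rintro p ⟨r, hr1, hr2⟩
      have hinj : Injective (lev I p) := injective_lev hI p
      obtain ⟨l, hl⟩ := exists_extension
        (biprod.desc (tr S.X₃ (Int.le_add_one le_rfl : p ≤ p + 1)) (lmap S.g p))
        (biprod.desc (r (p + 1) ≫ tr I (Int.le_add_one le_rfl : p ≤ p + 1)) (lmap ψ p)) (by
          intro T x hx
          have hx' : (x ≫ biprod.fst) ≫ tr S.X₃ (Int.le_add_one le_rfl : p ≤ p + 1) +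
              (x ≫ biprod.snd) ≫ lmap S.g p = 0 := by
            rw [biprod.desc_eq, Preadditive.comp_add] at hx
            simpa using hx
          suffices h : (x ≫ biprod.fst) ≫ r (p + 1) ≫ tr I (Int.le_add_one le_rfl : p ≤ p + 1) +
              (x ≫ biprod.snd) ≫ lmap ψ p = 0 by
            rw [biprod.desc_eq, Preadditive.comp_add]
            simpa using h
          generalize x ≫ biprod.fst = z at hx' ⊢
          generalize x ≫ biprod.snd = y at hx' ⊢
          have hx2 : y ≫ lmap S.g p = (-z) ≫ tr S.X₃ (Int.le_add_one le_rfl : p ≤ p + 1) := by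
            rw [Preadditive.neg_comp]
            exact eq_neg_of_add_eq_zero_right hx'
          obtain ⟨T₁, π₁, hπ₁, y', hy'⟩ := exists_lift_of_isStrict (isStrict_g_of_exact S hS) _ y (-z) hx2
          obtain ⟨T₂, π₂, hπ₂, w, hw⟩ := exists_lift_of_exact S hS p
            (π₁ ≫ y - y' ≫ tr S.X₂ (Int.le_add_one le_rfl : p ≤ p + 1)) (by
              rw [Preadditive.sub_comp, Category.assoc, Category.assoc, lmap_tr, hx2, reassoc_of% hy', sub_self])
          have h1 : π₂ ≫ π₁ ≫ y ≫ lmap ψ p =
              π₂ ≫ y' ≫ lmap ψ (p + 1) ≫ tr I (Int.le_add_one le_rfl : p ≤ p + 1) := by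
            have := hw =≫ lmap ψ p
            rw [Category.assoc w, ← lmap_comp, hψ, lmap_zero, comp_zero, Category.assoc, Preadditive.sub_comp,
              Preadditive.comp_sub, sub_eq_zero] at this
            simpa only [Category.assoc, lmap_tr] using this
          have h2 : π₂ ≫ π₁ ≫ z ≫ r (p + 1) ≫ tr I (Int.le_add_one le_rfl : p ≤ p + 1) =
              -(π₂ ≫ y' ≫ lmap ψ (p + 1) ≫ tr I (Int.le_add_one le_rfl : p ≤ p + 1)) := by
            rw [← hr1 (p + 1) le_rfl]
            have : π₁ ≫ z = -(y' ≫ lmap S.g (p + 1)) := by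
              rw [← hy']; simp
            rw [reassoc_of% this]
            simp
          rw [← cancel_epi π₁, ← cancel_epi π₂, Preadditive.comp_add, Preadditive.comp_add, h1, h2]
          simp)
      have hl1 : tr S.X₃ (Int.le_add_one le_rfl : p ≤ p + 1) ≫ l =
          r (p + 1) ≫ tr I (Int.le_add_one le_rfl : p ≤ p + 1) := by
        have := biprod.inl ≫= hl
        simpa using this
      have hl2 : lmap S.g p ≫ l = lmap ψ p := by
        have := biprod.inr ≫= hl
        simpa using this
      refine ⟨Function.update r p l, ?_, ?_⟩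
      · intro q hq
        rcases eq_or_lt_of_le hq with rfl | hq
        · rw [Function.update_self]; exact hl2
        · rw [Function.update_of_ne (by omega)]
          exact hr1 q (by omega)
      · intro q hq
        rcases eq_or_lt_of_le hq with rfl | hq
        · rw [Function.update_self, Function.update_of_ne (by omega)]
          exact hl1
        · rw [Function.update_of_ne (by omega), Function.update_of_ne (by omega)]
          exact hr2 q (by omega)
  obtain ⟨r, hr1, hr2⟩ := key (min a₂ a₃)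
  obtain ⟨φ, hφ⟩ := exists_hom_of_family (ha₃.mono (min_le_right a₂ a₃)) r hr2
  refine ⟨φ, hom_ext_at (ha₂.mono (min_le_left a₂ a₃)) ?_⟩
  rw [lmap_comp, hφ _ le_rfl, hr1 _ le_rfl]

end

end Groth.Agent.Dcoh.Fil
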