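import Groth.Agent.Dcoh.FilLift

/-!
# The filtered horseshoe lemma
-/

set_option autoImplicit false
set_option linter.unusedSectionVars false

universe v u

open CategoryTheory CategoryTheory.Limits Opposite

namespace Groth.Agent.Dcoh.Fil

noncomputable section

variable {A : Type u} [Category.{v} A] [Abelian A]

section ShortExact

variable (S : ShortComplex (FilD.FilF A)) (hS : ∀ p : ℤ, (levS S p).ShortExact)

include hS

lemma isStrict_f_of_lev : FilD.IsStrict S.f := by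
  rw [isStrict_iff]
  intro p q h T x y hxy
  have hm : Mono (levS S q).f := (hS q).mono_f
  obtain ⟨T', π, hπ, x', hx'⟩ := (hS q).exact.exact_up_to_refinements (A := T) y (by
    change y ≫ lmap S.g q = 0
    rw [← cancel_mono (tr S.X₃ h), Category.assoc, ← lmap_tr, ← reassoc_of% hxy, ← lmap_comp, S.zero,
      lmap_zero]
    simp)
  exact ⟨T', π, hπ, x', hx'⟩

lemma mono_gr_f_of_lev (p : ℤ) : Mono ((FilD.grF A p).map S.f) :=
  mono_gr_of_isStrict _ (isStrict_f_of_lev S hS) (fun p => (hS p).mono_f) p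

lemma epi_gr_g_of_lev (p : ℤ) : Epi ((FilD.grF A p).map S.g) :=
  epi_gr_of_lmap _ _ (hS p).epi_g

lemma gr_exact_of_lev (p : ℤ) : (S.map (FilD.grF A p)).Exact := by
  rw [ShortComplex.exact_iff_exact_up_to_refinements]
  intro T ξ hξ
  change T ⟶ (FilD.grF A p).obj S.X₂ at ξ
  change ξ ≫ (FilD.grF A p).map S.g = 0 at hξ
  obtain ⟨T₁, π₁, hπ₁, y, hy⟩ := surjective_up_to_refinements_of_epi (grπ S.X₂ p) ξ
  obtain ⟨z, hz⟩ := exists_lift_of_grπ (F := S.X₃) (y ≫ lmap S.g p) (by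
    rw [Category.assoc, ← grπ_naturality, ← reassoc_of% hy, hξ, comp_zero])
  have he : Epi (lmap S.g (p + 1)) := (hS (p + 1)).epi_g
  obtain ⟨T₂, π₂, hπ₂, y', hy'⟩ := surjective_up_to_refinements_of_epi (lmap S.g (p + 1)) z
  obtain ⟨T₃, π₃, hπ₃, x, hx⟩ := (hS p).exact.exact_up_to_refinements (A := T₂)
    (π₂ ≫ y - y' ≫ tr S.X₂ (Int.le_add_one le_rfl)) (by
      change (π₂ ≫ y - y' ≫ tr S.X₂ (Int.le_add_one le_rfl)) ≫ lmap S.g p = 0
      rw [Preadditive.sub_comp, Category.assoc, Category.assoc, lmap_tr, ← reassoc_of% hy', hz, sub_self])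
  change T₃ ⟶ lev S.X₁ p at x
  change π₃ ≫ (π₂ ≫ y - y' ≫ tr S.X₂ (Int.le_add_one le_rfl)) = x ≫ lmap S.f p at hx
  have key : (π₃ ≫ π₂ ≫ π₁) ≫ ξ = (x ≫ grπ S.X₁ p) ≫ (FilD.grF A p).map S.f := by
    rw [Category.assoc x, grπ_naturality, ← reassoc_of% hx, Preadditive.sub_comp, Category.assoc y',
      tr_grπ, comp_zero, sub_zero, Category.assoc, Category.assoc, Category.assoc, hy]
  exact ⟨T₃, π₃ ≫ π₂ ≫ π₁, inferInstance, x ≫ grπ S.X₁ p, key⟩

lemma epi_g_of_lev : Epi S.g where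
  left_cancellation := fun u v huv => by
    apply hom_ext_lmap
    intro p
    have : Epi (lmap S.g p) := (hS p).epi_g
    rw [← cancel_epi (lmap S.g p), ← lmap_comp, ← lmap_comp, huv]

end ShortExact

section Extension

variable (I J : CochainComplex (FilD.FilF A) ℤ) (t : ∀ n : ℤ, J.X n ⟶ I.X (n + 1))
  (ht : ∀ n : ℤ, t n ≫ I.d (n + 1) (n + 1 + 1) + J.d n (n + 1) ≫ t (n + 1) = 0)

include ht in
lemma extD_comp (n : ℤ) :
    biprod.lift (biprod.desc (I.d n (n + 1)) (t n)) (biprod.snd ≫ J.d n (n + 1)) ≫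
      biprod.lift (biprod.desc (I.d (n + 1) (n + 1 + 1)) (t (n + 1))) (biprod.snd ≫ J.d (n + 1) (n + 1 + 1)) = 0 := by
  apply biprod.hom_ext
  · apply biprod.hom_ext'
    · simp [biprod.lift_desc]
    · simp [biprod.lift_desc, ht]
  · simp

/-- the extension of `J` by `I` defined by the family `t` -/
def extCx : CochainComplex (FilD.FilF A) ℤ :=
  CochainComplex.of (fun n => I.X n ⊞ J.X n)
    (fun n => biprod.lift (biprod.desc (I.d n (n + 1)) (t n)) (biprod.snd ≫ J.d n (n + 1)))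
    (extD_comp I J t ht)

/-- components -/
def einl (n : ℤ) : I.X n ⟶ (extCx I J t ht).X n := (biprod.inl : I.X n ⟶ I.X n ⊞ J.X n)
/-- components -/
def einr (n : ℤ) : J.X n ⟶ (extCx I J t ht).X n := (biprod.inr : J.X n ⟶ I.X n ⊞ J.X n)
/-- components -/
def efst (n : ℤ) : (extCx I J t ht).X n ⟶ I.X n := (biprod.fst : I.X n ⊞ J.X n ⟶ I.X n)
/-- components -/
def esnd (n : ℤ) : (extCx I J t ht).X n ⟶ J.X n := (biprod.snd : I.X n ⊞ J.X n ⟶ J.X n)
/-- components -/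
def elift {T : FilD.FilF A} {n : ℤ} (x : T ⟶ I.X n) (y : T ⟶ J.X n) : T ⟶ (extCx I J t ht).X n :=
  (biprod.lift x y : T ⟶ I.X n ⊞ J.X n)

@[reassoc (attr := simp)]
lemma einl_efst (n : ℤ) : einl I J t ht n ≫ efst I J t ht n = 𝟙 _ := biprod.inl_fst
@[reassoc (attr := simp)]
lemma einl_esnd (n : ℤ) : einl I J t ht n ≫ esnd I J t ht n = 0 := biprod.inl_snd
@[reassoc (attr := simp)]
lemma einr_efst (n : ℤ) : einr I J t ht n ≫ efst I J t ht n = 0 := biprod.inr_fst
@[reassoc (attr := simp)]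
lemma einr_esnd (n : ℤ) : einr I J t ht n ≫ esnd I J t ht n = 𝟙 _ := biprod.inr_snd
@[reassoc (attr := simp)]
lemma elift_efst {T : FilD.FilF A} {n : ℤ} (x : T ⟶ I.X n) (y : T ⟶ J.X n) :
    elift I J t ht x y ≫ efst I J t ht n = x := biprod.lift_fst x y
@[reassoc (attr := simp)]
lemma elift_esnd {T : FilD.FilF A} {n : ℤ} (x : T ⟶ I.X n) (y : T ⟶ J.X n) :
    elift I J t ht x y ≫ esnd I J t ht n = y := biprod.lift_snd x y
lemma etotal (n : ℤ) : efst I J t ht n ≫ einl I J t ht n + esnd I J t ht n ≫ einr I J t ht n = 𝟙 _ :=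
  biprod.total

lemma e_hom_ext {T : FilD.FilF A} {n : ℤ} {x y : T ⟶ (extCx I J t ht).X n}
    (h1 : x ≫ efst I J t ht n = y ≫ efst I J t ht n) (h2 : x ≫ esnd I J t ht n = y ≫ esnd I J t ht n) : x = y :=
  biprod.hom_ext x y h1 h2

lemma extCx_d (n : ℤ) : (extCx I J t ht).d n (n + 1) =
    (biprod.lift (biprod.desc (I.d n (n + 1)) (t n)) (biprod.snd ≫ J.d n (n + 1)) :
      (I.X n ⊞ J.X n) ⟶ (I.X (n + 1) ⊞ J.X (n + 1))) := by
  exact CochainComplex.of_d (fun n => I.X n ⊞ J.X n)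
    (fun n => biprod.lift (biprod.desc (I.d n (n + 1)) (t n)) (biprod.snd ≫ J.d n (n + 1))) n

@[reassoc]
lemma ed_efst (n : ℤ) : (extCx I J t ht).d n (n + 1) ≫ efst I J t ht (n + 1) =
    efst I J t ht n ≫ I.d n (n + 1) + esnd I J t ht n ≫ t n := by
  rw [extCx_d]
  refine (biprod.lift_fst _ _).trans ?_
  exact biprod.desc_eq

@[reassoc]
lemma ed_esnd (n : ℤ) : (extCx I J t ht).d n (n + 1) ≫ esnd I J t ht (n + 1) =
    esnd I J t ht n ≫ J.d n (n + 1) := by
  rw [extCx_d]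
  exact biprod.lift_snd _ _

/-- inclusion -/
def extInl : I ⟶ extCx I J t ht where
  f n := einl I J t ht n
  comm' := by
    rintro i _ rfl
    apply e_hom_ext
    · simp [ed_efst]
    · simp [ed_esnd]

/-- projection -/
def extSnd : extCx I J t ht ⟶ J where
  f n := esnd I J t ht n
  comm' := by
    rintro i _ rfl
    exact (ed_esnd I J t ht i).symm

end Extension

end

end Groth.Agent.Dcoh.Fil
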