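import Groth.Agent.Dcoh.FilLift

/-!
# Twisting cocycles for the filtered horseshoe lemma
-/

set_option autoImplicit false
set_option linter.unusedSectionVars false

universe v u

open CategoryTheory CategoryTheory.Limits Opposite

namespace Groth.Agent.Dcoh.Fil

noncomputable section

variable {A : Type u} [Category.{v} A] [Abelian A]

local notation "sg" => HomologicalComplex.single (FilD.FilF A) (ComplexShape.up ℤ) 0

theorem exists_twist (Z : FilD.FilF A)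
    (I : CochainComplex (FilD.FilF A) ℤ) [I.IsStrictlyGE 0] (hI : ∀ n, FilD.IsFilteredInjective (I.X n))
    (J : CochainComplex (FilD.FilF A) ℤ)
    (c : (sg).obj Z ⟶ J) (hc : FilD.IsFilteredQuasiIso c)
    (μ : Z ⟶ I.X (0 + 1)) (hμd : μ ≫ I.d (0 + 1) (0 + 1 + 1) = 0) :
    ∃ (t : ∀ n : ℤ, J.X n ⟶ I.X (n + 1)) (w : Z ⟶ I.X 0),
      (∀ n : ℤ, t n ≫ I.d (n + 1) (n + 1 + 1) + J.d n (n + 1) ≫ t (n + 1) = 0) ∧
      ((HomologicalComplex.singleObjXSelf (ComplexShape.up ℤ) 0 Z).inv ≫ c.f 0) ≫ t 0 =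
        -(w ≫ I.d 0 (0 + 1)) - μ := by
  have hm0 : (-μ : Z ⟶ I.X (0 + 1)) ≫ ((1 : ℤ).negOnePow • I.d (0 + 1) (0 + 1 + 1)) = 0 := by
    rw [Linear.comp_units_smul, Preadditive.neg_comp, hμd]
    simp
  let m : (sg).obj Z ⟶ I⟦(1 : ℤ)⟧ := HomologicalComplex.mkHomFromSingle (-μ : Z ⟶ I.X (0 + 1)) (by
    rintro _ rfl
    rw [CochainComplex.shiftFunctor_obj_d']
    exact hm0)
  have hm : (HomologicalComplex.singleObjXSelf (ComplexShape.up ℤ) 0 Z).inv ≫ m.f 0 = (-μ : Z ⟶ I.X (0 + 1)) := by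
    have : m.f 0 = (HomologicalComplex.singleObjXSelf (ComplexShape.up ℤ) 0 Z).hom ≫ (-μ : Z ⟶ I.X (0 + 1)) :=
      HomologicalComplex.mkHomFromSingle_f _ _
    rw [this]
    exact Iso.inv_hom_id_assoc _ _
  have hI' : ∀ n, FilD.IsFilteredInjective ((I⟦(1 : ℤ)⟧).X n) := fun n => hI (n + 1)
  have : (I⟦(1 : ℤ)⟧).IsStrictlyGE (-1) := CochainComplex.isStrictlyGE_shift I 0 1 (-1) (by simp)
  obtain ⟨τ', hτ'⟩ := (bijective_precomp (I⟦(1 : ℤ)⟧) (-1) hI' c hc).2 ((HomotopyCategory.quotient _ _).map m)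
  obtain ⟨τ, rfl⟩ := (HomotopyCategory.quotient _ _).map_surjective τ'
  dsimp only at hτ'
  rw [← Functor.map_comp] at hτ'
  obtain ⟨w, hw⟩ := exists_of_homotopy_from_single (HomotopyCategory.homotopyOfEq _ _ hτ')
  let t : ∀ n : ℤ, J.X n ⟶ I.X (n + 1) := fun n => τ.f n
  have ht : ∀ n : ℤ, t n ≫ I.d (n + 1) (n + 1 + 1) + J.d n (n + 1) ≫ t (n + 1) = 0 := by
    intro n
    have h1 := τ.comm n (n + 1)
    rw [CochainComplex.shiftFunctor_obj_d'] at h1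
    have h2 : t n ≫ ((1 : ℤ).negOnePow • I.d (n + 1) (n + 1 + 1)) = J.d n (n + 1) ≫ t (n + 1) := h1
    rw [← h2, Linear.comp_units_smul]
    simp
  have key : ∀ (w : Z ⟶ I.X (-1 + 1)) (x : J.X 0 ⟶ I.X (0 + 1))
      (hx : (HomologicalComplex.singleObjXSelf (ComplexShape.up ℤ) 0 Z).inv ≫ c.f 0 ≫ x =
        w ≫ ((1 : ℤ).negOnePow • I.d (-1 + 1) (0 + 1)) + (-μ)),
      ((HomologicalComplex.singleObjXSelf (ComplexShape.up ℤ) 0 Z).inv ≫ c.f 0) ≫ x =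
        -((w ≫ (I.XIsoOfEq (show (-1 : ℤ) + 1 = 0 by simp)).hom) ≫ I.d 0 (0 + 1)) - μ := by
    intro w x hx
    rw [Category.assoc, hx, Linear.comp_units_smul, Category.assoc, HomologicalComplex.XIsoOfEq_hom_comp_d,
      sub_eq_add_neg]
    simp
  refine ⟨t, (w : Z ⟶ I.X (-1 + 1)) ≫ (I.XIsoOfEq (show (-1 : ℤ) + 1 = 0 by simp)).hom, ht,
    key w (τ.f 0) ?_⟩
  rw [CochainComplex.shiftFunctor_obj_d'] at hw
  refine Eq.trans ?_ (hw.trans ?_)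
  · rfl
  · exact congrArg (fun y => (w : Z ⟶ I.X (-1 + 1)) ≫ ((1 : ℤ).negOnePow • I.d (-1 + 1) (0 + 1)) + y) hm

end

end Groth.Agent.Dcoh.Fil
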