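import Groth.Agent.Dcoh.FilHorse
import Groth.Agent.Dcoh.FilTwist

/-!
# The filtered horseshoe lemma (end)
-/

set_option autoImplicit false
set_option linter.unusedSectionVars false

universe v u

open CategoryTheory CategoryTheory.Limits Opposite

namespace Groth.Agent.Dcoh.Fil

noncomputable section

variable {A : Type u} [Category.{v} A] [Abelian A]

local notation "sg" => HomologicalComplex.single (FilD.FilF A) (ComplexShape.up ℤ) 0

theorem exists_horseshoe (S : ShortComplex (FilD.FilF A)) (hS : ∀ p : ℤ, (levS S p).ShortExact)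
    (I : CochainComplex (FilD.FilF A) ℤ) [I.IsStrictlyGE 0] (hI : ∀ n, FilD.IsFilteredInjective (I.X n))
    (a : (sg).obj S.X₁ ⟶ I)
    (J : CochainComplex (FilD.FilF A) ℤ)
    (c : (sg).obj S.X₃ ⟶ J) (hc : FilD.IsFilteredQuasiIso c) :
    ∃ (M : CochainComplex (FilD.FilF A) ℤ) (α : I ⟶ M) (β : M ⟶ J) (b : (sg).obj S.X₂ ⟶ M),
      (∀ n, ∃ (r : M.X n ⟶ I.X n) (s : J.X n ⟶ M.X n), α.f n ≫ r = 𝟙 _ ∧ s ≫ β.f n = 𝟙 _ ∧ α.f n ≫ β.f n = 0 ∧
        r ≫ α.f n + β.f n ≫ s = 𝟙 _) ∧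
      a ≫ α = (sg).map S.f ≫ b ∧ b ≫ β = (sg).map S.g ≫ c := by
  let s1 := HomologicalComplex.singleObjXSelf (ComplexShape.up ℤ) 0 S.X₁
  let s2 := HomologicalComplex.singleObjXSelf (ComplexShape.up ℤ) 0 S.X₂
  let s3 := HomologicalComplex.singleObjXSelf (ComplexShape.up ℤ) 0 S.X₃
  let a₀ : S.X₁ ⟶ I.X 0 := s1.inv ≫ a.f 0
  let c₀ : S.X₃ ⟶ J.X 0 := s3.inv ≫ c.f 0
  have ha₀ : a₀ ≫ I.d 0 (0 + 1) = 0 := by
    simp [a₀]
  have hc₀ : c₀ ≫ J.d 0 (0 + 1) = 0 := by
    simp [c₀]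
  have hg : Epi S.g := epi_g_of_lev S hS
  obtain ⟨lam, hlam⟩ := exists_extension_of_mono_gr S.f (mono_gr_f_of_lev S hS) (hI 0) a₀
  obtain ⟨μ, hμ⟩ := exists_desc S (gr_exact_of_lev S hS) (hI (0 + 1)) (lam ≫ I.d 0 (0 + 1)) (by
    rw [reassoc_of% hlam, ha₀])
  have hμd : μ ≫ I.d (0 + 1) (0 + 1 + 1) = 0 := by
    rw [← cancel_epi S.g, reassoc_of% hμ, I.d_comp_d]
    simp
  obtain ⟨t, w', ht, hw⟩ := exists_twist S.X₃ I hI J c hc μ hμd
  change c₀ ≫ t 0 = _ at hw
  let b₀ : S.X₂ ⟶ (extCx I J t ht).X 0 := elift I J t ht (lam + S.g ≫ w') (S.g ≫ c₀)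
  have hb₀ : b₀ ≫ (extCx I J t ht).d 0 (0 + 1) = 0 := by
    apply e_hom_ext
    · rw [Category.assoc, ed_efst, Preadditive.comp_add, elift_efst_assoc, elift_esnd_assoc,
        Preadditive.add_comp, ← hμ, Category.assoc, Category.assoc, hw]
      simp only [Preadditive.comp_sub, Preadditive.comp_neg, zero_comp]
      abel
    · rw [Category.assoc, ed_esnd, elift_esnd_assoc, Category.assoc, hc₀]
      simp
  let b : (sg).obj S.X₂ ⟶ extCx I J t ht := HomologicalComplex.mkHomFromSingle b₀ (by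
    rintro _ rfl
    exact hb₀)
  refine ⟨extCx I J t ht, extInl I J t ht, extSnd I J t ht, b, ?_, ?_, ?_⟩
  · intro n
    exact ⟨efst I J t ht n, einr I J t ht n, einl_efst I J t ht n, einr_esnd I J t ht n,
      einl_esnd I J t ht n, etotal I J t ht n⟩
  · apply HomologicalComplex.from_single_hom_ext
    have hb : b.f 0 = s2.hom ≫ b₀ := HomologicalComplex.mkHomFromSingle_f _ _
    rw [HomologicalComplex.comp_f, HomologicalComplex.comp_f, hb, HomologicalComplex.single_map_f_self]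
    change a.f 0 ≫ einl I J t ht 0 = _
    apply e_hom_ext
    · simp only [Category.assoc, einl_efst, Category.comp_id, s2, Iso.inv_hom_id_assoc, b₀, elift_efst]
      rw [Preadditive.comp_add, hlam, ← Category.assoc S.f, S.zero]
      simp [a₀, s1]
    · simp only [Category.assoc, einl_esnd, comp_zero, s2, Iso.inv_hom_id_assoc, b₀, elift_esnd]
      rw [← Category.assoc S.f, S.zero]
      simp
  · apply HomologicalComplex.from_single_hom_ext
    have hb : b.f 0 = s2.hom ≫ b₀ := HomologicalComplex.mkHomFromSingle_f _ _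
    rw [HomologicalComplex.comp_f, HomologicalComplex.comp_f, hb, HomologicalComplex.single_map_f_self]
    change (s2.hom ≫ b₀) ≫ esnd I J t ht 0 = _
    simp only [Category.assoc, b₀, elift_esnd, c₀, s2, s3]

end

end Groth.Agent.Dcoh.Fil
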