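import Groth.Agent.Dcoh.FilKInj
import Mathlib.Algebra.Homology.HomotopyCategory.Acyclic

/-!
# Filtered acyclic complexes in the homotopy category of finite filtered objects
-/

set_option autoImplicit false
set_option linter.unusedSectionVars false

universe v u

open CategoryTheory CategoryTheory.Limits Opposite CategoryTheory.Pretriangulated

namespace Groth.Agent.Dcoh.Fil

noncomputable section

variable {A : Type u} [Category.{v} A] [Abelian A]

/-- `gr p` on homotopy categories -/
abbrev grH (A : Type u) [Category.{v} A] [Abelian A] (p : ℤ) :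
    HomotopyCategory (FilD.FilF A) (ComplexShape.up ℤ) ⥤ HomotopyCategory A (ComplexShape.up ℤ) :=
  (FilD.grF A p).mapHomotopyCategory (ComplexShape.up ℤ)

/-- objects of the homotopy category with acyclic `gr p` -/
abbrev acyc (A : Type u) [Category.{v} A] [Abelian A] (p : ℤ) :
    ObjectProperty (HomotopyCategory (FilD.FilF A) (ComplexShape.up ℤ)) :=
  (HomotopyCategory.subcategoryAcyclic A).inverseImage (grH A p)

lemma acyc_quotient_iff (p : ℤ) (K : CochainComplex (FilD.FilF A) ℤ) :
    acyc A p ((HomotopyCategory.quotient _ _).obj K) ↔ ∀ n, ((FilD.grCx p).obj K).ExactAt n := by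
  rw [← HomotopyCategory.quotient_obj_mem_subcategoryAcyclic_iff_exactAt]
  exact Iff.rfl

lemma isFilteredAcyclic_iff (K : CochainComplex (FilD.FilF A) ℤ) :
    FilD.IsFilteredAcyclic K ↔ ∀ p, acyc A p ((HomotopyCategory.quotient _ _).obj K) := by
  simp only [acyc_quotient_iff]
  rfl

lemma acyc_trW_iff (p : ℤ) {K L : CochainComplex (FilD.FilF A) ℤ} (α : K ⟶ L) :
    (acyc A p).trW ((HomotopyCategory.quotient _ _).map α) ↔ QuasiIso ((FilD.grCx p).map α) := by
  rw [ObjectProperty.inverseImage_trW_iff, ← HomotopyCategory.quasiIso_eq_trW_subcategoryAcyclic,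
    ← HomologicalComplex.mem_quasiIso_iff, ← HomotopyCategory.quotient_map_mem_quasiIso_iff]
  exact Iff.rfl

lemma hom_eq_zero_of_acyc {I : CochainComplex (FilD.FilF A) ℤ} (a : ℤ) [I.IsStrictlyGE a]
    (hI : ∀ n, FilD.IsFilteredInjective (I.X n))
    (D : HomotopyCategory (FilD.FilF A) (ComplexShape.up ℤ)) (hD : ∀ p, acyc A p D)
    (f : D ⟶ (HomotopyCategory.quotient _ _).obj I) : f = 0 := by
  obtain ⟨K, rfl⟩ := HomotopyCategory.quotient_obj_surjective D
  obtain ⟨g, rfl⟩ := (HomotopyCategory.quotient _ _).map_surjective f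
  obtain ⟨h⟩ := nonempty_homotopy_zero a hI g ((isFilteredAcyclic_iff K).2 hD)
  rw [HomotopyCategory.eq_of_homotopy _ _ h, Functor.map_zero]

theorem bijective_precomp (I : CochainComplex (FilD.FilF A) ℤ)
    (a : ℤ) [I.IsStrictlyGE a] (hI : ∀ n, FilD.IsFilteredInjective (I.X n))
    {K L : CochainComplex (FilD.FilF A) ℤ} (α : K ⟶ L) (hα : FilD.IsFilteredQuasiIso α) :
    Function.Bijective (fun β : (HomotopyCategory.quotient (FilD.FilF A) (ComplexShape.up ℤ)).obj L ⟶
        (HomotopyCategory.quotient (FilD.FilF A) (ComplexShape.up ℤ)).obj I =>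
      (HomotopyCategory.quotient (FilD.FilF A) (ComplexShape.up ℤ)).map α ≫ β) := by
  obtain ⟨C, g, h, hT⟩ := distinguished_cocone_triangle
    ((HomotopyCategory.quotient (FilD.FilF A) (ComplexShape.up ℤ)).map α)
  have hC : ∀ p, acyc A p C := fun p =>
    ((acyc A p).trW_iff_of_distinguished _ hT).1 ((acyc_trW_iff p α).2 (hα p))
  constructor
  · suffices ∀ β : (HomotopyCategory.quotient (FilD.FilF A) (ComplexShape.up ℤ)).obj L ⟶
        (HomotopyCategory.quotient (FilD.FilF A) (ComplexShape.up ℤ)).obj I,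
        (HomotopyCategory.quotient (FilD.FilF A) (ComplexShape.up ℤ)).map α ≫ β = 0 → β = 0 from
      fun β₁ β₂ hβ => by
        have hβ' : (HomotopyCategory.quotient (FilD.FilF A) (ComplexShape.up ℤ)).map α ≫ β₁ =
          (HomotopyCategory.quotient (FilD.FilF A) (ComplexShape.up ℤ)).map α ≫ β₂ := hβ
        rw [← sub_eq_zero]
        exact this _ (by rw [Preadditive.comp_sub, hβ', sub_self])
    intro β hβ
    obtain ⟨γ, hγ⟩ := Triangle.yoneda_exact₂ _ hT β hβ
    have h0 : γ = 0 := hom_eq_zero_of_acyc a hI C hC γ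
    rw [hγ, h0]
    exact comp_zero
  · intro β
    obtain ⟨γ, hγ⟩ := Triangle.yoneda_exact₂ _ (inv_rot_of_distTriang _ hT) β
      (hom_eq_zero_of_acyc a hI _ (fun p => (acyc A p).le_shift _ _ (hC p)) _)
    exact ⟨γ, hγ.symm⟩

end

end Groth.Agent.Dcoh.Fil
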