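import Groth.Agent.Dcoh.FilMono
import Mathlib.Algebra.Homology.HomotopyCategory.HomComplexInduction
import Mathlib.Algebra.Homology.Embedding.CochainComplex

/-!
# Maps from filtered acyclic complexes to bounded below complexes of filtered injectives
-/

set_option autoImplicit false
set_option linter.unusedSectionVars false

universe v u

open CategoryTheory CategoryTheory.Limits Opposite CochainComplex CochainComplex.HomComplex Preadditive

namespace Groth.Agent.Dcoh.Fil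

noncomputable section

variable {A : Type u} [Category.{v} A] [Abelian A]

lemma exists_desc_of_acyclic {K : CochainComplex (FilD.FilF A) ℤ} {n₀ n₁ n₂ : ℤ} (h₀ : n₀ + 1 = n₁) (h₁ : n₁ + 1 = n₂)
    (hK : ∀ p : ℤ, ((FilD.grCx p).obj K).ExactAt n₁) {I : FilD.FilF A} (hI : FilD.IsFilteredInjective I)
    (u : K.X n₁ ⟶ I) (hu : K.d n₀ n₁ ≫ u = 0) : ∃ β : K.X n₂ ⟶ I, K.d n₁ n₂ ≫ β = u := by
  refine exists_desc (ShortComplex.mk (K.d n₀ n₁) (K.d n₁ n₂) (K.d_comp_d _ _ _)) (fun p => ?_) hI u hu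
  have := hK p
  rw [HomologicalComplex.exactAt_iff' _ n₀ n₁ n₂ (by simp; omega) (by simp; omega)] at this
  exact this

lemma homotopy_aux {K L : CochainComplex (FilD.FilF A) ℤ}
    (f : K ⟶ L) (α : Cochain K L (-1)) (n m : ℤ) (hnm : n + 1 = m)
    (hK : ∀ p : ℤ, ((FilD.grCx p).obj K).ExactAt m) (hL : FilD.IsFilteredInjective (L.X m))
    (hα : (δ (-1) 0 α).EqUpTo (Cochain.ofHom f) n) :
    ∃ (h : K.X (n + 2) ⟶ L.X (n + 1)),
      (δ (-1) 0 (α + Cochain.single h (-1))).EqUpTo (Cochain.ofHom f) m := by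
  subst hnm
  let u := f.f (n + 1) - α.v (n + 1) n (by lia) ≫ L.d n (n + 1) -
    K.d (n + 1) (n + 2) ≫ α.v (n + 2) (n + 1) (by lia)
  have hu : K.d n (n + 1) ≫ u = 0 := by
    have eq := hα n n (add_zero n) (by rfl)
    simp only [δ_v (-1) 0 (neg_add_cancel 1) α n n (add_zero _) (n - 1) (n + 1)
      (by lia) (by lia), Int.negOnePow_zero, one_smul, Cochain.ofHom_v] at eq
    simp only [u, comp_sub, HomologicalComplex.d_comp_d_assoc, zero_comp,
      ← f.comm, ← eq, add_comp, Category.assoc, L.d_comp_d, comp_zero, zero_add, sub_self]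
  obtain ⟨β, hβ⟩ : ∃ (β : K.X (n + 2) ⟶ L.X (n + 1)), K.d (n + 1) (n + 2) ≫ β = u :=
    exists_desc_of_acyclic rfl (by ring) hK hL u hu
  refine ⟨β, ?_⟩
  intro p q hpq hp
  obtain rfl : p = q := by lia
  obtain hp | rfl := hp.lt_or_eq
  · rw [δ_add, Cochain.add_v, hα p p (by lia) (by lia), add_eq_left,
      δ_v (-1) 0 (neg_add_cancel 1) _ p p hpq (p - 1) (p + 1) rfl rfl,
      Cochain.single_v_eq_zero _ _ _ _ _ (by lia),
      Cochain.single_v_eq_zero _ _ _ _ _ (by lia)]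
    simp
  · rw [δ_v (-1) 0 (neg_add_cancel 1) _ (n + 1) (n + 1) (by lia) n (n + 2)
      (by lia) (by lia), Cochain.add_v,
      Cochain.single_v_eq_zero _ _ _ _ _ (by lia)]
    simp [hβ, u]

open Cochain.InductionUp in
theorem nonempty_homotopy_zero {K L : CochainComplex (FilD.FilF A) ℤ} (d : ℤ)
    [L.IsStrictlyGE d] (hL : ∀ n : ℤ, FilD.IsFilteredInjective (L.X n)) (f : K ⟶ L)
    (hK : FilD.IsFilteredAcyclic K) : Nonempty (Homotopy f 0) := by
  let X (n : ℕ) : Set (Cochain K L (-1)) :=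
    Set.ofPred (fun α => (δ (-1) 0 α).EqUpTo (Cochain.ofHom f) (n + d - 1))
  let x₀ : X 0 := ⟨0, fun p q hpq hp ↦
    IsZero.eq_of_tgt (L.isZero_of_isStrictlyGE d _ (by lia)) _ _⟩
  let φ (n : ℕ) (α : X n) : X (n + 1) :=
    ⟨_, (homotopy_aux f α.1 (n + d - 1) ((n + 1 : ℕ) + d - 1)
      (by lia) (fun p => hK p _) (hL _) α.2).choose_spec⟩
  have hφ (k : ℕ) (x : X k) : (φ k x).1.EqUpTo x.1 (d + k) := fun p q hpq hp => by
    dsimp [φ]
    rw [add_eq_left, Cochain.single_v_eq_zero _ _ _ _ _ (by lia)]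
  refine ⟨(Cochain.equivHomotopy f 0).symm ⟨limitSequence φ hφ x₀, ?_⟩⟩
  rw [Cochain.ofHom_zero, add_zero]
  ext n
  let k₀ := (n - d + 1).toNat
  rw [← (sequence φ x₀ k₀).2 n n (add_zero n) (by lia),
    δ_v (-1) 0 (neg_add_cancel 1) _ n n (by lia) (n - 1) (n + 1) rfl (by lia),
    δ_v (-1) 0 (neg_add_cancel 1) _ n n (by lia) (n - 1) (n + 1) rfl (by lia),
    limitSequence_eqUpTo φ hφ x₀ k₀ n (n - 1) (by lia) (by lia),
    limitSequence_eqUpTo φ hφ x₀ k₀ (n + 1) n (by lia) (by lia)]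

end

end Groth.Agent.Dcoh.Fil
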