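import Groth.Agent.Dcoh.FilHtpy

/-!
# Lifting morphisms to filtered injective resolutions
-/

set_option autoImplicit false
set_option linter.unusedSectionVars false

universe v u

open CategoryTheory CategoryTheory.Limits Opposite

namespace Groth.Agent.Dcoh.Fil

noncomputable section

variable {A : Type u} [Category.{v} A] [Abelian A]

/-- homotopic maps out of `X[0]` differ by a map factoring through the differential in degree `-1` -/
lemma exists_of_homotopy_from_single {X : FilD.FilF A} {J : CochainComplex (FilD.FilF A) ℤ}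
    {u v : (HomologicalComplex.single (FilD.FilF A) (ComplexShape.up ℤ) 0).obj X ⟶ J} (h : Homotopy u v) :
    ∃ w : X ⟶ J.X (-1), (HomologicalComplex.singleObjXSelf (ComplexShape.up ℤ) 0 X).inv ≫ u.f 0 =
      w ≫ J.d (-1) 0 + (HomologicalComplex.singleObjXSelf (ComplexShape.up ℤ) 0 X).inv ≫ v.f 0 := by
  refine ⟨(HomologicalComplex.singleObjXSelf (ComplexShape.up ℤ) 0 X).inv ≫ h.hom 0 (-1), ?_⟩
  rw [h.comm 0, Category.assoc, Preadditive.comp_add, Preadditive.comp_add]
  have h1 : (dNext 0) h.hom = 0 := by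
    rw [dNext_eq h.hom (show (ComplexShape.up ℤ).Rel 0 1 by simp)]
    simp
  have h2 : (prevD 0) h.hom = h.hom 0 (-1) ≫ J.d (-1) 0 :=
    prevD_eq h.hom (show (ComplexShape.up ℤ).Rel (-1) 0 by simp)
  rw [h1, h2]
  simp

lemma from_single_eq_of_homotopy {X : FilD.FilF A} {J : CochainComplex (FilD.FilF A) ℤ} [J.IsStrictlyGE 0]
    {u v : (HomologicalComplex.single (FilD.FilF A) (ComplexShape.up ℤ) 0).obj X ⟶ J} (h : Homotopy u v) :
    u = v := by
  obtain ⟨w, hw⟩ := exists_of_homotopy_from_single h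
  have hz : IsZero (J.X (-1)) := J.isZero_of_isStrictlyGE 0 _ (by omega)
  apply HomologicalComplex.from_single_hom_ext
  rw [hz.eq_of_tgt w 0, zero_comp, zero_add] at hw
  rwa [cancel_epi] at hw

/-- Stacks 05TU -/
theorem exists_lift_resolution {X Y : FilD.FilF A} (f : X ⟶ Y)
    (I : CochainComplex (FilD.FilF A) ℤ)
    (a : (HomologicalComplex.single (FilD.FilF A) (ComplexShape.up ℤ) 0).obj X ⟶ I) (ha : FilD.IsFilteredQuasiIso a)
    (J : CochainComplex (FilD.FilF A) ℤ) [J.IsStrictlyGE 0] (hJ : ∀ n, FilD.IsFilteredInjective (J.X n))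
    (b : (HomologicalComplex.single (FilD.FilF A) (ComplexShape.up ℤ) 0).obj Y ⟶ J) :
    ∃ φ : I ⟶ J, a ≫ φ = (HomologicalComplex.single (FilD.FilF A) (ComplexShape.up ℤ) 0).map f ≫ b := by
  obtain ⟨β, hβ⟩ := (bijective_precomp J 0 hJ a ha).2 ((HomotopyCategory.quotient _ _).map
    ((HomologicalComplex.single (FilD.FilF A) (ComplexShape.up ℤ) 0).map f ≫ b))
  obtain ⟨φ, rfl⟩ := (HomotopyCategory.quotient _ _).map_surjective β
  refine ⟨φ, ?_⟩
  dsimp only at hβ
  rw [← Functor.map_comp] at hβ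
  exact from_single_eq_of_homotopy (HomotopyCategory.homotopyOfEq _ _ hβ)

end

end Groth.Agent.Dcoh.Fil
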