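import Groth.Agent.Dcoh.FilExt
import Mathlib.CategoryTheory.ObjectProperty.FiniteProducts
import Mathlib.CategoryTheory.Limits.FullSubcategory
import Mathlib.CategoryTheory.Preadditive.AdditiveFunctor
import Mathlib.CategoryTheory.Limits.Constructions.EpiMono

/-!
# Finite limits and biproducts of finite filtered objects
-/

set_option autoImplicit false
set_option linter.unusedSectionVars false

universe v u

open CategoryTheory CategoryTheory.Limits Opposite

namespace Groth.Agent.Dcoh.Fil

noncomputable section

variable {A : Type u} [Category.{v} A] [Abelian A]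

lemma isFinFil_of_isLimit {J : Type} [SmallCategory J] [FinCategory J] (K : J ⥤ ℤᵒᵖ ⥤ A) (c : Cone K) (hc : IsLimit c)
    (hK : ∀ j, FilD.IsFinFil A (K.obj j)) : FilD.IsFinFil A c.pt := by
  have hev : ∀ p : ℤᵒᵖ, IsLimit (((evaluation ℤᵒᵖ A).obj p).mapCone c) := fun p =>
    isLimitOfPreserves _ hc
  have := Fintype.ofFinite J
  refine ⟨fun p q f => ⟨fun x y hxy => ?_⟩, ?_, ?_⟩
  · apply (hev p).hom_ext
    intro j
    have := (hK j).1 f
    change x ≫ (c.π.app j).app p = y ≫ (c.π.app j).app p
    have hn : c.pt.map f ≫ (c.π.app j).app q = (c.π.app j).app p ≫ (K.obj j).map f := (c.π.app j).naturality f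
    rw [← cancel_mono ((K.obj j).map f), Category.assoc, Category.assoc, ← hn, reassoc_of% hxy]
  · choose b hb using fun j => (hK j).2.1
    obtain ⟨B, hB⟩ := (Finset.univ.image b).exists_le
    refine ⟨B, fun p hp => ?_⟩
    rw [IsZero.iff_id_eq_zero]
    apply (hev (op p)).hom_ext
    intro j
    have : IsZero (((K ⋙ (evaluation ℤᵒᵖ A).obj (op p))).obj j) :=
      hb j p ((hB _ (Finset.mem_image_of_mem _ (Finset.mem_univ j))).trans hp)
    exact this.eq_of_tgt _ _
  · choose a ha using fun j => (hK j).2.2
    obtain ⟨B, hB⟩ := (Finset.univ.image (fun j => - a j)).exists_le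
    refine ⟨-B, fun p q f hp => ?_⟩
    have hiso : ∀ j, IsIso ((K.obj j).map f) := fun j => by
      have := hB _ (Finset.mem_image_of_mem _ (Finset.mem_univ j))
      exact ha j f (by omega)
    let τ : K ⋙ (evaluation ℤᵒᵖ A).obj p ⟶ K ⋙ (evaluation ℤᵒᵖ A).obj q :=
      { app := fun j => (K.obj j).map f
        naturality := fun i j g => ((K.map g).naturality f).symm }
    have : ∀ j, IsIso (τ.app j) := hiso
    have : IsIso τ := NatIso.isIso_of_isIso_app τ
    have e : c.pt.map f = ((hev p).conePointsIsoOfNatIso (hev q) (asIso τ)).hom := by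
      apply (hev q).hom_ext
      intro j
      rw [IsLimit.conePointsIsoOfNatIso_hom, IsLimit.map_π]
      exact (c.π.app j).naturality f
    rw [e]
    infer_instance

instance closedUnderFiniteLimits {J : Type} [SmallCategory J] [FinCategory J] :
    (FilD.IsFinFil A).IsClosedUnderLimitsOfShape J where
  limitsOfShape_le := by
    rintro X ⟨p⟩
    exact isFinFil_of_isLimit p.diag p.cone p.isLimit p.prop_diag_obj

instance hasFiniteLimits : HasFiniteLimits (FilD.FilF A) where
  out _ _ _ := inferInstance

instance : HasFiniteProducts (FilD.FilF A) := inferInstance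

instance hasBinaryBiproducts : HasBinaryBiproducts (FilD.FilF A) :=
  HasBinaryBiproducts.of_hasBinaryProducts

instance hasZeroObject : HasZeroObject (FilD.FilF A) := inferInstance

instance preservesFiniteLimits_ι : PreservesFiniteLimits (FilD.IsFinFil A).ι where
  preservesFiniteLimits _ _ _ := inferInstance

/-- level functor -/
abbrev levF (A : Type u) [Category.{v} A] [Abelian A] (p : ℤ) : FilD.FilF A ⥤ A :=
  (FilD.IsFinFil A).ι ⋙ (evaluation ℤᵒᵖ A).obj (op p)

instance preservesFiniteLimits_levF (p : ℤ) : PreservesFiniteLimits (levF A p) where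
  preservesFiniteLimits _ _ _ := inferInstance

lemma mono_lmap {F G : FilD.FilF A} (φ : F ⟶ G) [Mono φ] (p : ℤ) : Mono (lmap φ p) :=
  inferInstanceAs (Mono ((levF A p).map φ))

lemma mono_of_lmap {F G : FilD.FilF A} (φ : F ⟶ G) (h : ∀ p, Mono (lmap φ p)) : Mono φ where
  right_cancellation := fun x y hxy => by
    apply hom_ext_lmap
    intro p
    have := h p
    rw [← cancel_mono (lmap φ p), ← lmap_comp, ← lmap_comp, hxy]

instance : (levF A 0).Additive := inferInstance

end

end Groth.Agent.Dcoh.Fil
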