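import Groth.Agent.Dcoh.FilLim

/-!
# Strict monomorphisms of finite filtered objects
-/

set_option autoImplicit false
set_option linter.unusedSectionVars false

universe v u

open CategoryTheory CategoryTheory.Limits Opposite ZeroObject

namespace Groth.Agent.Dcoh.Fil

noncomputable section

variable {A : Type u} [Category.{v} A] [Abelian A]

/-- the short complex `0 ⟶ F ⟶ G` -/
abbrev monoS {F G : FilD.FilF A} (φ : F ⟶ G) : ShortComplex (FilD.FilF A) :=
  ShortComplex.mk (0 : (0 : FilD.FilF A) ⟶ F) φ (by simp)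

/-- the short complex `F ⟶ G ⟶ 0` -/
abbrev epiS {F G : FilD.FilF A} (φ : F ⟶ G) : ShortComplex (FilD.FilF A) :=
  ShortComplex.mk φ (0 : G ⟶ (0 : FilD.FilF A)) (by simp)

lemma monoS_map_exact_iff {F G : FilD.FilF A} (φ : F ⟶ G) {B : Type*} [Category B] [Abelian B]
    (L : FilD.FilF A ⥤ B) [L.PreservesZeroMorphisms] : ((monoS φ).map L).Exact ↔ Mono (L.map φ) :=
  ShortComplex.exact_iff_mono _ (L.map_zero _ _)

lemma epiS_map_exact_iff {F G : FilD.FilF A} (φ : F ⟶ G) {B : Type*} [Category B] [Abelian B]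
    (L : FilD.FilF A ⥤ B) [L.PreservesZeroMorphisms] : ((epiS φ).map L).Exact ↔ Epi (L.map φ) :=
  ShortComplex.exact_iff_epi _ (L.map_zero _ _)

lemma mono_gr_of_isStrict {F G : FilD.FilF A} (φ : F ⟶ G) (hφ : FilD.IsStrict φ) (h : ∀ p, Mono (lmap φ p))
    (p : ℤ) : Mono ((FilD.grF A p).map φ) := by
  rw [Preadditive.mono_iff_cancel_zero]
  intro T ξ hξ
  obtain ⟨T₁, π₁, hπ₁, x, hx⟩ := surjective_up_to_refinements_of_epi (grπ F p) ξ
  obtain ⟨y, hy⟩ := exists_lift_of_grπ (F := G) (x ≫ lmap φ p) (by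
    rw [Category.assoc, ← grπ_naturality, ← reassoc_of% hx, hξ, comp_zero])
  obtain ⟨T₂, π₂, hπ₂, x', hx'⟩ := exists_lift_of_isStrict hφ _ x y hy.symm
  have := h p
  have h1 : π₂ ≫ x = x' ≫ tr F (Int.le_add_one le_rfl : p ≤ p + 1) := by
    rw [← cancel_mono (lmap φ p), Category.assoc, Category.assoc, lmap_tr, ← hy, reassoc_of% hx']
  rw [← cancel_epi π₁, ← cancel_epi π₂, hx, reassoc_of% h1, tr_grπ]
  simp

lemma mono_lmap_of_gr {F G : FilD.FilF A} (φ : F ⟶ G) (h : ∀ p, Mono ((FilD.grF A p).map φ)) (p : ℤ) :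
    Mono (lmap φ p) := by
  have := levS_exact (monoS φ) (fun p => (monoS_map_exact_iff φ _).2 (h p)) p
  exact (monoS_map_exact_iff φ (levF A p)).1 this

lemma mono_of_gr {F G : FilD.FilF A} (φ : F ⟶ G) (h : ∀ p, Mono ((FilD.grF A p).map φ)) : Mono φ :=
  mono_of_lmap φ (mono_lmap_of_gr φ h)

lemma isStrict_of_mono_gr {F G : FilD.FilF A} (φ : F ⟶ G) (h : ∀ p, Mono ((FilD.grF A p).map φ)) :
    FilD.IsStrict φ :=
  isStrict_g_of_exact (monoS φ) (fun p => (monoS_map_exact_iff φ _).2 (h p))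

lemma epi_lmap_of_gr {F G : FilD.FilF A} (φ : F ⟶ G) (h : ∀ p, Epi ((FilD.grF A p).map φ)) (p : ℤ) :
    Epi (lmap φ p) := by
  have := levS_exact (epiS φ) (fun p => (epiS_map_exact_iff φ _).2 (h p)) p
  exact (epiS_map_exact_iff φ (levF A p)).1 this

lemma epi_gr_of_lmap {F G : FilD.FilF A} (φ : F ⟶ G) (p : ℤ) (h : Epi (lmap φ p)) :
    Epi ((FilD.grF A p).map φ) := by
  have h1 : Epi (grπ F p ≫ (FilD.grF A p).map φ) := by
    rw [grπ_naturality]; infer_instance
  exact epi_of_epi (grπ F p) _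

lemma isIso_of_isIso_gr {F G : FilD.FilF A} (φ : F ⟶ G) (h : ∀ p, IsIso ((FilD.grF A p).map φ)) : IsIso φ := by
  have h1 : ∀ p, IsIso (lmap φ p) := fun p => by
    have := mono_lmap_of_gr φ (fun p => inferInstance) p
    have := epi_lmap_of_gr φ (fun p => inferInstance) p
    exact isIso_of_mono_of_epi _
  have : ∀ p, IsIso (φ.hom.app p) := fun p => h1 p.unop
  have : IsIso φ.hom := NatIso.isIso_of_isIso_app _
  have : IsIso ((FilD.IsFinFil A).ι.map φ) := this
  exact isIso_of_reflects_iso φ (FilD.IsFinFil A).ι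

/-- extension along gr-monomorphisms -/
lemma exists_extension_of_mono_gr {F G I : FilD.FilF A} (φ : F ⟶ G) (h : ∀ p, Mono ((FilD.grF A p).map φ))
    (hI : FilD.IsFilteredInjective I) (ψ : F ⟶ I) : ∃ χ : G ⟶ I, φ ≫ χ = ψ :=
  exists_desc (monoS φ) (fun p => (monoS_map_exact_iff φ _).2 (h p)) hI ψ (by simp)

end

end Groth.Agent.Dcoh.Fil
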