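import Groth.Agent.Dcoh.FilTrunc
import Groth.Agent.Dcoh.FilMono

/-!
# Pushouts of finite filtered objects along gr-monomorphisms
-/

set_option autoImplicit false
universe v u
open CategoryTheory CategoryTheory.Limits Opposite

namespace Groth.Agent.Dcoh.FilPushout

open Groth.Agent.Dcoh.FilStep Groth.Agent.Dcoh.FilTrunc

variable {A : Type u} [Category.{v} A] [Abelian A]

/-- The cokernel of a gr-mono in finite filtered objects. -/
lemma exists_cokernel {X Y : FilD.FilF A} (f : X ⟶ Y) (hf : ∀ p, Mono ((FilD.grF A p).map f)) :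
    ∃ (Z : FilD.FilF A) (g : Y ⟶ Z) (w : f ≫ g = 0),
      (∀ {W : FilD.FilF A} (h : Y ⟶ W), f ≫ h = 0 → ∃ k : Z ⟶ W, g ≫ k = h) ∧ Epi g ∧
      ∀ p, ((ShortComplex.mk f g w).map (FilD.grF A p)).ShortExact := by
  let S : ShortComplex (ℤᵒᵖ ⥤ A) := ShortComplex.mk f.hom (cokernel.π f.hom) (cokernel.condition _)
  have hS : S.Exact := S.exact_of_g_is_cokernel (cokernelIsCokernel _)
  have hsl : ∀ (p : ℤ) (h : p ≤ p + 1), StepLift f.hom h := by
    intro p h
    refine stepLift_g_of_gr_exact (ShortComplex.mk (0 : X.obj ⟶ X.obj) f.hom zero_comp) p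
      (stepMono_of_filF Y) ?_ h
    rw [ShortComplex.exact_iff_mono _ ((FilD.gr A p).map_zero _ _)]
    exact hf p
  have hZ : FilD.IsFinFil A (cokernel f.hom) := isFinFil_cokernel S hS Y.property hsl
  refine ⟨⟨_, hZ⟩, ObjectProperty.homMk (cokernel.π f.hom), ?_, ?_, ?_, ?_⟩
  · ext1
    exact cokernel.condition f.hom
  · intro W h w
    refine ⟨ObjectProperty.homMk (cokernel.desc f.hom h.hom congr(($w).hom)), ?_⟩
    ext1
    exact cokernel.π_desc _ _ _
  · refine ⟨fun {W} a b hab => ?_⟩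
    ext1
    have h := congr(($hab).hom)
    exact (cancel_epi (cokernel.π f.hom)).1 h
  · intro p
    have h1 : (S.map (FilD.gr A p)).Exact := gr_rightExact S hS p
    have h2 : Epi ((FilD.gr A p).map (cokernel.π f.hom)) := gr_epi _ p
    exact { exact := h1, mono_f := hf p, epi_g := h2 }

/-- The universal property and exactness of a square `Q → K', Q → I, K' → Q', I → Q'`. -/
structure IsPush {Q K' I Q' : FilD.FilF A} (u : Q ⟶ K') (e : Q ⟶ I) (v : K' ⟶ Q') (i : I ⟶ Q') :
    Prop where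
  comm : u ≫ v = e ≫ i
  desc {Z : FilD.FilF A} (f : K' ⟶ Z) (g : I ⟶ Z) (h : u ≫ f = e ≫ g) :
    ∃ k : Q' ⟶ Z, v ≫ k = f ∧ i ≫ k = g
  ext {Z : FilD.FilF A} (k k' : Q' ⟶ Z) (hv : v ≫ k = v ≫ k') (hi : i ≫ k = i ≫ k') : k = k'
  exact (p : ℤ) {T : A} (y : T ⟶ (FilD.grF A p).obj K') (z : T ⟶ (FilD.grF A p).obj I)
    (h : y ≫ (FilD.grF A p).map v = z ≫ (FilD.grF A p).map i) :
    ∃ (T' : A) (π : T' ⟶ T) (_ : Epi π) (q : T' ⟶ (FilD.grF A p).obj Q),
      π ≫ y = q ≫ (FilD.grF A p).map u ∧ π ≫ z = q ≫ (FilD.grF A p).map e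
  surj (p : ℤ) {T : A} (x : T ⟶ (FilD.grF A p).obj Q') :
    ∃ (T' : A) (π : T' ⟶ T) (_ : Epi π) (y : T' ⟶ (FilD.grF A p).obj K')
      (z : T' ⟶ (FilD.grF A p).obj I), π ≫ x = y ≫ (FilD.grF A p).map v + z ≫ (FilD.grF A p).map i

lemma exists_isPush {Q K' I : FilD.FilF A} (u : Q ⟶ K') (e : Q ⟶ I)
    (he : ∀ p, Mono ((FilD.grF A p).map e)) :
    ∃ (Q' : FilD.FilF A) (v : K' ⟶ Q') (i : I ⟶ Q'), IsPush u e v i := by
  obtain ⟨Z, g, w, hZ, hg, hex⟩ := exists_cokernel (biprod.lift u (-e)) (fun p => by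
    have := he p
    have h2 : Mono ((FilD.grF A p).map (biprod.lift u (-e)) ≫
        (FilD.grF A p).map (-biprod.snd)) := by
      rw [← Functor.map_comp]
      have : biprod.lift u (-e) ≫ (-biprod.snd) = e := by simp
      rw [this]
      infer_instance
    exact mono_of_mono _ ((FilD.grF A p).map (-biprod.snd)))
  refine ⟨Z, biprod.inl ≫ g, biprod.inr ≫ g, ?_, ?_, ?_, ?_, ?_⟩
  · rw [biprod.lift_eq, Preadditive.add_comp, Category.assoc, Category.assoc,
      Preadditive.neg_comp, ← sub_eq_add_neg, sub_eq_zero] at w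
    exact w
  · intro W f g' h
    obtain ⟨k, hk⟩ := hZ (biprod.desc f g') (by simp [h])
    exact ⟨k, by simp [hk], by simp [hk]⟩
  · intro W k k' h1 h2
    rw [← cancel_epi g]
    apply biprod.hom_ext'
    · simpa using h1
    · simpa using h2
  · intro p T y z h
    obtain ⟨T', π, hπ, q, hq⟩ := (exact_map_iff _ _).1 (hex p).exact
      (y ≫ (FilD.grF A p).map biprod.inl - z ≫ (FilD.grF A p).map biprod.inr) (by
        simp only [Functor.map_comp] at h
        rw [Preadditive.sub_comp, sub_eq_zero]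
        simpa using h)
    refine ⟨T', π, hπ, q, ?_, ?_⟩
    · have := congr($hq ≫ (FilD.grF A p).map biprod.fst)
      simp only [Category.assoc, Preadditive.sub_comp, ← Functor.map_comp,
        biprod.inl_fst, biprod.inr_fst, biprod.lift_fst, Functor.map_zero, comp_zero, sub_zero,
        CategoryTheory.Functor.map_id, Category.comp_id] at this
      exact this
    · have := congr($hq ≫ (FilD.grF A p).map (-biprod.snd))
      simp only [Category.assoc, Preadditive.sub_comp, ← Functor.map_comp, Preadditive.comp_neg,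
        biprod.inl_snd, biprod.inr_snd, biprod.lift_snd, Functor.map_zero, comp_zero, neg_neg,
        Functor.map_neg, zero_sub,
        CategoryTheory.Functor.map_id, Category.comp_id] at this
      exact this
  · intro p T x
    have : Epi ((FilD.grF A p).map g) := (hex p).epi_g
    obtain ⟨T', π, hπ, y, hy⟩ := surjective_up_to_refinements_of_epi
      ((FilD.grF A p).map g) x
    refine ⟨T', π, hπ, y ≫ (FilD.grF A p).map biprod.fst, y ≫ (FilD.grF A p).map biprod.snd, ?_⟩
    rw [hy, Category.assoc, Category.assoc, ← Functor.map_comp, ← Functor.map_comp,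
      ← Preadditive.comp_add, ← Functor.map_add]
    congr 2
    rw [← Category.assoc, ← Category.assoc, ← Preadditive.add_comp, biprod.total, Category.id_comp]

lemma IsPush.mono {Q K' I Q' : FilD.FilF A} {u : Q ⟶ K'} {e : Q ⟶ I} {v : K' ⟶ Q'} {i : I ⟶ Q'}
    (h : IsPush u e v i) (p : ℤ) [Mono ((FilD.grF A p).map e)] : Mono ((FilD.grF A p).map v) := by
  rw [Preadditive.mono_iff_cancel_zero]
  intro T y hy
  obtain ⟨T', π, hπ, q, hq, hq'⟩ := h.exact p y 0 (by simpa using hy)
  have : q = 0 := by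
    rw [← cancel_mono ((FilD.grF A p).map e), ← hq']
    simp
  rw [← cancel_epi π, hq, this]
  simp

end Groth.Agent.Dcoh.FilPushout
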