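import Groth.Agent.Dcoh.FilPushout
import Mathlib.Algebra.Homology.Embedding.CochainComplex

/-!
# Filtered injective resolutions of bounded below complexes of finite filtered objects
-/

set_option autoImplicit false
universe w v u
open CategoryTheory CategoryTheory.Limits Opposite

namespace Groth.Agent.Dcoh.FilRes

open Groth.Agent.Dcoh.FilStep Groth.Agent.Dcoh.FilTrunc Groth.Agent.Dcoh.FilPushout

section Family

variable {St : ℤ → Type w} (R : ∀ n, St n → St (n + 1) → Prop)
  (hR : ∀ n (s : St n), ∃ s' : St (n + 1), R n s s') (a : ℤ) (s₀ : ∀ n, St n)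
  (h₀ : ∀ n, n < a → R n (s₀ n) (s₀ (n + 1)))

include hR h₀ in
/-- Inductive construction of a `ℤ`-indexed family from a successor relation. -/
lemma exists_family : ∃ s : ∀ n, St n, (∀ n, R n (s n) (s (n + 1))) ∧ ∀ n, n ≤ a → s n = s₀ n := by
  classical
  let P (N : ℕ) : Type w := {s : ∀ n, St n // (∀ n, n < a + N → R n (s n) (s (n + 1))) ∧
    ∀ n, n ≤ a → s n = s₀ n}
  let x₀ : P 0 := ⟨s₀, fun n hn => h₀ n (by simpa using hn), fun _ _ => rfl⟩
  have key : ∀ (N : ℕ) (x : P N), ∃ y : P (N + 1), ∀ n, n ≤ a + N → y.1 n = x.1 n := by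
    intro N x
    obtain ⟨s', hs'⟩ := hR (a + N) (x.1 (a + N))
    refine ⟨⟨Function.update x.1 (a + N + 1) s', ?_, ?_⟩, ?_⟩
    · intro n hn
      by_cases h : n = a + N
      · subst h
        rw [Function.update_self, Function.update_of_ne (by lia)]
        exact hs'
      · rw [Function.update_of_ne (by push_cast at hn; lia),
          Function.update_of_ne (by push_cast at hn; lia)]
        exact x.2.1 n (by push_cast at hn; lia)
    · intro n hn
      rw [Function.update_of_ne (by lia)]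
      exact x.2.2 n hn
    · intro n hn
      dsimp only
      rw [Function.update_of_ne (by lia)]
  choose f hf using key
  let F : ∀ N, P N := fun N => Nat.rec x₀ f N
  have hF : ∀ N, F (N + 1) = f N (F N) := fun _ => rfl
  have hF' : ∀ (N k : ℕ) n, n ≤ a + N → (F (N + k)).1 n = (F N).1 n := by
    intro N k n hn
    induction k with
    | zero => rfl
    | succ k ih =>
      have h1 : F (N + (k + 1)) = f (N + k) (F (N + k)) := rfl
      rw [h1, hf (N + k) (F (N + k)) n (by push_cast; lia), ih]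
  have hF'' : ∀ (N : ℕ) n, n ≤ a + N → (F N).1 n = (F (n - a).toNat).1 n := by
    intro N n hn
    obtain ⟨k, hk⟩ : ∃ k, N = (n - a).toNat + k := Nat.exists_eq_add_of_le (by lia)
    subst hk
    exact hF' _ _ _ (by lia)
  refine ⟨fun n => (F (n - a).toNat).1 n, fun n => ?_, fun n hn => (F _).2.2 n hn⟩
  have h1 := (F ((n + 1) - a).toNat).2.1 n
  by_cases h : n < a
  · dsimp only
    rw [(F _).2.2 n (by lia), (F _).2.2 (n + 1) (by lia)]
    exact h₀ n h
  · have h2 := h1 (by lia)
    rw [hF'' _ n (by lia)] at h2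
    exact h2

end Family

variable {A : Type u} [Category.{v} A] [Abelian A]

/-- The state of the inductive construction at degree `n`. -/
structure St (K : CochainComplex (FilD.FilF A) ℤ) (n : ℤ) where
  Q : FilD.FilF A
  I : FilD.FilF A
  v : K.X n ⟶ Q
  u : Q ⟶ K.X (n + 1)
  e : Q ⟶ I
  vu : v ≫ u = K.d n (n + 1)
  ud : u ≫ K.d (n + 1) (n + 1 + 1) = 0
  injI : FilD.IsFilteredInjective I
  he : ∀ p, Mono ((FilD.grF A p).map e)
  hv : ∀ p, Mono ((FilD.grF A p).map v)
  surj : ∀ (p : ℤ) {T : A} (q : T ⟶ (FilD.grF A p).obj Q), ∃ (T' : A) (π : T' ⟶ T) (_ : Epi π)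
    (y : T' ⟶ (FilD.grF A p).obj (K.X n)), π ≫ q ≫ (FilD.grF A p).map u =
      y ≫ (FilD.grF A p).map (K.d n (n + 1))

/-- The successor relation. -/
def Rel {K : CochainComplex (FilD.FilF A) ℤ} (n : ℤ) (s : St K n) (s' : St K (n + 1)) : Prop :=
  ∃ i : s.I ⟶ s'.Q, IsPush s.u s.e s'.v i ∧ i ≫ s'.u = 0

lemma isZero_grF {X : FilD.FilF A} (h : IsZero X) (p : ℤ) : IsZero ((FilD.grF A p).obj X) :=
  Functor.map_isZero _ h

@[reassoc]
lemma gmap_comp {X Y Z : FilD.FilF A} (f : X ⟶ Y) (g : Y ⟶ Z) (p : ℤ) :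
    (FilD.grF A p).map (f ≫ g) = (FilD.grF A p).map f ≫ (FilD.grF A p).map g :=
  Functor.map_comp _ _ _

lemma gmap_zero (X Y : FilD.FilF A) (p : ℤ) :
    (FilD.grF A p).map (0 : X ⟶ Y) = 0 :=
  Functor.map_zero _ _ _

lemma gmap_id (X : FilD.FilF A) (p : ℤ) :
    (FilD.grF A p).map (𝟙 X) = 𝟙 _ :=
  CategoryTheory.Functor.map_id _ _

variable (hEmb : ∀ X : FilD.FilF A, ∃ (I : FilD.FilF A) (e : X ⟶ I), FilD.IsFilteredInjective I ∧
  ∀ p, Mono ((FilD.grF A p).map e))

include hEmb in
lemma exists_embedding (X : FilD.FilF A) : ∃ (I : FilD.FilF A) (e : X ⟶ I),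
    FilD.IsFilteredInjective I ∧ (∀ p, Mono ((FilD.grF A p).map e)) ∧ (IsZero X → IsZero I) := by
  by_cases hX : IsZero X
  · refine ⟨X, 𝟙 X, fun p => (isZero_grF hX p).injective, fun p => ?_, fun h => h⟩
    rw [CategoryTheory.Functor.map_id]
    infer_instance
  · obtain ⟨I, e, h1, h2⟩ := hEmb X
    exact ⟨I, e, h1, h2, fun h => (hX h).elim⟩

include hEmb in
lemma exists_next {K : CochainComplex (FilD.FilF A) ℤ} (n : ℤ) (s : St K n) :
    ∃ s' : St K (n + 1), Rel n s s' := by
  obtain ⟨Q', v, i, h⟩ := exists_isPush s.u s.e s.he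
  obtain ⟨I', e', h1, h2⟩ := hEmb Q'
  obtain ⟨u', hu', hu''⟩ := h.desc (K.d (n + 1) (n + 1 + 1)) 0 (by rw [s.ud, comp_zero])
  refine ⟨{ Q := Q', I := I', v := v, u := u', e := e', vu := hu', ud := ?_, injI := h1, he := h2
            hv := fun p => ?_, surj := ?_ }, i, h, hu''⟩
  · apply h.ext
    · rw [reassoc_of% hu', K.d_comp_d, comp_zero]
    · rw [reassoc_of% hu'', zero_comp, comp_zero]
  · have := s.he p
    exact h.mono p
  · intro p T q
    obtain ⟨T', π, hπ, y, z, hyz⟩ := h.surj p q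
    refine ⟨T', π, hπ, y, ?_⟩
    rw [← Category.assoc, hyz, Preadditive.add_comp, Category.assoc, Category.assoc, ← gmap_comp,
      ← gmap_comp, hu', hu'', gmap_zero, comp_zero, add_zero]

/-- The trivial state. -/
noncomputable def base (K : CochainComplex (FilD.FilF A) ℤ) (n : ℤ) : St K n where
  Q := K.X n
  I := (exists_embedding hEmb (K.X n)).choose
  v := 𝟙 _
  u := K.d n (n + 1)
  e := (exists_embedding hEmb (K.X n)).choose_spec.choose
  vu := by simp
  ud := by simp
  injI := (exists_embedding hEmb (K.X n)).choose_spec.choose_spec.1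
  he := (exists_embedding hEmb (K.X n)).choose_spec.choose_spec.2.1
  hv p := by
    rw [CategoryTheory.Functor.map_id]
    infer_instance
  surj p T q := ⟨T, 𝟙 T, inferInstance, q, by simp⟩

lemma isZero_base (K : CochainComplex (FilD.FilF A) ℤ) (n : ℤ) (h : IsZero (K.X n)) :
    IsZero (base hEmb K n).I :=
  (exists_embedding hEmb (K.X n)).choose_spec.choose_spec.2.2 h

lemma rel_base (K : CochainComplex (FilD.FilF A) ℤ) (n : ℤ) (h : IsZero (K.X n)) :
    Rel n (base hEmb K n) (base hEmb K (n + 1)) := by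
  have hI := isZero_base hEmb K n h
  refine ⟨0, ⟨h.eq_of_src _ _, ?_, ?_, ?_, ?_⟩, zero_comp⟩
  · intro Z f g _
    exact ⟨f, Category.id_comp _, hI.eq_of_src _ _⟩
  · intro Z k k' h1 _
    have h2 : 𝟙 _ ≫ k = 𝟙 _ ≫ k' := h1
    rwa [Category.id_comp, Category.id_comp] at h2
  · intro p T y z h3
    have h4 : y = 0 := by
      have h5 : y ≫ (FilD.grF A p).map (𝟙 (K.X (n + 1))) = z ≫ (FilD.grF A p).map 0 := h3
      rwa [CategoryTheory.Functor.map_id, Category.comp_id, Functor.map_zero, comp_zero] at h5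
    refine ⟨T, 𝟙 T, inferInstance, 0, ?_, ?_⟩
    · rw [h4]; simp
    · exact (isZero_grF hI p).eq_of_tgt _ _
  · intro p T x
    refine ⟨T, 𝟙 T, inferInstance, x, 0, ?_⟩
    rw [zero_comp, add_zero, Category.id_comp]
    exact ((congrArg (x ≫ ·) (gmap_id (K.X (n + 1)) p)).trans (Category.comp_id x)).symm

section

variable {K : CochainComplex (FilD.FilF A) ℤ} (s : ∀ n, St K n) (i : ∀ n, (s n).I ⟶ (s (n + 1)).Q)
  (hi : ∀ n, IsPush (s n).u (s n).e (s (n + 1)).v (i n)) (hi' : ∀ n, i n ≫ (s (n + 1)).u = 0)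

/-- The complex of filtered injectives. -/
noncomputable abbrev cx : CochainComplex (FilD.FilF A) ℤ :=
  CochainComplex.of (fun n => (s n).I) (fun n => i n ≫ (s (n + 1)).e) (fun n => by
    rw [Category.assoc, ← reassoc_of% (hi (n + 1)).comm, reassoc_of% hi' n, zero_comp])

lemma cx_d (n : ℤ) : (cx s i hi hi').d n (n + 1) = i n ≫ (s (n + 1)).e :=
  CochainComplex.of_d (fun n => (s n).I) (fun n => i n ≫ (s (n + 1)).e) n

/-- The comparison map. -/
noncomputable def toCx : K ⟶ cx s i hi hi' where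
  f n := (s n).v ≫ (s n).e
  comm' n m h := by
    obtain rfl : n + 1 = m := h
    rw [cx_d, Category.assoc, ← reassoc_of% (hi n).comm, reassoc_of% (s n).vu]

lemma toCx_f (n : ℤ) : (toCx s i hi hi').f n = (s n).v ≫ (s n).e := rfl

lemma quasiIso_toCx (p : ℤ) : QuasiIso ((FilD.grCx p).map (toCx s i hi hi')) where
  quasiIsoAt n := by
    obtain ⟨m, rfl⟩ : ∃ m : ℤ, n = m + 1 := ⟨n - 1, by lia⟩
    rw [quasiIsoAt_iff' _ m (m + 1) (m + 1 + 1) (by simp) (by simp),
      ShortComplex.quasiIso_iff]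
    have hmono : Mono (ShortComplex.homologyMap ((HomologicalComplex.shortComplexFunctor' A
        (ComplexShape.up ℤ) m (m + 1) (m + 1 + 1)).map ((FilD.grCx p).map (toCx s i hi hi')))) := by
      rw [ShortComplex.mono_homologyMap_iff_up_to_refinements]
      intro T x hx w hw
      change T ⟶ (FilD.grF A p).obj (K.X (m + 1)) at x
      change T ⟶ (FilD.grF A p).obj (s m).I at w
      change x ≫ (FilD.grF A p).map (K.d (m + 1) (m + 1 + 1)) = 0 at hx
      change x ≫ (FilD.grF A p).map ((s (m + 1)).v ≫ (s (m + 1)).e) =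
        w ≫ (FilD.grF A p).map ((cx s i hi hi').d m (m + 1)) at hw
      have he := (s (m + 1)).he p
      rw [cx_d, gmap_comp, gmap_comp, ← Category.assoc, ← Category.assoc, cancel_mono] at hw
      obtain ⟨T₁, π₁, _, q, hq, -⟩ := (hi m).exact p x w hw
      obtain ⟨T₂, π₂, _, y, hy⟩ := (s m).surj p q
      refine ⟨T₂, π₂ ≫ π₁, inferInstance, y, ?_⟩
      change (π₂ ≫ π₁) ≫ x = y ≫ (FilD.grF A p).map (K.d m (m + 1))
      rw [Category.assoc, hq, hy]
    have hepi : Epi (ShortComplex.homologyMap ((HomologicalComplex.shortComplexFunctor' A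
        (ComplexShape.up ℤ) m (m + 1) (m + 1 + 1)).map ((FilD.grCx p).map (toCx s i hi hi')))) := by
      rw [ShortComplex.epi_homologyMap_iff_up_to_refinements]
      intro T z hz
      change T ⟶ (FilD.grF A p).obj (s (m + 1)).I at z
      change z ≫ (FilD.grF A p).map ((cx s i hi hi').d (m + 1) (m + 1 + 1)) = 0 at hz
      have he := (s (m + 1 + 1)).he p
      rw [cx_d, gmap_comp, ← Category.assoc, ← zero_comp (f := (FilD.grF A p).map
        (s (m + 1 + 1)).e), cancel_mono] at hz
      obtain ⟨T₁, π₁, _, q, hq, hq'⟩ := (hi (m + 1)).exact p 0 z (by rw [hz, zero_comp])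
      obtain ⟨T₂, π₂, _, y, w, hyw⟩ := (hi m).surj p q
      refine ⟨T₂, π₂ ≫ π₁, inferInstance, y, ?_, w, ?_⟩
      · change y ≫ (FilD.grF A p).map (K.d (m + 1) (m + 1 + 1)) = 0
        have h1 : (π₂ ≫ q) ≫ (FilD.grF A p).map (s (m + 1)).u = 0 := by
          rw [Category.assoc, ← hq, comp_zero, comp_zero]
        rw [hyw, Preadditive.add_comp, Category.assoc, Category.assoc, ← gmap_comp, ← gmap_comp,
          (s (m + 1)).vu, hi' m, gmap_zero, comp_zero, add_zero] at h1
        exact h1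
      · change (π₂ ≫ π₁) ≫ z = y ≫ (FilD.grF A p).map ((s (m + 1)).v ≫ (s (m + 1)).e) +
          w ≫ (FilD.grF A p).map ((cx s i hi hi').d m (m + 1))
        rw [cx_d, gmap_comp, gmap_comp, ← Category.assoc y, ← Category.assoc w,
          ← Preadditive.add_comp, ← hyw, Category.assoc, Category.assoc, hq']
    exact isIso_of_mono_of_epi _

end

include hEmb in
/-- Every bounded below complex of finite filtered objects has a filtered injective resolution, with the same
lower bound, which is a termwise gr-monomorphism. -/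
theorem exists_resolution (K : CochainComplex (FilD.FilF A) ℤ) (a : ℤ) [K.IsStrictlyGE a] :
    ∃ (I : CochainComplex (FilD.FilF A) ℤ) (φ : K ⟶ I), I.IsStrictlyGE a ∧
      (∀ n, FilD.IsFilteredInjective (I.X n)) ∧ FilD.IsFilteredQuasiIso φ ∧
      ∀ n p, Mono ((FilD.grF A p).map (φ.f n)) := by
  obtain ⟨s, hs, hs'⟩ := exists_family (St := St K) Rel (fun n s => exists_next hEmb n s) a
    (base hEmb K) (fun n hn => rel_base hEmb K n (K.isZero_of_isStrictlyGE a n hn))
  choose i hi hi' using hs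
  refine ⟨cx s i hi hi', toCx s i hi hi', ?_, fun n => (s n).injI,
    fun p => quasiIso_toCx s i hi hi' p, fun n p => ?_⟩
  · rw [CochainComplex.isStrictlyGE_iff]
    intro n hn
    change IsZero (s n).I
    rw [hs' n hn.le]
    exact isZero_base hEmb K n (K.isZero_of_isStrictlyGE a n hn)
  · have := (s n).hv p
    have := (s n).he p
    rw [toCx_f, gmap_comp]
    exact mono_comp _ _

end Groth.Agent.Dcoh.FilRes
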