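import Groth.Prelude.Def_FilD
import Mathlib.CategoryTheory.Abelian.Refinements
import Mathlib.CategoryTheory.Abelian.Exact
import Mathlib.Algebra.Homology.ShortComplex.Exact

/-!
# Chasing with generalized elements in finite filtered objects

Step-lifting property of a morphism of filtered objects, characterization of strictness, exactness of `gr`
in terms of generalized elements.
-/

set_option autoImplicit false
universe v u
open CategoryTheory CategoryTheory.Limits Opposite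

namespace Groth.Agent.Dcoh.FilStep

section Image

variable {A : Type u} [Category.{v} A] [Abelian A]

/-- If `π ≫ y` factors through a mono `i` with `π` epi, so does `y`. -/
lemma exists_lift_of_epi_comp {X Y T T' : A} (i : X ⟶ Y) [Mono i] (π : T' ⟶ T) [Epi π] (y : T ⟶ Y)
    (x : T' ⟶ X) (h : π ≫ y = x ≫ i) : ∃ z : T ⟶ X, z ≫ i = y := by
  have hy : y ≫ cokernel.π i = 0 := by
    rw [← cancel_epi π, ← Category.assoc, h, Category.assoc, cokernel.condition, comp_zero,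
      comp_zero]
  exact ⟨Abelian.monoLift i y hy, Abelian.monoLift_comp i y hy⟩

lemma imageSubobject_factors_iff {X Y : A} (f : X ⟶ Y) {T : A} (y : T ⟶ Y) :
    (imageSubobject f).Factors y ↔
      ∃ (T' : A) (π : T' ⟶ T) (_ : Epi π) (x : T' ⟶ X), π ≫ y = x ≫ f := by
  constructor
  · intro h
    obtain ⟨T', π, hπ, x, hx⟩ := surjective_up_to_refinements_of_epi (factorThruImageSubobject f)
      ((imageSubobject f).factorThru y h)
    refine ⟨T', π, hπ, x, ?_⟩
    have := congr($hx ≫ (imageSubobject f).arrow)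
    simpa using this
  · rintro ⟨T', π, hπ, x, hx⟩
    obtain ⟨z, hz⟩ := exists_lift_of_epi_comp (imageSubobject f).arrow π y
      (x ≫ factorThruImageSubobject f) (by simp [hx])
    rw [← hz]
    exact Subobject.factors_comp_arrow z

lemma subobject_eq_iff {Y : A} (P Q : Subobject Y) :
    P = Q ↔ ∀ (T : A) (y : T ⟶ Y), P.Factors y ↔ Q.Factors y := by
  constructor
  · rintro rfl
    intros
    rfl
  · intro h
    apply le_antisymm
    · exact Subobject.le_of_factors ((h _ _).1 P.factors_self)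
    · exact Subobject.le_of_factors ((h _ _).2 Q.factors_self)

end Image

variable {A : Type u} [Category.{v} A] [Abelian A]

/-- The inclusion `F^{q} → F^{p}` for `p ≤ q`. -/
def incl (F : ℤᵒᵖ ⥤ A) {p q : ℤ} (h : p ≤ q) : F.obj (op q) ⟶ F.obj (op p) := F.map (homOfLE h).op

@[reassoc (attr := simp)]
lemma incl_naturality {F G : ℤᵒᵖ ⥤ A} (φ : F ⟶ G) {p q : ℤ} (h : p ≤ q) :
    incl F h ≫ φ.app (op p) = φ.app (op q) ≫ incl G h := φ.naturality _

@[reassoc (attr := simp)]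
lemma incl_incl (F : ℤᵒᵖ ⥤ A) {p q r : ℤ} (h : p ≤ q) (h' : q ≤ r) :
    incl F h' ≫ incl F h = incl F (h.trans h') := by
  simp only [incl, ← F.map_comp]
  rfl

@[simp]
lemma incl_refl (F : ℤᵒᵖ ⥤ A) (p : ℤ) : incl F (le_refl p) = 𝟙 _ := F.map_id _

lemma stepHom_eq (p : ℤ) : FilD.stepHom p = (homOfLE (Int.le_add_one le_rfl : p ≤ p + 1)).op := rfl

lemma incl_step (F : ℤᵒᵖ ⥤ A) (p : ℤ) (h : p ≤ p + 1) : incl F h = F.map (FilD.stepHom p) := rfl

instance mono_incl (F : FilD.FilF A) {p q : ℤ} (h : p ≤ q) : Mono (incl F.obj h) := F.property.1 _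

/-- All steps are monomorphisms. -/
def StepMono (F : ℤᵒᵖ ⥤ A) : Prop := ∀ p : ℤ, Mono (F.map (FilD.stepHom p))

lemma stepMono_of_filF (F : FilD.FilF A) : StepMono F.obj := fun _ => F.property.1 _

lemma StepMono.mono_incl {F : ℤᵒᵖ ⥤ A} (hF : StepMono F) {p q : ℤ} (h : p ≤ q) :
    Mono (incl F h) := by
  obtain ⟨k, rfl⟩ := Int.le.dest h
  induction k with
  | zero =>
    have : incl F h = eqToHom (by simp) := by
      have h0 : p + ((0 : ℕ) : ℤ) = p := by simp
      have : ∀ (q : ℤ) (e : q = p) (h' : p ≤ q), incl F h' = eqToHom (by rw [e]) := by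
        rintro q rfl h'
        simp
      exact this _ h0 h
    rw [this]
    infer_instance
  | succ k ih =>
    have h1 : p ≤ p + (k : ℤ) := by lia
    have h2 : p + (k : ℤ) ≤ p + ((k + 1 : ℕ) : ℤ) := by lia
    rw [← incl_incl F h1 h2]
    have := ih h1
    have h3 : Mono (incl F h2) := by
      have : ∀ (q : ℤ) (e : q = p + (k : ℤ) + 1) (h' : p + (k : ℤ) ≤ q), Mono (incl F h') := by
        rintro q rfl h'
        exact hF _
      exact this _ (by push_cast; lia) h2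
    exact mono_comp _ _

lemma StepMono.mono_map {F : ℤᵒᵖ ⥤ A} (hF : StepMono F) {p q : ℤᵒᵖ} (f : p ⟶ q) :
    Mono (F.map f) := by
  have : f = (homOfLE (leOfHom f.unop)).op := Subsingleton.elim _ _
  rw [this]
  exact hF.mono_incl (leOfHom f.unop)

/-- The projection `F^p → gr^p F`. -/
noncomputable def toGr (F : ℤᵒᵖ ⥤ A) (p : ℤ) : F.obj (op p) ⟶ (FilD.gr A p).obj F :=
  cokernel.π (F.map (FilD.stepHom p))

instance epi_toGr (F : ℤᵒᵖ ⥤ A) (p : ℤ) : Epi (toGr F p) :=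
  coequalizer.π_epi

@[reassoc (attr := simp)]
lemma toGr_naturality {F G : ℤᵒᵖ ⥤ A} (φ : F ⟶ G) (p : ℤ) :
    toGr F p ≫ (FilD.gr A p).map φ = φ.app (op p) ≫ toGr G p := by
  simp [toGr, FilD.gr]

@[reassoc (attr := simp)]
lemma incl_toGr (F : ℤᵒᵖ ⥤ A) (p : ℤ) (h : p ≤ p + 1) : incl F h ≫ toGr F p = 0 :=
  cokernel.condition _

/-- exactness of `F^{p+1} → F^p → gr^p F` in terms of generalized elements. -/
lemma comp_toGr_eq_zero_iff (F : ℤᵒᵖ ⥤ A) (p : ℤ) (h : p ≤ p + 1) {T : A}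
    (x : T ⟶ F.obj (op p)) :
    x ≫ toGr F p = 0 ↔ ∃ (T' : A) (π : T' ⟶ T) (_ : Epi π) (y : T' ⟶ F.obj (op (p + 1))),
      π ≫ x = y ≫ incl F h :=
  Limits.CokernelCofork.IsColimit.comp_π_eq_zero_iff_up_to_refinements
    (cokernelIsCokernel (F.map (FilD.stepHom p))) x

lemma comp_toGr_eq_zero_iff' {F : ℤᵒᵖ ⥤ A} (hF : StepMono F) (p : ℤ) (h : p ≤ p + 1) {T : A}
    (x : T ⟶ F.obj (op p)) :
    x ≫ toGr F p = 0 ↔ ∃ (y : T ⟶ F.obj (op (p + 1))), y ≫ incl F h = x := by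
  have := hF.mono_incl h
  constructor
  · intro hx
    exact ⟨Abelian.monoLift (incl F h) x hx, Abelian.monoLift_comp (incl F h) x hx⟩
  · rintro ⟨y, rfl⟩
    simp

/-- The step-lifting property between levels `p ≤ q`. -/
def StepLift {F G : ℤᵒᵖ ⥤ A} (φ : F ⟶ G) {p q : ℤ} (h : p ≤ q) : Prop :=
  ∀ ⦃T : A⦄ (x : T ⟶ F.obj (op p)) (y : T ⟶ G.obj (op q)), x ≫ φ.app (op p) = y ≫ incl G h →
    ∃ (T' : A) (π : T' ⟶ T) (_ : Epi π) (x' : T' ⟶ F.obj (op q)),
      π ≫ y = x' ≫ φ.app (op q)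

lemma stepLift_refl {F G : ℤᵒᵖ ⥤ A} (φ : F ⟶ G) (p : ℤ) : StepLift φ (le_refl p) := by
  intro T x y h
  refine ⟨T, 𝟙 T, inferInstance, x, ?_⟩
  simpa using h.symm

lemma StepLift.trans {F G : ℤᵒᵖ ⥤ A} {φ : F ⟶ G} {p q r : ℤ} {h : p ≤ q} {h' : q ≤ r}
    (H : StepLift φ h) (H' : StepLift φ h') : StepLift φ (h.trans h') := by
  intro T x y hxy
  obtain ⟨T₁, π₁, _, x₁, h₁⟩ := H x (y ≫ incl G h') (by simpa using hxy)
  obtain ⟨T₂, π₂, _, x₂, h₂⟩ := H' x₁ (π₁ ≫ y) (by simpa using h₁.symm)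
  exact ⟨T₂, π₂ ≫ π₁, epi_comp _ _, x₂, by simpa using h₂⟩

lemma stepLift_of_succ {F G : ℤᵒᵖ ⥤ A} {φ : F ⟶ G}
    (H : ∀ (p : ℤ) (h : p ≤ p + 1), StepLift φ h) {p q : ℤ} (h : p ≤ q) : StepLift φ h := by
  obtain ⟨k, rfl⟩ := Int.le.dest h
  induction k with
  | zero =>
    have : ∀ (q : ℤ) (_ : q = p) (h' : p ≤ q), StepLift φ h' := by
      rintro q rfl h'
      exact stepLift_refl φ _
    exact this _ (by simp) h
  | succ k ih =>
    have h1 : p ≤ p + (k : ℤ) := by lia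
    have h2 : p + (k : ℤ) ≤ p + ((k + 1 : ℕ) : ℤ) := by lia
    have h3 : StepLift φ h2 := by
      have : ∀ (q : ℤ) (_ : q = p + (k : ℤ) + 1) (h' : p + (k : ℤ) ≤ q), StepLift φ h' := by
        rintro q rfl h'
        exact H _ _
      exact this _ (by push_cast; lia) h2
    exact (ih h1).trans h3

/-- Strictness at one pair of levels in terms of generalized elements. -/
lemma imageSubobject_eq_iff_stepLift {F G : ℤᵒᵖ ⥤ A} (φ : F ⟶ G) {p q : ℤ} (h : p ≤ q)
    [Mono (G.map (homOfLE h).op)] :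
    imageSubobject (φ.app (op q) ≫ G.map (homOfLE h).op) =
      imageSubobject (φ.app (op p)) ⊓ Subobject.mk (G.map (homOfLE h).op) ↔ StepLift φ h := by
  rw [subobject_eq_iff]
  constructor
  · intro H T x y hxy
    have h1 := (H T (y ≫ incl G h)).2 (by
      rw [Subobject.inf_factors, imageSubobject_factors_iff]
      refine ⟨⟨T, 𝟙 T, inferInstance, x, by simpa using hxy.symm⟩, ?_⟩
      rw [Subobject.mk_factors_iff]
      exact ⟨y, rfl⟩)
    rw [imageSubobject_factors_iff] at h1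
    obtain ⟨T', π, hπ, x', hx'⟩ := h1
    refine ⟨T', π, hπ, x', ?_⟩
    rw [← cancel_mono (G.map (homOfLE h).op)]
    simpa [incl] using hx'
  · intro H T y
    rw [Subobject.inf_factors, imageSubobject_factors_iff, imageSubobject_factors_iff]
    constructor
    · rintro ⟨T', π, hπ, x, hx⟩
      refine ⟨⟨T', π, hπ, x ≫ incl F h, ?_⟩, ?_⟩
      · simpa [incl] using hx
      · rw [Subobject.mk_factors_iff]
        obtain ⟨z, hz⟩ := exists_lift_of_epi_comp (G.map (homOfLE h).op) π y (x ≫ φ.app (op q))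
          (by simpa using hx)
        exact ⟨z, hz⟩
    · rintro ⟨⟨T', π, hπ, x, hx⟩, hy⟩
      rw [Subobject.mk_factors_iff] at hy
      obtain ⟨z, hz⟩ := hy
      change z ≫ G.map (homOfLE h).op = y at hz
      obtain ⟨T'', π', hπ', x', hx'⟩ := H x (π ≫ z) (by
        rw [← hx, ← hz]
        simp [incl])
      refine ⟨T'', π' ≫ π, epi_comp _ _, x', ?_⟩
      rw [← hz]
      simpa using congr($hx' ≫ G.map (homOfLE h).op)

lemma isStrict_iff {F G : FilD.FilF A} (φ : F ⟶ G) :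
    FilD.IsStrict φ ↔ ∀ (p : ℤ) (h : p ≤ p + 1), StepLift φ.hom h := by
  have key : ∀ (p q : ℤ) (h : p ≤ q), (imageSubobject (φ.hom.app (op q) ≫ G.obj.map (homOfLE h).op) =
      imageSubobject (φ.hom.app (op p)) ⊓ @Subobject.mk _ _ _ _ (G.obj.map (homOfLE h).op)
        (G.property.1 _)) ↔ StepLift φ.hom h := by
    intro p q h
    have : Mono (G.obj.map (homOfLE h).op) := G.property.1 _
    exact imageSubobject_eq_iff_stepLift φ.hom h
  constructor
  · intro H p h
    exact (key _ _ h).1 (H _ _ h)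
  · intro H p q h
    exact (key _ _ h).2 (stepLift_of_succ H h)

/-- Exactness of the image of a short complex under a functor, in terms of generalized elements. -/
lemma exact_map_iff {B : Type*} [Category* B] [HasZeroMorphisms B] (S : ShortComplex B) (F : B ⥤ A)
    [F.PreservesZeroMorphisms] : (S.map F).Exact ↔
      ∀ ⦃T : A⦄ (x : T ⟶ F.obj S.X₂) (_ : x ≫ F.map S.g = 0),
        ∃ (T' : A) (π : T' ⟶ T) (_ : Epi π) (y : T' ⟶ F.obj S.X₁), π ≫ x = y ≫ F.map S.f :=
  ShortComplex.exact_iff_exact_up_to_refinements _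

/-- `gr^p K → gr^p X → gr^p Y` is exact iff the step-lifting property holds, for `K → X → Y` levelwise exact. -/
lemma gr_exact_iff_stepLift (S : ShortComplex (ℤᵒᵖ ⥤ A)) (p : ℤ)
    (hS : (S.map ((evaluation ℤᵒᵖ A).obj (op p))).Exact) (hY : StepMono S.X₃)
    (h : p ≤ p + 1) : (S.map (FilD.gr A p)).Exact ↔ StepLift S.g h := by
  rw [exact_map_iff] at hS ⊢
  dsimp only [evaluation_obj_obj, evaluation_obj_map] at hS
  have h0 := hY.mono_incl h
  have hz : (S.f.app (op p)) ≫ (S.g.app (op p)) = 0 := by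
    rw [← NatTrans.comp_app, S.zero]; rfl
  constructor
  · intro H T x y hxy
    obtain ⟨T₁, π₁, _, k, hk⟩ := H (x ≫ toGr _ _) (by
      rw [Category.assoc, toGr_naturality, reassoc_of% hxy]
      simp)
    obtain ⟨T₂, π₂, _, k', hk'⟩ := surjective_up_to_refinements_of_epi (toGr S.X₁ p) k
    have h3 : (π₂ ≫ π₁ ≫ x - k' ≫ S.f.app _) ≫ toGr _ p = 0 := by
      rw [Preadditive.sub_comp, sub_eq_zero]
      simp only [Category.assoc]
      rw [hk, ← toGr_naturality, ← reassoc_of% hk']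
    rw [comp_toGr_eq_zero_iff _ _ h] at h3
    obtain ⟨T₃, π₃, _, x', hx'⟩ := h3
    refine ⟨T₃, π₃ ≫ π₂ ≫ π₁, inferInstance, x', ?_⟩
    rw [← cancel_mono (incl S.X₃ h)]
    simp only [Category.assoc]
    rw [← hxy, ← incl_naturality, ← reassoc_of% hx', Preadditive.sub_comp]
    simp [hz]
  · intro H T x hx
    obtain ⟨T₁, π₁, _, x₁, hx₁⟩ := surjective_up_to_refinements_of_epi (toGr S.X₂ p) x
    have h1 : (x₁ ≫ S.g.app _) ≫ toGr _ _ = 0 := by
      rw [Category.assoc, ← toGr_naturality, ← reassoc_of% hx₁, hx, comp_zero]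
    rw [comp_toGr_eq_zero_iff' hY _ h] at h1
    obtain ⟨y, hy⟩ := h1
    obtain ⟨T₂, π₂, _, x₂, hx₂⟩ := H x₁ y hy.symm
    have h2 : (π₂ ≫ x₁ - x₂ ≫ incl _ h) ≫ S.g.app _ = 0 := by
      rw [Preadditive.sub_comp, sub_eq_zero]
      simp only [Category.assoc, incl_naturality]
      rw [← reassoc_of% hx₂, hy]
    obtain ⟨T₃, π₃, _, k, hk⟩ := hS _ h2
    refine ⟨T₃, π₃ ≫ π₂ ≫ π₁, inferInstance, k ≫ toGr _ _, ?_⟩
    simp only [Category.assoc, toGr_naturality, hx₁]
    rw [← reassoc_of% hk, Preadditive.sub_comp]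
    simp

end Groth.Agent.Dcoh.FilStep
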