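import Groth.Agent.Dcoh.FilMono
import Mathlib.CategoryTheory.Limits.Preserves.Shapes.Biproducts
import Mathlib.CategoryTheory.Preadditive.AdditiveFunctor
import Mathlib.Order.Interval.Finset.Defs
import Mathlib.Data.Int.Interval

/-!
# Filtered injective objects concentrated in one degree; enough filtered injectives
-/

set_option autoImplicit false
set_option linter.unusedSectionVars false

universe v u

open CategoryTheory CategoryTheory.Limits Opposite ZeroObject

namespace Groth.Agent.Dcoh.Fil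

noncomputable section

variable {A : Type u} [Category.{v} A] [Abelian A]

/-- `T` for `q ≤ p`, `0` otherwise -/
def cst (T : A) (p q : ℤ) : A := if q ≤ p then T else 0

/-- identification -/
def cstIso (T : A) {p q : ℤ} (h : q ≤ p) : cst T p q ≅ T := eqToIso (if_pos h)

lemma isZero_cst (T : A) {p q : ℤ} (h : ¬ q ≤ p) : IsZero (cst T p q) := by
  unfold cst
  rw [if_neg h]
  exact isZero_zero A

/-- transition maps -/
def cstMap (T : A) (p : ℤ) {q q' : ℤ} (h : q' ≤ q) : cst T p q ⟶ cst T p q' :=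
  if hq : q ≤ p then (cstIso T hq).hom ≫ (cstIso T (h.trans hq)).inv else 0

lemma cstMap_of_le (T : A) {p : ℤ} {q q' : ℤ} (h : q' ≤ q) (hq : q ≤ p) :
    cstMap T p h = (cstIso T hq).hom ≫ (cstIso T (h.trans hq)).inv := dif_pos hq

lemma isIso_cstMap (T : A) {p : ℤ} {q q' : ℤ} (h : q' ≤ q) (hq : q ≤ p) : IsIso (cstMap T p h) := by
  rw [cstMap_of_le T h hq]; infer_instance

lemma mono_cstMap (T : A) (p : ℤ) {q q' : ℤ} (h : q' ≤ q) : Mono (cstMap T p h) := by
  by_cases hq : q ≤ p
  · have := isIso_cstMap T h hq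
    infer_instance
  · exact ⟨fun _ _ _ => (isZero_cst T hq).eq_of_tgt _ _⟩

lemma cstMap_refl (T : A) (p q : ℤ) : cstMap T p (le_refl q) = 𝟙 _ := by
  by_cases hq : q ≤ p
  · rw [cstMap_of_le T _ hq]; simp
  · exact (isZero_cst T hq).eq_of_src _ _

lemma cstMap_comp (T : A) (p : ℤ) {q q' q'' : ℤ} (h : q' ≤ q) (h' : q'' ≤ q') :
    cstMap T p h ≫ cstMap T p h' = cstMap T p (h'.trans h) := by
  by_cases hq : q ≤ p
  · rw [cstMap_of_le T h hq, cstMap_of_le T h' (h.trans hq), cstMap_of_le T (h'.trans h) hq]; simp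
  · exact (isZero_cst T hq).eq_of_src _ _

/-- The functor underlying `stepObj`. -/
def stepFun (T : A) (p : ℤ) : ℤᵒᵖ ⥤ A where
  obj q := cst T p q.unop
  map f := cstMap T p (leOfHom f.unop)
  map_id q := cstMap_refl T p q.unop
  map_comp f g := (cstMap_comp T p (leOfHom f.unop) (leOfHom g.unop)).symm

/-- The filtered object `T` placed in filtration degree `p`. -/
def stepObj (T : A) (p : ℤ) : FilD.FilF A :=
  ⟨stepFun T p, fun _ _ f => mono_cstMap T p (leOfHom f.unop),
    ⟨p + 1, fun q hq => isZero_cst T (show ¬ q ≤ p by omega)⟩,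
    ⟨p, fun _ _ f hq => isIso_cstMap T (leOfHom f.unop) hq⟩⟩

/-- level identification -/
def stepIso (T : A) {p q : ℤ} (h : q ≤ p) : lev (stepObj T p) q ≅ T := cstIso T h

lemma isZero_lev_stepObj (T : A) {p q : ℤ} (h : ¬ q ≤ p) : IsZero (lev (stepObj T p) q) := isZero_cst T h

@[reassoc]
lemma tr_stepIso (T : A) {p q q' : ℤ} (h : q' ≤ q) (hq : q ≤ p) :
    tr (stepObj T p) h ≫ (stepIso T (h.trans hq)).hom = (stepIso T hq).hom := by
  change cstMap T p h ≫ (cstIso T (h.trans hq)).hom = (cstIso T hq).hom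
  rw [cstMap_of_le T h hq]; simp

lemma isZero_gr_stepObj (T : A) {p q : ℤ} (h : q ≠ p) : IsZero ((FilD.grF A q).obj (stepObj T p)) := by
  rw [IsZero.iff_id_eq_zero, ← cancel_epi (grπ (stepObj T p) q), Category.comp_id, comp_zero]
  by_cases hq : q ≤ p
  · have h1 : IsIso (tr (stepObj T p) (Int.le_add_one le_rfl : q ≤ q + 1)) :=
      isIso_cstMap T (Int.le_add_one le_rfl : q ≤ q + 1) (show q + 1 ≤ p by omega)
    rw [← cancel_epi (tr (stepObj T p) (Int.le_add_one le_rfl : q ≤ q + 1)), tr_grπ, comp_zero]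
  · exact (isZero_lev_stepObj T hq).eq_of_src _ _

lemma isIso_grπ_stepObj (T : A) (p : ℤ) : IsIso (grπ (stepObj T p) p) := by
  have : Mono (grπ (stepObj T p) p) := by
    rw [Preadditive.mono_iff_cancel_zero]
    intro Z x hx
    obtain ⟨y, rfl⟩ := exists_lift_of_grπ x hx
    rw [(isZero_lev_stepObj T (by omega : ¬ p + 1 ≤ p)).eq_of_tgt y 0, zero_comp]
  exact isIso_of_mono_of_epi _

lemma isFilteredInjective_stepObj (T : A) [Injective T] (p : ℤ) : FilD.IsFilteredInjective (stepObj T p) := by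
  intro q
  by_cases h : q = p
  · subst h
    have := isIso_grπ_stepObj T q
    exact Injective.of_iso ((stepIso T le_rfl).symm ≪≫ asIso (grπ (stepObj T q) q)) inferInstance
  · exact (isZero_gr_stepObj T h).injective

lemma exists_mono_gr_at [EnoughInjectives A] (X : FilD.FilF A) (p : ℤ) :
    ∃ (Y : FilD.FilF A) (v : X ⟶ Y), FilD.IsFilteredInjective Y ∧ Mono ((FilD.grF A p).map v) := by
  obtain ⟨a', ha'⟩ := exists_stable X
  obtain ⟨a, hap, ha⟩ : ∃ a : ℤ, a ≤ p ∧ Stable X a := ⟨min a' p, min_le_right _ _, ha'.mono (min_le_left _ _)⟩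
  let C := cokernel (tr X (show a ≤ p + 1 by omega))
  let J := Injective.under C
  let u : lev X a ⟶ J := cokernel.π (tr X (show a ≤ p + 1 by omega)) ≫ Injective.ι C
  have hu : tr X (show a ≤ p + 1 by omega) ≫ u = 0 := by
    simp [u]
  let r : ∀ q : ℤ, lev X q ⟶ lev (stepObj J p) q := fun q =>
    if h : a ≤ q ∧ q ≤ p then tr X h.1 ≫ u ≫ (stepIso J h.2).inv else 0
  have hr : ∀ q : ℤ, a ≤ q → tr X (Int.le_add_one le_rfl : q ≤ q + 1) ≫ r q =
      r (q + 1) ≫ tr (stepObj J p) (Int.le_add_one le_rfl : q ≤ q + 1) := by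
    intro q hq
    rcases lt_trichotomy q p with h | h | h
    · have h1 : r q = _ := dif_pos ⟨hq, h.le⟩
      have h2 : r (q + 1) = _ := dif_pos ⟨by omega, by omega⟩
      rw [h1, h2, ← cancel_mono (stepIso J h.le).hom]
      simp only [Category.assoc, Iso.inv_hom_id, Category.comp_id]
      rw [tr_stepIso J _ (by omega), Iso.inv_hom_id, Category.comp_id, tr_comp_assoc]
    · have h1 : r q = _ := dif_pos ⟨hq, h.le⟩
      have h2 : r (q + 1) = 0 := dif_neg (by omega)
      subst h
      rw [h1, h2, tr_comp_assoc, reassoc_of% hu]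
      simp
    · have h1 : r q = 0 := dif_neg (by omega)
      have h2 : r (q + 1) = 0 := dif_neg (by omega)
      rw [h1, h2]; simp
  obtain ⟨v, hv⟩ := exists_hom_of_family ha r hr
  refine ⟨stepObj J p, v, isFilteredInjective_stepObj J p, ?_⟩
  have hvp : lmap v p = tr X hap ≫ u ≫ (stepIso J le_rfl).inv := by
    rw [hv p hap]
    exact dif_pos ⟨hap, le_rfl⟩
  have := isIso_grπ_stepObj J p
  rw [Preadditive.mono_iff_cancel_zero]
  intro T ξ hξ
  obtain ⟨T₁, π₁, hπ₁, x, hx⟩ := surjective_up_to_refinements_of_epi (grπ X p) ξ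
  have h1 : x ≫ tr X hap ≫ cokernel.π (tr X (show a ≤ p + 1 by omega)) = 0 := by
    have h2 : (x ≫ lmap v p) ≫ grπ (stepObj J p) p = 0 := by
      rw [Category.assoc, ← grπ_naturality, ← reassoc_of% hx, hξ, comp_zero]
    rw [← zero_comp (f := grπ (stepObj J p) p), cancel_mono, hvp] at h2
    rw [← cancel_mono (Injective.ι C), ← cancel_mono (stepIso J le_rfl).inv, zero_comp, zero_comp]
    simpa [u] using h2
  have hex : (ShortComplex.mk (tr X (show a ≤ p + 1 by omega)) (cokernel.π (tr X (show a ≤ p + 1 by omega)))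
      (cokernel.condition _)).Exact := ShortComplex.exact_of_g_is_cokernel _ (cokernelIsCokernel _)
  have hm : Mono (ShortComplex.mk (tr X (show a ≤ p + 1 by omega)) (cokernel.π (tr X (show a ≤ p + 1 by omega)))
      (cokernel.condition _)).f := mono_tr X _
  have hlift := hex.lift_f (x ≫ tr X hap) (by simpa using h1)
  set y : T₁ ⟶ lev X (p + 1) := hex.lift (x ≫ tr X hap) (by simpa using h1)
  change y ≫ tr X (show a ≤ p + 1 by omega) = x ≫ tr X hap at hlift
  have hxy : x = y ≫ tr X (Int.le_add_one le_rfl : p ≤ p + 1) := by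
    rw [← cancel_mono (tr X hap), Category.assoc, tr_comp, hlift]
  rw [← cancel_epi π₁, hx, hxy, Category.assoc, tr_grπ]
  simp

lemma isFilteredInjective_biprod {X Y : FilD.FilF A} (hX : FilD.IsFilteredInjective X)
    (hY : FilD.IsFilteredInjective Y) : FilD.IsFilteredInjective (X ⊞ Y) := by
  intro p
  have := hX p
  have := hY p
  have : PreservesBinaryBiproduct X Y (FilD.grF A p) := preservesBinaryBiproduct_of_preservesBiproduct _ _ _
  exact Injective.of_iso ((FilD.grF A p).mapBiprod X Y).symm inferInstance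

lemma isFilteredInjective_of_isZero {X : FilD.FilF A} (hX : IsZero X) : FilD.IsFilteredInjective X := fun p =>
  ((FilD.grF A p).map_isZero hX).injective

lemma exists_mono_gr_finset [EnoughInjectives A] (X : FilD.FilF A) (s : Finset ℤ) :
    ∃ (Y : FilD.FilF A) (v : X ⟶ Y), FilD.IsFilteredInjective Y ∧ ∀ p ∈ s, Mono ((FilD.grF A p).map v) := by
  classical
  induction s using Finset.induction_on with
  | empty => exact ⟨0, 0, isFilteredInjective_of_isZero (isZero_zero _), by simp⟩
  | insert p s hp ih =>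
    obtain ⟨Y, v, hY, hv⟩ := ih
    obtain ⟨Z, w, hZ, hw⟩ := exists_mono_gr_at X p
    refine ⟨Y ⊞ Z, biprod.lift v w, isFilteredInjective_biprod hY hZ, ?_⟩
    intro q hq
    rw [Finset.mem_insert] at hq
    rcases hq with rfl | hq
    · have h1 : Mono ((FilD.grF A q).map (biprod.lift v w) ≫ (FilD.grF A q).map biprod.snd) := by
        rw [← Functor.map_comp, biprod.lift_snd]; exact hw
      exact mono_of_mono _ ((FilD.grF A q).map (biprod.snd : Y ⊞ Z ⟶ Z))
    · have h1 : Mono ((FilD.grF A q).map (biprod.lift v w) ≫ (FilD.grF A q).map biprod.fst) := by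
        rw [← Functor.map_comp, biprod.lift_fst]; exact hv q hq
      exact mono_of_mono _ ((FilD.grF A q).map (biprod.fst : Y ⊞ Z ⟶ Y))

lemma isZero_gr_of_stable {X : FilD.FilF A} {a : ℤ} (ha : Stable X a) {p : ℤ} (hp : p < a) :
    IsZero ((FilD.grF A p).obj X) := by
  rw [IsZero.iff_id_eq_zero, ← cancel_epi (grπ X p), Category.comp_id, comp_zero]
  have h1 : IsIso (tr X (Int.le_add_one le_rfl : p ≤ p + 1)) := ha _ (by omega)
  rw [← cancel_epi (tr X (Int.le_add_one le_rfl : p ≤ p + 1)), tr_grπ, comp_zero]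

lemma isZero_gr_of_isZero_lev {X : FilD.FilF A} {p : ℤ} (hp : IsZero (lev X p)) :
    IsZero ((FilD.grF A p).obj X) := by
  rw [IsZero.iff_id_eq_zero, ← cancel_epi (grπ X p), Category.comp_id, comp_zero]
  exact hp.eq_of_src _ _

/-- **Enough filtered injectives** (Stacks 05TS), in terms of graded pieces. -/
theorem exists_mono_gr [EnoughInjectives A] (X : FilD.FilF A) :
    ∃ (Y : FilD.FilF A) (v : X ⟶ Y), FilD.IsFilteredInjective Y ∧ ∀ p, Mono ((FilD.grF A p).map v) := by
  obtain ⟨a, ha⟩ := exists_stable X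
  obtain ⟨b, hb⟩ := exists_isZero X
  obtain ⟨Y, v, hY, hv⟩ := exists_mono_gr_finset X (Finset.Ico a b)
  refine ⟨Y, v, hY, fun p => ?_⟩
  by_cases hp : p ∈ Finset.Ico a b
  · exact hv p hp
  · have hz : IsZero ((FilD.grF A p).obj X) := by
      rw [Finset.mem_Ico, not_and_or] at hp
      rcases hp with hp | hp
      · exact isZero_gr_of_stable ha (by omega)
      · exact isZero_gr_of_isZero_lev (hb p (by omega))
    exact ⟨fun _ _ _ => hz.eq_of_tgt _ _⟩

/-- **Enough filtered injectives** (Stacks 05TS). -/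
theorem exists_strict_mono [EnoughInjectives A] (X : FilD.FilF A) :
    ∃ (I : FilD.FilF A) (u : X ⟶ I), FilD.IsFilteredInjective I ∧ Mono u ∧ FilD.IsStrict u := by
  obtain ⟨Y, v, hY, hv⟩ := exists_mono_gr X
  exact ⟨Y, v, hY, mono_of_gr v hv, isStrict_of_mono_gr v hv⟩

end

end Groth.Agent.Dcoh.Fil
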