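import Mathlib.CategoryTheory.Abelian.Refinements
import Mathlib.CategoryTheory.Abelian.Exact
import Mathlib.Algebra.Homology.Embedding.CochainComplex

/-!
# Canonical truncations of cochain complexes in an abelian category: explicit exactness, quasi-isomorphism criteria
-/

set_option autoImplicit false
universe v u
open CategoryTheory CategoryTheory.Limits Opposite

namespace Groth.Agent.Dcoh.FilTruncAb

section General

variable {B : Type u} [Category.{v} B] [Abelian B] {ι ι' : Type*} {c : ComplexShape ι} {c' : ComplexShape ι'}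
  (e : c.Embedding c')

section GE

variable [e.IsTruncGE] (K : HomologicalComplex B c')

lemma πTruncGE_f_eq {i : ι} {i' : ι'} (hi' : e.f i = i') (hi : e.BoundaryGE i) :
    (K.πTruncGE e).f i' = K.pOpcycles i' ≫ (K.truncGEXIsoOpcycles e hi' hi).inv := by
  dsimp only [HomologicalComplex.πTruncGE, HomologicalComplex.truncGEXIsoOpcycles]
  rw [e.liftExtend_f _ _ hi', K.restrictionToTruncGE'_f_eq_iso_hom_pOpcycles_iso_inv e hi' hi]
  simp
  rfl

lemma d_comp_πTruncGE_f {i : ι} {i' : ι'} (hi' : e.f i = i') (hi : e.BoundaryGE i) (j' : ι') :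
    K.d j' i' ≫ (K.πTruncGE e).f i' = 0 := by
  rw [πTruncGE_f_eq e K hi' hi]
  simp

lemma πTruncGE_f_exact {i : ι} {i' : ι'} (hi' : e.f i = i') (hi : e.BoundaryGE i) (j' : ι')
    (hj' : c'.prev i' = j') :
    (ShortComplex.mk (K.d j' i') ((K.πTruncGE e).f i') (d_comp_πTruncGE_f e K hi' hi j')).Exact := by
  let S := ShortComplex.mk (K.d j' i') (K.pOpcycles i') (by simp)
  have hS : S.Exact := S.exact_of_g_is_cokernel (K.opcyclesIsCokernel j' i' hj')
  let iso : S ≅ ShortComplex.mk (K.d j' i') ((K.πTruncGE e).f i') (d_comp_πTruncGE_f e K hi' hi j') :=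
    ShortComplex.isoMk (Iso.refl _) (Iso.refl _) (K.truncGEXIsoOpcycles e hi' hi).symm
      (by simp [S]) (by simp [S, πTruncGE_f_eq e K hi' hi])
  exact ShortComplex.exact_of_iso iso hS

lemma isIso_πTruncGE_f {i : ι} {i' : ι'} (hi' : e.f i = i') (hi : ¬ e.BoundaryGE i) :
    IsIso ((K.πTruncGE e).f i') := by
  exact (e.isIso_liftExtend_f_iff _ _ hi').2 (K.isIso_restrictionToTruncGE' e i hi)

end GE

section LE

variable [e.IsTruncLE] (K : HomologicalComplex B c')

lemma ιTruncLE_f_comp_d {i : ι} {i' : ι'} (hi' : e.f i = i') (hi : e.BoundaryLE i) (j' : ι') :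
    (K.ιTruncLE e).f i' ≫ K.d i' j' = 0 := by
  apply Quiver.Hom.op_inj
  exact d_comp_πTruncGE_f e.op K.op (i := i) (i' := i') hi' (by simpa) j'

lemma ιTruncLE_f_exact {i : ι} {i' : ι'} (hi' : e.f i = i') (hi : e.BoundaryLE i) (j' : ι')
    (hj' : c'.next i' = j') :
    (ShortComplex.mk ((K.ιTruncLE e).f i') (K.d i' j') (ιTruncLE_f_comp_d e K hi' hi j')).Exact :=
  (πTruncGE_f_exact e.op K.op (i := i) (i' := i') hi' (by simpa) j' hj').unop

lemma isIso_ιTruncLE_f {i : ι} {i' : ι'} (hi' : e.f i = i') (hi : ¬ e.BoundaryLE i) :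
    IsIso ((K.ιTruncLE e).f i') := by
  have := isIso_πTruncGE_f e.op K.op (i := i) (i' := i') hi' (by simpa)
  exact inferInstanceAs (IsIso ((K.op.πTruncGE e.op).f i').unop)

end LE

end General

section Cochain

variable {B : Type u} [Category.{v} B] [Abelian B] (K : CochainComplex B ℤ)

lemma d_comp_πTruncGE_f' (a : ℤ) : K.d (a - 1) a ≫ (K.πTruncGE a).f a = 0 :=
  d_comp_πTruncGE_f (ComplexShape.embeddingUpIntGE a) K (i := 0) (by simp)
    (by rw [ComplexShape.boundaryGE_embeddingUpIntGE_iff]) _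

lemma πTruncGE_exact (a : ℤ) :
    (ShortComplex.mk (K.d (a - 1) a) ((K.πTruncGE a).f a) (d_comp_πTruncGE_f' K a)).Exact :=
  πTruncGE_f_exact (ComplexShape.embeddingUpIntGE a) K (i := 0) (by simp)
    (by rw [ComplexShape.boundaryGE_embeddingUpIntGE_iff]) _ (by simp)

instance epi_πTruncGE_f (a n : ℤ) : Epi ((K.πTruncGE a).f n) :=
  inferInstanceAs (Epi ((HomologicalComplex.πTruncGE K (ComplexShape.embeddingUpIntGE a)).f n))

lemma isIso_πTruncGE (a n : ℤ) (h : a < n) : IsIso ((K.πTruncGE a).f n) :=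
  isIso_πTruncGE_f (ComplexShape.embeddingUpIntGE a) K (i := (n - a).natAbs) (by
    rw [ComplexShape.embeddingUpIntGE_f]
    rw [Int.natAbs_of_nonneg (by lia), add_sub_cancel])
    (fun h ↦ by
      rw [ComplexShape.boundaryGE_embeddingUpIntGE_iff, Int.natAbs_eq_zero] at h
      lia)

lemma ιTruncLE_f_comp_d' (b : ℤ) : (K.ιTruncLE b).f b ≫ K.d b (b + 1) = 0 :=
  ιTruncLE_f_comp_d (ComplexShape.embeddingUpIntLE b) K (i := 0) (by simp)
    (by rw [ComplexShape.boundaryLE_embeddingUpIntLE_iff]) _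

lemma ιTruncLE_exact (b : ℤ) :
    (ShortComplex.mk ((K.ιTruncLE b).f b) (K.d b (b + 1)) (ιTruncLE_f_comp_d' K b)).Exact :=
  ιTruncLE_f_exact (ComplexShape.embeddingUpIntLE b) K (i := 0) (by simp)
    (by rw [ComplexShape.boundaryLE_embeddingUpIntLE_iff]) _ (by simp)

instance mono_ιTruncLE_f (b n : ℤ) : Mono ((K.ιTruncLE b).f n) :=
  inferInstanceAs (Mono ((HomologicalComplex.ιTruncLE K (ComplexShape.embeddingUpIntLE b)).f n))

lemma isIso_ιTruncLE (b n : ℤ) (h : n < b) : IsIso ((K.ιTruncLE b).f n) :=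
  isIso_ιTruncLE_f (ComplexShape.embeddingUpIntLE b) K (i := (b - n).natAbs) (by
    rw [ComplexShape.embeddingUpIntLE_f]
    rw [Int.natAbs_of_nonneg (by lia), sub_sub_cancel])
    (fun h ↦ by
      rw [ComplexShape.boundaryLE_embeddingUpIntLE_iff, Int.natAbs_eq_zero] at h
      lia)

end Cochain

section Criteria

variable {B : Type u} [Category.{v} B] [Abelian B]

lemma quasiIso_of_cokernel {S₁ S₂ : ShortComplex B} (φ : S₁ ⟶ S₂) (h₁ : S₂.f = 0) [Epi φ.τ₂]
    (w : S₁.f ≫ φ.τ₂ = 0) (hex : (ShortComplex.mk S₁.f φ.τ₂ w).Exact) [Mono φ.τ₃] :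
    ShortComplex.QuasiIso φ := by
  have hS₂ : IsIso S₂.pOpcycles := S₂.isIso_pOpcycles h₁
  have hepi : Epi (ShortComplex.opcyclesMap φ) := by
    have : Epi (S₁.pOpcycles ≫ ShortComplex.opcyclesMap φ) := by
      rw [ShortComplex.p_opcyclesMap]
      infer_instance
    exact epi_of_epi S₁.pOpcycles _
  have hmono : Mono (ShortComplex.opcyclesMap φ) := by
    rw [Preadditive.mono_iff_cancel_zero]
    intro T x hx
    obtain ⟨T₁, π₁, _, y, hy⟩ := surjective_up_to_refinements_of_epi S₁.pOpcycles x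
    have h2 : y ≫ φ.τ₂ = 0 := by
      rw [← cancel_mono S₂.pOpcycles, Category.assoc, ← ShortComplex.p_opcyclesMap,
        ← reassoc_of% hy, hx, comp_zero, zero_comp]
    obtain ⟨T₂, π₂, _, z, hz⟩ := hex.exact_up_to_refinements y h2
    rw [← cancel_epi π₁, ← cancel_epi π₂, hy]
    dsimp at z hz
    rw [← Category.assoc, hz]
    simp
  have : IsIso (ShortComplex.opcyclesMap φ) := isIso_of_mono_of_epi _
  exact ⟨ShortComplex.isIso_homologyMap_of_isIso_opcyclesMap_of_mono this inferInstance⟩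

lemma quasiIso_of_kernel {S₁ S₂ : ShortComplex B} (φ : S₁ ⟶ S₂) (h₁ : S₁.g = 0) [Mono φ.τ₂]
    (w : φ.τ₂ ≫ S₂.g = 0) (hex : (ShortComplex.mk φ.τ₂ S₂.g w).Exact) [Epi φ.τ₁] :
    ShortComplex.QuasiIso φ := by
  have hS₁ : IsIso S₁.iCycles := S₁.isIso_iCycles h₁
  have hmono : Mono (ShortComplex.cyclesMap φ) := by
    have : Mono (ShortComplex.cyclesMap φ ≫ S₂.iCycles) := by
      rw [ShortComplex.cyclesMap_i]
      exact mono_comp _ _
    exact mono_of_mono _ S₂.iCycles
  have hepi : Epi (ShortComplex.cyclesMap φ) := by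
    rw [epi_iff_surjective_up_to_refinements]
    intro T y
    obtain ⟨T₁, π₁, _, x, hx⟩ := hex.exact_up_to_refinements (y ≫ S₂.iCycles) (by simp)
    dsimp at x hx
    refine ⟨T₁, π₁, inferInstance, x ≫ inv S₁.iCycles, ?_⟩
    rw [← cancel_mono S₂.iCycles]
    simp [hx]
  have : IsIso (ShortComplex.cyclesMap φ) := isIso_of_mono_of_epi _
  exact ⟨ShortComplex.isIso_homologyMap_of_isIso_cyclesMap_of_epi this inferInstance⟩

lemma quasiIso_of_truncGE {K L : CochainComplex B ℤ} (φ : K ⟶ L) (a : ℤ) (hK : K.IsGE a)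
    (hL : L.IsStrictlyGE a) (hφ : ∀ n, a < n → IsIso (φ.f n)) [Epi (φ.f a)]
    (w : K.d (a - 1) a ≫ φ.f a = 0)
    (hex : (ShortComplex.mk (K.d (a - 1) a) (φ.f a) w).Exact) : QuasiIso φ where
  quasiIsoAt n := by
    obtain h | h | h := lt_trichotomy n a
    · rw [quasiIsoAt_iff_exactAt']
      · exact K.exactAt_of_isGE a n h
      · exact L.exactAt_of_isGE a n h
    · subst h
      rw [quasiIsoAt_iff' φ (n - 1) n (n + 1) (by simp) (by simp)]
      have : Mono ((HomologicalComplex.shortComplexFunctor' B (ComplexShape.up ℤ) (n - 1) n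
          (n + 1)).map φ).τ₃ := by
        have := hφ (n + 1) (by lia)
        exact inferInstanceAs (Mono (φ.f (n + 1)))
      have : Epi ((HomologicalComplex.shortComplexFunctor' B (ComplexShape.up ℤ) (n - 1) n
          (n + 1)).map φ).τ₂ := by
        exact inferInstanceAs (Epi (φ.f n))
      exact quasiIso_of_cokernel _ ((L.isZero_of_isStrictlyGE n (n - 1) (by lia)).eq_of_src _ _)
        w hex
    · rw [quasiIsoAt_iff' φ (n - 1) n (n + 1) (by simp) (by simp)]
      have : Mono ((HomologicalComplex.shortComplexFunctor' B (ComplexShape.up ℤ) (n - 1) n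
          (n + 1)).map φ).τ₃ := by
        have := hφ (n + 1) (by lia)
        exact inferInstanceAs (Mono (φ.f (n + 1)))
      have : IsIso ((HomologicalComplex.shortComplexFunctor' B (ComplexShape.up ℤ) (n - 1) n
          (n + 1)).map φ).τ₂ := by
        have := hφ n (by lia)
        exact inferInstanceAs (IsIso (φ.f n))
      have : Epi ((HomologicalComplex.shortComplexFunctor' B (ComplexShape.up ℤ) (n - 1) n
          (n + 1)).map φ).τ₁ := by
        change Epi (φ.f (n - 1))
        by_cases h' : n = a + 1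
        · obtain rfl : a = n - 1 := by lia
          infer_instance
        · have := hφ (n - 1) (by lia)
          infer_instance
      exact ShortComplex.quasiIso_of_epi_of_isIso_of_mono _

lemma quasiIso_of_truncLE {K L : CochainComplex B ℤ} (φ : K ⟶ L) (b : ℤ) (hL : L.IsLE b)
    (hK : K.IsStrictlyLE b) (hφ : ∀ n, n < b → IsIso (φ.f n)) [Mono (φ.f b)]
    (w : φ.f b ≫ L.d b (b + 1) = 0)
    (hex : (ShortComplex.mk (φ.f b) (L.d b (b + 1)) w).Exact) : QuasiIso φ where
  quasiIsoAt n := by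
    obtain h | h | h := lt_trichotomy b n
    · rw [quasiIsoAt_iff_exactAt']
      · exact K.exactAt_of_isLE b n h
      · exact L.exactAt_of_isLE b n h
    · subst h
      rw [quasiIsoAt_iff' φ (b - 1) b (b + 1) (by simp) (by simp)]
      have : Epi ((HomologicalComplex.shortComplexFunctor' B (ComplexShape.up ℤ) (b - 1) b
          (b + 1)).map φ).τ₁ := by
        have := hφ (b - 1) (by lia)
        exact inferInstanceAs (Epi (φ.f (b - 1)))
      have : Mono ((HomologicalComplex.shortComplexFunctor' B (ComplexShape.up ℤ) (b - 1) b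
          (b + 1)).map φ).τ₂ := by
        exact inferInstanceAs (Mono (φ.f b))
      exact quasiIso_of_kernel _ ((K.isZero_of_isStrictlyLE b (b + 1) (by lia)).eq_of_tgt _ _)
        w hex
    · rw [quasiIsoAt_iff' φ (n - 1) n (n + 1) (by simp) (by simp)]
      have : Epi ((HomologicalComplex.shortComplexFunctor' B (ComplexShape.up ℤ) (n - 1) n
          (n + 1)).map φ).τ₁ := by
        have := hφ (n - 1) (by lia)
        exact inferInstanceAs (Epi (φ.f (n - 1)))
      have : IsIso ((HomologicalComplex.shortComplexFunctor' B (ComplexShape.up ℤ) (n - 1) n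
          (n + 1)).map φ).τ₂ := by
        have := hφ n (by lia)
        exact inferInstanceAs (IsIso (φ.f n))
      have : Mono ((HomologicalComplex.shortComplexFunctor' B (ComplexShape.up ℤ) (n - 1) n
          (n + 1)).map φ).τ₃ := by
        change Mono (φ.f (n + 1))
        by_cases h' : n + 1 = b
        · subst h'
          infer_instance
        · have := hφ (n + 1) (by lia)
          infer_instance
      exact ShortComplex.quasiIso_of_epi_of_isIso_of_mono _

end Criteria

end Groth.Agent.Dcoh.FilTruncAb
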