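import Groth.Agent.Dcoh.FilStep
import Groth.Agent.Dcoh.FilTruncAb
import Mathlib.Algebra.Homology.FullSubcategory
import Mathlib.CategoryTheory.Limits.FunctorCategory.EpiMono

/-!
# Kernels, cokernels and canonical truncations of finite filtered objects
-/

set_option autoImplicit false
universe v u
open CategoryTheory CategoryTheory.Limits Opposite

namespace Groth.Agent.Dcoh.FilTrunc

open Groth.Agent.Dcoh.FilStep Groth.Agent.Dcoh.FilTruncAb

variable {A : Type u} [Category.{v} A] [Abelian A]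

/-- Exactness of a short complex of filtered objects gives exactness at each level. -/
lemma level_exact {S : ShortComplex (ℤᵒᵖ ⥤ A)} (hS : S.Exact) (p : ℤᵒᵖ) ⦃T : A⦄
    (x : T ⟶ S.X₂.obj p) (hx : x ≫ S.g.app p = 0) :
    ∃ (T' : A) (π : T' ⟶ T) (_ : Epi π) (y : T' ⟶ S.X₁.obj p), π ≫ x = y ≫ S.f.app p :=
  (exact_map_iff S ((evaluation ℤᵒᵖ A).obj p)).1 (hS.map _) x hx

lemma app_comp_app_of_comp_eq_zero {X Y Z : ℤᵒᵖ ⥤ A} {f : X ⟶ Y} {g : Y ⟶ Z} (w : f ≫ g = 0)
    (p : ℤᵒᵖ) : f.app p ≫ g.app p = 0 := by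
  rw [← NatTrans.comp_app, w]; rfl

lemma app_zero' (S : ShortComplex (ℤᵒᵖ ⥤ A)) (p : ℤᵒᵖ) : S.f.app p ≫ S.g.app p = 0 :=
  app_comp_app_of_comp_eq_zero S.zero p

lemma isFinFil_of_iso {F G : ℤᵒᵖ ⥤ A} (e : F ≅ G) (hF : FilD.IsFinFil A F) :
    FilD.IsFinFil A G := by
  obtain ⟨h1, ⟨b, h2⟩, a, h3⟩ := hF
  have key : ∀ {p q : ℤᵒᵖ} (f : p ⟶ q), G.map f = e.inv.app p ≫ F.map f ≫ e.hom.app q := by
    intro p q f
    rw [e.hom.naturality, ← Category.assoc, ← NatTrans.comp_app]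
    simp
  refine ⟨fun p q f => ?_, ⟨b, fun p hp => ?_⟩, a, fun p q f hp => ?_⟩
  · have := h1 f
    rw [key]
    infer_instance
  · exact (h2 p hp).of_iso (e.symm.app _)
  · have := h3 f hp
    rw [key]
    infer_instance

lemma isFinFil_of_isZero {F : ℤᵒᵖ ⥤ A} (hF : IsZero F) : FilD.IsFinFil A F := by
  have h : ∀ p, IsZero (F.obj p) := (Functor.isZero_iff _).1 hF
  refine ⟨fun p q f => ?_, ⟨0, fun p _ => h _⟩, 0, fun p q f _ => ?_⟩
  · exact (h p).mono _
  · rw [(h p).eq_of_src (F.map f) 0, isIsoZero_iff_source_target_isZero]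
    exact ⟨h p, h q⟩

/-- Levelwise cokernel is a finite filtered object if the step-lifting property holds. -/
lemma isFinFil_cokernel (S : ShortComplex (ℤᵒᵖ ⥤ A)) (hS : S.Exact) [Epi S.g]
    (hX₂ : FilD.IsFinFil A S.X₂) (hf : ∀ (p : ℤ) (h : p ≤ p + 1), StepLift S.f h) :
    FilD.IsFinFil A S.X₃ := by
  obtain ⟨h1, ⟨b, h2⟩, a, h3⟩ := hX₂
  have hmono : StepMono S.X₃ := by
    intro p
    have hp : p ≤ p + 1 := Int.le_add_one le_rfl
    change Mono (incl S.X₃ hp)
    rw [Preadditive.mono_iff_cancel_zero]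
    intro T x hx
    obtain ⟨T₁, π₁, _, y, hy⟩ := surjective_up_to_refinements_of_epi (S.g.app (op (p + 1))) x
    have h4 : (y ≫ incl S.X₂ hp) ≫ S.g.app (op p) = 0 := by
      rw [Category.assoc, incl_naturality, ← reassoc_of% hy, hx, comp_zero]
    obtain ⟨T₂, π₂, _, z, hz⟩ := level_exact hS _ _ h4
    obtain ⟨T₃, π₃, _, w, hw⟩ := hf p hp z (π₂ ≫ y) (by simpa using hz.symm)
    rw [← cancel_epi π₁, ← cancel_epi π₂, ← cancel_epi π₃, hy]
    have := congr($hw ≫ S.g.app (op (p + 1)))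
    simp only [Category.assoc, app_zero', comp_zero] at this ⊢
    rw [this]
  refine ⟨fun p q f => hmono.mono_map f, ⟨b, fun p hp => ?_⟩, a, fun p q f hp => ?_⟩
  · exact IsZero.of_epi (S.g.app (op p)) (h2 p hp)
  · have := h3 f hp
    have hm := hmono.mono_map f
    have he : Epi (S.g.app p ≫ S.X₃.map f) := by
      rw [← S.g.naturality]
      exact epi_comp _ _
    have := epi_of_epi (S.g.app p) (S.X₃.map f)
    exact isIso_of_mono_of_epi _

/-- Levelwise kernels are finite filtered objects. -/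
lemma isFinFil_kernel (S : ShortComplex (ℤᵒᵖ ⥤ A)) (hS : S.Exact) [Mono S.f]
    (hX₂ : FilD.IsFinFil A S.X₂) (hX₃ : FilD.IsFinFil A S.X₃) :
    FilD.IsFinFil A S.X₁ := by
  obtain ⟨h1, ⟨b, h2⟩, a, h3⟩ := hX₂
  obtain ⟨h1', -, -, -⟩ := hX₃
  have hmono : ∀ ⦃p q : ℤᵒᵖ⦄ (f : p ⟶ q), Mono (S.X₁.map f) := by
    intro p q f
    have := h1 f
    have : Mono (S.X₁.map f ≫ S.f.app q) := by
      rw [S.f.naturality]
      exact mono_comp _ _
    exact mono_of_mono _ (S.f.app q)
  refine ⟨hmono, ⟨b, fun p hp => ?_⟩, a, fun p q f hp => ?_⟩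
  · exact IsZero.of_mono (S.f.app (op p)) (h2 p hp)
  · have := h3 f hp
    have hm := hmono f
    have hm' := h1' f
    have : Epi (S.X₁.map f) := by
      rw [epi_iff_surjective_up_to_refinements]
      intro T y
      have h4 : (y ≫ S.f.app q ≫ inv (S.X₂.map f)) ≫ S.g.app p = 0 := by
        rw [← cancel_mono (S.X₃.map f)]
        simp only [Category.assoc, ← S.g.naturality, IsIso.inv_hom_id_assoc, app_zero', comp_zero,
          zero_comp]
      obtain ⟨T₁, π₁, _, z, hz⟩ := level_exact hS _ _ h4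
      refine ⟨T₁, π₁, inferInstance, z, ?_⟩
      rw [← cancel_mono (S.f.app q)]
      have := congr($hz ≫ S.X₂.map f)
      simpa using this
    exact isIso_of_mono_of_epi _

/-- `gr^p` is right exact. -/
lemma gr_rightExact (S : ShortComplex (ℤᵒᵖ ⥤ A)) (hS : S.Exact) [Epi S.g] (p : ℤ) :
    (S.map (FilD.gr A p)).Exact := by
  rw [exact_map_iff]
  intro T x hx
  have hp : p ≤ p + 1 := Int.le_add_one le_rfl
  obtain ⟨T₁, π₁, _, y, hy⟩ := surjective_up_to_refinements_of_epi (toGr S.X₂ p) x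
  have h1 : (y ≫ S.g.app (op p)) ≫ toGr _ p = 0 := by
    rw [Category.assoc, ← toGr_naturality, ← reassoc_of% hy, hx, comp_zero]
  rw [comp_toGr_eq_zero_iff _ _ hp] at h1
  obtain ⟨T₂, π₂, _, z, hz⟩ := h1
  obtain ⟨T₃, π₃, _, w, hw⟩ := surjective_up_to_refinements_of_epi (S.g.app (op (p + 1))) z
  have h2 : (π₃ ≫ π₂ ≫ y - w ≫ incl _ hp) ≫ S.g.app (op p) = 0 := by
    rw [Preadditive.sub_comp, sub_eq_zero]
    simp only [Category.assoc, incl_naturality]
    rw [hz, ← reassoc_of% hw]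
  obtain ⟨T₄, π₄, _, k, hk⟩ := level_exact hS _ _ h2
  refine ⟨T₄, π₄ ≫ π₃ ≫ π₂ ≫ π₁, inferInstance, k ≫ toGr _ _, ?_⟩
  simp only [Category.assoc, toGr_naturality, hy]
  rw [← reassoc_of% hk, Preadditive.sub_comp]
  simp

lemma gr_epi {X Y : ℤᵒᵖ ⥤ A} (g : X ⟶ Y) [Epi g] (p : ℤ) : Epi ((FilD.gr A p).map g) := by
  have : Epi (toGr X p ≫ (FilD.gr A p).map g) := by
    rw [toGr_naturality]
    exact epi_comp _ _
  exact epi_of_epi (toGr X p) _

/-- `gr^p` of a levelwise kernel of filtered objects is a mono. -/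
lemma gr_mono_of_kernel (S : ShortComplex (ℤᵒᵖ ⥤ A)) (hS : S.Exact) [Mono S.f]
    (hX₂ : StepMono S.X₂) (hX₃ : StepMono S.X₃) (p : ℤ) : Mono ((FilD.gr A p).map S.f) := by
  have hp : p ≤ p + 1 := Int.le_add_one le_rfl
  have hm := hX₃.mono_incl hp
  rw [Preadditive.mono_iff_cancel_zero]
  intro T x hx
  obtain ⟨T₁, π₁, _, y, hy⟩ := surjective_up_to_refinements_of_epi (toGr S.X₁ p) x
  have h1 : (y ≫ S.f.app (op p)) ≫ toGr _ p = 0 := by
    rw [Category.assoc, ← toGr_naturality, ← reassoc_of% hy, hx, comp_zero]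
  rw [comp_toGr_eq_zero_iff' hX₂ _ hp] at h1
  obtain ⟨z, hz⟩ := h1
  have h2 : z ≫ S.g.app (op (p + 1)) = 0 := by
    rw [← cancel_mono (incl S.X₃ hp), Category.assoc, ← incl_naturality, reassoc_of% hz, zero_comp,
      app_zero', comp_zero]
  obtain ⟨T₂, π₂, _, w, hw⟩ := level_exact hS _ _ h2
  have h3 : π₂ ≫ y = w ≫ incl _ hp := by
    rw [← cancel_mono (S.f.app (op p))]
    simp only [Category.assoc, incl_naturality]
    rw [← reassoc_of% hw, hz]
  rw [← cancel_epi π₁, ← cancel_epi π₂, hy, reassoc_of% h3, incl_toGr]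
  simp

/-- If the `gr` of a complex `X → Y → Z` is exact then `Y → Z` has the step-lifting property. -/
lemma stepLift_g_of_gr_exact (S : ShortComplex (ℤᵒᵖ ⥤ A)) (p : ℤ) (hZ : StepMono S.X₃)
    (hS : (S.map (FilD.gr A p)).Exact) (h : p ≤ p + 1) : StepLift S.g h := by
  rw [exact_map_iff] at hS
  have h0 := hZ.mono_incl h
  intro T x y hxy
  obtain ⟨T₁, π₁, _, k, hk⟩ := hS (x ≫ toGr _ _) (by
    rw [Category.assoc, toGr_naturality, reassoc_of% hxy]
    simp)
  obtain ⟨T₂, π₂, _, k', hk'⟩ := surjective_up_to_refinements_of_epi (toGr S.X₁ p) k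
  have h3 : (π₂ ≫ π₁ ≫ x - k' ≫ S.f.app _) ≫ toGr _ p = 0 := by
    rw [Preadditive.sub_comp, sub_eq_zero]
    simp only [Category.assoc]
    rw [hk, ← toGr_naturality, ← reassoc_of% hk']
  rw [comp_toGr_eq_zero_iff _ _ h] at h3
  obtain ⟨T₃, π₃, _, x', hx'⟩ := h3
  refine ⟨T₃, π₃ ≫ π₂ ≫ π₁, inferInstance, x', ?_⟩
  rw [← cancel_mono (incl S.X₃ h)]
  simp only [Category.assoc]
  rw [← hxy, ← incl_naturality, ← reassoc_of% hx', Preadditive.sub_comp]
  simp [app_zero']

/-- Exactness of all `gr^p` (with `Y` eventually zero, and `Z` with mono steps) implies levelwise exactness. -/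
lemma level_exact_of_gr_exact (S : ShortComplex (ℤᵒᵖ ⥤ A)) (hY : ∃ b : ℤ, ∀ p : ℤ, b ≤ p →
    IsZero (S.X₂.obj (op p))) (hZ : StepMono S.X₃)
    (hS : ∀ p : ℤ, (S.map (FilD.gr A p)).Exact) (p : ℤ) ⦃T : A⦄
    (x : T ⟶ S.X₂.obj (op p)) (hx : x ≫ S.g.app (op p) = 0) :
    ∃ (T' : A) (π : T' ⟶ T) (_ : Epi π) (y : T' ⟶ S.X₁.obj (op p)), π ≫ x = y ≫ S.f.app (op p) := by
  obtain ⟨b, hb⟩ := hY
  obtain ⟨k, hk⟩ : ∃ k : ℕ, b ≤ p + k := ⟨(b - p).toNat, by lia⟩
  induction k generalizing p T with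
  | zero => exact ⟨T, 𝟙 T, inferInstance, 0, (hb p (by simpa using hk)).eq_of_tgt _ _⟩
  | succ k ih =>
    have hp : p ≤ p + 1 := Int.le_add_one le_rfl
    have hm := hZ.mono_incl hp
    have h0 : (x ≫ toGr _ p) ≫ (FilD.gr A p).map S.g = 0 := by
      rw [Category.assoc, toGr_naturality, reassoc_of% hx, zero_comp]
    obtain ⟨T₁, π₁, _, y, hy⟩ := (exact_map_iff _ _).1 (hS p) _ h0
    obtain ⟨T₂, π₂, _, z, hz⟩ := surjective_up_to_refinements_of_epi (toGr S.X₁ p) y
    have h3 : (π₂ ≫ π₁ ≫ x - z ≫ S.f.app _) ≫ toGr _ p = 0 := by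
      rw [Preadditive.sub_comp, sub_eq_zero]
      simp only [Category.assoc]
      rw [hy, ← toGr_naturality, ← reassoc_of% hz]
    rw [comp_toGr_eq_zero_iff _ _ hp] at h3
    obtain ⟨T₃, π₃, _, w, hw⟩ := h3
    have h4 : w ≫ S.g.app (op (p + 1)) = 0 := by
      rw [← cancel_mono (incl S.X₃ hp), Category.assoc, ← incl_naturality, ← reassoc_of% hw,
        Preadditive.sub_comp]
      simp [app_zero', hx]
    obtain ⟨T₄, π₄, _, v, hv⟩ := ih (p + 1) w h4 (by push_cast at hk; lia)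
    refine ⟨T₄, π₄ ≫ π₃ ≫ π₂ ≫ π₁, inferInstance, π₄ ≫ π₃ ≫ z + v ≫ incl _ hp, ?_⟩
    rw [Preadditive.add_comp]
    simp only [Category.assoc, incl_naturality]
    rw [← reassoc_of% hv, ← hw]
    simp

/-- If the `gr` of a complex `X → Y → Z` is exact then `X → Y` has the step-lifting property. -/
lemma stepLift_f_of_gr_exact (S : ShortComplex (ℤᵒᵖ ⥤ A)) (hY : ∃ b : ℤ, ∀ p : ℤ, b ≤ p →
    IsZero (S.X₂.obj (op p))) (hZ : StepMono S.X₃)
    (hS : ∀ p : ℤ, (S.map (FilD.gr A p)).Exact) {p : ℤ} (h : p ≤ p + 1) : StepLift S.f h := by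
  intro T x y hxy
  have hm := hZ.mono_incl h
  refine level_exact_of_gr_exact S hY hZ hS (p + 1) y ?_
  rw [← cancel_mono (incl S.X₃ h), Category.assoc, ← incl_naturality, ← reassoc_of% hxy, app_zero',
    comp_zero, zero_comp]

section Complexes

variable (K : CochainComplex (FilD.FilF A) ℤ)

/-- The underlying complex of functors. -/
noncomputable abbrev under : CochainComplex (ℤᵒᵖ ⥤ A) ℤ :=
  ((FilD.IsFinFil A).ι.mapHomologicalComplex (ComplexShape.up ℤ)).obj K

/-- Lift of a complex of functors to a complex of filtered objects. -/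
abbrev liftCx (L : CochainComplex (ℤᵒᵖ ⥤ A) ℤ) (hL : ∀ n, FilD.IsFinFil A (L.X n)) :
    CochainComplex (FilD.FilF A) ℤ :=
  HomologicalComplex.liftObjectProperty (FilD.IsFinFil A) L hL

variable {K}

/-- Lift of a map to the lifted complex. -/
def liftTo {L : CochainComplex (ℤᵒᵖ ⥤ A) ℤ} (hL : ∀ n, FilD.IsFinFil A (L.X n))
    (φ : under K ⟶ L) : K ⟶ liftCx L hL where
  f n := ObjectProperty.homMk (φ.f n)
  comm' i j _ := by
    ext1
    exact φ.comm i j

/-- Lift of a map from the lifted complex. -/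
def liftFrom {L : CochainComplex (ℤᵒᵖ ⥤ A) ℤ} (hL : ∀ n, FilD.IsFinFil A (L.X n))
    (φ : L ⟶ under K) : liftCx L hL ⟶ K where
  f n := ObjectProperty.homMk (φ.f n)
  comm' i j _ := by
    ext1
    exact φ.comm i j

lemma isZero_filF {X : FilD.FilF A} (h : IsZero X.obj) : IsZero X := by
  rw [IsZero.iff_id_eq_zero] at h ⊢
  ext1
  exact h

lemma isZero_gr {X : ℤᵒᵖ ⥤ A} (h : IsZero X) (p : ℤ) : IsZero ((FilD.gr A p).obj X) :=
  Functor.map_isZero _ h

lemma exact_gr_of_isZero_homology {K : CochainComplex (FilD.FilF A) ℤ} {p n : ℤ}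
    (h : IsZero (((FilD.grCx p).obj K).homology n)) (i k : ℤ) (hi : i + 1 = n) (hk : n + 1 = k) :
    ((HomologicalComplex.sc' (under K) i n k).map (FilD.gr A p)).Exact := by
  have h' := (HomologicalComplex.exactAt_iff_isZero_homology _ _).2 h
  rw [HomologicalComplex.exactAt_iff' _ i n k (by simp [← hi]) (by simp [hk])] at h'
  exact h'

/-- Truncation `τ_{≥ a}` of a filtered complex whose graded pieces have no cohomology in degrees `< a`. -/
theorem exists_truncGE (K : CochainComplex (FilD.FilF A) ℤ) (a : ℤ)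
    (hK : ∀ (p n : ℤ), n < a → IsZero (((FilD.grCx p).obj K).homology n)) :
    ∃ (L : CochainComplex (FilD.FilF A) ℤ) (φ : K ⟶ L), L.IsStrictlyGE a ∧
      FilD.IsFilteredQuasiIso φ := by
  let K' := under K
  let L' := K'.truncGE a
  let π : K' ⟶ L' := K'.πTruncGE a
  have hsl : ∀ (p : ℤ) (h : p ≤ p + 1), StepLift (K'.d (a - 1) a) h := by
    intro p h
    have h1 := exact_gr_of_isZero_homology (hK p (a - 1) (by lia)) (a - 2) a (by lia) (by lia)
    have h2 := stepLift_g_of_gr_exact _ p (stepMono_of_filF (K.X _)) h1 h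
    exact h2
  have hL : ∀ n, FilD.IsFinFil A (L'.X n) := by
    intro n
    obtain h | h | h := lt_trichotomy n a
    · exact isFinFil_of_isZero (L'.isZero_of_isStrictlyGE a n h)
    · subst h
      have : Epi (π.f n) := epi_πTruncGE_f K' n n
      exact @isFinFil_cokernel _ _ _ (ShortComplex.mk (K'.d (n - 1) n) (π.f n)
        (d_comp_πTruncGE_f' K' n)) (πTruncGE_exact K' n) this (K.X n).property hsl
    · have := isIso_πTruncGE K' a n h
      exact isFinFil_of_iso (asIso ((K'.πTruncGE a).f n)) (K.X n).property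
  refine ⟨liftCx L' hL, liftTo hL π, ?_, ?_⟩
  · rw [CochainComplex.isStrictlyGE_iff]
    intro n hn
    exact isZero_filF (L'.isZero_of_isStrictlyGE a n hn)
  · intro p
    have hKG : ((FilD.grCx p).obj K).IsGE a := by
      rw [CochainComplex.isGE_iff]
      intro n hn
      rw [HomologicalComplex.exactAt_iff_isZero_homology]
      exact hK p n hn
    have hLG : ((FilD.grCx p).obj (liftCx L' hL)).IsStrictlyGE a := by
      rw [CochainComplex.isStrictlyGE_iff]
      intro n hn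
      exact isZero_gr (L'.isZero_of_isStrictlyGE a n hn) p
    have hepi : Epi (π.f a) := epi_πTruncGE_f K' a a
    have hex : ((ShortComplex.mk (K'.d (a - 1) a) (π.f a)
        (d_comp_πTruncGE_f' K' a)).map (FilD.gr A p)).Exact :=
      @gr_rightExact _ _ _ (ShortComplex.mk (K'.d (a - 1) a) (π.f a)
        (d_comp_πTruncGE_f' K' a)) (πTruncGE_exact K' a) hepi p
    have : Epi (((FilD.grCx p).map (liftTo hL π)).f a) := gr_epi (π.f a) p
    exact quasiIso_of_truncGE ((FilD.grCx p).map (liftTo hL π)) a hKG hLG (fun n hn => by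
      have := isIso_πTruncGE K' a n hn
      exact inferInstanceAs (IsIso ((FilD.gr A p).map ((K'.πTruncGE a).f n)))) _ hex

/-- Truncation `τ_{≤ b}` of a filtered complex whose graded pieces have no cohomology in degrees `> b`. -/
theorem exists_truncLE (K : CochainComplex (FilD.FilF A) ℤ) (b : ℤ)
    (hK : ∀ (p n : ℤ), b < n → IsZero (((FilD.grCx p).obj K).homology n)) :
    ∃ (M : CochainComplex (FilD.FilF A) ℤ) (φ : M ⟶ K), M.IsStrictlyLE b ∧
      FilD.IsFilteredQuasiIso φ := by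
  let K' := under K
  let L' := K'.truncLE b
  let ι : L' ⟶ K' := K'.ιTruncLE b
  have hsl : ∀ (p : ℤ) (h : p ≤ p + 1), StepLift (K'.d b (b + 1)) h := by
    intro p h
    have h1 := fun p => exact_gr_of_isZero_homology (hK p (b + 1) (by lia)) b (b + 2)
      (by lia) (by lia)
    have h2 := stepLift_f_of_gr_exact _ (K.X _).property.2.1 (stepMono_of_filF (K.X _)) h1 h
    exact h2
  have hmono : Mono (ι.f b) := mono_ιTruncLE_f K' b b
  have hL : ∀ n, FilD.IsFinFil A (L'.X n) := by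
    intro n
    obtain h | h | h := lt_trichotomy b n
    · exact isFinFil_of_isZero (L'.isZero_of_isStrictlyLE b n h)
    · subst h
      exact @isFinFil_kernel _ _ _ (ShortComplex.mk (ι.f b) (K'.d b (b + 1))
        (ιTruncLE_f_comp_d' K' b)) (ιTruncLE_exact K' b) hmono (K.X b).property (K.X (b + 1)).property
    · have := isIso_ιTruncLE K' b n h
      exact isFinFil_of_iso (asIso ((K'.ιTruncLE b).f n)).symm (K.X n).property
  refine ⟨liftCx L' hL, liftFrom hL ι, ?_, ?_⟩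
  · rw [CochainComplex.isStrictlyLE_iff]
    intro n hn
    exact isZero_filF (L'.isZero_of_isStrictlyLE b n hn)
  · intro p
    have hKG : ((FilD.grCx p).obj K).IsLE b := by
      rw [CochainComplex.isLE_iff]
      intro n hn
      rw [HomologicalComplex.exactAt_iff_isZero_homology]
      exact hK p n hn
    have hLG : ((FilD.grCx p).obj (liftCx L' hL)).IsStrictlyLE b := by
      rw [CochainComplex.isStrictlyLE_iff]
      intro n hn
      exact isZero_gr (L'.isZero_of_isStrictlyLE b n hn) p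
    have hex : ((ShortComplex.mk (ι.f b) (K'.d b (b + 1))
        (ιTruncLE_f_comp_d' K' b)).map (FilD.gr A p)).Exact :=
      (gr_exact_iff_stepLift (ShortComplex.mk (ι.f b) (K'.d b (b + 1))
        (ιTruncLE_f_comp_d' K' b)) p ((ιTruncLE_exact K' b).map _)
        (stepMono_of_filF (K.X (b + 1))) (Int.le_add_one le_rfl)).2 (hsl p _)
    have : Mono (((FilD.grCx p).map (liftFrom hL ι)).f b) :=
      @gr_mono_of_kernel _ _ _ (ShortComplex.mk (ι.f b) (K'.d b (b + 1))
        (ιTruncLE_f_comp_d' K' b)) (ιTruncLE_exact K' b) hmono (stepMono_of_filF (K.X b))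
        (stepMono_of_filF (K.X (b + 1))) p
    exact quasiIso_of_truncLE ((FilD.grCx p).map (liftFrom hL ι)) b hKG hLG (fun n hn => by
      have := isIso_ιTruncLE K' b n hn
      exact inferInstanceAs (IsIso ((FilD.gr A p).map ((K'.ιTruncLE b).f n)))) _ hex

end Complexes

end Groth.Agent.Dcoh.FilTrunc
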