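import Groth.Prelude.Def_CohDer
import Mathlib.CategoryTheory.Triangulated.Basic
import Mathlib.CategoryTheory.Triangulated.Pretriangulated
import Mathlib.CategoryTheory.Limits.Shapes.Products

/-!
# Maps into coproducts factoring through finitely many summands

`FF K c`: every map `K ⟶ c.pt` into the point of a cofan is a finite sum of maps into the summands.
For a colimit cofan this is equivalent to the bijectivity of `⊕ Hom(K, M i) ⟶ Hom(K, c.pt)`.
-/

set_option autoImplicit false
universe w w' v u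

open CategoryTheory CategoryTheory.Limits

namespace Groth.Agent.Dcoh.FinFactor

section Preadd

variable {D : Type u} [Category.{v} D] [Preadditive D] {I : Type w} {M : I → D}

/-- Every map into the point of the cofan is a finite sum of maps into the summands. -/
def FF (K : D) (c : Cofan M) : Prop :=
  ∀ f : K ⟶ c.pt, ∃ (t : Finset I) (g : ∀ i, K ⟶ M i), f = ∑ i ∈ t, g i ≫ c.inj i

/-- The projections of a coproduct. -/
noncomputable def proj {c : Cofan M} (hc : IsColimit c) (i : I) : c.pt ⟶ M i := by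
  classical
  exact Cofan.IsColimit.desc hc (fun j => if h : j = i then eqToHom (by rw [h]) else 0)

theorem inj_proj {c : Cofan M} (hc : IsColimit c) (i : I) : c.inj i ≫ proj hc i = 𝟙 _ := by
  classical
  simp [proj]

theorem inj_proj_ne {c : Cofan M} (hc : IsColimit c) {i j : I} (h : j ≠ i) :
    c.inj j ≫ proj hc i = 0 := by
  classical
  simp [proj, h]

theorem sum_comp_proj {K : D} {c : Cofan M} (hc : IsColimit c) (t : Finset I) (g : ∀ i, K ⟶ M i) (j : I)
    (hj : j ∈ t) : (∑ i ∈ t, g i ≫ c.inj i) ≫ proj hc j = g j := by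
  rw [Preadditive.sum_comp, Finset.sum_eq_single j]
  · rw [Category.assoc, inj_proj, Category.comp_id]
  · intro i _ hij
    rw [Category.assoc, inj_proj_ne hc hij, comp_zero]
  · intro h; exact absurd hj h

/-- Extra summands can be added. -/
theorem exists_of_superset {K : D} {c : Cofan M} (t t' : Finset I) (h : t ⊆ t') (g : ∀ i, K ⟶ M i) :
    ∃ g' : ∀ i, K ⟶ M i, ∑ i ∈ t, g i ≫ c.inj i = ∑ i ∈ t', g' i ≫ c.inj i := by
  classical
  refine ⟨fun i => if i ∈ t then g i else 0, ?_⟩
  rw [← Finset.sum_subset h]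
  · exact Finset.sum_congr rfl fun i hi => by simp only [if_pos hi]
  · intro i _ hi
    simp only [if_neg hi, zero_comp]

theorem exists_add {K : D} {c : Cofan M} {f f' : K ⟶ c.pt}
    (h : ∃ (t : Finset I) (g : ∀ i, K ⟶ M i), f = ∑ i ∈ t, g i ≫ c.inj i)
    (h' : ∃ (t : Finset I) (g : ∀ i, K ⟶ M i), f' = ∑ i ∈ t, g i ≫ c.inj i) :
    ∃ (t : Finset I) (g : ∀ i, K ⟶ M i), f + f' = ∑ i ∈ t, g i ≫ c.inj i := by
  classical
  obtain ⟨t, g, rfl⟩ := h
  obtain ⟨t', g', rfl⟩ := h'
  obtain ⟨g₁, h₁⟩ := exists_of_superset (c := c) t (t ∪ t') Finset.subset_union_left g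
  obtain ⟨g₂, h₂⟩ := exists_of_superset (c := c) t' (t ∪ t') Finset.subset_union_right g'
  refine ⟨t ∪ t', fun i => g₁ i + g₂ i, ?_⟩
  rw [h₁, h₂, ← Finset.sum_add_distrib]
  exact Finset.sum_congr rfl fun i _ => by rw [Preadditive.add_comp]

theorem FF.of_retract {K L : D} {c : Cofan M} (i : K ⟶ L) (r : L ⟶ K) (h : i ≫ r = 𝟙 K) (hL : FF L c) :
    FF K c := by
  intro f
  obtain ⟨t, g, hg⟩ := hL (r ≫ f)
  refine ⟨t, fun j => i ≫ g j, ?_⟩
  calc f = i ≫ r ≫ f := by rw [← Category.assoc, h, Category.id_comp]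
    _ = _ := by
      rw [hg, Preadditive.comp_sum]
      exact Finset.sum_congr rfl fun j _ => by rw [Category.assoc]

theorem FF.of_iso {K L : D} {c : Cofan M} (e : K ≅ L) (hL : FF L c) : FF K c :=
  FF.of_retract e.hom e.inv e.hom_inv_id hL

/-- Change of the cofan. -/
theorem FF.of_cofan_iso {K : D} {M' : I → D} {c : Cofan M} {c' : Cofan M'} (e : ∀ i, M i ≅ M' i)
    (φ : c.pt ≅ c'.pt) (h : ∀ i, c.inj i ≫ φ.hom = (e i).hom ≫ c'.inj i) (hK : FF K c) : FF K c' := by
  intro f
  obtain ⟨t, g, hg⟩ := hK (f ≫ φ.inv)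
  refine ⟨t, fun j => g j ≫ (e j).hom, ?_⟩
  calc f = (f ≫ φ.inv) ≫ φ.hom := by simp
    _ = _ := by
      rw [hg, Preadditive.sum_comp]
      exact Finset.sum_congr rfl fun j _ => by rw [Category.assoc, Category.assoc, h]

theorem FF.of_isColimit {K : D} {M' : I → D} {c : Cofan M} {c' : Cofan M'} (e : ∀ i, M i ≅ M' i)
    (hc : IsColimit c) (hc' : IsColimit c') (hK : FF K c) : FF K c' := by
  let φ : c.pt ≅ c'.pt :=
    { hom := Cofan.IsColimit.desc hc (fun i => (e i).hom ≫ c'.inj i)
      inv := Cofan.IsColimit.desc hc' (fun i => (e i).inv ≫ c.inj i)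
      hom_inv_id := by
        apply Cofan.IsColimit.hom_ext hc
        intro i
        simp
      inv_hom_id := by
        apply Cofan.IsColimit.hom_ext hc'
        intro i
        simp }
  exact FF.of_cofan_iso e φ (fun i => by simp [φ]) hK

theorem FF.of_isZero {K : D} {c : Cofan M} (hK : IsZero K) : FF K c := by
  intro f
  exact ⟨∅, fun _ => 0, by rw [Finset.sum_empty]; exact hK.eq_of_src _ _⟩

theorem FF.biprod {K L : D} [HasBinaryBiproduct K L] {c : Cofan M} (hK : FF K c) (hL : FF L c) :
    FF (K ⊞ L) c := by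
  intro f
  obtain ⟨t, g, hg⟩ := hK (biprod.inl ≫ f)
  obtain ⟨t', g', hg'⟩ := hL (biprod.inr ≫ f)
  have h : f = biprod.fst ≫ biprod.inl ≫ f + biprod.snd ≫ biprod.inr ≫ f := by
    rw [← Category.assoc, ← Category.assoc, ← Preadditive.add_comp, biprod.total, Category.id_comp]
  rw [h, hg, hg']
  apply exists_add
  · exact ⟨t, fun i => biprod.fst ≫ g i, by
      rw [Preadditive.comp_sum]
      exact Finset.sum_congr rfl fun j _ => by rw [Category.assoc]⟩
  · exact ⟨t', fun i => biprod.snd ≫ g' i, by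
      rw [Preadditive.comp_sum]
      exact Finset.sum_congr rfl fun j _ => by rw [Category.assoc]⟩

/-- Reindexing. -/
theorem FF.reindex {K : D} {J : Type w'} (e : J ≃ I) {c : Cofan M} (hK : FF K c) :
    FF K (Cofan.mk c.pt (fun j => c.inj (e j)) : Cofan fun j => M (e j)) := by
  intro f
  obtain ⟨t, g, hg⟩ := hK f
  refine ⟨t.map e.symm.toEmbedding, fun j => g (e j), ?_⟩
  rw [Finset.sum_map]
  refine hg.trans (Finset.sum_congr rfl fun i _ => ?_)
  have : ∀ k, k = i → g i ≫ c.inj i = g k ≫ c.inj k := by rintro k rfl; rfl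
  exact this _ (e.apply_symm_apply i)

end Preadd

section Bijective

variable {D : Type u} [Category.{v} D] [Preadditive D] {I : Type v} (M : I → D) [HasCoproduct M]

theorem homSumToHomCoprod_of [inst : DecidableEq I] {K : D} (i : I) (g : K ⟶ M i) :
    CohDer.homSumToHomCoprod K M (DirectSum.of (fun i => K ⟶ M i) i g) = g ≫ Sigma.ι M i := by
  unfold CohDer.homSumToHomCoprod
  convert DirectSum.toAddMonoid_of (fun i => Preadditive.rightComp K (Sigma.ι M i)) i g
  rfl

theorem homSumToHomCoprod_proj {K : D} (x : DirectSum I (fun i => K ⟶ M i)) (j : I) :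
    CohDer.homSumToHomCoprod K M x ≫ proj (coproductIsCoproduct M) j = x j := by
  classical
  induction x using DirectSum.induction_on with
  | zero => rw [map_zero, zero_comp]; rfl
  | of i g =>
    rw [homSumToHomCoprod_of]
    by_cases h : i = j
    · subst h
      rw [DirectSum.of_eq_same, Category.assoc]
      have := inj_proj (coproductIsCoproduct M) i
      exact (congrArg (fun z => g ≫ z) this).trans (Category.comp_id _)
    · rw [DirectSum.of_eq_of_ne _ _ _ (Ne.symm h), Category.assoc]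
      have := inj_proj_ne (coproductIsCoproduct M) h
      exact (congrArg (fun z => g ≫ z) this).trans comp_zero
  | add x y hx hy => rw [map_add, Preadditive.add_comp, hx, hy]; rfl

/-- Bijectivity of `⊕ Hom(K, M i) ⟶ Hom(K, ∐ M)` in terms of `FF`. -/
theorem bijective_of_FF {K : D} {c : Cofan M} (hc : IsColimit c) (h : FF K c) :
    Function.Bijective (CohDer.homSumToHomCoprod K M) := by
  classical
  constructor
  · intro x y hxy
    refine DFinsupp.ext fun j => ?_
    have hx := homSumToHomCoprod_proj M x j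
    have hy := homSumToHomCoprod_proj M y j
    exact hx.symm.trans ((congrArg (fun z => z ≫ proj (coproductIsCoproduct M) j) hxy).trans hy)
  · intro f
    obtain ⟨t, g, hg⟩ := (FF.of_isColimit (fun i => Iso.refl (M i)) hc (coproductIsCoproduct M) h) f
    refine ⟨∑ i ∈ t, DirectSum.of (fun i => K ⟶ M i) i (g i), ?_⟩
    rw [map_sum, hg]
    refine Finset.sum_congr rfl fun i _ => ?_
    rw [homSumToHomCoprod_of]
    rfl

end Bijective

section Triangulated

open Pretriangulated

variable {D : Type u} [Category.{v} D] [Preadditive D] [HasZeroObject D] [HasShift D ℤ]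
  [∀ n : ℤ, (shiftFunctor D n).Additive] [Pretriangulated D] {I : Type w} {M : I → D}

/-- `FF (-) c` is stable under extensions. -/
theorem FF.ext_triangle {c : Cofan M} (hc : IsColimit c) (T : Triangle D) (hT : T ∈ distTriang D)
    (h₁ : FF T.obj₁ c) (h₃ : FF T.obj₃ c) : FF T.obj₂ c := by
  intro f
  obtain ⟨t, g, hg⟩ := h₁ (T.mor₁ ≫ f)
  let e : c.pt ⟶ c.pt := ∑ i ∈ t, proj hc i ≫ c.inj i
  have he : T.mor₁ ≫ (f - f ≫ e) = 0 := by
    rw [Preadditive.comp_sub, ← Category.assoc, hg, Preadditive.comp_sum, sub_eq_zero]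
    refine Finset.sum_congr rfl fun j hj => ?_
    rw [← Category.assoc, sum_comp_proj hc t g j hj]
  obtain ⟨k, hk⟩ := Triangle.yoneda_exact₂ T hT (f - f ≫ e) he
  obtain ⟨t', g', hg'⟩ := h₃ k
  have hf : f = f ≫ e + T.mor₂ ≫ k := by rw [← hk]; abel
  rw [hf]
  apply exists_add
  · refine ⟨t, fun i => f ≫ proj hc i, ?_⟩
    rw [Preadditive.comp_sum]
    exact Finset.sum_congr rfl fun j _ => by rw [Category.assoc]
  · refine ⟨t', fun i => T.mor₂ ≫ g' i, ?_⟩
    rw [hg', Preadditive.comp_sum]
    exact Finset.sum_congr rfl fun j _ => by rw [Category.assoc]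

end Triangulated

end Groth.Agent.Dcoh.FinFactor
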