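import Groth.Agent.Dcoh.BddCx
import Mathlib.Algebra.Category.ModuleCat.Abelian
import Mathlib.Algebra.Category.ModuleCat.Projective
import Mathlib.Algebra.Category.ModuleCat.Biproducts
import Mathlib.Algebra.Homology.DerivedCategory.KProjective
import Mathlib.RingTheory.Flat.Equalizer
import Mathlib.LinearAlgebra.TensorProduct.Prod

/-!
# Flat amplitude and truncation over a ring

* `flat_ker`: the kernel of a surjection between flat modules is flat.
* `flat_opcycles`: if `φ : K ⟶ F` is a morphism of bounded above complexes of flat modules, an isomorphism on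
  `H^i` for `i ≥ a` and `F` vanishes in degrees `< a`, then `K.opcycles a` is flat.
* `exists_map_eq`: a morphism in the derived category from a bounded above complex of projectives is
  represented by a morphism of complexes.
-/

set_option autoImplicit false

universe w v u

open CategoryTheory CategoryTheory.Limits

namespace Groth.Agent.Dcoh.FlatAmp

section Algebra

variable {R : Type u} [CommRing R]

theorem flat_ker {A B : Type v} [AddCommGroup A] [Module R A] [AddCommGroup B] [Module R B]
    [Module.Flat R A] [Module.Flat R B] (f : A →ₗ[R] B) (hf : Function.Surjective f) :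
    Module.Flat R (LinearMap.ker f) := by
  rw [Module.Flat.iff_rTensor_preserves_injective_linearMap]
  intro N N' _ _ _ _ g hg
  have h1 := LinearMap.lTensor_injective_of_exact_of_flat f hf (LinearMap.ker f).subtype
    (LinearMap.ker f).subtype_injective (LinearMap.exact_subtype_ker_map f) N
  have h2 : Function.Injective (g.rTensor A) :=
    Module.Flat.rTensor_preserves_injective_linearMap g hg
  have h3 : (g.rTensor A) ∘ₗ ((LinearMap.ker f).subtype.lTensor N) =
      ((LinearMap.ker f).subtype.lTensor N') ∘ₗ (g.rTensor (LinearMap.ker f)) := by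
    rw [LinearMap.rTensor_comp_lTensor, LinearMap.lTensor_comp_rTensor]
  have h4 : Function.Injective (((LinearMap.ker f).subtype.lTensor N') ∘ₗ
      (g.rTensor (LinearMap.ker f))) := by
    rw [← h3]
    exact h2.comp h1
  exact Function.Injective.of_comp (f := ((LinearMap.ker f).subtype.lTensor N')) h4

theorem flat_prod {A B : Type v} [AddCommGroup A] [Module R A] [AddCommGroup B] [Module R B]
    [Module.Flat R A] [Module.Flat R B] : Module.Flat R (A × B) := by
  rw [Module.Flat.iff_rTensor_preserves_injective_linearMap]
  intro N P _ _ _ _ f hf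
  have h1 : (TensorProduct.prodRight R R P A B).toLinearMap ∘ₗ (f.rTensor (A × B)) =
      ((f.rTensor A).prodMap (f.rTensor B)) ∘ₗ (TensorProduct.prodRight R R N A B).toLinearMap := by
    apply TensorProduct.ext'
    intro x y
    rfl
  have h2 : Function.Injective
      ((TensorProduct.prodRight R R P A B).toLinearMap ∘ₗ (f.rTensor (A × B))) := by
    rw [h1]
    have h3 : Function.Injective ((f.rTensor A).prodMap (f.rTensor B)) :=
      Prod.map_injective.mpr ⟨Module.Flat.rTensor_preserves_injective_linearMap f hf,
        Module.Flat.rTensor_preserves_injective_linearMap f hf⟩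
    exact h3.comp (TensorProduct.prodRight R R N A B).injective
  exact Function.Injective.of_comp (f := (TensorProduct.prodRight R R P A B)) h2

/-- The class of flat modules. -/
abbrev FlatP (R : Type u) [CommRing R] : ObjectProperty (ModuleCat.{v} R) :=
  fun M => Module.Flat R M

instance : (FlatP.{v} R).IsClosedUnderIsomorphisms where
  of_iso e h := by
    have : Module.Flat R _ := h
    exact Module.Flat.of_linearEquiv e.symm.toLinearEquiv

theorem closedKer_flat : BddCx.ClosedKer (FlatP.{v} R) := by
  intro A B p _ hA hB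
  have : Module.Flat R A := hA
  have : Module.Flat R B := hB
  have h1 := flat_ker p.hom ((ModuleCat.epi_iff_surjective p).mp inferInstance)
  exact Module.Flat.of_linearEquiv (ModuleCat.kernelIsoKer p).toLinearEquiv

theorem flat_of_isZero (A : ModuleCat.{v} R) (h : IsZero A) : FlatP R A := by
  have := ModuleCat.subsingleton_of_isZero h
  change Module.Flat R A
  infer_instance

theorem flat_biprod {A B : ModuleCat.{v} R} (hA : FlatP R A) (hB : FlatP R B) :
    FlatP R (A ⊞ B) := by
  have : Module.Flat R A := hA
  have : Module.Flat R B := hB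
  have : Module.Flat R (A × B) := flat_prod
  exact Module.Flat.of_linearEquiv (ModuleCat.biprodIsoProd A B).toLinearEquiv

end Algebra

section Cone

variable {C : Type u} [Category.{v} C] [Abelian C] {K F : CochainComplex C ℤ} (φ : K ⟶ F)

open CochainComplex CochainComplex.HomComplex

/-- The connecting morphism of the mapping cone. -/
noncomputable def δ : mappingCone φ ⟶ K⟦(1 : ℤ)⟧ := (mappingCone.triangle φ).mor₃

lemma isIso_δ_f (i : ℤ) (h : IsZero (F.X i)) : IsIso ((δ φ).f i) := by
  let l : K.X (i + 1) ⟶ (mappingCone φ).X i := (mappingCone.inl φ).v (i + 1) i (by lia)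
  let s : (K⟦(1 : ℤ)⟧).X i ⟶ (mappingCone φ).X i := -l
  refine ⟨s, ?_, ?_⟩
  · rw [mappingCone.ext_from_iff φ (i + 1) i rfl]
    refine ⟨?_, h.eq_of_src _ _⟩
    have h1 := mappingCone.inl_v_triangle_mor₃_f_assoc φ (i + 1) i (by lia) s
    refine h1.trans ?_
    change (-(𝟙 (K.X (i + 1)))) ≫ (-l) = l ≫ 𝟙 _
    rw [Preadditive.neg_comp_neg, Category.id_comp, Category.comp_id]
  · have h1 := mappingCone.inl_v_triangle_mor₃_f φ (i + 1) i (by lia)
    have h2 : s ≫ (δ φ).f i = -((mappingCone.inl φ).v (i + 1) i (by lia) ≫
      (mappingCone.triangle φ).mor₃.f i) := Preadditive.neg_comp _ _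
    rw [h2, h1]
    exact neg_neg _

/-- The shift of `opcycles`. -/
noncomputable def opcyclesShift (K : CochainComplex C ℤ) (i j : ℤ) (hij : 1 + i = j) :
    (K⟦(1 : ℤ)⟧).opcycles i ≅ K.opcycles j :=
  ShortComplex.opcyclesMapIso ((shiftShortComplexFunctorIso C 1 i j hij).app K)

/-- `opcycles` of the mapping cone, in a degree `i` such that `F` vanishes in degrees `i` and `i - 1`. -/
theorem nonempty_opcycles_iso (i j : ℤ) (hij : 1 + i = j) (h1 : IsZero (F.X i))
    (h0 : IsZero (F.X (i - 1))) : Nonempty ((mappingCone φ).opcycles i ≅ K.opcycles j) := by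
  have := isIso_δ_f φ i h1
  have := isIso_δ_f φ (i - 1) h0
  have := BddCx.isIso_opcyclesMap (δ φ) (i - 1) i (by lia)
  exact ⟨asIso (HomologicalComplex.opcyclesMap (δ φ) i) ≪≫ opcyclesShift K i j hij⟩

end Cone

section Main

variable {C : Type u} [Category.{v} C] [Abelian C] [HasDerivedCategory.{w} C]

open DerivedCategory

/-- Morphisms in the derived category from a bounded above complex of projectives are represented by morphisms of
complexes. -/
theorem exists_map_eq {K F : CochainComplex C ℤ} [K.IsKProjective] (α : Q.obj K ⟶ Q.obj F) :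
    ∃ φ : K ⟶ F, Q.map φ = α := by
  obtain ⟨g, hg⟩ := (CochainComplex.IsKProjective.Qh_map_bijective K
    ((HomotopyCategory.quotient _ _).obj F)).surjective
    ((quotientCompQhIso C).hom.app K ≫ α ≫ (quotientCompQhIso C).inv.app F)
  obtain ⟨φ, rfl⟩ := (HomotopyCategory.quotient _ _).map_surjective g
  refine ⟨φ, ?_⟩
  have h1 := (quotientCompQhIso C).hom.naturality φ
  rw [Functor.comp_map, hg, Category.assoc, Category.assoc, Iso.inv_hom_id_app,
    Category.comp_id] at h1
  exact ((cancel_epi _).mp h1).symm

variable (P : ObjectProperty C) [P.IsClosedUnderIsomorphisms]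

/-- Let `P` be a class of objects closed under isomorphisms, binary biproducts, kernels of epimorphisms (such as flat
objects), and `φ : K ⟶ F` a morphism of bounded above complexes with terms in `P`, isomorphism on `H^i` for `i ≥ a`,
with `F` zero in degrees `< a`. Then `K.opcycles a` is in `P`. -/
theorem prop_opcycles_of_map (hP : BddCx.ClosedKer P) (h0 : ∀ A : C, IsZero A → P A)
    (hbi : ∀ A B : C, P A → P B → P (A ⊞ B)) {K F : CochainComplex C ℤ} (φ : K ⟶ F) (a b : ℤ)
    (hK : ∀ i, P (K.X i)) (hF : ∀ i, P (F.X i)) (hKb : ∀ i, b < i → IsZero (K.X i))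
    (hFb : ∀ i, b < i → IsZero (F.X i)) (hFa : ∀ i, i < a → IsZero (F.X i))
    (hφ : ∀ i, a ≤ i → IsIso ((homologyFunctor C i).map (Q.map φ))) : P (K.opcycles a) := by
  have e : ∀ i : ℤ, (CochainComplex.mappingCone φ).X i ≅ K.X (i + 1) ⊞ F.X i := fun i =>
    HomologicalComplex.homotopyCofiber.XIsoBiprod φ i (i + 1) (by simp)
  have hex : ∀ i, a - 1 ≤ i → IsZero ((CochainComplex.mappingCone φ).homology i) := by
    intro i hi
    have h1 : Epi ((homologyFunctor C i).map (Q.map φ)) := by
      rcases (show i = a - 1 ∨ a ≤ i by lia) with rfl | hi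
      · have hz : IsZero ((homologyFunctor C (a - 1)).obj (Q.obj F)) := by
          refine IsZero.of_iso ?_ ((homologyFunctorFactors C (a - 1)).app F)
          exact (HomologicalComplex.ExactAt.of_isZero (hFa _ (by lia))).isZero_homology
        exact ⟨fun _ _ _ => hz.eq_of_src _ _⟩
      · have := hφ i hi
        infer_instance
    have h2 : Mono ((homologyFunctor C (i + 1)).map (Q.map φ)) := by
      have := hφ (i + 1) (by lia)
      infer_instance
    have h3 := BddCx.isZero_homology_obj₃ _ (mappingCone_triangle_distinguished φ) i (i + 1) rfl h1 h2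
    exact h3.of_iso ((homologyFunctorFactors C i).app _).symm
  have h := BddCx.prop_opcycles hP h0 (CochainComplex.mappingCone φ) (a - 1) b
    (fun i _ => P.prop_of_iso (e i).symm (hbi _ _ (hK _) (hF _)))
    (fun i hi => by
      refine IsZero.of_iso ?_ (e i)
      rw [biprod_isZero_iff]
      exact ⟨hKb _ (by lia), hFb _ hi⟩) hex (a - 1) le_rfl
  obtain ⟨f⟩ := nonempty_opcycles_iso φ (a - 1) a (by lia) (hFa _ (by lia)) (hFa _ (by lia))
  exact P.prop_of_iso f h

end Main



end Groth.Agent.Dcoh.FlatAmp
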