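import Groth.Agent.Dcoh.FlatTor
import Groth.Agent.Ega3A.FlatSES

/-!
# Short exact sequences of `O_X`-modules with flat terms
-/

set_option autoImplicit false
universe u w w'

open CategoryTheory CategoryTheory.Limits MonoidalCategory TopologicalSpace Opposite AlgebraicGeometry

namespace Groth.Agent.Dcoh.FlatSES

open Stalk FlatRes FlatTor

variable {X : Scheme.{u}} {S : ShortComplex X.Modules}

section Mod

variable {R : Type u} [CommRing R] {T : ShortComplex (ModuleCat.{u} R)} (hT : T.ShortExact)

include hT

lemma inj : Function.Injective T.f.hom := (ModuleCat.mono_iff_injective _).1 hT.mono_f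

lemma surj : Function.Surjective T.g.hom := (ModuleCat.epi_iff_surjective _).1 hT.epi_g

lemma ex : Function.Exact T.f.hom T.g.hom :=
  (ShortComplex.ShortExact.moduleCat_exact_iff_function_exact _).1 hT.exact

lemma shortExact_tensorRight [Module.Flat R T.X₃] (N : ModuleCat.{u} R) :
    (T.map (tensorRight N)).ShortExact where
  exact := (ShortComplex.ShortExact.moduleCat_exact_iff_function_exact _).2
    (rTensor_exact N (ex hT) (surj hT))
  mono_f := (ModuleCat.mono_iff_injective _).2
    (Ega3A.FlatSES.rTensor_injective_of_flat (inj hT) (ex hT) (surj hT) N)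
  epi_g := (ModuleCat.epi_iff_surjective _).2 (LinearMap.rTensor_surjective N (surj hT))

end Mod

/-- A short exact sequence with flat third term stays short exact after tensoring with anything. -/
lemma shortExact_tensor (hS : S.ShortExact) (h3 : FlatMod.IsFlat S.X₃) (G : X.Modules) :
    (S.map (DCoh.tensorBi.flip.obj G)).ShortExact := by
  rw [(jointlyReflectIsos X).shortExact_iff]
  intro x
  have h1 : (S.map (stalkF x)).ShortExact := by
    have := hS.mono_f
    have := hS.epi_g
    exact hS.map (stalkF x)
  have h3' : Module.Flat (X.presheaf.stalk x) (S.map (stalkF x)).X₃ := h3 x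
  have h4 := shortExact_tensorRight h1 ((stalkF x).obj G)
  exact (ShortComplex.shortExact_iff_of_iso (mapTensorStalkIso S G x)).2 h4

/-- stalks of `G ⊗ S`. -/
noncomputable def mapTensorStalkIso' (S : ShortComplex X.Modules) (G : X.Modules) (x : X) :
    (S.map (DCoh.tensorBi.obj G)).map (stalkF x) ≅
      (S.map (stalkF x)).map (tensorLeft ((stalkF x).obj G)) :=
  S.mapNatIso (tensorBiStalk G x)

/-- A short exact sequence with flat third term stays short exact after tensoring with anything
(other side). -/
lemma shortExact_tensor' (hS : S.ShortExact) (h3 : FlatMod.IsFlat S.X₃) (G : X.Modules) :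
    (S.map (DCoh.tensorBi.obj G)).ShortExact := by
  rw [(jointlyReflectIsos X).shortExact_iff]
  intro x
  have h1 : (S.map (stalkF x)).ShortExact := by
    have := hS.mono_f
    have := hS.epi_g
    exact hS.map (stalkF x)
  have h3' : Module.Flat (X.presheaf.stalk x) (S.map (stalkF x)).X₃ := h3 x
  have h4 := shortExact_tensorRight h1 ((stalkF x).obj G)
  have h5 : ((S.map (stalkF x)).map (tensorLeft ((stalkF x).obj G))).ShortExact :=
    (ShortComplex.shortExact_iff_of_iso ((S.map (stalkF x)).mapNatIso
      (BraidedCategory.tensorLeftIsoTensorRight ((stalkF x).obj G)))).2 h4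
  exact (ShortComplex.shortExact_iff_of_iso (mapTensorStalkIso' S G x)).2 h5

lemma isFlat_X₂ (hS : S.ShortExact) (h1 : FlatMod.IsFlat S.X₁) (h3 : FlatMod.IsFlat S.X₃) :
    FlatMod.IsFlat S.X₂ := by
  intro x
  have hx : (S.map (stalkF x)).ShortExact := by
    have := hS.mono_f
    have := hS.epi_g
    exact hS.map (stalkF x)
  have h1' : Module.Flat (X.presheaf.stalk x) (S.map (stalkF x)).X₁ := h1 x
  have h3' : Module.Flat (X.presheaf.stalk x) (S.map (stalkF x)).X₃ := h3 x
  exact Ega3A.FlatSES.flat_middle (inj hx) (ex hx) (surj hx)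

lemma isFlat_X₁ (hS : S.ShortExact) (h2 : FlatMod.IsFlat S.X₂) (h3 : FlatMod.IsFlat S.X₃) :
    FlatMod.IsFlat S.X₁ := by
  intro x
  have hx : (S.map (stalkF x)).ShortExact := by
    have := hS.mono_f
    have := hS.epi_g
    exact hS.map (stalkF x)
  have h2' : Module.Flat (X.presheaf.stalk x) (S.map (stalkF x)).X₂ := h2 x
  have h3' : Module.Flat (X.presheaf.stalk x) (S.map (stalkF x)).X₃ := h3 x
  exact Ega3A.FlatSES.flat_left (inj hx) (ex hx) (surj hx)

/-- the kernel of an epimorphism of flat modules is flat -/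
lemma isFlat_kernel {M N : X.Modules} (f : M ⟶ N) [Epi f] (hM : FlatMod.IsFlat M)
    (hN : FlatMod.IsFlat N) : FlatMod.IsFlat (kernel f) :=
  isFlat_X₁ (S := ShortComplex.mk (kernel.ι f) f (kernel.condition f))
    { exact := ShortComplex.exact_kernel f } hM hN

/-- If `S ⊗ G` is short exact (equivalently `S.f ⊗ G` mono) for all `G` and `S.X₂` is flat then
`S.X₃` is flat. -/
lemma isFlat_X₃ (hS : S.ShortExact) (h2 : FlatMod.IsFlat S.X₂)
    (h : ∀ G : X.Modules, Mono ((DCoh.tensorBi.flip.obj G).map S.f)) : FlatMod.IsFlat S.X₃ := by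
  have := hS.mono_f
  have := hS.epi_g
  refine isFlat_of_exact (ShortComplex.mk (0 : S.X₁ ⟶ S.X₁) S.f zero_comp)
    ((ShortComplex.exact_iff_mono _ rfl).2 inferInstance) h2 (fun G => ?_) S.g S.zero hS.exact
  exact (ShortComplex.exact_iff_mono _ ((DCoh.tensorBi.flip.obj G).map_zero _ _)).2 (h G)

end Groth.Agent.Dcoh.FlatSES
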