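import Groth.Agent.Dcoh.FlatRes
import Groth.Agent.Fdesc.Skyscraper
import Mathlib.RingTheory.Flat.CategoryTheory
import Mathlib.LinearAlgebra.TensorProduct.RightExactness

/-!
# Flatness of cokernels from universal exactness (the `Tor_1` criterion, without `Tor`)

* `flat_of_exact`: if `M₁ → M₂ → M₃ → Q → 0` with `M₃` flat, `M₃ → Q` onto with kernel the image of
  `M₂`, and `M₁ ⊗ N → M₂ ⊗ N → M₃ ⊗ N` exact for all `N`, then `Q` is flat.
* `isFlat_of_exact`: the same for `O_X`-modules.
* `stalkSky`: the stalk of a skyscraper at its point.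
* `isFlat_iff_preservesFiniteLimits`.
-/

set_option autoImplicit false
universe u w w'

open CategoryTheory CategoryTheory.Limits MonoidalCategory TopologicalSpace Opposite AlgebraicGeometry

namespace Groth.Agent.Dcoh.FlatTor

open Stalk FlatRes

section Mod

open TensorProduct

variable {R : Type u} [CommRing R]

/-- If `K ⊂ M` with `M` flat and `K ⊗ N → M ⊗ N` injective for all `N`, then `M / K` is flat;
stated for a surjection `π : M → Q` with kernel the range of an injective `ι : K → M`. -/
lemma flat_of_universally_injective {K M Q : Type u} [AddCommGroup K] [Module R K] [AddCommGroup M]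
    [Module R M] [AddCommGroup Q] [Module R Q] (ι : K →ₗ[R] M) (π : M →ₗ[R] Q)
    (hex : Function.Exact ι π) (hπ : Function.Surjective π) [Module.Flat R M]
    (hι : ∀ (N : Type u) [AddCommGroup N] [Module R N], Function.Injective (ι.rTensor N)) :
    Module.Flat R Q := by
  rw [Module.Flat.iff_lTensor_preserves_injective_linearMap]
  intro N' N _ _ _ _ i hi
  let p : N →ₗ[R] (N ⧸ LinearMap.range i) := (LinearMap.range i).mkQ
  have hip : Function.Exact i p := LinearMap.exact_iff.mpr (Submodule.ker_mkQ _)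
  have hp : Function.Surjective p := Submodule.mkQ_surjective _
  rw [injective_iff_map_eq_zero]
  intro z hz
  obtain ⟨y, rfl⟩ := LinearMap.rTensor_surjective N' hπ z
  -- the image of `y` in `M ⊗ N`
  have h1 : π.rTensor N (i.lTensor M y) = 0 := by
    rw [← hz, ← LinearMap.comp_apply, ← LinearMap.comp_apply, LinearMap.rTensor_comp_lTensor,
      LinearMap.lTensor_comp_rTensor]
  obtain ⟨k, hk⟩ := (rTensor_exact N hex hπ _).1 h1
  have h2 : p.lTensor K k = 0 := by
    apply hι
    rw [map_zero, ← LinearMap.comp_apply, LinearMap.rTensor_comp_lTensor,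
      ← LinearMap.lTensor_comp_rTensor, LinearMap.comp_apply, hk, ← LinearMap.comp_apply,
      ← LinearMap.lTensor_comp, hip.linearMap_comp_eq_zero, LinearMap.lTensor_zero,
      LinearMap.zero_apply]
  obtain ⟨k', rfl⟩ := (lTensor_exact K hip hp _).1 h2
  have h3 : y = ι.rTensor N' k' := by
    apply Module.Flat.lTensor_preserves_injective_linearMap (M := M) i hi
    rw [← hk, ← LinearMap.comp_apply, ← LinearMap.comp_apply, LinearMap.rTensor_comp_lTensor,
      LinearMap.lTensor_comp_rTensor]
  rw [h3, ← LinearMap.comp_apply, ← LinearMap.rTensor_comp, hex.linearMap_comp_eq_zero,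
    LinearMap.rTensor_zero, LinearMap.zero_apply]

lemma flat_of_exact {M₁ M₂ M₃ Q : Type u} [AddCommGroup M₁] [Module R M₁] [AddCommGroup M₂]
    [Module R M₂] [AddCommGroup M₃] [Module R M₃] [AddCommGroup Q] [Module R Q]
    (f : M₁ →ₗ[R] M₂) (g : M₂ →ₗ[R] M₃) (π : M₃ →ₗ[R] Q) (hgπ : Function.Exact g π)
    (hπ : Function.Surjective π) [Module.Flat R M₃] (hfg0 : Function.Exact f g)
    (h : ∀ (N : Type u) [AddCommGroup N] [Module R N], Function.Exact (f.rTensor N) (g.rTensor N)) :
    Module.Flat R Q := by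
  refine flat_of_universally_injective (K := LinearMap.range g) (LinearMap.range g).subtype π ?_ hπ ?_
  · intro m
    rw [hgπ m]
    simp
  · intro N _ _
    rw [injective_iff_map_eq_zero]
    intro z hz
    obtain ⟨y, rfl⟩ := LinearMap.rTensor_surjective N (LinearMap.surjective_rangeRestrict g) z
    rw [← LinearMap.comp_apply, ← LinearMap.rTensor_comp, LinearMap.subtype_comp_codRestrict] at hz
    obtain ⟨w, rfl⟩ := (h N y).1 hz
    rw [← LinearMap.comp_apply, ← LinearMap.rTensor_comp]
    have : g.rangeRestrict ∘ₗ f = 0 := by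
      ext m
      simp [hfg0.apply_apply_eq_zero m]
    rw [this, LinearMap.rTensor_zero, LinearMap.zero_apply]

lemma flat_of_shortComplex_exact (S : ShortComplex (ModuleCat.{u} R)) [Module.Flat R S.X₃]
    {Q : ModuleCat.{u} R} (π : S.X₃ ⟶ Q) [Epi π] (w : S.g ≫ π = 0)
    (hπ : (ShortComplex.mk S.g π w).Exact) (hS : S.Exact)
    (h : ∀ N : ModuleCat.{u} R, (S.map (tensorRight N)).Exact) : Module.Flat R Q := by
  refine flat_of_exact S.f.hom S.g.hom π.hom ?_ ((ModuleCat.epi_iff_surjective π).1 inferInstance) ?_ ?_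
  · exact (ShortComplex.ShortExact.moduleCat_exact_iff_function_exact _).1 hπ
  · exact (ShortComplex.ShortExact.moduleCat_exact_iff_function_exact _).1 hS
  · intro N _ _
    exact (ShortComplex.ShortExact.moduleCat_exact_iff_function_exact _).1 (h (ModuleCat.of R N))

end Mod

section Sky

variable {X : Scheme.{u}} (x : X)

open Fdesc.Skyscraper

/-- the stalk of the skyscraper module at its point -/
noncomputable def stalkSkyEquiv (Q : Type u) [AddCommGroup Q] [Module (X.presheaf.stalk x) Q] :
    (sky x Q).presheaf.stalk x ≃ₗ[X.presheaf.stalk x] Q :=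
  LinearEquiv.ofBijective (ofSky (𝟙 (sky x Q))) (by
    constructor
    · rw [injective_iff_map_eq_zero]
      intro z hz
      obtain ⟨U, hU, s, rfl⟩ := TopCat.Presheaf.exists_germ_eq (sky x Q).presheaf z
      rw [ofSky_germ] at hz
      have hs : (s : Sec x Q U) = 0 := by
        funext h
        exact hz
      have hs' : s = 0 := hs
      rw [hs', map_zero]
    · intro q
      refine ⟨(sky x Q).presheaf.germ ⊤ x trivial (fun _ => q : Sec x Q ⊤), ?_⟩
      rw [ofSky_germ]
      rfl)

lemma stalkSkyEquiv_germ (Q : Type u) [AddCommGroup Q] [Module (X.presheaf.stalk x) Q] (U : X.Opens)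
    (hU : x ∈ U) (s : Γ(sky x Q, U)) :
    stalkSkyEquiv x Q ((sky x Q).presheaf.germ U x hU s) = (s : Sec x Q U) ⟨hU⟩ := by
  change ofSky (𝟙 (sky x Q)) _ = _
  rw [ofSky_germ]
  rfl

lemma stalkF_map_germ {M N : X.Modules} (g : M ⟶ N) (U : X.Opens) (hU : x ∈ U) (s : Γ(M, U)) :
    ((stalkF x).map g).hom (M.presheaf.germ U x hU s) = N.presheaf.germ U x hU (g.app U s) :=
  StalkP.stalkMap_germ (R := X.presheaf) (DCoh.toP.map g) U x hU s

/-- the stalk of the skyscraper module at its point, as an isomorphism in `ModuleCat` -/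
noncomputable def stalkSkyIso (A : ModuleCat.{u} (X.presheaf.stalk x)) :
    (stalkF x).obj (sky x A) ≅ A :=
  (stalkSkyEquiv x A).toModuleIso

/-- functoriality of the skyscraper, on morphisms -/
noncomputable def skyMap {A B : ModuleCat.{u} (X.presheaf.stalk x)} (f : A ⟶ B) : sky x A ⟶ sky x B :=
  toSky (f.hom ∘ₗ (stalkSkyEquiv x A).toLinearMap)

lemma skyMap_app {A B : ModuleCat.{u} (X.presheaf.stalk x)} (f : A ⟶ B) (U : X.Opens)
    (s : Γ(sky x A, U)) (h : PLift (x ∈ U)) :
    ((skyMap x f).app U s : Sec x B U) h = f ((s : Sec x A U) h) := by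
  refine (toSky_app_apply _ U s h).trans ?_
  exact congrArg f (stalkSkyEquiv_germ x A U h.down s)

lemma stalkF_map_skyMap {A B : ModuleCat.{u} (X.presheaf.stalk x)} (f : A ⟶ B) :
    (stalkF x).map (skyMap x f) ≫ (stalkSkyIso x B).hom =
      (stalkSkyIso x A).hom ≫ f := by
  ext z
  obtain ⟨U, hU, s, rfl⟩ := TopCat.Presheaf.exists_germ_eq (sky x A).presheaf z
  change stalkSkyEquiv x B (((stalkF x).map (skyMap x f)).hom _) = f (stalkSkyEquiv x A _)
  rw [stalkF_map_germ, stalkSkyEquiv_germ, stalkSkyEquiv_germ]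
  exact skyMap_app x f U s ⟨hU⟩

lemma mono_of_app_injective {M N : X.Modules} (g : M ⟶ N)
    (h : ∀ U : X.Opens, Function.Injective (g.app U)) : Mono g := by
  have h1 : Mono ((Scheme.Modules.toPresheaf X).map g) := by
    rw [NatTrans.mono_iff_mono_app]
    intro U
    rw [AddCommGrpCat.mono_iff_injective]
    exact h U.unop
  exact (Scheme.Modules.toPresheaf X).mono_of_mono_map h1

instance mono_skyMap {A B : ModuleCat.{u} (X.presheaf.stalk x)} (f : A ⟶ B) [Mono f] :
    Mono (skyMap x f) := by
  refine mono_of_app_injective _ (fun U s t hst => ?_)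
  refine (funext fun h => ?_ : (_ : Sec x A U) = _)
  apply (ModuleCat.mono_iff_injective f).1 inferInstance
  have := congrFun (hst : (_ : Sec x B U) = _) h
  rw [← skyMap_app, ← skyMap_app]
  exact this

/-- the stalk functor is essentially surjective -/
lemma exists_stalk_iso (N : ModuleCat.{u} (X.presheaf.stalk x)) :
    ∃ G : X.Modules, Nonempty ((stalkF x).obj G ≅ N) :=
  ⟨sky x N, ⟨stalkSkyIso x N⟩⟩

end Sky

section Sheaf

variable {X : Scheme.{u}}

/-- The map on stalks of a short complex tensored with a module. -/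
noncomputable def mapTensorStalkIso (S : ShortComplex X.Modules) (G : X.Modules) (x : X) :
    (S.map (DCoh.tensorBi.flip.obj G)).map (stalkF x) ≅
      (S.map (stalkF x)).map (tensorRight ((stalkF x).obj G)) :=
  S.mapNatIso (tensorBiFlipStalk G x)

lemma exact_map_stalkF_iff (S : ShortComplex X.Modules) :
    S.Exact ↔ ∀ x : X, (S.map (stalkF x)).Exact :=
  (jointlyReflectIsos X).exact_iff S

lemma exact_tensor_iff (S : ShortComplex X.Modules) (G : X.Modules) :
    (S.map (DCoh.tensorBi.flip.obj G)).Exact ↔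
      ∀ x : X, ((S.map (stalkF x)).map (tensorRight ((stalkF x).obj G))).Exact := by
  rw [exact_map_stalkF_iff]
  exact forall_congr' (fun x => ShortComplex.exact_iff_of_iso (mapTensorStalkIso S G x))

/-- If `S ⊗ G` is exact for all `G` then all stalks of `S` are universally exact. -/
lemma stalk_universally_exact (S : ShortComplex X.Modules)
    (h : ∀ G : X.Modules, (S.map (DCoh.tensorBi.flip.obj G)).Exact) (x : X)
    (N : ModuleCat.{u} (X.presheaf.stalk x)) : ((S.map (stalkF x)).map (tensorRight N)).Exact := by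
  obtain ⟨G, ⟨e⟩⟩ := exists_stalk_iso x N
  have h1 := (exact_tensor_iff S G).1 (h G) x
  let e' : tensorRight ((stalkF x).obj G) ≅ tensorRight N :=
    NatIso.ofComponents (fun A => whiskerLeftIso A e) (fun f => by simp [whisker_exchange])
  exact (ShortComplex.exact_iff_of_iso ((S.map (stalkF x)).mapNatIso e')).1 h1

/-- The cokernel of the last map of an exact, universally exact complex `S` with flat last term is
flat. -/
lemma isFlat_of_exact (S : ShortComplex X.Modules) (hS : S.Exact) (h3 : FlatMod.IsFlat S.X₃)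
    (h : ∀ G : X.Modules, (S.map (DCoh.tensorBi.flip.obj G)).Exact)
    {Q : X.Modules} (π : S.X₃ ⟶ Q) [Epi π] (w : S.g ≫ π = 0)
    (hπ : (ShortComplex.mk S.g π w).Exact) : FlatMod.IsFlat Q := by
  intro x
  have h3x : Module.Flat (X.presheaf.stalk x) ((stalkF x).obj S.X₃) := h3 x
  have h3x' : Module.Flat (X.presheaf.stalk x) (S.map (stalkF x)).X₃ := h3x
  have hw : (S.map (stalkF x)).g ≫ (stalkF x).map π = 0 := by
    change (stalkF x).map S.g ≫ (stalkF x).map π = 0
    rw [← Functor.map_comp, w, Functor.map_zero]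
  have hepi : Epi ((stalkF x).map π) := inferInstance
  exact @flat_of_shortComplex_exact _ _ (S.map (stalkF x)) h3x' _ ((stalkF x).map π) hepi hw
    (hπ.map (stalkF x)) (hS.map (stalkF x)) (stalk_universally_exact S h x)

lemma isFlat_cokernel_of_exact (S : ShortComplex X.Modules) (hS : S.Exact) (h3 : FlatMod.IsFlat S.X₃)
    (h : ∀ G : X.Modules, (S.map (DCoh.tensorBi.flip.obj G)).Exact) :
    FlatMod.IsFlat (cokernel S.g) :=
  isFlat_of_exact S hS h3 h (cokernel.π S.g) (cokernel.condition _) (ShortComplex.exact_cokernel S.g)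

lemma mono_map_iff_stalks {M N : X.Modules} (f : M ⟶ N) :
    Mono f ↔ ∀ x : X, Mono ((stalkF x).map f) :=
  ((jointlyReflectIsos X).jointlyReflectMonomorphisms).mono_iff f

/-- `M` is flat iff tensoring with `M` is exact. -/
lemma isFlat_iff_preservesFiniteLimits (M : X.Modules) :
    FlatMod.IsFlat M ↔ PreservesFiniteLimits (DCoh.tensorBi.obj M) := by
  refine ⟨preservesFiniteLimits_tensorBi_obj M, fun h x => ?_⟩
  rw [isFlatAt_iff, flat_iff_mono_whiskerLeft]
  intro A B f _
  have h1 : Mono ((stalkF x).map ((DCoh.tensorBi.obj M).map (skyMap x f))) := inferInstance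
  have h2 := (tensorBiStalk M x).hom.naturality (skyMap x f)
  have h3 : Mono ((stalkF x).obj M ◁ (stalkF x).map (skyMap x f)) := by
    have e : (stalkF x).obj M ◁ (stalkF x).map (skyMap x f) =
      (tensorBiStalk M x).inv.app _ ≫ (DCoh.tensorBi.obj M ⋙ stalkF x).map (skyMap x f) ≫
        (tensorBiStalk M x).hom.app _ := by
      rw [h2, Iso.inv_hom_id_app_assoc]
      rfl
    rw [e]
    have : Mono ((DCoh.tensorBi.obj M ⋙ stalkF x).map (skyMap x f)) := h1
    infer_instance
  have h4 : (stalkF x).obj M ◁ f = ((stalkF x).obj M ◁ (stalkSkyIso x A).inv) ≫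
      ((stalkF x).obj M ◁ (stalkF x).map (skyMap x f)) ≫
        ((stalkF x).obj M ◁ (stalkSkyIso x B).hom) := by
    rw [← MonoidalCategory.whiskerLeft_comp, ← MonoidalCategory.whiskerLeft_comp, stalkF_map_skyMap,
      Iso.inv_hom_id_assoc]
  rw [h4]
  infer_instance

end Sheaf

end Groth.Agent.Dcoh.FlatTor
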