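import Groth.Agent.Dcoh.ResFree
import Groth.Prelude.Def_DCoh2
import Mathlib.Algebra.Homology.HomotopyCategory.HomComplex

/-!
Restriction of complexes of O_X-modules along open immersions: exactness, composition, homotopies,
strictly perfect complexes; local null-homotopies (08C7).
-/

set_option autoImplicit false

universe u

open CategoryTheory AlgebraicGeometry Limits CochainComplex.HomComplex

namespace Groth.Agent.Dcoh.RestrictCx

open Groth.Agent.Dcoh.Restrict Groth.Agent.Dcoh.LocLift Groth.Agent.Dcoh.ResFree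

section Abstract

variable {A : Type*} [Category* A] [Abelian A] {E F : CochainComplex A ℤ}

theorem epi_toCycles (F : CochainComplex A ℤ) (i : ℤ) (h : IsZero (F.homology i)) :
    Epi (F.toCycles (i - 1) i) :=
  Preadditive.epi_of_isZero_cokernel' _ (F.homologyIsCokernel (i - 1) i (by simp)) h

/-- If a null-homotopy is correct in degree `i + 1`, then in degree `i` it is correct up to a map
into the cycles. -/
theorem exists_cycle (α : E ⟶ F) (z : Cochain E F (-1)) (i : ℤ)
    (hz : (δ (-1) 0 z).v (i + 1) (i + 1) (add_zero _) = α.f (i + 1)) :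
    ∃ γ : E.X i ⟶ F.cycles i,
      γ ≫ F.iCycles i = α.f i - (δ (-1) 0 z).v i i (add_zero _) := by
  have h1 : δ 0 1 (Cochain.ofHom α - δ (-1) 0 z) = 0 := by
    rw [δ_sub, δ_ofHom, δ_δ, sub_zero]
  have h2 := Cochain.congr_v h1 i (i + 1) rfl
  rw [δ_zero_cochain_v] at h2
  simp only [Cochain.sub_v, Cochain.ofHom_v, hz, sub_self, comp_zero, sub_zero,
    Cochain.zero_v] at h2
  exact ⟨F.liftCycles _ (i + 1) (by simp) h2, F.liftCycles_i _ _ _ _⟩

/-- Correcting a null-homotopy in degree `i`. -/
theorem step (α : E ⟶ F) (z : Cochain E F (-1)) (i : ℤ)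
    (ψ : E.X i ⟶ F.X (i - 1))
    (hψ : ψ ≫ F.d (i - 1) i = α.f i - (δ (-1) 0 z).v i i (add_zero _))
    (hz : ∀ p, i + 1 ≤ p → (δ (-1) 0 z).v p p (add_zero _) = α.f p) :
    ∀ p, i ≤ p → (δ (-1) 0 (z + Cochain.single ψ (-1))).v p p (add_zero _) = α.f p := by
  intro p hp
  rw [δ_add, Cochain.add_v]
  have key : ∀ q, i ≤ q → (δ (-1) 0 (Cochain.single ψ (-1) : Cochain E F (-1))).v q q (add_zero _) =
      if h : q = i then (α.f q - (δ (-1) 0 z).v q q (add_zero _)) else 0 := by
    intro q hq
    rw [δ_v (-1) 0 (by simp) _ q q _ (q - 1) (q + 1) rfl rfl]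
    rw [Cochain.single_v_eq_zero _ _ _ _ _ (by lia : q + 1 ≠ i)]
    by_cases h : q = i
    · subst h
      rw [Cochain.single_v, hψ]
      simp
    · rw [Cochain.single_v_eq_zero _ _ _ _ _ h]
      simp [h]
  rw [key p hp]
  by_cases h : p = i
  · subst h
    simp
  · rw [dif_neg h, add_zero]
    exact hz p (by lia)

end Abstract

variable {W U X : Scheme.{u}}

/-- Restriction of complexes along an open immersion. -/
noncomputable abbrev resCx (j : U ⟶ X) [IsOpenImmersion j] :
    CochainComplex X.Modules ℤ ⥤ CochainComplex U.Modules ℤ :=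
  (Scheme.Modules.restrictFunctor j).mapHomologicalComplex (ComplexShape.up ℤ)

/-- Restricting twice is restricting along the composition. -/
noncomputable def restrictFunctorComp' (k : W ⟶ U) (j : U ⟶ X) [IsOpenImmersion j]
    [IsOpenImmersion k] (l : W ⟶ X) [IsOpenImmersion l] (h : k ≫ j = l) :
    Scheme.Modules.restrictFunctor j ⋙ Scheme.Modules.restrictFunctor k ≅
      Scheme.Modules.restrictFunctor l :=
  (Scheme.Modules.restrictFunctorComp k j).symm ≪≫ Scheme.Modules.restrictFunctorCongr h

/-- Restricting complexes twice is restricting along the composition. -/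
noncomputable def resCxComp (k : W ⟶ U) (j : U ⟶ X) [IsOpenImmersion j]
    [IsOpenImmersion k] (l : W ⟶ X) [IsOpenImmersion l] (h : k ≫ j = l) :
    resCx j ⋙ resCx k ≅ resCx l :=
  NatIso.mapHomologicalComplex (restrictFunctorComp' k j l h) (ComplexShape.up ℤ)

/-- Transport of homotopies. -/
noncomputable def homotopyComp {E F : CochainComplex X.Modules ℤ} {α β : E ⟶ F}
    (k : W ⟶ U) (j : U ⟶ X) [IsOpenImmersion j]
    [IsOpenImmersion k] (l : W ⟶ X) [IsOpenImmersion l] (h : k ≫ j = l)
    (H : Homotopy ((resCx k).map ((resCx j).map α)) ((resCx k).map ((resCx j).map β))) :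
    Homotopy ((resCx l).map α) ((resCx l).map β) := by
  have h1 : ∀ γ : E ⟶ F, (resCx l).map γ =
      (resCxComp k j l h).inv.app E ≫ (resCx k).map ((resCx j).map γ) ≫
        (resCxComp k j l h).hom.app F := by
    intro γ
    have := (resCxComp k j l h).inv.naturality_assoc γ ((resCxComp k j l h).hom.app F)
    rw [Iso.inv_hom_id_app] at this
    rw [Functor.comp_map] at this
    rw [← this]
    exact (Category.comp_id _).symm
  refine (Homotopy.ofEq (h1 α)).trans (Homotopy.trans ?_ (Homotopy.ofEq (h1 β).symm))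
  exact ((H.compRight _).compLeft _)

theorem isStrictlyPerfect_resCx {E : CochainComplex X.Modules ℤ} (hE : DCoh.IsStrictlyPerfect E)
    (j : U ⟶ X) [IsOpenImmersion j] : DCoh.IsStrictlyPerfect ((resCx j).obj E) := by
  obtain ⟨⟨a, b, hab⟩, hE⟩ := hE
  refine ⟨⟨a, b, fun i hi => ?_⟩, fun i => isFinLocFree_restrict (hE i) j⟩
  exact (Scheme.Modules.restrictFunctor j).map_isZero (hab i hi)

theorem isZero_homology_resCx {F : CochainComplex X.Modules ℤ} (i : ℤ)
    (hF : IsZero (F.homology i)) (j : U ⟶ X) [IsOpenImmersion j] :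
    IsZero (((resCx j).obj F).homology i) := by
  rw [← HomologicalComplex.exactAt_iff_isZero_homology] at hF ⊢
  exact hF.map (Scheme.Modules.restrictFunctor j)

end Groth.Agent.Dcoh.RestrictCx
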