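import Groth.Agent.Dcoh.StalkFF
import Groth.Agent.Dcoh.RestrictCx
import Groth.Agent.Dcoh.LocalD
import Groth.Agent.Dcoh.Spread
import Mathlib.Algebra.Homology.ShortComplex.ExactFunctor

set_option autoImplicit false

universe u

open CategoryTheory AlgebraicGeometry Limits TopologicalSpace

attribute [local instance] HasDerivedCategory.standard

namespace Groth.Agent.Dcoh.FreeLocus

open Groth.Agent.Dcoh.ResFree Groth.Agent.Dcoh.Stalk Groth.Agent.Dcoh.StalkFF
  Groth.Agent.Dcoh.RestrictCx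

variable {X : Scheme.{u}}

theorem L1 {A B G : X.Modules} (d : A ⟶ B) (p : B ⟶ G) (w : d ≫ p = 0)
    (hp : IsColimit (CokernelCofork.ofπ p w))
    (hA : FlatMod.IsFinLocFree A) (hB : FlatMod.IsFinLocFree B) (x : X) (hx : FF G x) :
    ∃ V : X.Opens, x ∈ V ∧ FlatMod.IsFinLocFree (G.restrict V.ι) := by
  have hflat : FlatMod.IsFlatAt G x := by
    have := hx.1
    exact (inferInstance : Module.Flat (X.presheaf.stalk x) (G.presheaf.stalk x))
  obtain ⟨W, j, _, n, ⟨y, hy⟩, ⟨e⟩⟩ := Spread.exists_free_of_cokernel hA hB d p w hp x hflat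
  have h1 : (j.isoOpensRange).inv ≫ j = j.opensRange.ι := by
    rw [Iso.inv_comp_eq]; simp
  refine ⟨j.opensRange, ⟨y, hy⟩, isFinLocFree_of_iso (restrictComp G _ j _ h1) ?_⟩
  exact isFinLocFree_restrict (isFinLocFree_of_iso e.symm (ResFree.isFinLocFree_freeMod n)) _

theorem L2 {A B : X.Modules} (p : A ⟶ B) [Epi p] (hA : FlatMod.IsFinLocFree A)
    (hB : FlatMod.IsFinLocFree B) : FlatMod.IsFinLocFree (kernel p) :=
  Spread.isFinLocFree_kernel p hA hB

theorem aux (n : ℕ) : ∀ (X : Scheme.{u}) (P : CochainComplex X.Modules ℤ) (i a: ℤ)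
    (_ : i < a + n) (_ : ∀ j, j < a → IsZero (P.X j)) (_ : ∀ j, FlatMod.IsFinLocFree (P.X j))
    (_ : FlatMod.IsFinLocFree (P.cycles i)) (x : X) (_ : ∀ j, j ≤ i → FF (P.homology j) x),
    ∃ (U : Scheme.{u}) (k : U ⟶ X) (_ : IsOpenImmersion k) (y : U), k y = x ∧
      ∀ j, j ≤ i → FlatMod.IsFinLocFree ((P.homology j).restrict k) := by
  induction n with
  | zero =>
    intro X P i a hi ha hP hZ x hx
    refine ⟨X, 𝟙 X, inferInstance, x, rfl, fun j hj => ?_⟩
    apply isFinLocFree_of_isZero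
    apply (Scheme.Modules.restrictFunctor (𝟙 X)).map_isZero
    have : P.ExactAt j := by
      apply ShortComplex.exact_of_isZero_X₂
      exact ha j (by simp at hi; lia)
    exact (HomologicalComplex.exactAt_iff_isZero_homology P j).1 this
  | succ n ih =>
    intro X P i a hi ha hP hZ x hx
    obtain ⟨V, hxV, hV⟩ := L1 (P.toCycles (i - 1) i) (P.homologyπ i) (by simp)
      (P.homologyIsCokernel (i - 1) i (by simp)) (hP (i - 1)) hZ x (hx i le_rfl)
    let P' : CochainComplex (V : Scheme.{u}).Modules ℤ := (resCx V.ι).obj P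
    have eH : ∀ j, P'.homology j ≅ (P.homology j).restrict V.ι := fun j =>
      (P.sc j).mapHomologyIso (Scheme.Modules.restrictFunctor V.ι)
    have eZ : ∀ j, P'.cycles j ≅ (P.cycles j).restrict V.ι := fun j =>
      (P.sc j).mapCyclesIso (Scheme.Modules.restrictFunctor V.ι)
    have hZ' : FlatMod.IsFinLocFree (P'.cycles i) :=
      isFinLocFree_of_iso (eZ i).symm (isFinLocFree_restrict hZ V.ι)
    have hH' : FlatMod.IsFinLocFree (P'.homology i) := isFinLocFree_of_iso (eH i).symm hV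
    have hP' : ∀ j, FlatMod.IsFinLocFree (P'.X j) := fun j => isFinLocFree_restrict (hP j) V.ι
    have hB : FlatMod.IsFinLocFree (kernel (P'.homologyπ i)) := L2 _ hZ' hH'
    have hZ'' : FlatMod.IsFinLocFree (P'.cycles (i - 1)) := by
      let q : P'.X (i - 1) ⟶ kernel (P'.homologyπ i) :=
        kernel.lift _ (P'.toCycles (i - 1) i) (by simp)
      have hq : Epi q := by
        have h := (ShortComplex.exact_of_g_is_cokernel
          (ShortComplex.mk (P'.toCycles (i - 1) i) (P'.homologyπ i) (by simp))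
          (P'.homologyIsCokernel (i - 1) i (by simp))).epi_kernelLift
        exact h
      refine isFinLocFree_of_iso ?_ (L2 q (hP' (i - 1)) hB)
      have h1 : q ≫ kernel.ι _ ≫ P'.iCycles i = P'.d (i - 1) i := by
        rw [← Category.assoc, kernel.lift_ι, P'.toCycles_i]
      let u : kernel q ⟶ P'.cycles (i - 1) := P'.liftCycles (kernel.ι q) i (by simp) (by
        rw [← h1, ← Category.assoc, kernel.condition, zero_comp])
      let v : P'.cycles (i - 1) ⟶ kernel q := kernel.lift _ (P'.iCycles (i - 1)) (by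
        rw [← cancel_mono (kernel.ι (P'.homologyπ i)), ← cancel_mono (P'.iCycles i)]
        simp only [Category.assoc, h1, zero_comp]
        exact P'.iCycles_d (i - 1) i)
      exact ⟨u, v, by rw [← cancel_mono (kernel.ι q)]; simp [u, v],
        by rw [← cancel_mono (P'.iCycles (i - 1))]; simp [u, v]⟩
    obtain ⟨W, k, _, y, hy, hW⟩ := ih V P' (i - 1) a (by push_cast at hi; lia)
      (fun j hj => (Scheme.Modules.restrictFunctor V.ι).map_isZero (ha j hj)) hP' hZ'' ⟨x, hxV⟩
      (fun j hj => FF.of_iso (eH j).symm ((FF_restrict_iff V.ι _ _).2 (hx j (by lia))))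
    refine ⟨W, k ≫ V.ι, inferInstance, y, ?_, fun j hj => ?_⟩
    · rw [Scheme.Hom.comp_apply, hy]
      rfl
    · by_cases h : j ≤ i - 1
      · exact isFinLocFree_of_iso ((Scheme.Modules.restrictFunctor k).mapIso (eH j) ≪≫
          restrictComp _ k V.ι _ rfl) (hW j h)
      · obtain rfl : j = i := by lia
        exact isFinLocFree_of_iso (restrictComp _ k V.ι _ rfl) (isFinLocFree_restrict hV k)

/-- If all the stalks at `x` of the cohomology sheaves of a perfect object are finite free, then the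
cohomology sheaves are finite locally free near `x`. -/
theorem exists_open {E : DCoh.D X} (hE : DCoh.IsPerfect E) (x : X)
    (hx : ∀ i, FF (DCoh.HD E i) x) :
    ∃ V : X.Opens, x ∈ V ∧ ∀ i, FlatMod.IsFinLocFree ((DCoh.HD E i).restrict V.ι) := by
  obtain ⟨V, hxV, P, ⟨⟨a, b, hab⟩, hP⟩, ⟨e⟩⟩ := (LocalD.isPerfect_iff_locally E).1 hE x
  have eH : ∀ i, P.homology i ≅ (DCoh.HD E i).restrict V.ι := fun i =>
    ((DerivedCategory.homologyFunctorFactors (V : Scheme.{u}).Modules i).app P).symm ≪≫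
      (DerivedCategory.homologyFunctor (V : Scheme.{u}).Modules i).mapIso e.symm ≪≫
      LocalD.HDRestrict V.ι E i
  obtain ⟨n, hn⟩ : ∃ n : ℕ, b < a + n := ⟨(b - a + 1).toNat, by lia⟩
  have hZ : FlatMod.IsFinLocFree (P.cycles b) := by
    have h0 : P.d b (b + 1) = 0 := (hab (b + 1) (Or.inr (by lia))).eq_of_tgt _ _
    have : IsIso (P.iCycles b) := P.isIso_iCycles b (b + 1) (by simp) h0
    exact isFinLocFree_of_iso (asIso (P.iCycles b)).symm (hP b)
  obtain ⟨U, k, _, y, hy, hU⟩ := aux n V P b a hn (fun j hj => hab j (Or.inl hj)) hP hZ ⟨x, hxV⟩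
    (fun j _ => FF.of_iso (eH j).symm ((FF_restrict_iff V.ι _ _).2 (hx j)))
  have hU' : ∀ j, FlatMod.IsFinLocFree ((P.homology j).restrict k) := by
    intro j
    by_cases hj : j ≤ b
    · exact hU j hj
    · apply isFinLocFree_of_isZero
      apply (Scheme.Modules.restrictFunctor k).map_isZero
      have : P.ExactAt j := by
        apply ShortComplex.exact_of_isZero_X₂
        exact hab j (Or.inr (by lia))
      exact (HomologicalComplex.exactAt_iff_isZero_homology P j).1 this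
  have hU'' : ∀ i, FlatMod.IsFinLocFree ((DCoh.HD E i).restrict (k ≫ V.ι)) := fun i =>
    isFinLocFree_of_iso ((Scheme.Modules.restrictFunctor k).mapIso (eH i) ≪≫
          restrictComp _ k V.ι _ rfl) (hU' i)
  have hxy : (k ≫ V.ι) y = x := by
    rw [Scheme.Hom.comp_apply, hy]
    rfl
  have h1 : ((k ≫ V.ι).isoOpensRange).inv ≫ (k ≫ V.ι) = (k ≫ V.ι).opensRange.ι := by
    rw [Iso.inv_comp_eq]; simp
  refine ⟨(k ≫ V.ι).opensRange, ⟨y, hxy⟩, fun i => ?_⟩
  exact isFinLocFree_of_iso (restrictComp _ _ _ _ h1) (isFinLocFree_restrict (hU'' i) _)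

theorem main (E : DCoh.D X) (hE : DCoh.IsPerfect E) :
    ∃ U : X.Opens,
      (U : Set X) = {x : X | ∀ i : ℤ, FF (DCoh.HD E i) x} ∧
      (∀ i : ℤ, FlatMod.IsFinLocFree ((DCoh.HD E i).restrict U.ι)) ∧
      ∀ W : X.Opens, (∀ i : ℤ, FlatMod.IsFinLocFree ((DCoh.HD E i).restrict W.ι)) → W ≤ U := by
  have key : ∀ (W : X.Opens), (∀ i : ℤ, FlatMod.IsFinLocFree ((DCoh.HD E i).restrict W.ι)) →
      (W : Set X) ⊆ {x : X | ∀ i : ℤ, FF (DCoh.HD E i) x} := by
    intro W hW x hx i
    exact (FF_restrict_iff W.ι _ ⟨x, hx⟩).1 (FF_of_isFinLocFree (hW i) ⟨x, hx⟩)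
  have hopen : IsOpen {x : X | ∀ i : ℤ, FF (DCoh.HD E i) x} := by
    rw [isOpen_iff_forall_mem_open]
    intro x hx
    obtain ⟨V, hxV, hV⟩ := exists_open hE x hx
    exact ⟨V, key V hV, V.2, hxV⟩
  refine ⟨⟨_, hopen⟩, rfl, fun i => ?_, fun W hW => key W hW⟩
  apply isFinLocFree_of_local
  intro x
  obtain ⟨V, hxV, hV⟩ := exists_open hE x.1 x.2
  have hle : V ≤ ⟨_, hopen⟩ := key V hV
  exact ⟨V, X.homOfLE hle, inferInstance, ⟨x.1, hxV⟩, Subtype.ext (by simp),
    isFinLocFree_of_iso (restrictComp _ _ _ _ (X.homOfLE_ι hle)).symm (hV i)⟩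

end Groth.Agent.Dcoh.FreeLocus
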