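import Groth.Agent.Dcoh.KFlatMod
import Groth.Agent.Dcoh.KFlatSES
import Groth.Agent.Dcoh.FlatSES

/-!
# K-flatness in short exact sequences of complexes with termwise flat quotient
-/

set_option autoImplicit false
set_option backward.defeqAttrib.useBackward true
set_option backward.isDefEq.respectTransparency false

universe u

namespace Groth.Agent.Dcoh.KFlatSESMod

open CategoryTheory Category Limits HomologicalComplex CochainComplex AlgebraicGeometry
open Groth.Agent.Dcoh.KFlatAbs Groth.Agent.Dcoh.KFlatSES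

variable {X : Scheme.{u}} {S : ShortComplex (CochainComplex X.Modules ℤ)}
    (hS : S.ShortExact) (h3 : ∀ n : ℤ, FlatMod.IsFlat (S.X₃.X n))

include hS h3

lemma shortExact_tensor_eval (M : X.Modules) (q : ℤ) :
    ((S.map (eval X.Modules (ComplexShape.up ℤ) q)).map (DCoh.tensorBi.obj M)).ShortExact :=
  FlatSES.shortExact_tensor' (S := S.map (eval X.Modules (ComplexShape.up ℤ) q))
    (hS.map_of_exact (eval X.Modules (ComplexShape.up ℤ) q)) (h3 q) M

lemma isKFlat₁ (h₂ : DCoh.IsKFlat S.X₂) (h₃ : DCoh.IsKFlat S.X₃) : DCoh.IsKFlat S.X₁ := by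
  rw [KFlatMod.isKFlat_iff_kfl] at h₂ h₃ ⊢
  exact KFl.ses₁ (shortExact_tensor_eval hS h3) h₂ h₃

lemma isKFlat₂ (h₁ : DCoh.IsKFlat S.X₁) (h₃ : DCoh.IsKFlat S.X₃) : DCoh.IsKFlat S.X₂ := by
  rw [KFlatMod.isKFlat_iff_kfl] at h₁ h₃ ⊢
  exact KFl.ses₂ (shortExact_tensor_eval hS h3) h₁ h₃

lemma isKFlat₃ (h₁ : DCoh.IsKFlat S.X₁) (h₂ : DCoh.IsKFlat S.X₂) : DCoh.IsKFlat S.X₃ := by
  rw [KFlatMod.isKFlat_iff_kfl] at h₁ h₂ ⊢
  exact KFl.ses₃ (shortExact_tensor_eval hS h3) h₁ h₂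

end Groth.Agent.Dcoh.KFlatSESMod
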