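import Groth.Agent.Dcoh.DualX
import Groth.Agent.PerfC.RHomD

/-!
# The derived tensor product `LTX X` and the monoidal structure on `D(O_X)`

* `LTXobjIso K hK : (LTX X).obj (Q K) ≅ tensorLeft (Q K)` for `K` K-flat; `nonempty_LTXobj Z` for every object;
* `exists_adj`: if `E` is perfect there is a perfect `E'` with `E' ⊗ᴸ - ⊣ E ⊗ᴸ -`.
-/

set_option autoImplicit false
universe u

open CategoryTheory CategoryTheory.Limits AlgebraicGeometry MonoidalCategory
attribute [local instance] HasDerivedCategory.standard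

open scoped Groth.Agent.Dcoh.MonCat Groth.Agent.Dcoh.ModD

namespace Groth.Agent.Dcoh.LTXMon305

open MonCx MonD ModD PerfC.DTens

variable {X : Scheme.{u}}

/-- `Q K ⊗ᴸ Q E ≅ Q (K ⊗ E)` for `K` K-flat, natural in `E`. -/
noncomputable def κNat (K : CochainComplex X.Modules ℤ) (hK : DCoh.IsKFlat K) :
    DerivedCategory.Q ⋙ (LTX X).obj (DerivedCategory.Q.obj K) ≅ tensorLeft K ⋙ DerivedCategory.Q :=
  NatIso.ofComponents (fun E => κIso K E hK) (fun f => κX_nat₂ K f)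

/-- `(LTX X).obj (Q K)` is `Q K ⊗ -`. -/
noncomputable def LTXobjIso (K : CochainComplex X.Modules ℤ) (hK : DCoh.IsKFlat K) :
    (LTX X).obj (DerivedCategory.Q.obj K) ≅ tensorLeft (DerivedCategory.Q.obj K) :=
  letI : Localization.Lifting DerivedCategory.Q (HomologicalComplex.quasiIso X.Modules (ComplexShape.up ℤ))
      (tensorLeft K ⋙ DerivedCategory.Q) ((LTX X).obj (DerivedCategory.Q.obj K)) := ⟨κNat K hK⟩
  letI : Localization.Lifting DerivedCategory.Q (HomologicalComplex.quasiIso X.Modules (ComplexShape.up ℤ))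
      (tensorLeft K ⋙ DerivedCategory.Q) (tensorLeft (DerivedCategory.Q.obj K)) := ⟨μL (P := KF X) K hK⟩
  Localization.liftNatIso DerivedCategory.Q (HomologicalComplex.quasiIso X.Modules (ComplexShape.up ℤ))
    (tensorLeft K ⋙ DerivedCategory.Q) (tensorLeft K ⋙ DerivedCategory.Q) _ _ (Iso.refl _)

/-- `(LTX X).obj Z` is `Z ⊗ -`. -/
theorem nonempty_LTXobj (Z : DCoh.D X) : Nonempty ((LTX X).obj Z ≅ tensorLeft Z) := by
  have hes : (LP (KF X)).EssSurj := Localization.essSurj (LP (KF X)) (qisP (KF X))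
  obtain ⟨⟨E, hE⟩, ⟨e⟩⟩ := hes.mem_essImage Z
  exact ⟨(LTX X).mapIso e.symm ≪≫ LTXobjIso E hE ≪≫ (curriedTensor (DCoh.D X)).mapIso e⟩

/-- For `E` perfect, `E' ⊗ᴸ -` is left adjoint to `E ⊗ᴸ -` for the dual `E'` of `E`. -/
theorem exists_adj (E : DCoh.D X) (hE : DCoh.IsPerfect E) :
    ∃ E' : DCoh.D X, DCoh.IsPerfect E' ∧ Nonempty ((LTX X).obj E' ⊣ (LTX X).obj E) := by
  have hes : (LP (KF X)).EssSurj := Localization.essSurj (LP (KF X)) (qisP (KF X))
  obtain ⟨⟨K, hK⟩, ⟨e⟩⟩ := hes.mem_essImage E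
  have := ModTens.hasLTensorCx K
  have := PerfC.RHomD.hasRSheafHom K
  have hKp : DCoh.IsPerfect (DerivedCategory.Q.obj K) := LocalD.isPerfect_of_iso e.symm hE
  let h := DualX.exactPairing hKp (ModTens.adjQ K)
  obtain ⟨a⟩ := nonempty_LTXobj ((DCoh.RSheafHom K).obj (𝟙_ (DCoh.D X)))
  obtain ⟨b⟩ := nonempty_LTXobj (DerivedCategory.Q.obj K)
  exact ⟨_, DualX.isPerfect_dual hKp (ModTens.adjQ K),
    ⟨((tensorLeftAdjunction (DerivedCategory.Q.obj K) ((DCoh.RSheafHom K).obj (𝟙_ (DCoh.D X)))).ofNatIsoLeft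
      a.symm).ofNatIsoRight (b.symm ≪≫ (LTX X).mapIso e)⟩⟩

end Groth.Agent.Dcoh.LTXMon305
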