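import Mathlib.Algebra.Homology.Refinements
import Mathlib.Algebra.Homology.QuasiIso
import Mathlib.Algebra.Homology.ShortComplex.Abelian
import Mathlib.CategoryTheory.ObjectProperty.Basic
import Mathlib.Algebra.Homology.Embedding.CochainComplex
import Mathlib.Algebra.Homology.Embedding.HomEquiv
import Mathlib.Algebra.Homology.Embedding.StupidTrunc

/-!
# Left resolutions of chain complexes by a class of objects

`A` an abelian category, `P` a class of objects such that every object of `A` is a quotient of an object of `P`.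
For a morphism `f : M ⟶ K` in `ChainComplex A ℕ` we construct a factorization `M ⟶ L ⟶ K` where `L ⟶ K` is a termwise
epimorphism and a quasi-isomorphism and `L.X n = Q n ⊞ M.X n` with `Q n` in `P`.
-/

universe v u

open CategoryTheory Limits

namespace Groth.Agent.Dcoh.LeftRes

variable {A : Type u} [Category.{v} A] [Abelian A] (P : ObjectProperty A)

/-- every object is a quotient of an object of `P` -/
def Enough : Prop := ∀ X : A, ∃ (Y : A) (c : Y ⟶ X), P Y ∧ Epi c

section Chain

variable {M K : ChainComplex A ℕ} (f : M ⟶ K)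

/-- The data constructed in degree `n`. -/
structure Stage (n : ℕ) where
  Q : A
  hQ : P Q
  Z : A
  ι : Z ⟶ Q ⊞ M.X n
  monoι : Mono ι
  g : Q ⊞ M.X n ⟶ K.X n
  inr_g : biprod.inr ≫ g = f.f n
  zM : M.cycles n ⟶ Z
  zM_ι : zM ≫ ι = M.iCycles n ≫ biprod.inr
  p : Z ⟶ K.cycles n
  epip : Epi p
  epig : Epi g
  p_i : p ≫ K.iCycles n = ι ≫ g

attribute [reassoc] Stage.zM_ι Stage.inr_g Stage.p_i
attribute [instance] Stage.monoι Stage.epip Stage.epig

variable {P} {f}

/-- The pullback `K_{n+1} ×_{Z_n(K)} Z_n(L)`. -/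
noncomputable abbrev Stage.PB {n : ℕ} (s : Stage P f n) : A := pullback (K.toCycles (n + 1) n) s.p

lemma Stage.zM_p {n : ℕ} (s : Stage P f n) : s.zM ≫ s.p = HomologicalComplex.cyclesMap f n := by
  rw [← cancel_mono (K.iCycles n), Category.assoc, s.p_i, reassoc_of% s.zM_ι, s.inr_g,
    HomologicalComplex.cyclesMap_i]

/-- `M_{n+1} ⟶ K_{n+1} ×_{Z_n(K)} Z_n(L)` -/
noncomputable def Stage.m {n : ℕ} (s : Stage P f n) : M.X (n + 1) ⟶ s.PB :=
  pullback.lift (f.f (n + 1)) (M.toCycles (n + 1) n ≫ s.zM) (by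
    rw [Category.assoc, s.zM_p, ← cancel_mono (K.iCycles n)]
    simp)

@[reassoc]
lemma Stage.m_fst {n : ℕ} (s : Stage P f n) : s.m ≫ pullback.fst _ _ = f.f (n + 1) :=
  pullback.lift_fst _ _ _

@[reassoc]
lemma Stage.m_snd {n : ℕ} (s : Stage P f n) : s.m ≫ pullback.snd _ _ = M.toCycles (n + 1) n ≫ s.zM :=
  pullback.lift_snd _ _ _

noncomputable def Stage.cov (hP : Enough P) {n : ℕ} (s : Stage P f n) : A := (hP s.PB).choose

noncomputable def Stage.c (hP : Enough P) {n : ℕ} (s : Stage P f n) : s.cov hP ⟶ s.PB :=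
  (hP s.PB).choose_spec.choose

instance (hP : Enough P) {n : ℕ} (s : Stage P f n) : Epi (s.c hP) := (hP s.PB).choose_spec.choose_spec.2

lemma Stage.P_cov (hP : Enough P) {n : ℕ} (s : Stage P f n) : P (s.cov hP) :=
  (hP s.PB).choose_spec.choose_spec.1

/-- the epimorphism onto the pullback -/
noncomputable def Stage.u (hP : Enough P) {n : ℕ} (s : Stage P f n) : s.cov hP ⊞ M.X (n + 1) ⟶ s.PB :=
  biprod.desc (s.c hP) s.m

instance (hP : Enough P) {n : ℕ} (s : Stage P f n) : Epi (s.u hP) := by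
  have : Epi (biprod.inl ≫ s.u hP) := by
    simp only [Stage.u, biprod.inl_desc]; infer_instance
  exact epi_of_epi biprod.inl (s.u hP)

noncomputable def Stage.δ (hP : Enough P) {n : ℕ} (s : Stage P f n) : s.cov hP ⊞ M.X (n + 1) ⟶ s.Z :=
  s.u hP ≫ pullback.snd _ _

noncomputable def Stage.g' (hP : Enough P) {n : ℕ} (s : Stage P f n) : s.cov hP ⊞ M.X (n + 1) ⟶ K.X (n + 1) :=
  s.u hP ≫ pullback.fst _ _

@[reassoc]
lemma Stage.g'_toCycles (hP : Enough P) {n : ℕ} (s : Stage P f n) :
    s.g' hP ≫ K.toCycles (n + 1) n = s.δ hP ≫ s.p := by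
  simp only [Stage.g', Stage.δ, Category.assoc, pullback.condition]

@[reassoc]
lemma Stage.g'_d (hP : Enough P) {n : ℕ} (s : Stage P f n) :
    s.g' hP ≫ K.d (n + 1) n = s.δ hP ≫ s.ι ≫ s.g := by
  rw [← s.p_i, ← s.g'_toCycles_assoc, HomologicalComplex.toCycles_i]

@[reassoc]
lemma Stage.inr_δ (hP : Enough P) {n : ℕ} (s : Stage P f n) :
    biprod.inr ≫ s.δ hP = M.toCycles (n + 1) n ≫ s.zM := by
  simp [Stage.δ, Stage.u, Stage.m_snd]

@[reassoc]
lemma Stage.inr_g' (hP : Enough P) {n : ℕ} (s : Stage P f n) :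
    biprod.inr ≫ s.g' hP = f.f (n + 1) := by
  simp [Stage.g', Stage.u, Stage.m_fst]

/-- lifting to `L_{n+1}`, up to refinement -/
lemma Stage.exists_lift (hP : Enough P) {n : ℕ} (s : Stage P f n) {T : A} (y : T ⟶ K.X (n + 1))
    (z : T ⟶ s.Z) (h : y ≫ K.toCycles (n + 1) n = z ≫ s.p) :
    ∃ (T' : A) (π : T' ⟶ T) (_ : Epi π) (x : T' ⟶ s.cov hP ⊞ M.X (n + 1)),
      π ≫ z = x ≫ s.δ hP ∧ π ≫ y = x ≫ s.g' hP := by
  obtain ⟨T', π, hπ, x, hx⟩ := surjective_up_to_refinements_of_epi (s.u hP) (pullback.lift y z h)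
  refine ⟨T', π, hπ, x, ?_, ?_⟩
  · have := congr($hx ≫ pullback.snd _ _)
    rw [Category.assoc, pullback.lift_snd, Category.assoc] at this
    exact this
  · have := congr($hx ≫ pullback.fst _ _)
    rw [Category.assoc, pullback.lift_fst, Category.assoc] at this
    exact this

noncomputable def Stage.p' (hP : Enough P) {n : ℕ} (s : Stage P f n) : kernel (s.δ hP) ⟶ K.cycles (n + 1) :=
  K.liftCycles (kernel.ι (s.δ hP) ≫ s.g' hP) n (by simp) (by
    rw [Category.assoc, s.g'_d, kernel.condition_assoc, zero_comp])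

@[reassoc]
lemma Stage.p'_i (hP : Enough P) {n : ℕ} (s : Stage P f n) :
    s.p' hP ≫ K.iCycles (n + 1) = kernel.ι (s.δ hP) ≫ s.g' hP := by
  simp [Stage.p']

instance (hP : Enough P) {n : ℕ} (s : Stage P f n) : Epi (s.p' hP) := by
  rw [epi_iff_surjective_up_to_refinements]
  intro T y
  obtain ⟨T', π, hπ, x, h1, h2⟩ := s.exists_lift hP (y ≫ K.iCycles (n + 1)) 0 (by
    rw [← cancel_mono (K.iCycles n)]; simp)
  rw [comp_zero] at h1
  refine ⟨T', π, hπ, kernel.lift _ x h1.symm, ?_⟩
  rw [← cancel_mono (K.iCycles (n + 1)), Category.assoc, Category.assoc, s.p'_i]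
  simpa using h2

instance (hP : Enough P) {n : ℕ} (s : Stage P f n) : Epi (s.g' hP) := by
  dsimp only [Stage.g']; infer_instance

noncomputable def Stage.next (hP : Enough P) {n : ℕ} (s : Stage P f n) : Stage P f (n + 1) where
  Q := s.cov hP
  hQ := s.P_cov hP
  Z := kernel (s.δ hP)
  ι := kernel.ι (s.δ hP)
  monoι := inferInstance
  g := s.g' hP
  inr_g := s.inr_g' hP
  zM := kernel.lift _ (M.iCycles (n + 1) ≫ biprod.inr) (by
    rw [Category.assoc, s.inr_δ, ← Category.assoc]
    have : M.iCycles (n + 1) ≫ M.toCycles (n + 1) n = 0 := by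
      rw [← cancel_mono (M.iCycles n)]; simp
    rw [this, zero_comp])
  zM_ι := by simp
  p := s.p' hP
  epip := inferInstance
  epig := inferInstance
  p_i := s.p'_i hP

variable (f) in
noncomputable def stage₀ (hP : Enough P) : Stage P f 0 where
  Q := (hP (K.X 0)).choose
  hQ := (hP (K.X 0)).choose_spec.choose_spec.1
  Z := (hP (K.X 0)).choose ⊞ M.X 0
  ι := 𝟙 _
  monoι := inferInstance
  g := biprod.desc (hP (K.X 0)).choose_spec.choose (f.f 0)
  inr_g := by simp
  zM := M.iCycles 0 ≫ biprod.inr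
  zM_ι := by simp
  p := K.liftCycles (biprod.desc (hP (K.X 0)).choose_spec.choose (f.f 0)) 0 (by simp) (by simp)
  epip := by
    have : Epi (biprod.desc (hP (K.X 0)).choose_spec.choose (f.f 0)) := by
      have := (hP (K.X 0)).choose_spec.choose_spec.2
      have : Epi (biprod.inl ≫ biprod.desc (hP (K.X 0)).choose_spec.choose (f.f 0)) := by
        simp only [biprod.inl_desc]; infer_instance
      exact epi_of_epi biprod.inl _
    rw [epi_iff_surjective_up_to_refinements]
    intro T y
    obtain ⟨T', π, hπ, x, h1⟩ := surjective_up_to_refinements_of_epi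
      (biprod.desc (hP (K.X 0)).choose_spec.choose (f.f 0)) (y ≫ K.iCycles 0)
    refine ⟨T', π, hπ, x, ?_⟩
    rw [← cancel_mono (K.iCycles 0)]
    simpa using h1
  epig := by
    have := (hP (K.X 0)).choose_spec.choose_spec.2
    have : Epi (biprod.inl ≫ biprod.desc (hP (K.X 0)).choose_spec.choose (f.f 0)) := by
      simp only [biprod.inl_desc]; infer_instance
    exact epi_of_epi biprod.inl _
  p_i := by simp

variable (f) in
noncomputable def stage (hP : Enough P) : ∀ n : ℕ, Stage P f n
  | 0 => stage₀ f hP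
  | n + 1 => (stage hP n).next hP

variable (f) in
noncomputable def stageIso (hP : Enough P) (n : ℕ) :
    (stage f hP (n + 1)).Q ⊞ M.X (n + 1) ≅ (stage f hP n).cov hP ⊞ M.X (n + 1) := Iso.refl _

variable (f) in
noncomputable def zIso (hP : Enough P) (n : ℕ) :
    (stage f hP (n + 1)).Z ≅ kernel ((stage f hP n).δ hP) := Iso.refl _

variable (f) in
lemma stage_ι (hP : Enough P) (n : ℕ) :
    (stage f hP (n + 1)).ι = (zIso f hP n).hom ≫ kernel.ι _ ≫ (stageIso f hP n).inv := by
  have h : 𝟙 _ ≫ kernel.ι ((stage f hP n).δ hP) ≫ 𝟙 _ = kernel.ι ((stage f hP n).δ hP) := by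
    rw [Category.id_comp, Category.comp_id]
  exact h.symm

variable (f) in
@[reassoc]
lemma stage_ι_δ (hP : Enough P) (n : ℕ) :
    (stage f hP (n + 1)).ι ≫ (stageIso f hP n).hom ≫ (stage f hP n).δ hP = 0 := by
  rw [stage_ι]
  simp

variable (f) in
/-- The resolution. -/
noncomputable def res (hP : Enough P) : ChainComplex A ℕ :=
  ChainComplex.of (fun n => (stage f hP n).Q ⊞ M.X n) (fun n => (stage f hP n).δ hP ≫ (stage f hP n).ι) (by
    intro n
    have h := stage_ι_δ f hP n
    calc _ = (stage f hP (n + 1)).δ hP ≫ ((stage f hP (n + 1)).ι ≫ (stageIso f hP n).hom ≫ (stage f hP n).δ hP) ≫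
          (stage f hP n).ι := by
            simp only [Category.assoc]
            congr 2
            exact (Category.id_comp _).symm
      _ = 0 := by rw [h, zero_comp, comp_zero])

variable (f) in
noncomputable def resIso (hP : Enough P) (n : ℕ) : (res f hP).X n ≅ (stage f hP n).Q ⊞ M.X n := Iso.refl _

variable (f) in
lemma res_d (hP : Enough P) (n : ℕ) :
    (res f hP).d (n + 1) n = (resIso f hP (n + 1)).hom ≫ (stageIso f hP n).hom ≫ (stage f hP n).δ hP ≫
      (stage f hP n).ι ≫ (resIso f hP n).inv := by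
  have h : (res f hP).d (n + 1) n = (stage f hP n).δ hP ≫ (stage f hP n).ι := by
    refine (ChainComplex.of_d (X := fun n => (stage f hP n).Q ⊞ M.X n)
      (fun n => (stage f hP n).δ hP ≫ (stage f hP n).ι) n)
  rw [h]
  change _ = 𝟙 _ ≫ 𝟙 _ ≫ (stage f hP n).δ hP ≫ (stage f hP n).ι ≫ 𝟙 _
  rw [Category.id_comp, Category.id_comp, Category.comp_id]

variable (f) in
/-- `L_n ⟶ K_n` -/
noncomputable def resg (hP : Enough P) (n : ℕ) : (res f hP).X n ⟶ K.X n := (resIso f hP n).hom ≫ (stage f hP n).g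

lemma stageIso_g' (hP : Enough P) (n : ℕ) :
    (stageIso f hP n).hom ≫ (stage f hP n).g' hP = (stage f hP (n + 1)).g := Category.id_comp _

variable (f) in
/-- `L ⟶ K` -/
noncomputable def resπ (hP : Enough P) : res f hP ⟶ K where
  f n := resg f hP n
  comm' i j hij := by
    obtain rfl : j + 1 = i := hij
    rw [res_d, resg, resg, ← stageIso_g']
    simp only [Category.assoc, Iso.inv_hom_id_assoc]
    rw [Stage.g'_d]

@[reassoc]
lemma inr_stageIso (hP : Enough P) (n : ℕ) :
    biprod.inr ≫ (stageIso f hP n).hom = biprod.inr := Category.comp_id _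

@[reassoc (attr := simp)]
lemma resπ_f (hP : Enough P) (n : ℕ) : (resπ f hP).f n = (resIso f hP n).hom ≫ (stage f hP n).g := rfl

variable (f) in
/-- `M ⟶ L` -/
noncomputable def resι (hP : Enough P) : M ⟶ res f hP where
  f n := biprod.inr ≫ (resIso f hP n).inv
  comm' i j hij := by
    obtain rfl : j + 1 = i := hij
    rw [res_d]
    simp only [Category.assoc, Iso.inv_hom_id_assoc]
    rw [inr_stageIso_assoc, Stage.inr_δ_assoc, (stage f hP j).zM_ι_assoc, HomologicalComplex.toCycles_i_assoc]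

variable (f) in
lemma resι_resπ (hP : Enough P) : resι f hP ≫ resπ f hP = f := by
  ext n
  change (biprod.inr ≫ (resIso f hP n).inv) ≫ (resIso f hP n).hom ≫ (stage f hP n).g = _
  rw [Category.assoc, Iso.inv_hom_id_assoc, (stage f hP n).inr_g]

variable (f) in
lemma res_lift_Z (hP : Enough P) (n : ℕ) {T : A} (x : T ⟶ (res f hP).X n)
    (hx : x ≫ (res f hP).d n (n - 1) = 0) :
    ∃ z : T ⟶ (stage f hP n).Z, z ≫ (stage f hP n).ι ≫ (resIso f hP n).inv = x := by
  cases n with
  | zero => exact ⟨x ≫ (resIso f hP 0).hom, by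
      change (x ≫ (resIso f hP 0).hom) ≫ 𝟙 _ ≫ (resIso f hP 0).inv = x
      simp⟩
  | succ n =>
    have hx' : (x ≫ (resIso f hP (n + 1)).hom ≫ (stageIso f hP n).hom) ≫ (stage f hP n).δ hP = 0 := by
      rw [← cancel_mono ((stage f hP n).ι ≫ (resIso f hP n).inv), zero_comp]
      simp only [Category.assoc]
      rw [← res_d f hP n]
      exact hx
    refine ⟨kernel.lift _ _ hx' ≫ (zIso f hP n).inv, ?_⟩
    rw [stage_ι]
    simp

variable (f) in
@[reassoc]
lemma res_ι_d (hP : Enough P) (n : ℕ) :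
    (stage f hP n).ι ≫ (resIso f hP n).inv ≫ (res f hP).d n (n - 1) = 0 := by
  cases n with
  | zero =>
    rw [(res f hP).shape 0 (0 - 1) (by simp)]
    simp
  | succ n =>
    have h : (res f hP).d (n + 1) (n + 1 - 1) = (res f hP).d (n + 1) n := rfl
    rw [h, res_d, Iso.inv_hom_id_assoc, stage_ι_δ_assoc, zero_comp]

instance (hP : Enough P) (n : ℕ) : Epi ((resπ f hP).f n) := by
  rw [resπ_f]; infer_instance

instance (hP : Enough P) : QuasiIso (resπ f hP) where
  quasiIsoAt n := by
    rw [quasiIsoAt_iff_isIso_homologyMap]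
    have hn : (ComplexShape.down ℕ).next n = n - 1 := by
      cases n with
      | zero => simp
      | succ n => simp
    have hmono : Mono (HomologicalComplex.homologyMap (resπ f hP) n) := by
      rw [HomologicalComplex.mono_homologyMap_iff_up_to_refinements _ (n + 1) n (n - 1) (by simp) hn]
      intro T x hx y hy
      obtain ⟨z, rfl⟩ := res_lift_Z f hP n x hx
      obtain ⟨T', π, hπ, x', h1, h2⟩ := (stage f hP n).exists_lift hP y z (by
        rw [← cancel_mono (K.iCycles n), Category.assoc, Category.assoc, Stage.p_i, HomologicalComplex.toCycles_i,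
          ← hy]
        simp)
      refine ⟨T', π, hπ, x' ≫ (stageIso f hP n).inv ≫ (resIso f hP (n + 1)).inv, ?_⟩
      rw [res_d]
      simp only [Category.assoc, Iso.inv_hom_id_assoc]
      rw [← reassoc_of% h1]
    have hepi : Epi (HomologicalComplex.homologyMap (resπ f hP) n) := by
      rw [HomologicalComplex.epi_homologyMap_iff_up_to_refinements _ (n + 1) n (n - 1) (by simp) hn]
      intro T y hy
      obtain ⟨T', π, hπ, z, hz⟩ := surjective_up_to_refinements_of_epi (stage f hP n).p
        (K.liftCycles y (n - 1) hn hy)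
      refine ⟨T', π, hπ, z ≫ (stage f hP n).ι ≫ (resIso f hP n).inv, ?_, 0, ?_⟩
      · rw [Category.assoc, Category.assoc, res_ι_d, comp_zero]
      · have := congr($hz ≫ K.iCycles n)
        rw [Category.assoc, Category.assoc, Stage.p_i] at this
        simpa using this
    exact isIso_of_mono_of_epi _

variable (P f) in
/-- Factorization in `ChainComplex A ℕ`. -/
theorem exists_factorization_chain (hP : Enough P) :
    ∃ (L : ChainComplex A ℕ) (i : M ⟶ L) (p : L ⟶ K) (Q : ℕ → A) (s : ∀ n, L.X n ≅ Q n ⊞ M.X n),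
      i ≫ p = f ∧ (∀ n, P (Q n)) ∧ (∀ n, i.f n ≫ (s n).hom = biprod.inr) ∧ (∀ n, Epi (p.f n)) ∧ QuasiIso p :=
  ⟨res f hP, resι f hP, resπ f hP, fun n => (stage f hP n).Q, fun n => resIso f hP n, resι_resπ f hP,
    fun n => (stage f hP n).hQ, fun n => by simp [resι], fun _ => inferInstance, inferInstance⟩

end Chain

section Cochain

open ComplexShape HomologicalComplex ZeroObject

variable {C : Type u} [Category.{v} C] [Abelian C]

lemma hasLift_embeddingUpIntLE (n : ℤ) {K : CochainComplex C ℤ} {L : ChainComplex C ℕ}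
    (φ : K.restriction (embeddingUpIntLE n) ⟶ L) : (embeddingUpIntLE n).HasLift φ := by
  intro j hj i' hi'
  exfalso
  have h : ∀ k, (embeddingUpIntLE n).f k ≠ i' := fun k hk => hj.notMem hi' k hk
  rw [notMem_range_embeddingUpIntLE_iff] at h
  have : i' + 1 = n - j := hi'
  lia

/-- the canonical map from a complex to its stupid truncation in degrees `≤ n` -/
noncomputable def toStupid (n : ℤ) (K : CochainComplex C ℤ) :
    K ⟶ (K.restriction (embeddingUpIntLE n)).extend (embeddingUpIntLE n) :=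
  (embeddingUpIntLE n).liftExtend (𝟙 _) (hasLift_embeddingUpIntLE n _)

instance isIso_toStupid (n : ℤ) (K : CochainComplex C ℤ) [K.IsStrictlyLE n] : IsIso (toStupid n K) := by
  have : ∀ i, IsIso ((toStupid n K).f i) := by
    intro i
    by_cases hi : ∃ k, (embeddingUpIntLE n).f k = i
    · obtain ⟨k, hk⟩ := hi
      rw [toStupid, (embeddingUpIntLE n).isIso_liftExtend_f_iff _ _ hk]
      infer_instance
    · have h1 : IsZero (K.X i) := K.isZero_of_isStrictlyLE n i (by
        rw [← notMem_range_embeddingUpIntLE_iff]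
        rintro k hk
        exact hi ⟨k, hk⟩)
      have h2 : IsZero (((K.restriction (embeddingUpIntLE n)).extend (embeddingUpIntLE n)).X i) :=
        isZero_extend_X _ _ _ (by
          intro k hk
          exact hi ⟨k, hk⟩)
      exact ⟨0, h1.eq_of_src _ _, h2.eq_of_src _ _⟩
  exact HomologicalComplex.Hom.isIso_of_components _

@[reassoc]
lemma toStupid_naturality (n : ℤ) {M K : CochainComplex C ℤ} (f : M ⟶ K) :
    toStupid n M ≫ extendMap (restrictionMap f (embeddingUpIntLE n)) (embeddingUpIntLE n) =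
      f ≫ toStupid n K := by
  have h : (embeddingUpIntLE n).homRestrict (toStupid n M ≫
      extendMap (restrictionMap f (embeddingUpIntLE n)) (embeddingUpIntLE n)) =
      (embeddingUpIntLE n).homRestrict (f ≫ toStupid n K) := by
    rw [Embedding.homRestrict_comp_extendMap, Embedding.homRestrict_precomp, toStupid, toStupid,
      Embedding.homRestrict_liftExtend, Embedding.homRestrict_liftExtend, Category.id_comp, Category.comp_id]
  have h1 := (embeddingUpIntLE n).liftExtend_homRestrict (toStupid n M ≫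
      extendMap (restrictionMap f (embeddingUpIntLE n)) (embeddingUpIntLE n))
  have h2 := (embeddingUpIntLE n).liftExtend_homRestrict (f ≫ toStupid n K)
  rw [← h1, ← h2]
  congr 1

/-- A class of objects suitable for left resolutions. -/
structure GoodClass (P : ObjectProperty C) : Prop where
  enough : ∀ X : C, ∃ (Y : C) (c : Y ⟶ X), P Y ∧ Epi c
  zero : ∀ X : C, IsZero X → P X
  biprod : ∀ X Y : C, P X → P Y → P (X ⊞ Y)
  iso : ∀ {X Y : C} (_ : X ≅ Y), P X → P Y

variable {P : ObjectProperty C}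

/-- Relative factorization for bounded above cochain complexes. -/
theorem exists_factorization (hP : Enough P) {M K : CochainComplex C ℤ} (f : M ⟶ K) (n : ℤ)
    [M.IsStrictlyLE n] [K.IsStrictlyLE n] :
    ∃ (L : CochainComplex C ℤ) (i : M ⟶ L) (p : L ⟶ K), L.IsStrictlyLE n ∧ i ≫ p = f ∧
      (∀ j, ∃ (Q : C) (s : L.X j ≅ Q ⊞ M.X j), (IsZero Q ∨ P Q) ∧ i.f j ≫ s.hom = biprod.inr) ∧
      (∀ j, Epi (p.f j)) ∧ QuasiIso p := by
  let e := embeddingUpIntLE n
  obtain ⟨L', i', p', Q, s, h1, h2, h3, h4, h5⟩ := exists_factorization_chain P (restrictionMap f e) hP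
  refine ⟨L'.extend e, toStupid n M ≫ extendMap i' e, extendMap p' e ≫ inv (toStupid n K),
    inferInstance, ?_, ?_, ?_, ?_⟩
  · rw [Category.assoc, ← extendMap_comp_assoc, h1, ← Category.assoc, toStupid_naturality, Category.assoc,
      IsIso.hom_inv_id, Category.comp_id]
  · intro j
    by_cases hj : ∃ k, e.f k = j
    · obtain ⟨k, hk⟩ := hj
      have hM := M.restrictionXIso e hk
      refine ⟨Q k, L'.extendXIso e hk ≪≫ s k ≪≫ biprod.mapIso (Iso.refl _) (M.restrictionXIso e hk),
        Or.inr (h2 k), ?_⟩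
      have ha : (toStupid n M).f j = (M.restrictionXIso e hk).inv ≫
          ((M.restriction e).extendXIso e hk).inv := by
        refine (e.liftExtend_f _ _ hk).trans ?_
        rw [id_f, Category.id_comp]
      rw [comp_f, ha, extendMap_f _ _ hk]
      simp only [Category.assoc, Iso.trans_hom, biprod.mapIso_hom, Iso.refl_hom,
        Iso.inv_hom_id_assoc]
      rw [reassoc_of% (h3 k)]
      simp
    · have z1 : IsZero ((L'.extend e).X j) := isZero_extend_X _ _ _ (by
          intro k hk
          exact hj ⟨k, hk⟩)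
      have z2 : IsZero (M.X j) := M.isZero_of_isStrictlyLE n j (by
        rw [← notMem_range_embeddingUpIntLE_iff]
        rintro k hk
        exact hj ⟨k, hk⟩)
      have z3 : IsZero (0 ⊞ M.X j : C) := by
        rw [biprod_isZero_iff]; exact ⟨isZero_zero _, z2⟩
      exact ⟨0, z1.iso z3, Or.inl (isZero_zero _), z2.eq_of_src _ _⟩
  · intro j
    rw [comp_f]
    have : Epi ((extendMap p' e).f j) := by
      by_cases hj : ∃ k, e.f k = j
      · obtain ⟨k, hk⟩ := hj
        have := h4 k
        rw [extendMap_f _ _ hk]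
        infer_instance
      · have z1 : IsZero ((HomologicalComplex.extend (K.restriction e) e).X j) := isZero_extend_X _ _ _ (by
          intro k hk
          exact hj ⟨k, hk⟩)
        exact ⟨fun _ _ _ => z1.eq_of_src _ _⟩
    infer_instance
  · have : QuasiIso (extendMap p' e) := inferInstance
    infer_instance

/-- Resolutions of strictly bounded above complexes. -/
theorem exists_resolution_of_isStrictlyLE (hP : GoodClass P) (K : CochainComplex C ℤ) (n : ℤ)
    [K.IsStrictlyLE n] :
    ∃ (L : CochainComplex C ℤ) (p : L ⟶ K), L.IsStrictlyLE n ∧ (∀ j, P (L.X j)) ∧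
      (∀ j, Epi (p.f j)) ∧ QuasiIso p := by
  have h0 : (0 : CochainComplex C ℤ).IsStrictlyLE n := by
    rw [CochainComplex.isStrictlyLE_iff]
    intro i _
    exact (HomologicalComplex.eval C _ i).map_isZero (isZero_zero _)
  obtain ⟨L, i, p, h1, -, h2, h3, h4⟩ := exists_factorization (P := P) hP.enough
    (0 : (0 : CochainComplex C ℤ) ⟶ K) n
  refine ⟨L, p, h1, ?_, h3, h4⟩
  intro j
  obtain ⟨Q, s, hQ, -⟩ := h2 j
  have hQ' : P Q := hQ.elim (hP.zero Q) id
  exact hP.iso s.symm (hP.biprod _ _ hQ' (hP.zero _ ((HomologicalComplex.eval C _ j).map_isZero (isZero_zero _))))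

/-- Resolutions of cohomologically bounded above complexes. -/
theorem exists_resolution_of_isLE (hP : GoodClass P) (K : CochainComplex C ℤ) (n : ℤ)
    [K.IsLE n] :
    ∃ (L : CochainComplex C ℤ) (p : L ⟶ K), L.IsStrictlyLE n ∧ (∀ j, P (L.X j)) ∧ QuasiIso p := by
  obtain ⟨L, p, h1, h2, -, h3⟩ := exists_resolution_of_isStrictlyLE hP (K.truncLE n) n
  exact ⟨L, p ≫ K.ιTruncLE n, h1, h2, inferInstance⟩

/-- Relative factorization for bounded above cochain complexes with terms in a good class. -/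
theorem exists_factorization_good (hP : GoodClass P) {M K : CochainComplex C ℤ} (f : M ⟶ K) (n : ℤ)
    [M.IsStrictlyLE n] [K.IsStrictlyLE n] (hM : ∀ j, P (M.X j)) :
    ∃ (L : CochainComplex C ℤ) (i : M ⟶ L) (p : L ⟶ K), L.IsStrictlyLE n ∧ i ≫ p = f ∧
      (∀ j, P (L.X j)) ∧ (∀ j, P (cokernel (i.f j))) ∧ (∀ j, Mono (i.f j)) ∧
      (∀ j, Epi (p.f j)) ∧ QuasiIso p := by
  obtain ⟨L, i, p, h1, h2, h3, h4, h5⟩ := exists_factorization (P := P) hP.enough f n
  refine ⟨L, i, p, h1, h2, ?_, ?_, ?_, h4, h5⟩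
  · intro j
    obtain ⟨Q, s, hQ, -⟩ := h3 j
    have hQ' : P Q := hQ.elim (hP.zero Q) id
    exact hP.iso s.symm (hP.biprod _ _ hQ' (hM j))
  · intro j
    obtain ⟨Q, s, hQ, hs⟩ := h3 j
    have hQ' : P Q := hQ.elim (hP.zero Q) id
    refine hP.iso ?_ hQ'
    have e1 : cokernel (biprod.inr : M.X j ⟶ Q ⊞ M.X j) ≅ Q :=
      { hom := cokernel.desc _ biprod.fst (by simp)
        inv := biprod.inl ≫ cokernel.π _
        hom_inv_id := by
          ext
          · simp
          · simp
        inv_hom_id := by simp }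
    have e2 : cokernel (i.f j) ≅ cokernel (biprod.inr : M.X j ⟶ Q ⊞ M.X j) :=
      cokernel.mapIso _ _ (Iso.refl _) s (by simp [hs])
    exact (e2 ≪≫ e1).symm
  · intro j
    obtain ⟨Q, s, hQ, hs⟩ := h3 j
    have : Mono (i.f j ≫ s.hom) := by rw [hs]; infer_instance
    exact mono_of_mono _ s.hom

end Cochain

end Groth.Agent.Dcoh.LeftRes
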