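import Groth.Agent.Dcoh.RestrictCx

set_option autoImplicit false

universe u

open CategoryTheory AlgebraicGeometry Limits CochainComplex.HomComplex

namespace Groth.Agent.Dcoh.LocNull

open Groth.Agent.Dcoh.Restrict Groth.Agent.Dcoh.LocLift Groth.Agent.Dcoh.ResFree Groth.Agent.Dcoh.RestrictCx

/-- Transport of local null-homotopies. -/
theorem opens_of_restrict {U X : Scheme.{u}} {E F : CochainComplex X.Modules ℤ} (α : E ⟶ F)
    (j : U ⟶ X) [IsOpenImmersion j] (y : U)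
    (H : ∃ V : U.Opens, y ∈ V ∧ Nonempty (Homotopy ((resCx V.ι).map ((resCx j).map α)) 0)) :
    ∃ V : X.Opens, j y ∈ V ∧ Nonempty (Homotopy ((resCx V.ι).map α) 0) := by
  obtain ⟨V, hyV, ⟨H⟩⟩ := H
  refine ⟨j ''ᵁ V, ⟨y, hyV, rfl⟩, ⟨?_⟩⟩
  have H' : Homotopy ((resCx V.ι).map ((resCx j).map α))
      ((resCx V.ι).map ((resCx j).map (0 : E ⟶ F))) :=
    H.trans (Homotopy.ofEq (by rw [Functor.map_zero, Functor.map_zero]))
  have h1 : Homotopy ((resCx (V.ι ≫ j)).map α) ((resCx (V.ι ≫ j)).map 0) :=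
    homotopyComp V.ι j (V.ι ≫ j) rfl H'
  have h2 : (j.isoImage V).inv ≫ (V.ι ≫ j) = (j ''ᵁ V).ι := by
    rw [Iso.inv_comp_eq]
    exact (Scheme.Hom.isoImage_hom_ι j V).symm
  have h3 : Homotopy ((resCx (j ''ᵁ V).ι).map α) ((resCx (j ''ᵁ V).ι).map 0) :=
    homotopyComp (j.isoImage V).inv (V.ι ≫ j) _ h2
      ((Scheme.Modules.restrictFunctor (j.isoImage V).inv).mapHomotopy h1)
  exact h3.trans (Homotopy.ofEq (by rw [Functor.map_zero]))

theorem aux (a : ℤ) (k : ℕ) : ∀ (X : Scheme.{u}) (E F : CochainComplex X.Modules ℤ) (α : E ⟶ F)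
    (_ : ∀ i, FlatMod.IsFinLocFree (E.X i)) (_ : ∀ i : ℤ, i < a → IsZero (E.X i))
    (_ : ∀ i : ℤ, a ≤ i → IsZero (F.homology i)) (z : Cochain E F (-1))
    (_ : ∀ p, a + k ≤ p → (δ (-1) 0 z).v p p (add_zero _) = α.f p) (x : X),
    ∃ V : X.Opens, x ∈ V ∧ Nonempty (Homotopy ((resCx V.ι).map α) 0) := by
  induction k with
  | zero =>
    intro X E F α hE hEa hF z hz x
    refine ⟨⊤, trivial, ⟨?_⟩⟩
    have h1 : Cochain.ofHom α = δ (-1) 0 z + Cochain.ofHom 0 := by
      refine Cochain.ext₀ _ _ (fun p => ?_)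
      rw [Cochain.ofHom_zero, add_zero, Cochain.ofHom_v]
      by_cases hp : a ≤ p
      · exact (hz p (by simpa using hp)).symm
      · exact (hEa p (by lia)).eq_of_src _ _
    have H : Homotopy α 0 := (Cochain.equivHomotopy α 0).symm ⟨z, h1⟩
    exact ((Scheme.Modules.restrictFunctor (⊤ : X.Opens).ι).mapHomotopy H).trans
      (Homotopy.ofEq (by rw [Functor.map_zero]))
  | succ k ih =>
    intro X E F α hE hEa hF z hz x
    set i : ℤ := a + k with hi
    obtain ⟨γ, hγ⟩ := exists_cycle α z i (hz (i + 1) (by push_cast; lia))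
    have := epi_toCycles F i (hF i (by lia))
    obtain ⟨V, hxV, ψ, hψ⟩ := exists_lifts_of_isFinLocFree (F.toCycles (i - 1) i) γ (hE i) x
    apply opens_of_restrict α V.ι ⟨x, hxV⟩
    let E' : CochainComplex (V : Scheme.{u}).Modules ℤ := (resCx V.ι).obj E
    let F' : CochainComplex (V : Scheme.{u}).Modules ℤ := (resCx V.ι).obj F
    let α' : E' ⟶ F' := (resCx V.ι).map α
    let z' : Cochain E' F' (-1) := z.map (Scheme.Modules.restrictFunctor V.ι)
    let ψ' : E'.X i ⟶ F'.X (i - 1) := ψ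
    have hz' : ∀ p, (δ (-1) 0 z').v p p (add_zero _) =
        (Scheme.Modules.restrictFunctor V.ι).map ((δ (-1) 0 z).v p p (add_zero _)) := by
      intro p
      rw [δ_map, Cochain.map_v]
    have hψ' : ψ' ≫ F'.d (i - 1) i = α'.f i - (δ (-1) 0 z').v i i (add_zero _) := by
      rw [hz']
      have h1 : ψ ≫ (Scheme.Modules.restrictFunctor V.ι).map (F.d (i - 1) i) =
          (Scheme.Modules.restrictFunctor V.ι).map (α.f i - (δ (-1) 0 z).v i i (add_zero _)) := by
        rw [← F.toCycles_i, ← hγ, Functor.map_comp, Functor.map_comp, ← Category.assoc, hψ]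
      rw [Functor.map_sub] at h1
      exact h1
    have key := step α' z' i ψ' hψ' (fun p hp => by
      rw [hz', hz p (by push_cast; lia)]
      rfl)
    exact ih V E' F' α'
      (fun i => isFinLocFree_restrict (hE i) V.ι)
      (fun i hi => (Scheme.Modules.restrictFunctor V.ι).map_isZero (hEa i hi))
      (fun i hi => isZero_homology_resCx i (hF i hi) V.ι)
      _ key ⟨x, hxV⟩

/-- 08C7: maps from a strictly perfect complex in degrees `≥ a` to a complex with vanishing cohomology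
in degrees `≥ a` are locally null-homotopic. -/
theorem exists_homotopy_zero {X : Scheme.{u}} {E F : CochainComplex X.Modules ℤ}
    (α : E ⟶ F) (hE : DCoh.IsStrictlyPerfect E) (a : ℤ) (hEa : ∀ i : ℤ, i < a → IsZero (E.X i))
    (hF : ∀ i : ℤ, a ≤ i → IsZero (F.homology i)) (x : X) :
    ∃ V : X.Opens, x ∈ V ∧ Nonempty (Homotopy ((resCx V.ι).map α) 0) := by
  obtain ⟨⟨c, b, hcb⟩, hE⟩ := hE
  obtain ⟨k, hk⟩ : ∃ k : ℕ, b < a + k := ⟨(b - a + 1).toNat, by lia⟩
  refine aux a k X E F α hE hEa hF 0 (fun p hp => ?_) x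
  rw [δ_zero]
  exact ((hcb p (Or.inr (by lia))).eq_of_src _ _)

end Groth.Agent.Dcoh.LocNull
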