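import Groth.Agent.Dcoh.MonTm
import Groth.Agent.CohqB.HomSheafMap
import Mathlib.CategoryTheory.Monoidal.Closed.Basic

/-!
# The category of `O_X`-modules is monoidal closed

The internal Hom is the sheaf Hom `CohqB.HomSheaf.homSheaf M N`; every `DCoh.HasSheafHom M` holds, and
`DCoh.sheafHom M` is isomorphic to `N ↦ homSheaf M N`.
-/

set_option autoImplicit false
universe u
open CategoryTheory CategoryTheory.Limits AlgebraicGeometry Opposite TopologicalSpace MonoidalCategory

namespace Groth.Agent.Dcoh.MonClosed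

open scoped Groth.Agent.Dcoh.MonCat
open Groth.Agent.Dcoh.MonTm Groth.Agent.CohqB.HomSheaf
open Groth.Agent.Ega2 (Tens.app_res)

variable {X : Scheme.{u}} {M N P M' N' P' : X.Modules} {U V : X.Opens}

variable (M) in
/-- The sheaf Hom as a functor of the second variable. -/
noncomputable def homFunctor : X.Modules ⥤ X.Modules where
  obj P := homSheaf M P
  map φ := homMap M φ
  map_id _ := homMap_id
  map_comp _ _ := homMap_comp _ _

/-- Currying: from `φ : M ⊗ N ⟶ P` the map `N ⟶ Hom(M, P)`. -/
noncomputable def curry (φ : M ⊗ N ⟶ P) : N ⟶ homSheaf M P :=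
  homMkSec _ _ (fun U =>
    { toFun := fun n => mkSec (fun V hV =>
        { toFun := fun m => φ.app V (tm m (N.presheaf.map (homOfLE hV).op n))
          map_add' := fun m m' => by rw [add_tm, map_add]
          map_smul' := fun r m => by
            rw [smul_tm, Scheme.Modules.Hom.app_smul]; rfl })
        (fun V W hV h m => by
          change φ.app W (tm (M.presheaf.map (homOfLE h).op m) (N.presheaf.map (homOfLE (h.trans hV)).op n)) =
            P.presheaf.map (homOfLE h).op (φ.app V (tm m (N.presheaf.map (homOfLE hV).op n)))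
          rw [Ega2.Tens.app_res φ (homOfLE h), tm_res, res_res N hV h])
      map_zero' := sec_ext fun V hV m => by
        change φ.app V (tm m (N.presheaf.map (homOfLE hV).op 0)) = 0
        rw [map_zero, tm_zero, map_zero]
      map_add' := fun n n' => sec_ext fun V hV m => by
        change φ.app V (tm m (N.presheaf.map (homOfLE hV).op (n + n'))) =
          φ.app V (tm m (N.presheaf.map (homOfLE hV).op n)) + φ.app V (tm m (N.presheaf.map (homOfLE hV).op n'))
        rw [map_add, tm_add, map_add] })
    (fun U r n => sec_ext fun V hV m => by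
      change φ.app V (tm m (N.presheaf.map (homOfLE hV).op (r • n))) =
        (X.presheaf.map (homOfLE hV).op r) • φ.app V (tm m (N.presheaf.map (homOfLE hV).op n))
      rw [Scheme.Modules.map_smul, tm_smul, Scheme.Modules.Hom.app_smul])
    (fun U V h n => sec_ext fun W hW m => by
      change φ.app W (tm m (N.presheaf.map (homOfLE hW).op (N.presheaf.map (homOfLE h).op n))) =
        φ.app W (tm m (N.presheaf.map (homOfLE (hW.trans h)).op n))
      rw [res_res N h hW])

theorem comp_curry (φ : M ⊗ N ⟶ P) (n : Γ(N, U)) (V : X.Opens) (hV : V ≤ U) (m : Γ(M, V)) :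
    comp ((curry φ).app U n) V hV m = φ.app V (tm m (N.presheaf.map (homOfLE hV).op n)) := rfl

theorem comp_curry_self (φ : M ⊗ N ⟶ P) (n : Γ(N, U)) (m : Γ(M, U)) :
    comp ((curry φ).app U n) U le_rfl m = φ.app U (tm m n) := by
  rw [comp_curry, res_self]

/-- Uncurrying. -/
noncomputable def uncurry (ψ : N ⟶ homSheaf M P) : M ⊗ N ⟶ P :=
  Ega2.Tens.lift (fun U => LinearMap.mk₂ _ (fun m n => comp (ψ.app U n) U le_rfl m)
    (fun m m' n => map_add _ _ _) (fun r m n => map_smul _ _ _)
    (fun m n n' => by rw [map_add]; rfl)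
    (fun r m n => by rw [Scheme.Modules.Hom.app_smul, comp_self_smul]; rfl))
    (fun U V i m n => by
      change P.presheaf.map i.op (comp (ψ.app U n) U le_rfl m) =
        comp (ψ.app V (N.presheaf.map i.op n)) V le_rfl (M.presheaf.map i.op m)
      rw [← Ega2.Tens.app_res ψ i]
      exact (comp_map (ψ.app U n) le_rfl i.le m).symm)

theorem uncurry_tm (ψ : N ⟶ homSheaf M P) (m : Γ(M, U)) (n : Γ(N, U)) :
    (uncurry ψ).app U (tm m n) = comp (ψ.app U n) U le_rfl m := Ega2.Tens.lift_tmul _ _ _ _ _

theorem uncurry_curry (φ : M ⊗ N ⟶ P) : uncurry (curry φ) = φ :=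
  ext₂ _ _ fun U m n => by rw [uncurry_tm, comp_curry_self]

theorem curry_uncurry (ψ : N ⟶ homSheaf M P) : curry (uncurry ψ) = ψ := by
  ext U n
  refine sec_ext fun V hV m => ?_
  rw [comp_curry, uncurry_tm]
  rw [← Ega2.Tens.app_res ψ (homOfLE hV)]
  rfl

theorem uncurry_comp (f : N' ⟶ N) (g : N ⟶ homSheaf M P) : uncurry (f ≫ g) = M ◁ f ≫ uncurry g :=
  ext₂ _ _ fun U m n => by
    rw [uncurry_tm, comp_ap, comp_ap, whiskerLeft_tm, uncurry_tm]

theorem curry_comp (f : M ⊗ N ⟶ P) (g : P ⟶ P') : curry (f ≫ g) = curry f ≫ homMap M g := by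
  ext U n
  exact sec_ext fun V hV m => rfl

theorem curry_whiskerLeft (f : N' ⟶ N) (g : M ⊗ N ⟶ P) : curry (M ◁ f ≫ g) = f ≫ curry g := by
  have h := uncurry_comp f (curry g)
  rw [uncurry_curry] at h
  rw [← h, curry_uncurry]

variable (M N P) in
/-- The tensor-Hom bijection. -/
noncomputable def tensorHomEquiv : (M ⊗ N ⟶ P) ≃ (N ⟶ homSheaf M P) where
  toFun := curry
  invFun := uncurry
  left_inv := uncurry_curry
  right_inv := curry_uncurry

variable (M) in
/-- The tensor-Hom adjunction. -/
noncomputable def tensorHomAdj : tensorLeft M ⊣ homFunctor M :=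
  Adjunction.mkOfHomEquiv
    { homEquiv := fun N P => tensorHomEquiv M N P
      homEquiv_naturality_left_symm := fun f g => uncurry_comp f g
      homEquiv_naturality_right := fun f g => curry_comp f g }

theorem homEquiv_eq (M N P : X.Modules) : (tensorHomAdj M).homEquiv N P = tensorHomEquiv M N P := by
  unfold tensorHomAdj
  exact congrFun (congrFun (Adjunction.mkOfHomEquiv_homEquiv _) N) P

theorem homEquiv_apply (φ : M ⊗ N ⟶ P) : (tensorHomAdj M).homEquiv N P φ = curry φ :=
  congrArg (fun e => e φ) (homEquiv_eq M N P)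

theorem homEquiv_symm_apply (ψ : N ⟶ homSheaf M P) :
    ((tensorHomAdj M).homEquiv N P).symm ψ = uncurry ψ :=
  congrArg (fun e => e.symm ψ) (homEquiv_eq M N P)

variable (M P) in
/-- The evaluation map. -/
noncomputable def ev : M ⊗ homSheaf M P ⟶ P := uncurry (𝟙 _)

theorem ev_tm (m : Γ(M, U)) (s : Γ(homSheaf M P, U)) : (ev M P).app U (tm m s) = comp s U le_rfl m :=
  uncurry_tm _ _ _

theorem counit_eq (M P : X.Modules) : (tensorHomAdj M).counit.app P = ev M P := by
  rw [← Adjunction.homEquiv_symm_id]
  exact homEquiv_symm_apply _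

variable (M N) in
/-- The coevaluation map. -/
noncomputable def coev : N ⟶ homSheaf M (M ⊗ N) := curry (𝟙 _)

theorem comp_coev (n : Γ(N, U)) (V : X.Opens) (hV : V ≤ U) (m : Γ(M, V)) :
    comp ((coev M N).app U n) V hV m = tm m (N.presheaf.map (homOfLE hV).op n) := rfl

theorem unit_eq (M N : X.Modules) : (tensorHomAdj M).unit.app N = coev M N := by
  rw [← Adjunction.homEquiv_id]
  exact homEquiv_apply _

/-- Closed structure. -/
@[instance_reducible]
noncomputable def closed (M : X.Modules) : Closed M where
  rightAdj := homFunctor M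
  adj := tensorHomAdj M

attribute [scoped instance] closed

variable (X) in
/-- `X.Modules` is monoidal closed, with internal Hom the sheaf Hom. -/
@[instance_reducible]
noncomputable def monoidalClosed : MonoidalClosed X.Modules where
  closed M := closed M

attribute [scoped instance] monoidalClosed

/-- `M ⊗ -` (the frozen bifunctor) has the right adjoint `Hom(M, -)`. -/
noncomputable def tensorBiHomAdj (M : X.Modules) : DCoh.tensorBi.obj M ⊣ homFunctor M :=
  tensorHomAdj M

instance hasSheafHom (M : X.Modules) : DCoh.HasSheafHom M :=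
  (tensorBiHomAdj M).isLeftAdjoint

/-- The frozen sheaf Hom is the concrete one. -/
noncomputable def sheafHomIso (M : X.Modules) : DCoh.sheafHom M ≅ homFunctor M :=
  Adjunction.rightAdjointUniq (DCoh.sheafHomAdj M) (tensorBiHomAdj M)

/-- `- ⊗ M` has the right adjoint `Hom(M, -)`. -/
noncomputable def tensorRightHomAdj (M : X.Modules) : tensorRight M ⊣ homFunctor M :=
  (tensorHomAdj M).ofNatIsoLeft (BraidedCategory.tensorLeftIsoTensorRight M)

end Groth.Agent.Dcoh.MonClosed
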