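import Mathlib.Algebra.Homology.Monoidal
import Mathlib.Algebra.Homology.BifunctorFlip
import Mathlib.CategoryTheory.Monoidal.Preadditive
import Mathlib.CategoryTheory.Monoidal.Rigid.Basic

/-!
# The monoidal category of cochain complexes

`TensorGood A`: the hypotheses under which Mathlib's monoidal structure exists on `CochainComplex A ℤ`
(`A` monoidal preadditive with small coproducts preserved by the tensor product in both variables), and a basic
API for the summands of the tensor product.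
-/

set_option autoImplicit false

open CategoryTheory Limits MonoidalCategory

namespace Groth.Agent.Dcoh.MonCx

universe v u

/-- Hypotheses under which the category of cochain complexes is monoidal. -/
class TensorGood (A : Type u) [Category.{v} A] [Preadditive A] [MonoidalCategory A] : Prop where
  monPre : MonoidalPreadditive A
  coprod : HasCoproducts.{0} A
  zero : HasZeroObject A
  left : ∀ X : A, PreservesColimitsOfSize.{0, 0} (tensorLeft X)
  right : ∀ X : A, PreservesColimitsOfSize.{0, 0} (tensorRight X)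

attribute [instance] TensorGood.monPre TensorGood.coprod TensorGood.zero TensorGood.left TensorGood.right

variable (A : Type u) [Category.{v} A] [Preadditive A] [MonoidalCategory A] [TensorGood A]

instance preservesColimits_curriedTensor_obj (X : A) :
    PreservesColimitsOfSize.{0, 0} ((curriedTensor A).obj X) :=
  inferInstanceAs (PreservesColimitsOfSize.{0, 0} (tensorLeft X))

instance preservesColimits_curriedTensor_flip_obj (X : A) :
    PreservesColimitsOfSize.{0, 0} ((curriedTensor A).flip.obj X) :=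
  inferInstanceAs (PreservesColimitsOfSize.{0, 0} (tensorRight X))

instance hasTensor (K L : CochainComplex A ℤ) : HomologicalComplex.HasTensor K L := inferInstance

/-- The monoidal category structure on cochain complexes (Mathlib's). -/
noncomputable instance monCx : MonoidalCategory (CochainComplex A ℤ) := by
  infer_instance

variable {A}

/-- The inclusion of a summand in the tensor product of complexes. -/
noncomputable def ιT (K L : CochainComplex A ℤ) (p q n : ℤ) (h : p + q = n) :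
    K.X p ⊗ L.X q ⟶ (K ⊗ L).X n :=
  HomologicalComplex.ιTensorObj K L p q n h

lemma hom_ext {K L : CochainComplex A ℤ} {n : ℤ} {Z : A} {f g : (K ⊗ L).X n ⟶ Z}
    (H : ∀ (p q : ℤ) (h : p + q = n), ιT K L p q n h ≫ f = ιT K L p q n h ≫ g) : f = g :=
  HomologicalComplex.mapBifunctor.hom_ext (fun p q h => H p q h)

@[reassoc]
lemma ιT_tensorHom {K₁ K₂ L₁ L₂ : CochainComplex A ℤ} (f : K₁ ⟶ K₂) (g : L₁ ⟶ L₂) (p q n : ℤ) (h : p + q = n) :
    ιT K₁ L₁ p q n h ≫ (f ⊗ₘ g).f n = (f.f p ⊗ₘ g.f q) ≫ ιT K₂ L₂ p q n h := by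
  rw [MonoidalCategory.tensorHom_def (f.f p), Category.assoc]
  exact HomologicalComplex.ι_mapBifunctorMap f g (curriedTensor A) _ p q n h

@[reassoc]
lemma ιT_whiskerRight {K₁ K₂ : CochainComplex A ℤ} (f : K₁ ⟶ K₂) (L : CochainComplex A ℤ) (p q n : ℤ)
    (h : p + q = n) :
    ιT K₁ L p q n h ≫ (f ▷ L).f n = (f.f p ▷ L.X q) ≫ ιT K₂ L p q n h := by
  rw [← MonoidalCategory.tensorHom_id, ιT_tensorHom, HomologicalComplex.id_f, MonoidalCategory.tensorHom_id]

@[reassoc]
lemma ιT_whiskerLeft (K : CochainComplex A ℤ) {L₁ L₂ : CochainComplex A ℤ} (g : L₁ ⟶ L₂) (p q n : ℤ)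
    (h : p + q = n) :
    ιT K L₁ p q n h ≫ (K ◁ g).f n = (K.X p ◁ g.f q) ≫ ιT K L₂ p q n h := by
  rw [← MonoidalCategory.id_tensorHom, ιT_tensorHom, HomologicalComplex.id_f, MonoidalCategory.id_tensorHom]

/-- Mathlib's tensor product of complexes is the total complex of the tensor bifunctor. -/
noncomputable def curriedIso : curriedTensor (CochainComplex A ℤ) ≅ (curriedTensor A).map₂CochainComplex :=
  NatIso.ofComponents (fun K => NatIso.ofComponents (fun L => Iso.refl _)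
    (fun f => (Category.comp_id (K ◁ f)).trans (Category.id_comp (K ◁ f)).symm)) (fun {K K'} f => by
    ext1; ext1 L
    exact (Category.comp_id (f ▷ L)).trans (Category.id_comp (f ▷ L)).symm)

/-- The differential on a summand of the tensor product. -/
@[reassoc]
lemma ιT_d (K L : CochainComplex A ℤ) (p q n n' : ℤ) (h : p + q = n) (h' : n + 1 = n') :
    ιT K L p q n h ≫ (K ⊗ L).d n n' =
      (K.d p (p + 1) ▷ L.X q) ≫ ιT K L (p + 1) q n' (by lia) +
        p.negOnePow • ((K.X p ◁ L.d q (q + 1)) ≫ ιT K L p (q + 1) n' (by lia)) := by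
  have h1 : ιT K L p q n h ≫ (K ⊗ L).d n n' =
      HomologicalComplex.mapBifunctor.d₁ K L (curriedTensor A) _ p q n' +
      HomologicalComplex.mapBifunctor.d₂ K L (curriedTensor A) _ p q n' := by
    have : (K ⊗ L).d n n' = HomologicalComplex.mapBifunctor.D₁ K L (curriedTensor A) (ComplexShape.up ℤ) n n' +
      HomologicalComplex.mapBifunctor.D₂ K L (curriedTensor A) (ComplexShape.up ℤ) n n' :=
      HomologicalComplex.mapBifunctor.d_eq _ _ _ _ _ _
    rw [this, Preadditive.comp_add]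
    congr 1
    · exact HomologicalComplex.mapBifunctor.ι_D₁ _ _ _ _ _ _ _ _ _
    · exact HomologicalComplex.mapBifunctor.ι_D₂ _ _ _ _ _ _ _ _ _
  have e1 := HomologicalComplex.mapBifunctor.d₁_eq K L (curriedTensor A) (ComplexShape.up ℤ)
    (i₁ := p) (i₁' := p + 1) rfl q n' (by dsimp; lia)
  have e2 := HomologicalComplex.mapBifunctor.d₂_eq K L (curriedTensor A) (ComplexShape.up ℤ)
    p (i₂ := q) (i₂' := q + 1) rfl n' (by dsimp; lia)
  rw [h1, e1, e2]
  congr 1
  exact one_smul _ _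

/-- The associator on a summand of the tensor product. -/
@[reassoc]
lemma ιT_associator_hom (K L M : CochainComplex A ℤ) (p q r pq qr n : ℤ) (h₁ : p + q = pq) (h₂ : pq + r = n)
    (h₃ : q + r = qr) (h₄ : p + qr = n) :
    (ιT K L p q pq h₁ ▷ M.X r) ≫ ιT (K ⊗ L) M pq r n h₂ ≫ (α_ K L M).hom.f n =
      (α_ (K.X p) (L.X q) (M.X r)).hom ≫ (K.X p ◁ ιT L M q r qr h₃) ≫ ιT K (L ⊗ M) p qr n h₄ := by
  have h0 : ComplexShape.r (ComplexShape.up ℤ) (ComplexShape.up ℤ) (ComplexShape.up ℤ) (ComplexShape.up ℤ)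
    (ComplexShape.up ℤ) (p, q, r) = n := by
    rw [← h₂, ← h₁]; rfl
  have key := HomologicalComplex.ι_mapBifunctorAssociatorX_hom (curriedAssociatorNatIso A) K L M
    (ComplexShape.up ℤ) (ComplexShape.up ℤ) (ComplexShape.up ℤ) p q r n h0
  have e1 := HomologicalComplex.mapBifunctor₁₂.ι_eq (curriedTensor A) (curriedTensor A) K L M
    (ComplexShape.up ℤ) (ComplexShape.up ℤ) p q r pq n h₁ h₂
  have e2 := HomologicalComplex.mapBifunctor₂₃.ι_eq (curriedTensor A) (curriedTensor A) K L M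
    (ComplexShape.up ℤ) (ComplexShape.up ℤ) (ComplexShape.up ℤ) p q r qr n h₃ h₄
  rw [← Category.assoc]
  refine Eq.trans ?_ (key.trans ?_)
  · rw [e1]
    rfl
  · rw [e2]
    rfl

@[reassoc]
lemma ιT_associator_inv (K L M : CochainComplex A ℤ) (p q r pq qr n : ℤ) (h₁ : p + q = pq) (h₂ : pq + r = n)
    (h₃ : q + r = qr) (h₄ : p + qr = n) :
    (K.X p ◁ ιT L M q r qr h₃) ≫ ιT K (L ⊗ M) p qr n h₄ ≫ (α_ K L M).inv.f n =
      (α_ (K.X p) (L.X q) (M.X r)).inv ≫ (ιT K L p q pq h₁ ▷ M.X r) ≫ ιT (K ⊗ L) M pq r n h₂ := by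
  have h := ιT_associator_hom K L M p q r pq qr n h₁ h₂ h₃ h₄
  have e : (α_ K L M).hom.f n ≫ (α_ K L M).inv.f n = 𝟙 _ := by
    rw [← HomologicalComplex.comp_f, Iso.hom_inv_id, HomologicalComplex.id_f]
  rw [← cancel_epi (α_ (K.X p) (L.X q) (M.X r)).hom, Iso.hom_inv_id_assoc, ← reassoc_of% h, e, Category.comp_id]

lemma leftUnitor_inv_f (K : CochainComplex A ℤ) (n : ℤ) :
    (λ_ K).inv.f n = (λ_ (K.X n)).inv ≫
      ((HomologicalComplex.singleObjXSelf (ComplexShape.up ℤ) 0 (𝟙_ A)).inv ▷ (K.X n)) ≫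
      ιT (𝟙_ _) K 0 n n (zero_add n) :=
  HomologicalComplex.leftUnitor'_inv K n

lemma rightUnitor_inv_f (K : CochainComplex A ℤ) (n : ℤ) :
    (ρ_ K).inv.f n = (ρ_ (K.X n)).inv ≫
      (K.X n ◁ (HomologicalComplex.singleObjXSelf (ComplexShape.up ℤ) 0 (𝟙_ A)).inv) ≫
      ιT K (𝟙_ _) n 0 n (add_zero n) :=
  HomologicalComplex.rightUnitor'_inv K n

@[reassoc]
lemma ιT_leftUnitor_hom (K : CochainComplex A ℤ) (n : ℤ) :
    (HomologicalComplex.singleObjXSelf (ComplexShape.up ℤ) 0 (𝟙_ A)).inv ▷ (K.X n) ≫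
      ιT (𝟙_ _) K 0 n n (zero_add n) ≫ (λ_ K).hom.f n = (λ_ (K.X n)).hom := by
  have e : (λ_ K).inv.f n ≫ (λ_ K).hom.f n = 𝟙 _ := by
    rw [← HomologicalComplex.comp_f, Iso.inv_hom_id, HomologicalComplex.id_f]
  rw [leftUnitor_inv_f, Category.assoc, Category.assoc, Iso.inv_comp_eq, Category.comp_id] at e
  exact e

@[reassoc]
lemma ιT_rightUnitor_hom (K : CochainComplex A ℤ) (n : ℤ) :
    K.X n ◁ (HomologicalComplex.singleObjXSelf (ComplexShape.up ℤ) 0 (𝟙_ A)).inv ≫
      ιT K (𝟙_ _) n 0 n (add_zero n) ≫ (ρ_ K).hom.f n = (ρ_ (K.X n)).hom := by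
  have e : (ρ_ K).inv.f n ≫ (ρ_ K).hom.f n = 𝟙 _ := by
    rw [← HomologicalComplex.comp_f, Iso.inv_hom_id, HomologicalComplex.id_f]
  rw [rightUnitor_inv_f, Category.assoc, Category.assoc, Iso.inv_comp_eq, Category.comp_id] at e
  exact e

/-- Extensionality for morphisms out of a triple tensor product. -/
lemma hom_ext₁₂ {K L M : CochainComplex A ℤ} {n : ℤ} {Z : A} {f g : ((K ⊗ L) ⊗ M).X n ⟶ Z}
    (H : ∀ (p q r pq : ℤ) (h₁ : p + q = pq) (h₂ : pq + r = n),
      (ιT K L p q pq h₁ ▷ M.X r) ≫ ιT (K ⊗ L) M pq r n h₂ ≫ f =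
        (ιT K L p q pq h₁ ▷ M.X r) ≫ ιT (K ⊗ L) M pq r n h₂ ≫ g) : f = g := by
  refine HomologicalComplex.mapBifunctor₁₂.hom_ext (F₁₂ := curriedTensor A) (G := curriedTensor A)
    (K₁ := K) (K₂ := L) (K₃ := M) (c₁₂ := ComplexShape.up ℤ) (c₄ := ComplexShape.up ℤ) ?_
  intro p q r h0
  have e1 := HomologicalComplex.mapBifunctor₁₂.ι_eq (curriedTensor A) (curriedTensor A) K L M
    (ComplexShape.up ℤ) (ComplexShape.up ℤ) p q r (p + q) n rfl h0
  rw [e1, Category.assoc, Category.assoc]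
  exact H p q r (p + q) rfl h0

lemma hom_ext₂₃ {K L M : CochainComplex A ℤ} {n : ℤ} {Z : A} {f g : (K ⊗ (L ⊗ M)).X n ⟶ Z}
    (H : ∀ (p q r qr : ℤ) (h₁ : q + r = qr) (h₂ : p + qr = n),
      (K.X p ◁ ιT L M q r qr h₁) ≫ ιT K (L ⊗ M) p qr n h₂ ≫ f =
        (K.X p ◁ ιT L M q r qr h₁) ≫ ιT K (L ⊗ M) p qr n h₂ ≫ g) : f = g := by
  have e : (α_ K L M).hom.f n ≫ (α_ K L M).inv.f n = 𝟙 _ := by
    rw [← HomologicalComplex.comp_f, Iso.hom_inv_id, HomologicalComplex.id_f]
  have e' : (α_ K L M).inv.f n ≫ (α_ K L M).hom.f n = 𝟙 _ := by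
    rw [← HomologicalComplex.comp_f, Iso.inv_hom_id, HomologicalComplex.id_f]
  have : (α_ K L M).hom.f n ≫ f = (α_ K L M).hom.f n ≫ g := by
    refine hom_ext₁₂ (fun p q r pq h₁ h₂ => ?_)
    rw [ιT_associator_hom_assoc K L M p q r pq (q + r) n h₁ h₂ rfl (by lia),
      ιT_associator_hom_assoc K L M p q r pq (q + r) n h₁ h₂ rfl (by lia), H]
  rw [← Category.id_comp f, ← Category.id_comp g, ← e', Category.assoc, Category.assoc, this]

end Groth.Agent.Dcoh.MonCx
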