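import Groth.Agent.Ega2.TensMon
import Groth.Agent.Dcoh.MonCat

/-!
# Pure tensors in the monoidal category of `O_X`-modules

For the monoidal structure of `Dcoh/MonCat` on `X.Modules`: the section `tm m n : Γ(M ⊗ N, U)`, the values of the
structure morphisms on pure tensors, and extensionality of morphisms out of tensor products of 2, 3, 4 modules.
For a presheaf of modules `P`, `et P p : Γ(shP.obj P, U)` is the section defined by `p ∈ P(U)`.
-/

set_option autoImplicit false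
universe u
open CategoryTheory CategoryTheory.Limits AlgebraicGeometry Opposite TopologicalSpace MonoidalCategory

namespace Groth.Agent.Dcoh.MonTm

open scoped Groth.Agent.Dcoh.MonCat
open Groth.Agent.Ega2.Tens Groth.Agent.Dcoh.MonCat

variable {X : Scheme.{u}} {M N P M' N' : X.Modules} {U V : X.Opens}

/-- The section of the sheafification defined by a section of a presheaf of modules. -/
noncomputable def et (P : CohB1.PMod X) {U : X.Opens} (p : P.obj (op U)) : Γ(DCoh.shP.obj P, U) :=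
  (((shAdj X).unit.app P).app (op U)).hom p

theorem et_res (P : CohB1.PMod X) {U V : X.Opens} (i : V ⟶ U) (p : P.obj (op U)) :
    (DCoh.shP.obj P).presheaf.map i.op (et P p) = et P (P.presheaf.map i.op p) :=
  congr($(((PresheafOfModules.toPresheaf _).map ((shAdj X).unit.app P)).naturality i.op) p).symm

theorem shP_map_et {P Q : CohB1.PMod X} (φ : P ⟶ Q) (p : P.obj (op U)) :
    (DCoh.shP.map φ).app U (et P p) = et Q ((φ.app (op U)).hom p) := by
  have h := (shAdj X).unit.naturality φ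
  have h2 := congr((((PresheafOfModules.toPresheaf _).map $h).app (op U)) p)
  exact h2.symm

theorem counit_et (M : X.Modules) (m : Γ(M, U)) :
    ((shAdj X).counit.app M).app U (et (DCoh.toP.obj M) m) = m := by
  have h := (shAdj X).right_triangle_components M
  exact congr((((PresheafOfModules.toPresheaf _).map $h).app (op U)) m)

theorem comp_ap {A B C : X.Modules} (f : A ⟶ B) (g : B ⟶ C) (m : Γ(A, U)) :
    (f ≫ g).app U m = g.app U (f.app U m) := rfl

theorem id_ap {A : X.Modules} (m : Γ(A, U)) : (𝟙 A : A ⟶ A).app U m = m := rfl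

/-- Pure tensor as a section of `M ⊗ N`. -/
noncomputable def tm {M N : X.Modules} {U : X.Opens} (m : Γ(M, U)) (n : Γ(N, U)) : Γ(M ⊗ N, U) := tmul m n

theorem tm_def (m : Γ(M, U)) (n : Γ(N, U)) : tm m n = tmul m n := rfl

/-- Pure tensor in a presheaf tensor product. -/
noncomputable def ptm {P Q : CohB1.PMod X} {U : X.Opens} (p : P.obj (op U)) (q : Q.obj (op U)) :
    (P ⊗ Q : CohB1.PMod X).obj (op U) :=
  (show TensorProduct (X.sheaf.obj.obj (op U)) (P.obj (op U)) (Q.obj (op U)) from p ⊗ₜ[X.sheaf.obj.obj (op U)] q)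

theorem tm_eq_et (m : Γ(M, U)) (n : Γ(N, U)) :
    tm m n = et (DCoh.toP.obj M ⊗ DCoh.toP.obj N) (ptm (P := DCoh.toP.obj M) (Q := DCoh.toP.obj N) m n) := rfl

theorem tm_add (m : Γ(M, U)) (n n' : Γ(N, U)) : tm m (n + n') = tm m n + tm m n' := tmul_add m n n'

theorem add_tm (m m' : Γ(M, U)) (n : Γ(N, U)) : tm (m + m') n = tm m n + tm m' n := add_tmul m m' n

theorem tm_zero (m : Γ(M, U)) : tm m (0 : Γ(N, U)) = 0 := tmul_zero m

theorem zero_tm (n : Γ(N, U)) : tm (0 : Γ(M, U)) n = 0 := zero_tmul n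

theorem smul_tm (r : Γ(X, U)) (m : Γ(M, U)) (n : Γ(N, U)) : tm (r • m) n = r • tm m n := smul_tmul r m n

theorem tm_smul (r : Γ(X, U)) (m : Γ(M, U)) (n : Γ(N, U)) : tm m (r • n) = r • tm m n := tmul_smul r m n

theorem tm_res (i : V ⟶ U) (m : Γ(M, U)) (n : Γ(N, U)) :
    (M ⊗ N).presheaf.map i.op (tm m n) = tm (M.presheaf.map i.op m) (N.presheaf.map i.op n) := tmul_res i m n

theorem tensorHom_tm (f : M ⟶ M') (g : N ⟶ N') (m : Γ(M, U)) (n : Γ(N, U)) :
    (f ⊗ₘ g).app U (tm m n) = tm (f.app U m) (g.app U n) :=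
  shP_map_et (DCoh.toP.map f ⊗ₘ DCoh.toP.map g) _

theorem whiskerLeft_tm (M : X.Modules) (g : N ⟶ N') (m : Γ(M, U)) (n : Γ(N, U)) :
    (M ◁ g).app U (tm m n) = tm m (g.app U n) :=
  shP_map_et (DCoh.toP.obj M ◁ DCoh.toP.map g) _

theorem whiskerRight_tm (f : M ⟶ M') (N : X.Modules) (m : Γ(M, U)) (n : Γ(N, U)) :
    (f ▷ N).app U (tm m n) = tm (f.app U m) n :=
  shP_map_et (DCoh.toP.map f ▷ DCoh.toP.obj N) _

theorem braiding_hom_tm (m : Γ(M, U)) (n : Γ(N, U)) : (β_ M N).hom.app U (tm m n) = tm n m :=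
  shP_map_et (β_ (DCoh.toP.obj M) (DCoh.toP.obj N)).hom _

theorem braiding_inv_tm (m : Γ(M, U)) (n : Γ(N, U)) : (β_ M N).inv.app U (tm n m) = tm m n :=
  shP_map_et (β_ (DCoh.toP.obj M) (DCoh.toP.obj N)).inv _

theorem δ_et (P Q : CohB1.PMod X) (p : P.obj (op U)) (q : Q.obj (op U)) :
    (Functor.OplaxMonoidal.δ (DCoh.shP (X := X)) P Q).app U (et (P ⊗ Q) (ptm p q)) = tm (et P p) (et Q q) :=
  shP_map_et ((shAdj X).unit.app P ⊗ₘ (shAdj X).unit.app Q) _

theorem μ_tm (P Q : CohB1.PMod X) (p : P.obj (op U)) (q : Q.obj (op U)) :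
    (Functor.LaxMonoidal.μ (DCoh.shP (X := X)) P Q).app U (tm (et P p) (et Q q)) = et (P ⊗ Q) (ptm p q) := by
  rw [← δ_et, ← comp_ap, Functor.Monoidal.δ_μ, id_ap]

theorem associator_hom_ptm {P Q R : CohB1.PMod X} (p : P.obj (op U)) (q : Q.obj (op U)) (r : R.obj (op U)) :
    ((α_ P Q R).hom.app (op U)).hom (ptm (ptm p q) r) = ptm p (ptm q r) := rfl

theorem associator_et (P Q R : CohB1.PMod X) (p : P.obj (op U)) (q : Q.obj (op U)) (r : R.obj (op U)) :
    (α_ (DCoh.shP.obj P) (DCoh.shP.obj Q) (DCoh.shP.obj R)).hom.app U (tm (tm (et P p) (et Q q)) (et R r)) =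
      tm (et P p) (tm (et Q q) (et R r)) := by
  have h := Functor.LaxMonoidal.associativity (DCoh.shP (X := X)) P Q R
  have h2 := congr(($h).app U (tm (tm (et P p) (et Q q)) (et R r)))
  rw [comp_ap, comp_ap, comp_ap, comp_ap, whiskerRight_tm, μ_tm, μ_tm, shP_map_et, associator_hom_ptm] at h2
  have h3 := congr((Functor.OplaxMonoidal.δ (DCoh.shP (X := X)) P (Q ⊗ R)).app U $h2)
  rw [← comp_ap _ (Functor.OplaxMonoidal.δ (DCoh.shP (X := X)) P (Q ⊗ R)), Functor.Monoidal.μ_δ, id_ap, δ_et] at h3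
  have h4 := congr((DCoh.shP.obj P ◁ Functor.OplaxMonoidal.δ (DCoh.shP (X := X)) Q R).app U $h3)
  rw [← comp_ap _ (DCoh.shP.obj P ◁ Functor.OplaxMonoidal.δ (DCoh.shP (X := X)) Q R), ← whiskerLeft_comp,
    Functor.Monoidal.μ_δ, MonoidalCategory.whiskerLeft_id, id_ap, whiskerLeft_tm, δ_et] at h4
  exact h4.symm

theorem associator_aux {A B C : X.Modules} (a : A ⟶ M) (b : B ⟶ N) (c : C ⟶ P) (m : Γ(A, U)) (n : Γ(B, U))
    (p : Γ(C, U)) (h : (α_ A B C).hom.app U (tm (tm m n) p) = tm m (tm n p)) :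
    (α_ M N P).hom.app U (tm (tm (a.app U m) (b.app U n)) (c.app U p)) =
      tm (a.app U m) (tm (b.app U n) (c.app U p)) := by
  rw [← tensorHom_tm, ← tensorHom_tm, ← comp_ap, associator_naturality, comp_ap, h, tensorHom_tm, tensorHom_tm]

theorem associator_hom_tm (m : Γ(M, U)) (n : Γ(N, U)) (p : Γ(P, U)) :
    (α_ M N P).hom.app U (tm (tm m n) p) = tm m (tm n p) := by
  have h := associator_aux ((shAdj X).counit.app M) ((shAdj X).counit.app N) ((shAdj X).counit.app P) _ _ _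
    (associator_et (DCoh.toP.obj M) (DCoh.toP.obj N) (DCoh.toP.obj P) m n p)
  have hm := counit_et M m
  have hn := counit_et N n
  have hp := counit_et P p
  change (α_ M N P).hom.app U (tm (tm (((shAdj X).counit.app M).app U (et (DCoh.toP.obj M) m))
    (((shAdj X).counit.app N).app U (et (DCoh.toP.obj N) n)))
    (((shAdj X).counit.app P).app U (et (DCoh.toP.obj P) p))) =
    tm (((shAdj X).counit.app M).app U (et (DCoh.toP.obj M) m)) (tm
    (((shAdj X).counit.app N).app U (et (DCoh.toP.obj N) n))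
    (((shAdj X).counit.app P).app U (et (DCoh.toP.obj P) p))) at h
  rw [hm, hn, hp] at h
  exact h

theorem associator_inv_tm (m : Γ(M, U)) (n : Γ(N, U)) (p : Γ(P, U)) :
    (α_ M N P).inv.app U (tm m (tm n p)) = tm (tm m n) p := by
  rw [← associator_hom_tm, ← comp_ap, Iso.hom_inv_id, id_ap]

/-- A section of the unit object as a section of the structure sheaf. -/
def sc {U : X.Opens} (r : Γ(𝟙_ X.Modules, U)) : Γ(X, U) := r

/-- A section of the structure sheaf as a section of the unit object. -/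
def cs {U : X.Opens} (r : Γ(X, U)) : Γ(𝟙_ X.Modules, U) := r

@[simp] theorem sc_cs (r : Γ(X, U)) : sc (cs r) = r := rfl

@[simp] theorem cs_sc (r : Γ(𝟙_ X.Modules, U)) : cs (sc r) = r := rfl

theorem cs_res (i : V ⟶ U) (r : Γ(X, U)) :
    (𝟙_ X.Modules).presheaf.map i.op (cs r) = cs (X.presheaf.map i.op r) := rfl

theorem smul_cs (r s : Γ(X, U)) : r • cs s = cs (r * s) := rfl

theorem cs_add (r s : Γ(X, U)) : cs (r + s) = cs r + cs s := rfl

theorem leftUnitor_hom_ptm {P : CohB1.PMod X} (r : (𝟙_ (CohB1.PMod X)).obj (op U)) (p : P.obj (op U)) :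
    ((λ_ P).hom.app (op U)).hom (ptm r p) = (show X.sheaf.obj.obj (op U) from r) • p := rfl

theorem rightUnitor_hom_ptm {P : CohB1.PMod X} (p : P.obj (op U)) (r : (𝟙_ (CohB1.PMod X)).obj (op U)) :
    ((ρ_ P).hom.app (op U)).hom (ptm p r) = (show X.sheaf.obj.obj (op U) from r) • p := rfl

/-- A section of the unit object as a section of the presheaf unit. -/
def pr {U : X.Opens} (r : Γ(𝟙_ X.Modules, U)) : (𝟙_ (CohB1.PMod X)).obj (op U) := r

theorem ε_ap (r : Γ(𝟙_ X.Modules, U)) :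
    (Functor.LaxMonoidal.ε (DCoh.shP (X := X))).app U r = et (𝟙_ (CohB1.PMod X)) (pr r) := by
  have h : (unitIso X).hom.app U (et (𝟙_ (CohB1.PMod X)) (pr r)) = r := counit_et (Coh.structureModule X) r
  have h2 : (unitIso X).inv.app U ((unitIso X).hom.app U (et (𝟙_ (CohB1.PMod X)) (pr r))) =
      et (𝟙_ (CohB1.PMod X)) (pr r) := by
    rw [← comp_ap, Iso.hom_inv_id, id_ap]
  rw [h] at h2
  exact h2

theorem et_smul (P : CohB1.PMod X) (r : Γ(X, U)) (p : P.obj (op U)) :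
    et P ((show X.sheaf.obj.obj (op U) from r) • p) = r • et P p :=
  (((shAdj X).unit.app P).app (op U)).hom.map_smul r p

theorem leftUnitor_et (P : CohB1.PMod X) (r : Γ(𝟙_ X.Modules, U)) (p : P.obj (op U)) :
    (λ_ (DCoh.shP.obj P)).hom.app U (tm r (et P p)) = sc r • et P p := by
  rw [Functor.LaxMonoidal.left_unitality, comp_ap, comp_ap, whiskerRight_tm, ε_ap, μ_tm, shP_map_et,
    leftUnitor_hom_ptm]
  exact et_smul P (sc r) p

theorem rightUnitor_et (P : CohB1.PMod X) (p : P.obj (op U)) (r : Γ(𝟙_ X.Modules, U)) :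
    (ρ_ (DCoh.shP.obj P)).hom.app U (tm (et P p) r) = sc r • et P p := by
  rw [Functor.LaxMonoidal.right_unitality, comp_ap, comp_ap, whiskerLeft_tm, ε_ap, μ_tm, shP_map_et,
    rightUnitor_hom_ptm]
  exact et_smul P (sc r) p

theorem leftUnitor_aux {A : X.Modules} (a : A ⟶ N) (r : Γ(𝟙_ X.Modules, U)) (n : Γ(A, U))
    (h : (λ_ A).hom.app U (tm r n) = sc r • n) :
    (λ_ N).hom.app U (tm r (a.app U n)) = sc r • a.app U n := by
  rw [← whiskerLeft_tm, ← comp_ap, leftUnitor_naturality, comp_ap, h, Scheme.Modules.Hom.app_smul]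

theorem rightUnitor_aux {A : X.Modules} (a : A ⟶ N) (r : Γ(𝟙_ X.Modules, U)) (n : Γ(A, U))
    (h : (ρ_ A).hom.app U (tm n r) = sc r • n) :
    (ρ_ N).hom.app U (tm (a.app U n) r) = sc r • a.app U n := by
  rw [← whiskerRight_tm, ← comp_ap, rightUnitor_naturality, comp_ap, h, Scheme.Modules.Hom.app_smul]

theorem leftUnitor_hom_tm (r : Γ(𝟙_ X.Modules, U)) (n : Γ(N, U)) :
    (λ_ N).hom.app U (tm r n) = sc r • n := by
  have h := leftUnitor_aux ((shAdj X).counit.app N) r _ (leftUnitor_et (DCoh.toP.obj N) r n)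
  have hn := counit_et N n
  change (λ_ N).hom.app U (tm r (((shAdj X).counit.app N).app U (et (DCoh.toP.obj N) n))) =
    sc r • (((shAdj X).counit.app N).app U (et (DCoh.toP.obj N) n)) at h
  rw [hn] at h
  exact h

theorem rightUnitor_hom_tm (n : Γ(N, U)) (r : Γ(𝟙_ X.Modules, U)) :
    (ρ_ N).hom.app U (tm n r) = sc r • n := by
  have h := rightUnitor_aux ((shAdj X).counit.app N) r _ (rightUnitor_et (DCoh.toP.obj N) n r)
  have hn := counit_et N n
  change (ρ_ N).hom.app U (tm (((shAdj X).counit.app N).app U (et (DCoh.toP.obj N) n)) r) =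
    sc r • (((shAdj X).counit.app N).app U (et (DCoh.toP.obj N) n)) at h
  rw [hn] at h
  exact h

theorem leftUnitor_inv_ap (n : Γ(N, U)) : (λ_ N).inv.app U n = tm (cs 1) n := by
  have h : n = (λ_ N).hom.app U (tm (cs 1) n) := by
    rw [leftUnitor_hom_tm, sc_cs, one_smul]
  conv_lhs => rw [h]
  rw [← comp_ap, Iso.hom_inv_id, id_ap]

theorem rightUnitor_inv_ap (n : Γ(N, U)) : (ρ_ N).inv.app U n = tm n (cs 1) := by
  have h : n = (ρ_ N).hom.app U (tm n (cs 1)) := by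
    rw [rightUnitor_hom_tm, sc_cs, one_smul]
  conv_lhs => rw [h]
  rw [← comp_ap, Iso.hom_inv_id, id_ap]

theorem ext₂ {Q : X.Modules} (φ ψ : M ⊗ N ⟶ Q)
    (h : ∀ (U : X.Opens) (m : Γ(M, U)) (n : Γ(N, U)), φ.app U (tm m n) = ψ.app U (tm m n)) : φ = ψ :=
  hom_ext φ ψ h

theorem ext₃ {Q : X.Modules} (φ ψ : (M ⊗ N) ⊗ P ⟶ Q)
    (h : ∀ (U : X.Opens) (m : Γ(M, U)) (n : Γ(N, U)) (p : Γ(P, U)),
      φ.app U (tm (tm m n) p) = ψ.app U (tm (tm m n) p)) : φ = ψ :=
  hom_ext₃ φ ψ h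

theorem ext₃' {Q : X.Modules} (φ ψ : M ⊗ (N ⊗ P) ⟶ Q)
    (h : ∀ (U : X.Opens) (m : Γ(M, U)) (n : Γ(N, U)) (p : Γ(P, U)),
      φ.app U (tm m (tm n p)) = ψ.app U (tm m (tm n p))) : φ = ψ :=
  hom_ext₃' φ ψ h

theorem exists_sum_tm (t : Γ(M ⊗ N, U)) {x : X} (hx : x ∈ U) :
    ∃ (V : X.Opens) (i : V ⟶ U), x ∈ V ∧ ∃ (n : ℕ) (m : Fin n → Γ(M, V)) (m' : Fin n → Γ(N, V)),
      (M ⊗ N).presheaf.map i.op t = ∑ i, tm (m i) (m' i) :=
  exists_sum_tmul t hx

theorem sum_tm {ι : Type*} (s : Finset ι) (m : ι → Γ(M, U)) (n : Γ(N, U)) :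
    tm (∑ i ∈ s, m i) n = ∑ i ∈ s, tm (m i) n := sum_tmul s m n

theorem tm_sum {ι : Type*} (s : Finset ι) (m : Γ(M, U)) (n : ι → Γ(N, U)) :
    tm m (∑ i ∈ s, n i) = ∑ i ∈ s, tm m (n i) := tmul_sum s m n

theorem ext₄ {Q R : X.Modules} (φ ψ : ((M ⊗ N) ⊗ P) ⊗ Q ⟶ R)
    (h : ∀ (U : X.Opens) (m : Γ(M, U)) (n : Γ(N, U)) (p : Γ(P, U)) (q : Γ(Q, U)),
      φ.app U (tm (tm (tm m n) p) q) = ψ.app U (tm (tm (tm m n) p) q)) : φ = ψ := by
  refine ext₃ _ _ fun U t p q => ?_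
  refine eq_of_locally_eq _ _ _ fun x hx => ?_
  obtain ⟨V, i, hxV, n, m, m', hs⟩ := exists_sum_tm t hx
  refine ⟨V, i, hxV, ?_⟩
  have e : ∀ (θ : ((M ⊗ N) ⊗ P) ⊗ Q ⟶ R),
      R.presheaf.map i.op (θ.app U (tm (tm t p) q)) =
        ∑ j, θ.app V (tm (tm (tm (m j) (m' j)) (P.presheaf.map i.op p)) (Q.presheaf.map i.op q)) := by
    intro θ
    rw [app_res, tm_res, tm_res, hs, sum_tm, sum_tm, map_sum]
  rw [e, e]
  exact Finset.sum_congr rfl fun i _ => h _ _ _ _ _

/-- The associator is the one of `Ega2.Tens`. -/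
theorem associator_eq (M N P : X.Modules) : α_ M N P = assoc M N P := by
  ext1
  exact ext₃ _ _ fun U m n p => (associator_hom_tm m n p).trans (assocHom_tmul m n p).symm

theorem leftUnitor_eq (N : X.Modules) : λ_ N = lunit N := by
  ext1
  exact ext₂ _ _ fun U r n => (leftUnitor_hom_tm r n).trans (lunit_hom_tmul (sc r) n).symm

theorem rightUnitor_eq (N : X.Modules) : ρ_ N = runit N := by
  ext1
  exact ext₂ _ _ fun U n r => (rightUnitor_hom_tm n r).trans (runit_hom_tmul (sc r) n).symm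

theorem braiding_eq (M N : X.Modules) : β_ M N = swap M N := by
  ext1
  exact ext₂ _ _ fun U m n => (braiding_hom_tm m n).trans (swapHom_tmul m n).symm

theorem tensorHom_eq (f : M ⟶ M') (g : N ⟶ N') : f ⊗ₘ g = mapT f g :=
  ext₂ _ _ fun U m n => (tensorHom_tm f g m n).trans (mapT_tmul f g m n).symm

end Groth.Agent.Dcoh.MonTm
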