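import Groth.Agent.Dcoh.MonPull292
import Groth.Agent.Dcoh.MonTm

/-!
# The monoidal pullback functor on pure tensors

For `f : X ⟶ Y` and the monoidal structure `MonPull.monPull f` on `Scheme.Modules.pullback f`:
* `pb f m : Γ(f^* M, f ⁻¹ᵁ V)` for `m : Γ(M, V)` (the unit of the adjunction `f^* ⊣ f_*`);
* `δ_pb : δ (pb (m ⊗ n)) = pb m ⊗ pb n`, `μ_pb`, `η_pb`, `ε_cs`;
* extensionality `pb_ext`, `pb_ext₂`;
* `braidedPull f : (Scheme.Modules.pullback f).Braided`;
* `laxPush f : (Scheme.Modules.pushforward f).LaxMonoidal` with `push_μ_tm : μ (m ⊗ n) = m ⊗ n`,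
  and the adjunction `f^* ⊣ f_*` is monoidal.
-/

set_option autoImplicit false

open CategoryTheory MonoidalCategory AlgebraicGeometry Limits Opposite DCoh TopologicalSpace
open Functor.LaxMonoidal Functor.OplaxMonoidal

universe u

namespace Groth.Agent.Dcoh.MonPull

open scoped Groth.Agent.Dcoh.MonCat
open Groth.Agent.Dcoh.MonCat Groth.Agent.Dcoh.PushLax
open Groth.Agent.Dcoh.MonTm (et counit_et comp_ap id_ap ptm cs sc tensorHom_tm whiskerLeft_tm
  whiskerRight_tm)

attribute [scoped instance] monPull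

variable {X Y : Scheme.{u}} (f : X ⟶ Y) {M N P Q : Y.Modules} {V : Y.Opens}

/-- The pullback of a section. -/
noncomputable def pb (m : Γ(M, V)) : Γ((Scheme.Modules.pullback f).obj M, f ⁻¹ᵁ V) :=
  ((Scheme.Modules.pullbackPushforwardAdjunction f).unit.app M).app V m

theorem map_pb (g : M ⟶ N) (m : Γ(M, V)) :
    ((Scheme.Modules.pullback f).map g).app (f ⁻¹ᵁ V) (pb f m) = pb f (g.app V m) := by
  have h := (Scheme.Modules.pullbackPushforwardAdjunction f).unit.naturality g
  exact (congr((Scheme.Modules.Hom.app $h V) m)).symm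

theorem pb_ext {A : X.Modules} (φ ψ : (Scheme.Modules.pullback f).obj M ⟶ A)
    (h : ∀ (V : Y.Opens) (m : Γ(M, V)), φ.app (f ⁻¹ᵁ V) (pb f m) = ψ.app (f ⁻¹ᵁ V) (pb f m)) : φ = ψ := by
  apply ((Scheme.Modules.pullbackPushforwardAdjunction f).homEquiv _ _).injective
  rw [Adjunction.homEquiv_unit, Adjunction.homEquiv_unit]
  apply Scheme.Modules.hom_ext
  intro V
  refine ConcreteCategory.hom_ext _ _ fun m => ?_
  exact h V m

theorem pb_ext₂ {A : X.Modules} (φ ψ : (Scheme.Modules.pullback f).obj (M ⊗ N) ⟶ A)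
    (h : ∀ (V : Y.Opens) (m : Γ(M, V)) (n : Γ(N, V)),
      φ.app (f ⁻¹ᵁ V) (pb f (MonTm.tm m n)) = ψ.app (f ⁻¹ᵁ V) (pb f (MonTm.tm m n))) : φ = ψ := by
  apply ((Scheme.Modules.pullbackPushforwardAdjunction f).homEquiv _ _).injective
  rw [Adjunction.homEquiv_unit, Adjunction.homEquiv_unit]
  exact MonTm.ext₂ _ _ fun V m n => h V m n

theorem pb_cadj (R : CohB1.PMod Y) (q : R.obj (op V)) :
    (((cadj f).unit.app R).app (op V)).hom q = pb f (et R q) := rfl

section Abstract

variable {C D E : Type*} [Category* C] [Category* D] [Category* E]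
  [MonoidalCategory C] [MonoidalCategory D] [MonoidalCategory E]
  (L : C ⥤ D) (W : MorphismProperty C) [L.IsLocalization W] [L.Monoidal]
  (F : D ⥤ E) (G : C ⥤ E) [G.Monoidal] [W.ContainsIdentities] [Localization.Lifting L W G F]

theorem functorMonoidalOfComp_δ (R S : C) :
    letI := Localization.Monoidal.functorMonoidalOfComp L W F G
    letI e := Localization.Lifting.iso L W G F
    F.map (δ L R S) ≫ δ F (L.obj R) (L.obj S) = e.hom.app _ ≫ δ G R S ≫ (e.inv.app _ ⊗ₘ e.inv.app _) := by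
  let := Localization.Monoidal.functorMonoidalOfComp L W F G
  have h := Localization.Monoidal.functorMonoidalOfComp_μ L W F G R S
  rw [← cancel_mono (μ F (L.obj R) (L.obj S)), Category.assoc, Category.assoc, Functor.Monoidal.δ_μ,
    Category.comp_id, Category.assoc, h, tensorHom_comp_tensorHom_assoc]
  erw [Iso.inv_hom_id_app, Iso.inv_hom_id_app]
  rw [id_tensorHom_id, Category.id_comp, Functor.Monoidal.δ_μ_assoc]
  exact (Iso.hom_inv_id_app_assoc (Localization.Lifting.iso L W G F) _ _).symm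

theorem functorMonoidalOfComp_η :
    letI := Localization.Monoidal.functorMonoidalOfComp L W F G
    letI e := Localization.Lifting.iso L W G F
    F.map (η L) ≫ η F = e.hom.app _ ≫ η G := by
  let := Localization.Monoidal.functorMonoidalOfComp L W F G
  have h := Localization.Monoidal.functorMonoidalOfComp_ε L W F G
  rw [← cancel_mono (ε F), Category.assoc, Category.assoc, Functor.Monoidal.η_ε, Category.comp_id, h,
    Functor.Monoidal.η_ε_assoc]
  exact (Iso.hom_inv_id_app_assoc (Localization.Lifting.iso L W G F) _ _).symm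

end Abstract

theorem δ_shP (R S : CohB1.PMod Y) :
    (Scheme.Modules.pullback f).map (δ shP R S) ≫ δ (Scheme.Modules.pullback f) (shP.obj R) (shP.obj S) =
      (oplaxG f).δ R S := by
  have h := @functorMonoidalOfComp_δ _ _ _ _ _ _ _ _ _ shP (WX Y) _ _ (Scheme.Modules.pullback f) 
    (shP ⋙ Scheme.Modules.pullback f) (monG f) _ _ R S
  refine h.trans ?_
  refine (Category.id_comp _).trans ?_
  refine (congrArg (_ ≫ ·) (id_tensorHom_id _ _)).trans ?_
  exact Category.comp_id _

theorem δ_pb_et (R S : CohB1.PMod Y) (r : R.obj (op V)) (s : S.obj (op V)) :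
    (δ (Scheme.Modules.pullback f) (shP.obj R) (shP.obj S)).app (f ⁻¹ᵁ V)
      (pb f (MonTm.tm (et R r) (et S s))) = MonTm.tm (pb f (et R r)) (pb f (et S s)) := by
  have h := section_δ f R S V r s
  rw [← δ_shP, toP_μ] at h
  rw [← MonTm.δ_et, ← map_pb]
  exact h

theorem δ_aux {A B : Y.Modules} (a : A ⟶ M) (b : B ⟶ N) (m : Γ(A, V)) (n : Γ(B, V))
    (h : (δ (Scheme.Modules.pullback f) A B).app (f ⁻¹ᵁ V) (pb f (MonTm.tm m n)) =
      MonTm.tm (pb f m) (pb f n)) :
    (δ (Scheme.Modules.pullback f) M N).app (f ⁻¹ᵁ V) (pb f (MonTm.tm (a.app V m) (b.app V n))) =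
      MonTm.tm (pb f (a.app V m)) (pb f (b.app V n)) := by
  rw [← tensorHom_tm, ← map_pb, ← comp_ap, ← δ_natural, comp_ap, h, tensorHom_tm, map_pb, map_pb]

/-- `f^*(M ⊗ N) ⟶ f^* M ⊗ f^* N` sends `m ⊗ n` to `m ⊗ n`. -/
theorem δ_pb (m : Γ(M, V)) (n : Γ(N, V)) :
    (δ (Scheme.Modules.pullback f) M N).app (f ⁻¹ᵁ V) (pb f (MonTm.tm m n)) =
      MonTm.tm (pb f m) (pb f n) := by
  have h := δ_aux f ((shAdj Y).counit.app M) ((shAdj Y).counit.app N) _ _
    (δ_pb_et f (toP.obj M) (toP.obj N) m n)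
  have hm := counit_et M m
  have hn := counit_et N n
  change (δ (Scheme.Modules.pullback f) M N).app (f ⁻¹ᵁ V) (pb f (MonTm.tm
      (((shAdj Y).counit.app M).app V (et (DCoh.toP.obj M) m))
      (((shAdj Y).counit.app N).app V (et (DCoh.toP.obj N) n)))) =
    MonTm.tm (pb f (((shAdj Y).counit.app M).app V (et (DCoh.toP.obj M) m)))
      (pb f (((shAdj Y).counit.app N).app V (et (DCoh.toP.obj N) n))) at h
  rw [hm, hn] at h
  exact h

/-- `f^* M ⊗ f^* N ⟶ f^*(M ⊗ N)` sends `m ⊗ n` to `m ⊗ n`. -/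
theorem μ_pb (m : Γ(M, V)) (n : Γ(N, V)) :
    (μ (Scheme.Modules.pullback f) M N).app (f ⁻¹ᵁ V) (MonTm.tm (pb f m) (pb f n)) =
      pb f (MonTm.tm m n) := by
  rw [← δ_pb, ← comp_ap, Functor.Monoidal.δ_μ, id_ap]

theorem η_shP : (Scheme.Modules.pullback f).map (η shP) ≫ η (Scheme.Modules.pullback f) =
      (oplaxG f).η := by
  have h := @functorMonoidalOfComp_η _ _ _ _ _ _ _ _ _ shP (WX Y) _ _ (Scheme.Modules.pullback f) 
    (shP ⋙ Scheme.Modules.pullback f) (monG f) _ _
  refine h.trans ?_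
  exact Category.id_comp _

theorem η_shP_eq : η (shP (X := X)) = (unitIso X).hom := by
  have h : ε (shP (X := X)) = (unitIso X).inv := rfl
  have h2 := Functor.Monoidal.η_ε (shP (X := X))
  rw [h] at h2
  exact ((Iso.eq_comp_inv _).1 h2.symm).symm.trans (Category.id_comp _)

/-- `f^* O_Y ⟶ O_X` is the canonical map. -/
theorem η_pullback : η (Scheme.Modules.pullback f) = Fga.UnitRestrict.pullbackUnitHom f := by
  have h := η_shP f
  have h2 : (oplaxG f).η = (Scheme.Modules.pullback f).map (unitIso Y).hom ≫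
    Fga.UnitRestrict.pullbackUnitHom f := η_eq f
  rw [η_shP_eq, h2] at h
  exact (cancel_epi _).1 h

theorem η_pb (r : Γ(Y, V)) : (η (Scheme.Modules.pullback f)).app (f ⁻¹ᵁ V) (pb f (cs r)) =
    cs (f.app V r) := by
  rw [η_pullback]
  have h := Fga.UnitRestrict.unit_pullbackUnitHom f
  exact congr((Scheme.Modules.Hom.app $h V) r)

theorem ε_pb (r : Γ(Y, V)) : (ε (Scheme.Modules.pullback f)).app (f ⁻¹ᵁ V) (cs (f.app V r)) =
    pb f (cs r) := by
  rw [← η_pb, ← comp_ap, Functor.Monoidal.η_ε, id_ap]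

/-- The pullback functor is braided monoidal. -/
@[instance_reducible]
noncomputable def braidedPull : (Scheme.Modules.pullback f).Braided where
  braided M N := by
    rw [← cancel_epi (δ (Scheme.Modules.pullback f) M N), Functor.Monoidal.δ_μ_assoc]
    refine pb_ext₂ f _ _ fun V m n => ?_
    rw [comp_ap, comp_ap, δ_pb, MonTm.braiding_hom_tm, μ_pb, map_pb, MonTm.braiding_hom_tm]

attribute [scoped instance] braidedPull

/-- The pushforward functor is lax monoidal. -/
@[instance_reducible]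
noncomputable def laxPush : (Scheme.Modules.pushforward f).LaxMonoidal :=
  (Scheme.Modules.pullbackPushforwardAdjunction f).rightAdjointLaxMonoidal

attribute [scoped instance] laxPush

instance isMonoidal_adj : (Scheme.Modules.pullbackPushforwardAdjunction f).IsMonoidal := by
  unfold laxPush
  infer_instance

/-- A section of `f_* A`. -/
def toPush {A : X.Modules} (a : Γ(A, f ⁻¹ᵁ V)) : Γ((Scheme.Modules.pushforward f).obj A, V) := a

theorem counit_pb (A : X.Modules) (a : Γ(A, f ⁻¹ᵁ V)) :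
    ((Scheme.Modules.pullbackPushforwardAdjunction f).counit.app A).app (f ⁻¹ᵁ V) (pb f (toPush f a)) = a := by
  have h := (Scheme.Modules.pullbackPushforwardAdjunction f).right_triangle_components A
  exact congr((Scheme.Modules.Hom.app $h V) a)

theorem push_μ_eq (A B : X.Modules) : μ (Scheme.Modules.pushforward f) A B =
    (Scheme.Modules.pullbackPushforwardAdjunction f).unit.app _ ≫ (Scheme.Modules.pushforward f).map 
      (δ (Scheme.Modules.pullback f) _ _ ≫ ((Scheme.Modules.pullbackPushforwardAdjunction f).counit.app A ⊗ₘ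
        (Scheme.Modules.pullbackPushforwardAdjunction f).counit.app B)) := by
  rfl

/-- `f_* A ⊗ f_* B ⟶ f_*(A ⊗ B)` sends `a ⊗ b` to `a ⊗ b`. -/
theorem push_μ_tm (A B : X.Modules) (a : Γ(A, f ⁻¹ᵁ V)) (b : Γ(B, f ⁻¹ᵁ V)) :
    (μ (Scheme.Modules.pushforward f) A B).app V (MonTm.tm (toPush f a) (toPush f b)) =
      toPush f (MonTm.tm a b) := by
  rw [push_μ_eq, comp_ap]
  change ((δ (Scheme.Modules.pullback f) _ _ ≫ ((Scheme.Modules.pullbackPushforwardAdjunction f).counit.app A ⊗ₘ
        (Scheme.Modules.pullbackPushforwardAdjunction f).counit.app B))).app (f ⁻¹ᵁ V)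
        (pb f (MonTm.tm (toPush f a) (toPush f b))) = _
  rw [comp_ap, δ_pb, tensorHom_tm, counit_pb, counit_pb]
  rfl

theorem push_ε_eq : ε (Scheme.Modules.pushforward f) = Fga.UnitRestrict.unitToPush f := by
  rw [← Fga.UnitRestrict.unit_pullbackUnitHom, ← η_pullback]
  rfl

theorem push_ε_cs (r : Γ(Y, V)) : (ε (Scheme.Modules.pushforward f)).app V (cs r) =
    toPush f (cs (f.app V r)) := by
  rw [push_ε_eq]
  rfl

end Groth.Agent.Dcoh.MonPull
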