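import Groth.Agent.Dcoh.MonPull2_292
import Mathlib.CategoryTheory.Monoidal.NaturalTransformation

/-!
# Monoidality of the coherence isomorphisms of the pullback functors

* `pullbackComp_pb`, `pullbackId_pb`: the isomorphisms `f^* g^* ≅ (f ≫ g)^*`, `(𝟙 X)^* ≅ 𝟭` on sections;
* `(Scheme.Modules.pullbackComp f g).hom`, `(Scheme.Modules.pullbackId X).hom`,
  `(Scheme.Modules.pullbackCongr h).hom` are monoidal natural transformations;
* `f_*` is lax braided.
-/

set_option autoImplicit false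

open CategoryTheory MonoidalCategory AlgebraicGeometry Limits Opposite DCoh TopologicalSpace
open Functor.LaxMonoidal Functor.OplaxMonoidal

universe u

namespace Groth.Agent.Dcoh.MonPull

open scoped Groth.Agent.Dcoh.MonCat
open Groth.Agent.Dcoh.MonCat
open Groth.Agent.Dcoh.MonTm (et counit_et comp_ap id_ap ptm cs sc tensorHom_tm whiskerLeft_tm
  whiskerRight_tm)

variable {X Y Z : Scheme.{u}} (f : X ⟶ Y) (g : Y ⟶ Z) {M N : Z.Modules} {V : Z.Opens}

theorem pullbackComp_inv_pb (m : Γ(M, V)) :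
    ((Scheme.Modules.pullbackComp f g).inv.app M).app ((f ≫ g) ⁻¹ᵁ V) (pb (f ≫ g) m) =
      pb f (pb g m) := by
  have h := unit_conjugateEquiv ((Scheme.Modules.pullbackPushforwardAdjunction g).comp
    (Scheme.Modules.pullbackPushforwardAdjunction f)) (Scheme.Modules.pullbackPushforwardAdjunction (f ≫ g))
    (Scheme.Modules.pullbackComp f g).inv M
  rw [Scheme.Modules.conjugateEquiv_pullbackComp_inv] at h
  exact congr((Scheme.Modules.Hom.app $h V) m).symm

theorem pullbackComp_hom_pb (m : Γ(M, V)) :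
    ((Scheme.Modules.pullbackComp f g).hom.app M).app ((f ≫ g) ⁻¹ᵁ V) (pb f (pb g m)) =
      pb (f ≫ g) m := by
  rw [← pullbackComp_inv_pb, ← comp_ap, Iso.inv_hom_id_app, id_ap]

theorem pullbackId_hom_pb {M : X.Modules} {V : X.Opens} (m : Γ(M, V)) :
    ((Scheme.Modules.pullbackId X).hom.app M).app V (pb (𝟙 X) m) = m := by
  have h := unit_conjugateEquiv .id (Scheme.Modules.pullbackPushforwardAdjunction (𝟙 X))
    (Scheme.Modules.pullbackId X).hom M
  rw [Scheme.Modules.conjugateEquiv_pullbackId_hom] at h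
  exact congr((Scheme.Modules.Hom.app $h V) m).symm

theorem η_pb' {X Y : Scheme.{u}} (f : X ⟶ Y) {V : Y.Opens} (r : Γ(𝟙_ Y.Modules, V)) :
    (η (Scheme.Modules.pullback f)).app (f ⁻¹ᵁ V) (pb f r) = cs (f.app V (sc r)) :=
  η_pb f (sc r)

theorem comp_ε_pb (r : Γ(Z, V)) :
    (ε (Scheme.Modules.pullback g ⋙ Scheme.Modules.pullback f)).app ((f ≫ g) ⁻¹ᵁ V)
      (cs ((f ≫ g).app V r)) = pb f (pb g (cs r)) := by
  have h1 := ε_pb f (V := g ⁻¹ᵁ V) (g.app V r)
  have h2 := congrArg (((Scheme.Modules.pullback f).map (ε (Scheme.Modules.pullback g))).app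
    (f ⁻¹ᵁ g ⁻¹ᵁ V)) h1
  refine h2.trans ?_
  rw [map_pb, ε_pb]

theorem comp_μ_pb (m : Γ(M, V)) (n : Γ(N, V)) :
    (μ (Scheme.Modules.pullback g ⋙ Scheme.Modules.pullback f) M N).app ((f ≫ g) ⁻¹ᵁ V)
      (MonTm.tm (pb f (pb g m)) (pb f (pb g n))) = pb f (pb g (MonTm.tm m n)) := by
  have h1 := μ_pb f (V := g ⁻¹ᵁ V) (pb g m) (pb g n)
  have h2 := congrArg (((Scheme.Modules.pullback f).map (μ (Scheme.Modules.pullback g) M N)).app
    (f ⁻¹ᵁ g ⁻¹ᵁ V)) h1
  refine h2.trans ?_
  rw [map_pb, μ_pb]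

/-- `(f ≫ g)^* ⟶ f^* g^*` is monoidal. -/
instance isMonoidal_pullbackComp_inv :
    NatTrans.IsMonoidal (Scheme.Modules.pullbackComp f g).inv where
  unit := by
    rw [← cancel_epi (η (Scheme.Modules.pullback (f ≫ g))), Functor.Monoidal.η_ε_assoc]
    refine pb_ext (f ≫ g) _ _ fun V r => ?_
    rw [comp_ap, η_pb', comp_ε_pb]
    exact pullbackComp_inv_pb f g r
  tensor M N := by
    rw [← cancel_epi (δ (Scheme.Modules.pullback (f ≫ g)) M N), Functor.Monoidal.δ_μ_assoc]
    refine pb_ext₂ (f ≫ g) _ _ fun V m n => ?_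
    rw [comp_ap, comp_ap, δ_pb, tensorHom_tm]
    refine (pullbackComp_inv_pb f g _).trans ?_
    rw [← comp_μ_pb, ← pullbackComp_inv_pb, ← pullbackComp_inv_pb]

/-- `f^* g^* ⟶ (f ≫ g)^*` is monoidal. -/
instance isMonoidal_pullbackComp_hom :
    NatTrans.IsMonoidal (Scheme.Modules.pullbackComp f g).hom := by
  have : NatTrans.IsMonoidal (Scheme.Modules.pullbackComp f g).symm.hom :=
    isMonoidal_pullbackComp_inv f g
  exact inferInstanceAs (NatTrans.IsMonoidal (Scheme.Modules.pullbackComp f g).symm.inv)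

/-- `(𝟙 X)^* ≅ 𝟭` is monoidal. -/
instance isMonoidal_pullbackId_hom :
    NatTrans.IsMonoidal (Scheme.Modules.pullbackId X).hom where
  unit := by
    rw [← cancel_epi (η (Scheme.Modules.pullback (𝟙 X))), Functor.Monoidal.η_ε_assoc]
    refine pb_ext (𝟙 X) _ _ fun V r => ?_
    rw [comp_ap, η_pb']
    exact pullbackId_hom_pb _
  tensor M N := by
    rw [← cancel_epi (δ (Scheme.Modules.pullback (𝟙 X)) M N), Functor.Monoidal.δ_μ_assoc]
    refine pb_ext₂ (𝟙 X) _ _ fun V m n => ?_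
    rw [comp_ap, comp_ap, δ_pb, tensorHom_tm]
    refine (pullbackId_hom_pb (X := X) _).trans ?_
    exact (congrArg₂ (fun a b => MonTm.tm a b) (pullbackId_hom_pb (X := X) m)
      (pullbackId_hom_pb (X := X) n)).symm

theorem isMonoidal_pullbackCongr_hom {f g : X ⟶ Y} (h : f = g) :
    NatTrans.IsMonoidal (Scheme.Modules.pullbackCongr h).hom := by
  subst h
  exact inferInstanceAs (NatTrans.IsMonoidal (𝟙 (Scheme.Modules.pullback f)))

/-- The pushforward functor is lax braided monoidal. -/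
@[instance_reducible]
noncomputable def laxBraidedPush : (Scheme.Modules.pushforward f).LaxBraided where
  braided A B := by
    refine MonTm.ext₂ _ _ fun V a b => ?_
    have h1 := push_μ_tm f (V := V) A B a b
    have h2 := push_μ_tm f (V := V) B A b a
    rw [comp_ap, comp_ap, MonTm.braiding_hom_tm]
    refine Eq.trans ?_ h2.symm
    refine (congrArg (((Scheme.Modules.pushforward f).map (β_ A B).hom).app V) h1).trans ?_
    exact MonTm.braiding_hom_tm (X := X) (U := f ⁻¹ᵁ V) a b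

end Groth.Agent.Dcoh.MonPull
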