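import Groth.Agent.Dcoh.MonRes290

/-!
# Formulas for the monoidal structure on restriction to an open subscheme

For an open immersion `j : U ⟶ X`:
* `unit_resSh_inv`: the isomorphism `resSh j` is the expected one;
* `resSh_hom_counit`;
* `μ_eq`, `unit_μ`: `μ (restrictFunctor j) M N` on pure tensors of sections;
* `toP_map_ε`: `ε (restrictFunctor j)` is `ε (resP j)`, i.e. `(j.appIso V).inv` on sections.
-/

open CategoryTheory MonoidalCategory AlgebraicGeometry Limits Opposite DCoh TopologicalSpace
open Groth.Agent.Dcoh.MonCat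

universe u

namespace Groth.Agent.Dcoh.MonRes290

open Functor.LaxMonoidal Functor.OplaxMonoidal Functor.Monoidal
open scoped Groth.Agent.Dcoh.MonCat

variable {X U : Scheme.{u}} (j : U ⟶ X) [IsOpenImmersion j]

/-- The tensorator of restriction of presheaves, on pure tensors. -/
theorem resP_μ_tmul (P Q : CohB1.PMod X) (V : U.Opensᵒᵖ)
    (m : P.obj (op (j ''ᵁ V.unop))) (n : Q.obj (op (j ''ᵁ V.unop))) :
    letI := braidedResP j
    ((μ (resP j) P Q).app V).hom (TensorProduct.tmul (U.sheaf.obj.obj V)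
      (M := ((resP j).obj P).obj V) (N := ((resP j).obj Q).obj V) m n) =
      TensorProduct.tmul (X.sheaf.obj.obj (op (j ''ᵁ V.unop))) (M := P.obj (op (j ''ᵁ V.unop)))
        (N := Q.obj (op (j ''ᵁ V.unop))) m n :=
  rsμ_tmul (alpha j) ((PresheafOfModules.pushforward₀OfCommRingCat j.opensFunctor
    X.sheaf.obj).obj P) ((PresheafOfModules.pushforward₀OfCommRingCat j.opensFunctor
    X.sheaf.obj).obj Q) V m n

/-- The unit comparison of restriction of presheaves, on sections. -/
theorem resP_ε_apply (V : U.Opensᵒᵖ) (x : Γ(U, V.unop)) :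
    letI := braidedResP j
    ((ε (resP j)).app V).hom x = (j.appIso V.unop).inv x :=
  rsε_apply (alpha j) V x

theorem unit_resSh_inv (P : CohB1.PMod X) :
    (shAdj U).unit.app ((resP j).obj P) ≫ toP.map ((resSh j).inv.app P) =
      (resP j).map ((shAdj X).unit.app P) := by
  have h := Adjunction.unit_leftAdjointUniq_hom_app
    (((resPAdj j).comp (shAdj U)).ofNatIsoRight (pushToP j))
    ((shAdj X).comp (Scheme.Modules.restrictAdjunction j)) P
  have h2 : (Adjunction.leftAdjointUniq (((resPAdj j).comp (shAdj U)).ofNatIsoRight (pushToP j))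
    ((shAdj X).comp (Scheme.Modules.restrictAdjunction j))).hom.app P = (resSh j).inv.app P := rfl
  rw [h2] at h
  refine ((resPAdj j).homEquiv _ _).injective ?_
  have h4 : ((resPAdj j).homEquiv _ _) ((shAdj U).unit.app ((resP j).obj P) ≫
      toP.map ((resSh j).inv.app P)) = (resPAdj j).unit.app P ≫
        (pushP j).map ((shAdj U).unit.app ((resP j).obj P) ≫ toP.map ((resSh j).inv.app P)) :=
    Adjunction.homEquiv_unit ..
  have h5 : ((resPAdj j).homEquiv _ _) ((resP j).map ((shAdj X).unit.app P)) =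
      (resPAdj j).unit.app P ≫ (pushP j).map ((resP j).map ((shAdj X).unit.app P)) :=
    Adjunction.homEquiv_unit ..
  have h3 : (resPAdj j).unit.app P ≫ (pushP j).map ((resP j).map ((shAdj X).unit.app P)) =
    (shAdj X).unit.app P ≫ (resPAdj j).unit.app _ := ((resPAdj j).unit.naturality _).symm
  refine h4.trans (Eq.trans ?_ (h5.trans h3).symm)
  have h6 : (((resPAdj j).comp (shAdj U)).ofNatIsoRight (pushToP j)).unit.app P =
      ((resPAdj j).comp (shAdj U)).unit.app P := by
    rw [Adjunction.ofNatIsoRight_unit]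
    exact Category.comp_id _
  have h7 : ((resPAdj j).comp (shAdj U)).unit.app P =
      (resPAdj j).unit.app P ≫ (pushP j).map ((shAdj U).unit.app ((resP j).obj P)) :=
    Adjunction.comp_unit_app ..
  have h8 : ((shAdj X).comp (Scheme.Modules.restrictAdjunction j)).unit.app P =
      (shAdj X).unit.app P ≫ toP.map ((Scheme.Modules.restrictAdjunction j).unit.app _) :=
    Adjunction.comp_unit_app ..
  rw [h6, h7, h8] at h
  have h10 : (pushP j).map ((shAdj U).unit.app ((resP j).obj P) ≫ toP.map ((resSh j).inv.app P)) =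
      (pushP j).map ((shAdj U).unit.app ((resP j).obj P)) ≫
        (pushP j).map (toP.map ((resSh j).inv.app P)) := Functor.map_comp ..
  rw [h10]
  refine (Category.assoc _ _ _).symm.trans (h.trans ?_)
  rfl

theorem hom_ext_unit {P : CohB1.PMod X} {M : X.Modules} {f g : shP.obj P ⟶ M}
    (h : (shAdj X).unit.app P ≫ toP.map f = (shAdj X).unit.app P ≫ toP.map g) : f = g := by
  refine ((shAdj X).homEquiv _ _).injective ?_
  exact ((Adjunction.homEquiv_unit ..).trans h).trans (Adjunction.homEquiv_unit ..).symm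

theorem unit_counit (M : X.Modules) :
    (shAdj X).unit.app (toP.obj M) ≫ toP.map ((shAdj X).counit.app M) = 𝟙 _ :=
  (shAdj X).right_triangle_components M

theorem resSh_inv_counit (M : X.Modules) :
    (resSh j).inv.app (toP.obj M) ≫
      (Scheme.Modules.restrictFunctor j).map ((shAdj X).counit.app M) =
    (shAdj U).counit.app ((Scheme.Modules.restrictFunctor j).obj M) := by
  refine hom_ext_unit ?_
  refine Eq.trans ?_ (unit_counit ((Scheme.Modules.restrictFunctor j).obj M)).symm
  have h := congrArg (· ≫ (resP j).map (toP.map ((shAdj X).counit.app M)))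
    (unit_resSh_inv j (toP.obj M))
  have h2 : (resP j).map ((shAdj X).unit.app (toP.obj M)) ≫
      (resP j).map (toP.map ((shAdj X).counit.app M)) = 𝟙 _ := by
    rw [← Functor.map_comp, unit_counit]
    exact CategoryTheory.Functor.map_id _ _
  refine Eq.trans ?_ (h.trans h2)
  have h3 : toP.map ((resSh j).inv.app (toP.obj M) ≫
      (Scheme.Modules.restrictFunctor j).map ((shAdj X).counit.app M)) = 
    toP.map ((resSh j).inv.app (toP.obj M)) ≫
      toP.map ((Scheme.Modules.restrictFunctor j).map ((shAdj X).counit.app M)) :=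
    Functor.map_comp ..
  rw [h3]
  exact (Category.assoc _ _ _).symm

theorem δ_shP (P Q : CohB1.PMod X) :
    δ (shP (X := X)) P Q = shP.map ((shAdj X).unit.app P ⊗ₘ (shAdj X).unit.app Q) := rfl

theorem η_shP : η (shP (X := X)) = (unitIso X).hom := rfl

theorem ε_shP : ε (shP (X := X)) = (unitIso X).inv := rfl

theorem δ_shP_counit (M N : X.Modules) :
    δ (shP (X := X)) (toP.obj M) (toP.obj N) ≫
      ((shAdj X).counit.app M ⊗ₘ (shAdj X).counit.app N) = 𝟙 _ := by
  have h : ((shAdj X).counit.app M ⊗ₘ (shAdj X).counit.app N) =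
      shP.map (toP.map ((shAdj X).counit.app M) ⊗ₘ toP.map ((shAdj X).counit.app N)) := rfl
  rw [δ_shP, h, ← Functor.map_comp, tensorHom_comp_tensorHom, unit_counit, unit_counit]
  exact (congrArg (shP (X := X)).map (id_tensorHom_id _ _)).trans
    (CategoryTheory.Functor.map_id _ _)

theorem abs_μ {C D E C' : Type*} [Category* C] [Category* D] [Category* E] [Category* C']
    [MonoidalCategory C] [MonoidalCategory D] [MonoidalCategory E] [MonoidalCategory C']
    (L : C ⥤ D) (L' : C' ⥤ E) (F : D ⥤ E) (G : C ⥤ C') [L.Monoidal] [L'.Monoidal] [F.Monoidal]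
    [G.Monoidal] (e : L ⋙ F ≅ G ⋙ L') {P Q : C} {M N : D} (c : L.obj P ⟶ M) (d : L.obj Q ⟶ N)
    (h1 : μ F (L.obj P) (L.obj Q) = (e.hom.app P ⊗ₘ e.hom.app Q) ≫ μ L' (G.obj P) (G.obj Q) ≫
      L'.map (μ G P Q) ≫ e.inv.app (P ⊗ Q) ≫ F.map (δ L P Q)) 
    (c' : L'.obj (G.obj P) ⟶ F.obj M) (d' : L'.obj (G.obj Q) ⟶ F.obj N)
    (hc : e.inv.app P ≫ F.map c = c') (hd : e.inv.app Q ≫ F.map d = d')
    {t : L.obj (P ⊗ Q) ⟶ M ⊗ N} (ht : δ L P Q ≫ (c ⊗ₘ d) = t)
    {t' : L'.obj (G.obj P ⊗ G.obj Q) ⟶ F.obj M ⊗ F.obj N}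
    (ht' : δ L' (G.obj P) (G.obj Q) ≫ (c' ⊗ₘ d') = t') :
    t' ≫ μ F M N = L'.map (μ G P Q) ≫ e.inv.app (P ⊗ Q) ≫ F.map t := by
  subst hc hd ht ht'
  rw [F.map_comp, ← tensorHom_comp_tensorHom, Category.assoc, Category.assoc, μ_natural, h1]
  simp only [Category.assoc]
  have h2 : (e.inv.app P ⊗ₘ e.inv.app Q) ≫ (e.hom.app P ⊗ₘ e.hom.app Q) = 𝟙 _ := by
    rw [tensorHom_comp_tensorHom]
    simp
  rw [reassoc_of% h2]
  simp

/-- The tensorator of the restriction functor. -/
theorem μ_eq (M N : X.Modules) :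
    letI := braidedResP j
    letI := restrictMonoidal j
    μ (Scheme.Modules.restrictFunctor j) M N =
      shP.map (μ (resP j) (toP.obj M) (toP.obj N)) ≫ (resSh j).inv.app (toP.obj M ⊗ toP.obj N) := by
  let _ := braidedResP j
  let _ := restrictMonoidal j
  have h1 := Localization.Monoidal.functorMonoidalOfComp_μ shP (WX X)
    (Scheme.Modules.restrictFunctor j) (resP j ⋙ shP) (toP.obj M) (toP.obj N)
  change μ (Scheme.Modules.restrictFunctor j) (shP.obj (toP.obj M)) (shP.obj (toP.obj N)) =
    ((resSh j).hom.app (toP.obj M) ⊗ₘ (resSh j).hom.app (toP.obj N)) ≫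
      μ (resP j ⋙ shP) (toP.obj M) (toP.obj N) ≫
      (resSh j).inv.app (toP.obj M ⊗ toP.obj N) ≫
        (Scheme.Modules.restrictFunctor j).map (δ shP (toP.obj M) (toP.obj N)) at h1
  rw [comp_μ] at h1
  simp only [Category.assoc] at h1
  have h2 := abs_μ (shP (X := X)) (shP (X := U)) (Scheme.Modules.restrictFunctor j) (resP j)
    (resSh j) (P := toP.obj M) (Q := toP.obj N) ((shAdj X).counit.app M)
    ((shAdj X).counit.app N) h1 
    ((shAdj U).counit.app ((Scheme.Modules.restrictFunctor j).obj M))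
    ((shAdj U).counit.app ((Scheme.Modules.restrictFunctor j).obj N))
    (resSh_inv_counit j M) (resSh_inv_counit j N) (δ_shP_counit M N)
    (δ_shP_counit ((Scheme.Modules.restrictFunctor j).obj M)
      ((Scheme.Modules.restrictFunctor j).obj N))
  rw [CategoryTheory.Functor.map_id] at h2
  exact (Category.id_comp _).symm.trans (h2.trans (congrArg
    (shP.map (μ (resP j) (toP.obj M) (toP.obj N)) ≫ ·) (Category.comp_id _)))

/-- The tensorator of the restriction functor, on pure tensors of sections: it sends the image of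
`m ⊗ n` (`m ∈ M(j V)`, `n ∈ N(j V)`) to the image of `m ⊗ n`. -/
theorem unit_μ (M N : X.Modules) :
    letI := braidedResP j
    letI := restrictMonoidal j
    (shAdj U).unit.app ((resP j).obj (toP.obj M) ⊗ (resP j).obj (toP.obj N)) ≫
      toP.map (μ (Scheme.Modules.restrictFunctor j) M N) =
    μ (resP j) (toP.obj M) (toP.obj N) ≫
      (resP j).map ((shAdj X).unit.app (toP.obj M ⊗ toP.obj N)) := by
  let _ := braidedResP j
  let _ := restrictMonoidal j
  rw [← unit_resSh_inv, μ_eq, Functor.map_comp]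
  exact Adjunction.unit_naturality_assoc ..

theorem toP_map_unitIso_inv :
    toP.map (unitIso X).inv = (shAdj X).unit.app (𝟙_ (CohB1.PMod X)) := by
  have h6 : (shAdj X).unit.app (𝟙_ (CohB1.PMod X)) ≫ toP.map ((unitIso X).hom) = 𝟙 _ :=
    unit_counit (Coh.structureModule X)
  have h7 : toP.map ((unitIso X).hom) ≫ toP.map ((unitIso X).inv) = 𝟙 _ := by
    rw [← Functor.map_comp, Iso.hom_inv_id]
    exact CategoryTheory.Functor.map_id _ _
  have h8 := congrArg (· ≫ toP.map ((unitIso X).inv)) h6
  exact (Category.id_comp _).symm.trans (h8.symm.trans ((Category.assoc _ _ _).trans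
    ((congrArg ((shAdj X).unit.app (𝟙_ (CohB1.PMod X)) ≫ ·) h7).trans (Category.comp_id _))))

/-- The unit comparison of the restriction functor is `(j.appIso V).inv` on sections over `V`. -/
theorem toP_map_ε :
    letI := braidedResP j
    letI := restrictMonoidal j
    toP.map (ε (Scheme.Modules.restrictFunctor j)) = ε (resP j) := by
  let _ := braidedResP j
  let _ := restrictMonoidal j
  have h1 := Localization.Monoidal.functorMonoidalOfComp_ε shP (WX X)
    (Scheme.Modules.restrictFunctor j) (resP j ⋙ shP)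
  have h2 : (resSh j).inv.app (𝟙_ (CohB1.PMod X)) ≫
      (Scheme.Modules.restrictFunctor j).map (unitIso X).hom =
    (shAdj U).counit.app ((Scheme.Modules.restrictFunctor j).obj (Coh.structureModule X)) :=
    resSh_inv_counit j (Coh.structureModule X)
  change ε (Scheme.Modules.restrictFunctor j) = ε (resP j ⋙ shP) ≫ (resSh j).inv.app _ ≫
    (Scheme.Modules.restrictFunctor j).map (unitIso X).hom at h1
  rw [h2, comp_ε, ε_shP] at h1
  rw [h1, Functor.map_comp, Functor.map_comp, toP_map_unitIso_inv]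
  have h9 : (shAdj U).unit.app (𝟙_ (CohB1.PMod U)) ≫ toP.map (shP.map (ε (resP j))) =
    ε (resP j) ≫ (shAdj U).unit.app _ := Adjunction.unit_naturality ..
  have h10 := unit_counit ((Scheme.Modules.restrictFunctor j).obj (Coh.structureModule X))
  refine (congrArg (· ≫ toP.map ((shAdj U).counit.app
    ((Scheme.Modules.restrictFunctor j).obj (Coh.structureModule X)))) h9).trans ?_
  refine (Category.assoc _ _ _).trans ((congrArg (ε (resP j) ≫ ·) h10).trans ?_)
  exact Category.comp_id _

end Groth.Agent.Dcoh.MonRes290
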