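import Groth.Agent.Dcoh.MonPull3_292
import Groth.Agent.Dcoh.MonResForm290

/-!
# Restriction to an open subscheme and pullback agree as monoidal functors

For an open immersion `j : U ⟶ X`, `rs j m` is the restriction of a section as a section of
`(Scheme.Modules.restrictFunctor j).obj M`.
* `μ_rs`, `δ_rs`, `ε_rs`: the monoidal structure `MonRes290.restrictMonoidal j` on pure tensors;
* `isMonoidal_restrictIso`: `(Scheme.Modules.restrictFunctorIsoPullback j).hom` is monoidal.
-/

set_option autoImplicit false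

open CategoryTheory MonoidalCategory AlgebraicGeometry Limits Opposite DCoh TopologicalSpace
open Functor.LaxMonoidal Functor.OplaxMonoidal

universe u

namespace Groth.Agent.Dcoh.MonPull

open scoped Groth.Agent.Dcoh.MonCat
open Groth.Agent.Dcoh.MonCat Groth.Agent.Dcoh.MonRes290
open Groth.Agent.Dcoh.MonTm (et counit_et comp_ap id_ap ptm cs sc tensorHom_tm whiskerLeft_tm
  whiskerRight_tm)

variable {X U : Scheme.{u}} (j : U ⟶ X) [IsOpenImmersion j] {M N : X.Modules} {V : X.Opens}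

/-- The restriction of a section. -/
noncomputable def rs (m : Γ(M, V)) : Γ((Scheme.Modules.restrictFunctor j).obj M, j ⁻¹ᵁ V) :=
  ((Scheme.Modules.restrictAdjunction j).unit.app M).app V m

theorem rs_eq (m : Γ(M, V)) : rs j m = M.presheaf.map (homOfLE (j.image_preimage_le V)).op m := rfl

theorem map_rs (g : M ⟶ N) (m : Γ(M, V)) :
    ((Scheme.Modules.restrictFunctor j).map g).app (j ⁻¹ᵁ V) (rs j m) = rs j (g.app V m) := by
  have h := (Scheme.Modules.restrictAdjunction j).unit.naturality g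
  exact (congr((Scheme.Modules.Hom.app $h V) m)).symm

theorem rs_ext {A : U.Modules} (φ ψ : (Scheme.Modules.restrictFunctor j).obj M ⟶ A)
    (h : ∀ (V : X.Opens) (m : Γ(M, V)), φ.app (j ⁻¹ᵁ V) (rs j m) = ψ.app (j ⁻¹ᵁ V) (rs j m)) :
    φ = ψ := by
  apply ((Scheme.Modules.restrictAdjunction j).homEquiv _ _).injective
  rw [Adjunction.homEquiv_unit, Adjunction.homEquiv_unit]
  apply Scheme.Modules.hom_ext
  intro V
  refine ConcreteCategory.hom_ext _ _ fun m => ?_
  exact h V m

theorem rs_ext₂ {A : U.Modules} (φ ψ : (Scheme.Modules.restrictFunctor j).obj (M ⊗ N) ⟶ A)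
    (h : ∀ (V : X.Opens) (m : Γ(M, V)) (n : Γ(N, V)),
      φ.app (j ⁻¹ᵁ V) (rs j (MonTm.tm m n)) = ψ.app (j ⁻¹ᵁ V) (rs j (MonTm.tm m n))) : φ = ψ := by
  apply ((Scheme.Modules.restrictAdjunction j).homEquiv _ _).injective
  rw [Adjunction.homEquiv_unit, Adjunction.homEquiv_unit]
  exact MonTm.ext₂ _ _ fun V m n => h V m n

theorem restrictIso_rs (m : Γ(M, V)) :
    ((Scheme.Modules.restrictFunctorIsoPullback j).hom.app M).app (j ⁻¹ᵁ V) (rs j m) = pb j m := by
  have h := Adjunction.unit_leftAdjointUniq_hom_app (Scheme.Modules.restrictAdjunction j)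
    (Scheme.Modules.pullbackPushforwardAdjunction j) M
  exact congr((Scheme.Modules.Hom.app $h V) m)

attribute [local instance] restrictMonoidal

theorem μ_rs (m : Γ(M, V)) (n : Γ(N, V)) :
    (μ (Scheme.Modules.restrictFunctor j) M N).app (j ⁻¹ᵁ V) (MonTm.tm (rs j m) (rs j n)) =
      rs j (MonTm.tm m n) := by
  have h := unit_μ j M N
  have h1 := congr((($h).app (op (j ⁻¹ᵁ V))).hom (TensorProduct.tmul (U.sheaf.obj.obj (op (j ⁻¹ᵁ V)))
      (M := ((resP j).obj (toP.obj M)).obj (op (j ⁻¹ᵁ V)))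
      (N := ((resP j).obj (toP.obj N)).obj (op (j ⁻¹ᵁ V))) (rs j m) (rs j n)))
  refine h1.trans ?_
  have h2 := resP_μ_tmul j (toP.obj M) (toP.obj N) (op (j ⁻¹ᵁ V)) (rs j m) (rs j n)
  refine (congrArg (((shAdj X).unit.app (toP.obj M ⊗ toP.obj N)).app (op (j ''ᵁ j ⁻¹ᵁ V))).hom h2).trans ?_
  exact (MonTm.tm_res (homOfLE (j.image_preimage_le V)) m n).symm

theorem δ_rs (m : Γ(M, V)) (n : Γ(N, V)) :
    (δ (Scheme.Modules.restrictFunctor j) M N).app (j ⁻¹ᵁ V) (rs j (MonTm.tm m n)) =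
      MonTm.tm (rs j m) (rs j n) := by
  rw [← μ_rs, ← comp_ap, Functor.Monoidal.μ_δ, id_ap]

theorem ε_rs (r : Γ(X, V)) :
    (ε (Scheme.Modules.restrictFunctor j)).app (j ⁻¹ᵁ V) (cs (j.app V r)) = rs j (cs r) := by
  have h := toP_map_ε j
  have h1 := congr((($h).app (op (j ⁻¹ᵁ V))).hom (j.app V r))
  refine h1.trans ?_
  refine (resP_ε_apply j (op (j ⁻¹ᵁ V)) (j.app V r)).trans ?_
  exact congr($(j.app_appIso_inv V).hom r)

theorem η_rs (r : Γ(X, V)) :
    (η (Scheme.Modules.restrictFunctor j)).app (j ⁻¹ᵁ V) (rs j (cs r)) = cs (j.app V r) := by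
  rw [← ε_rs, ← comp_ap, Functor.Monoidal.ε_η, id_ap]

/-- `j^*` as restriction and as pullback agree as monoidal functors. -/
theorem isMonoidal_restrictIso :
    NatTrans.IsMonoidal (Scheme.Modules.restrictFunctorIsoPullback j).hom where
  unit := by
    rw [← cancel_epi (η (Scheme.Modules.restrictFunctor j)), Functor.Monoidal.η_ε_assoc]
    refine rs_ext j _ _ fun V r => ?_
    refine (restrictIso_rs j r).trans ?_
    rw [comp_ap]
    refine Eq.trans ?_ (congrArg ((ε (Scheme.Modules.pullback j)).app (j ⁻¹ᵁ V)) (η_rs j (sc r))).symm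
    exact (ε_pb j (sc r)).symm
  tensor M N := by
    rw [← cancel_epi (δ (Scheme.Modules.restrictFunctor j) M N), Functor.Monoidal.δ_μ_assoc]
    refine rs_ext₂ j _ _ fun V m n => ?_
    refine (restrictIso_rs j _).trans ?_
    rw [comp_ap, comp_ap, δ_rs, tensorHom_tm, restrictIso_rs, restrictIso_rs, μ_pb]

end Groth.Agent.Dcoh.MonPull
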