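import Mathlib.Algebra.Category.ModuleCat.Presheaf.Monoidal
import Mathlib.Algebra.Category.ModuleCat.Sheaf.Localization
import Mathlib.LinearAlgebra.TensorProduct.Vanishing
import Mathlib.RingTheory.TensorProduct.DirectLimitFG
import Mathlib.CategoryTheory.Localization.Monoidal.Braided

/-!
# Tensoring with a presheaf of modules preserves locally bijective morphisms

Main result: the class of morphisms of presheaves of modules over a presheaf of commutative rings
which are locally bijective (equivalently: become isomorphisms after sheafification) is compatible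
with the tensor product (`MorphismProperty.IsMonoidal`), on any site.
-/

open CategoryTheory MonoidalCategory Opposite

universe u v' u'

namespace Groth.Agent.Dcoh.MonW

section Algebra

open TensorProduct

/-- The equational criterion for vanishing in a tensor product, without generation hypothesis: add
finitely many terms `q j ⊗ 0`. -/
theorem exists_vanishesTrivially {R M N : Type*} [CommRing R] [AddCommGroup M] [AddCommGroup N]
    [Module R M] [Module R N] {k : ℕ} (x : Fin k → M) (n : Fin k → N)
    (h : ∑ i, x i ⊗ₜ[R] n i = 0) :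
    ∃ (l : ℕ) (q : Fin l → M),
      TensorProduct.VanishesTrivially R (Sum.elim x q) (Sum.elim n 0) := by
  classical
  let P : Submodule R M := Submodule.span R (Set.range x)
  have hP : P.FG := Submodule.fg_span (Set.finite_range x)
  let xP : Fin k → P := fun i => ⟨x i, Submodule.subset_span ⟨i, rfl⟩⟩
  let t : P ⊗[R] N := ∑ i, xP i ⊗ₜ n i
  have ht : LinearMap.rTensor N P.subtype t = 0 := by
    simp only [t, xP, map_sum, LinearMap.rTensor_tmul, Submodule.subtype_apply]
    exact h
  obtain ⟨Q, hPQ, hQ, hQt⟩ := TensorProduct.eq_zero_of_fg_of_subtype_eq_zero hP ht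
  obtain ⟨l, q, hq⟩ := Submodule.fg_iff_exists_fin_generating_family.1 hQ
  refine ⟨l, q, ?_⟩
  let m : Fin k ⊕ Fin l → Q := Sum.elim (fun i => ⟨x i, hPQ (xP i).2⟩)
    (fun j => ⟨q j, hq ▸ Submodule.subset_span ⟨j, rfl⟩⟩)
  have hm : Submodule.span R (Set.range m) = ⊤ := by
    apply Submodule.map_injective_of_injective Q.injective_subtype
    rw [Submodule.map_span, Submodule.map_top, Submodule.range_subtype]
    apply le_antisymm
    · rw [Submodule.span_le]
      rintro _ ⟨_, ⟨i, rfl⟩, rfl⟩
      exact (m i).2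
    · conv_lhs => rw [← hq]
      rw [Submodule.span_le]
      rintro _ ⟨j, rfl⟩
      exact Submodule.subset_span ⟨m (Sum.inr j), ⟨_, rfl⟩, rfl⟩
  have h0 : ∑ i, m i ⊗ₜ[R] (Sum.elim n (0 : Fin l → N)) i = 0 := by
    rw [Fintype.sum_sum_type]
    simp only [Sum.elim_inl, Sum.elim_inr, Pi.zero_apply, tmul_zero, Finset.sum_const_zero,
      add_zero, m]
    simp only [t, map_sum, LinearMap.rTensor_tmul] at hQt
    exact hQt
  obtain ⟨κ, a, y, h1, h2⟩ := TensorProduct.vanishesTrivially_of_sum_tmul_eq_zero R hm h0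
  refine ⟨κ, a, y, h1, fun j => ?_⟩
  have := congrArg Q.subtype (h2 j)
  simp only [map_sum, map_smul, map_zero] at this
  rw [← this]
  refine Finset.sum_congr rfl fun i _ => ?_
  rcases i with i | i <;> rfl

end Algebra

section Site

variable {C : Type u'} [Category.{v'} C]

/-- A finite intersection of covering sieves is covering. -/
theorem iInf_mem {J : GrothendieckTopology C} {U : C} {ι : Type*} [Finite ι] (S : ι → Sieve U)
    (hS : ∀ i, S i ∈ J U) : (⨅ i, S i) ∈ J U := by
  classical
  have := Fintype.ofFinite ι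
  have key : ∀ s : Finset ι, s.inf S ∈ J U := by
    intro s
    induction s using Finset.induction_on with
    | empty => simp
    | insert a s _ ih =>
      rw [Finset.inf_insert]
      exact J.intersection_covering (hS a) ih
  rw [← Finset.inf_univ_eq_iInf]
  exact key _

theorem iInf_arrows_iff {U V : C} {ι : Type*} (S : ι → Sieve U) (f : V ⟶ U) :
    (⨅ i, S i) f ↔ ∀ i, S i f := by
  simp [iInf, Sieve.sInf_apply]

variable {J : GrothendieckTopology C} {R : Cᵒᵖ ⥤ CommRingCat.{u}}

/-- Presheaves of modules over a presheaf of commutative rings. -/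
abbrev PM (R : Cᵒᵖ ⥤ CommRingCat.{u}) := PresheafOfModules.{u} (R ⋙ forget₂ CommRingCat RingCat)

/-- The restriction maps of a presheaf of modules, as additive maps. -/
noncomputable def res (M : PM R) {U V : Cᵒᵖ} (i : U ⟶ V) : M.obj U →+ M.obj V :=
  (((PresheafOfModules.toPresheaf _).obj M).map i).hom

theorem res_smul (M : PM R) {U V : Cᵒᵖ} (i : U ⟶ V) (r : R.obj U) (m : M.obj U) :
    res M i (r • m) = R.map i r • res M i m :=
  M.map_smul i r m

theorem res_comp (M : PM R) {U V W : Cᵒᵖ} (i : U ⟶ V) (j : V ⟶ W) (m : M.obj U) :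
    res M (i ≫ j) m = res M j (res M i m) := by
  simp [res, Functor.map_comp]
  rfl

/-- The additive maps on sections underlying a morphism of presheaves of modules. -/
noncomputable def sec {M M' : PM R} (f : M ⟶ M') (U : Cᵒᵖ) : M.obj U →ₗ[R.obj U] M'.obj U :=
  (f.app U).hom

theorem sec_res {M M' : PM R} (f : M ⟶ M') {U V : Cᵒᵖ} (i : U ⟶ V) (m : M.obj U) :
    sec f V (res M i m) = res M' i (sec f U m) :=
  NatTrans.naturality_apply ((PresheafOfModules.toPresheaf _).map f) i m

open scoped TensorProduct in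
/-- The restriction maps of the sectionwise tensor product. -/
noncomputable def resT (M N : PM R) {U V : Cᵒᵖ} (i : U ⟶ V) :
    (M.obj U ⊗[R.obj U] N.obj U) →+ (M.obj V ⊗[R.obj V] N.obj V) :=
  res (M ⊗ N) i

open scoped TensorProduct in
theorem resT_tmul (M N : PM R) {U V : Cᵒᵖ} (i : U ⟶ V) (m : M.obj U) (n : N.obj U) :
    resT M N i (m ⊗ₜ[R.obj U] n) = res M i m ⊗ₜ[R.obj V] res N i n :=
  rfl

open scoped TensorProduct in
theorem resT_sum (M N : PM R) {U V : Cᵒᵖ} (i : U ⟶ V) {k : ℕ} (m : Fin k → M.obj U)
    (n : Fin k → N.obj U) :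
    resT M N i (∑ j, m j ⊗ₜ[R.obj U] n j) = ∑ j, res M i (m j) ⊗ₜ[R.obj V] res N i (n j) :=
  map_sum _ _ _

/-- Local surjectivity in terms of `sec` and `res`. -/
theorem isLocallySurjective_iff {M M' : PM R} (f : M ⟶ M') :
    Presheaf.IsLocallySurjective J ((PresheafOfModules.toPresheaf _).map f) ↔
      ∀ (U : C) (s : M'.obj (op U)), ∃ S ∈ J U, ∀ ⦃V : C⦄ (i : V ⟶ U), S i →
        ∃ t : M.obj (op V), sec f (op V) t = res M' i.op s :=
  ⟨fun h U s => ⟨_, h.imageSieve_mem s, fun _ _ hi => hi⟩, fun h => ⟨fun {U} s => by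
    obtain ⟨S, hS, H⟩ := h U s
    exact J.superset_covering (fun V i hi => H i hi) hS⟩⟩

/-- Local injectivity in terms of `sec` and `res`. -/
theorem isLocallyInjective_iff {M M' : PM R} (f : M ⟶ M') :
    Presheaf.IsLocallyInjective J ((PresheafOfModules.toPresheaf _).map f) ↔
      ∀ (U : C) (s : M.obj (op U)), sec f (op U) s = 0 → ∃ S ∈ J U, ∀ ⦃V : C⦄ (i : V ⟶ U), S i →
        res M i.op s = 0 := by
  constructor
  · intro h U s hs
    refine ⟨_, h.equalizerSieve_mem (X := op U) s (0 : M.obj (op U)) ?_, fun V i hi => ?_⟩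
    · exact hs.trans (sec f (op U)).map_zero.symm
    · exact Eq.trans hi (res M i.op).map_zero
  · intro h
    refine ⟨fun {X} x y hxy => ?_⟩
    change M.obj X at x y
    obtain ⟨S, hS, H⟩ := h X.unop (x - y) (by
      rw [map_sub, sub_eq_zero]
      exact hxy)
    refine J.superset_covering (fun V i hi => ?_) hS
    have := H i hi
    rw [map_sub, sub_eq_zero] at this
    exact this

theorem isLocallySurjective_whiskerRight {M M' : PM R} (f : M ⟶ M') (N : PM R)
    (hf : Presheaf.IsLocallySurjective J ((PresheafOfModules.toPresheaf _).map f)) :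
    Presheaf.IsLocallySurjective J ((PresheafOfModules.toPresheaf _).map (f ▷ N)) := by
  rw [isLocallySurjective_iff] at hf ⊢
  intro U s
  change TensorProduct (R.obj (op U)) (M'.obj (op U)) (N.obj (op U)) at s
  change ∃ S ∈ J U, ∀ ⦃V : C⦄ (i : V ⟶ U), S i →
    ∃ t : TensorProduct (R.obj (op V)) (M.obj (op V)) (N.obj (op V)),
      LinearMap.rTensor (N.obj (op V)) (sec f (op V)) t = resT M' N i.op s
  induction s using TensorProduct.induction_on with
  | zero =>
    exact ⟨⊤, J.top_mem U, fun V i _ => ⟨0, by rw [map_zero, map_zero]⟩⟩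
  | tmul m n =>
    obtain ⟨S, hS, H⟩ := hf U m
    refine ⟨S, hS, fun V i hi => ?_⟩
    obtain ⟨t, ht⟩ := H i hi
    exact ⟨t ⊗ₜ res N i.op n, by rw [LinearMap.rTensor_tmul, ht, resT_tmul]⟩
  | add a b ha hb =>
    obtain ⟨S, hS, H⟩ := ha
    obtain ⟨S', hS', H'⟩ := hb
    refine ⟨_, J.intersection_covering hS hS', fun V i hi => ?_⟩
    obtain ⟨t, ht⟩ := H i hi.1
    obtain ⟨t', ht'⟩ := H' i hi.2
    exact ⟨t + t', by rw [map_add, map_add, ht, ht']⟩

theorem isLocallyInjective_whiskerRight {M M' : PM R} (f : M ⟶ M') (N : PM R)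
    (hi : Presheaf.IsLocallyInjective J ((PresheafOfModules.toPresheaf _).map f))
    (hf : Presheaf.IsLocallySurjective J ((PresheafOfModules.toPresheaf _).map f)) :
    Presheaf.IsLocallyInjective J ((PresheafOfModules.toPresheaf _).map (f ▷ N)) := by
  rw [isLocallyInjective_iff] at hi ⊢
  rw [isLocallySurjective_iff] at hf
  intro U t h0
  change TensorProduct (R.obj (op U)) (M.obj (op U)) (N.obj (op U)) at t
  change LinearMap.rTensor (N.obj (op U)) (sec f (op U)) t = 0 at h0
  change ∃ S ∈ J U, ∀ ⦃V : C⦄ (i : V ⟶ U), S i → resT M N i.op t = 0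
  obtain ⟨k, m, n, rfl⟩ := TensorProduct.exists_sum_tmul_eq t
  simp only [map_sum, LinearMap.rTensor_tmul] at h0
  obtain ⟨l, q, κ, a, z, h1, h2⟩ := exists_vanishesTrivially _ _ h0
  choose S hS H using fun j => hf U (q j)
  -- first, a covering sieve on which the `q j` lift
  have hS' : (⨅ j, S j) ∈ J U := iInf_mem _ hS
  -- second, on which the finitely many relations hold
  have key : ∀ ⦃V : C⦄ (i : V ⟶ U), (⨅ j, S j) i → ∃ T ∈ J V, ∀ ⦃W : C⦄ (j : W ⟶ V), T j →
      resT M N (j ≫ i).op (∑ c, m c ⊗ₜ[R.obj (op U)] n c) = 0 := by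
    intro V i hi'
    rw [iInf_arrows_iff] at hi'
    choose q' hq' using fun j => H j i (hi' j)
    let mm : Fin k ⊕ Fin l → M.obj (op V) := Sum.elim (fun j => res M i.op (m j)) q'
    have e1 : ∀ j, sec f (op V) (mm j) =
        res M' i.op (Sum.elim (fun i => sec f (op U) (m i)) q j) := by
      rintro (j | j)
      · exact sec_res f i.op (m j)
      · exact hq' j
    have hmm : ∀ c : Fin κ, sec f (op V) (∑ j, R.map i.op (a j c) • mm j) = 0 := by
      intro c
      have e2 : sec f (op V) (∑ j, R.map i.op (a j c) • mm j) =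
          res M' i.op (∑ j, a j c • Sum.elim (fun i => sec f (op U) (m i)) q j) := by
        simp only [map_sum, map_smul, e1, res_smul]
      rw [e2, h2 c, map_zero]
    choose T hT HT using fun c => hi V _ (hmm c)
    refine ⟨⨅ c, T c, iInf_mem _ hT, fun W j hj => ?_⟩
    rw [iInf_arrows_iff] at hj
    have key : TensorProduct.VanishesTrivially (R.obj (op W)) (fun c => res M j.op (mm c))
        (fun c => res N (j ≫ i).op (Sum.elim n 0 c)) := by
      refine ⟨κ, fun c d => R.map (j ≫ i).op (a c d), fun d => res N (j ≫ i).op (z d), ?_, ?_⟩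
      · intro c
        simp only [h1 c, map_sum, res_smul]
      · intro d
        rw [← HT d j (hj d)]
        simp only [map_sum, res_smul, op_comp, Functor.map_comp, CommRingCat.comp_apply]
    have key2 := TensorProduct.sum_tmul_eq_zero_of_vanishesTrivially _ key
    rw [Fintype.sum_sum_type] at key2
    simp only [Sum.elim_inl, Sum.elim_inr, Pi.zero_apply, map_zero, TensorProduct.tmul_zero,
      Finset.sum_const_zero, add_zero, mm] at key2
    rw [resT_sum, ← key2]
    refine Finset.sum_congr rfl fun c _ => ?_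
    rw [← res_comp, ← op_comp]
  choose T hT HT using key
  refine ⟨Sieve.bind (⨅ j, S j).arrows fun V i hi => T i hi, J.bind_covering hS' fun V i hi => hT i hi, ?_⟩
  rintro W _ ⟨V, j, i, hi', hj, rfl⟩
  exact HT i hi' j hj

/-- The class of morphisms of presheaves of modules (over a presheaf of commutative rings) which
become isomorphisms after sheafification. -/
abbrev W (J : GrothendieckTopology C) (R : Cᵒᵖ ⥤ CommRingCat.{u}) : MorphismProperty (PM R) :=
  J.W.inverseImage (PresheafOfModules.toPresheaf (R ⋙ forget₂ CommRingCat RingCat))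

theorem W_whiskerRight [J.WEqualsLocallyBijective AddCommGrpCat.{u}] {M M' : PM R} (f : M ⟶ M')
    (hf : W J R f) (N : PM R) : W J R (f ▷ N) := by
  change J.W _ at hf
  change J.W _
  rw [GrothendieckTopology.W_iff_isLocallyBijective] at hf ⊢
  exact ⟨isLocallyInjective_whiskerRight f N hf.1 hf.2, isLocallySurjective_whiskerRight f N hf.2⟩

/-- Locally bijective morphisms of presheaves of modules are stable under tensor products. -/
instance isMonoidal_W [J.WEqualsLocallyBijective AddCommGrpCat.{u}] : (W J R).IsMonoidal where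
  whiskerLeft X Y₁ Y₂ g hg := by
    have e : X ◁ g = (β_ X Y₁).hom ≫ g ▷ X ≫ (β_ Y₂ X).hom := by
      rw [← BraidedCategory.braiding_naturality_right_assoc, SymmetricCategory.symmetry,
        Category.comp_id]
    rw [e]
    exact (W J R).comp_mem _ _ (MorphismProperty.of_isIso _ _)
      ((W J R).comp_mem _ _ (W_whiskerRight g hg X) (MorphismProperty.of_isIso _ _))
  whiskerRight f hf Y := W_whiskerRight f hf Y

end Site

end Groth.Agent.Dcoh.MonW
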