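import Groth.Agent.Dcoh.DualX
import Groth.Agent.PerfC.RHomD

/-!
# Duals of perfect objects, in terms of the derived tensor product `LTX`

* `exists_exactPairing`: a perfect object of `D(O_X)` has a perfect dual for the monoidal structure `monoidalDX`;
* `objIso K : (LTX X).obj K ≅ tensorLeft K`, `flipIso K : (LTX X).flip.obj K ≅ tensorRight K` (nonempty);
* `exists_adj`: for `E` perfect there is `E'` perfect with `(LTX X).obj E' ⊣ (LTX X).obj E`.
-/

set_option autoImplicit false

universe u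

open CategoryTheory Limits MonoidalCategory AlgebraicGeometry
attribute [local instance] HasDerivedCategory.standard

open scoped Groth.Agent.Dcoh.MonCat Groth.Agent.Dcoh.ModD

namespace Groth.Agent.Dcoh.PerfDual

open Groth.Agent.Dcoh.MonCx Groth.Agent.Dcoh.MonD Groth.Agent.Dcoh.ModD Groth.Agent.PerfC.DTens

variable {X : Scheme.{u}}

/-- A perfect object has a perfect dual, for the monoidal structure on `D(O_X)`. -/
theorem exists_exactPairing (E : DCoh.D X) (hE : DCoh.IsPerfect E) :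
    ∃ E' : DCoh.D X, DCoh.IsPerfect E' ∧ Nonempty (ExactPairing E E') := by
  let E0 := DerivedCategory.Q.objPreimage E
  let e : DerivedCategory.Q.obj E0 ≅ E := DerivedCategory.Q.objObjPreimageIso E
  have hE0 : DCoh.IsPerfect (DerivedCategory.Q.obj E0) := LocalD.isPerfect_of_iso e.symm hE
  have : DCoh.HasLTensorCx E0 := ModTens.hasLTensorCx E0
  have : DCoh.HasRSheafHom E0 := PerfC.RHomD.hasRSheafHom E0
  let hp := DualX.exactPairing hE0 (ModTens.adjQ E0)
  exact ⟨_, DualX.isPerfect_dual hE0 (ModTens.adjQ E0), ⟨exactPairingCongrLeft e.symm⟩⟩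

/-- `K ⊗ᴸ -` is tensoring on the left with `K` for the monoidal structure, for `K` K-flat. -/
noncomputable def objIso₀ (K : CochainComplex X.Modules ℤ) (hK : DCoh.IsKFlat K) :
    (LTX X).obj (DerivedCategory.Q.obj K) ≅ tensorLeft (DerivedCategory.Q.obj K) :=
  haveI := presQis_obj hK
  letI : Localization.Lifting DerivedCategory.Q
      (HomologicalComplex.quasiIso X.Modules (ComplexShape.up ℤ)) ((DCoh.tensorCx (X := X)).obj K ⋙ DerivedCategory.Q)
      ((LTX X).obj (DerivedCategory.Q.obj K)) := ⟨PerfC.DBif.LTPfac (bifData X) K hK⟩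
  letI : Localization.Lifting DerivedCategory.Q
      (HomologicalComplex.quasiIso X.Modules (ComplexShape.up ℤ)) (tensorLeft K ⋙ DerivedCategory.Q)
      (tensorLeft (DerivedCategory.Q.obj K)) := ⟨μL (P := KF X) K hK⟩
  Localization.liftNatIso DerivedCategory.Q (HomologicalComplex.quasiIso X.Modules (ComplexShape.up ℤ))
    ((DCoh.tensorCx (X := X)).obj K ⋙ DerivedCategory.Q) (tensorLeft K ⋙ DerivedCategory.Q) _ _
    (NatIso.ofComponents (fun _ => Iso.refl _) (fun f =>
      (Category.comp_id (DerivedCategory.Q.map (K ◁ f))).trans (Category.id_comp _).symm))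

/-- `K ⊗ᴸ -` is tensoring on the left with `K` for the monoidal structure. -/
theorem nonempty_objIso (K : DCoh.D X) : Nonempty ((LTX X).obj K ≅ tensorLeft K) := by
  obtain ⟨K0, w, hK0, hw⟩ := KF_res (DerivedCategory.Q.objPreimage K)
  have : IsIso (DerivedCategory.Q.map w) := (DerivedCategory.isIso_Q_map_iff_quasiIso X.Modules _).2 hw
  let e : DerivedCategory.Q.obj K0 ≅ K :=
    asIso (DerivedCategory.Q.map w) ≪≫ DerivedCategory.Q.objObjPreimageIso K
  exact ⟨(LTX X).mapIso e.symm ≪≫ objIso₀ K0 hK0 ≪≫ (tensoringLeft (DCoh.D X)).mapIso e⟩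

/-- `- ⊗ᴸ K` is tensoring on the right with `K` for the monoidal structure. -/
theorem nonempty_flipIso (K : DCoh.D X) : Nonempty ((LTX X).flip.obj K ≅ tensorRight K) := by
  let K0 := DerivedCategory.Q.objPreimage K
  let e : DerivedCategory.Q.obj K0 ≅ K := DerivedCategory.Q.objObjPreimageIso K
  have : DCoh.HasLTensorCx K0 := ModTens.hasLTensorCx K0
  exact ⟨(LTX X).flip.mapIso e.symm ≪≫ LTXcx K0 ≪≫ ModTens.LTensorCxIso K0 ≪≫
    (tensoringRight (DCoh.D X)).mapIso e⟩

/-- `K ⊗ᴸ L ≅ K ⊗ L`. -/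
theorem nonempty_iso (K L : DCoh.D X) : Nonempty (((LTX X).obj K).obj L ≅ K ⊗ L) := by
  obtain ⟨e⟩ := nonempty_objIso K
  exact ⟨e.app L⟩

/-- Tensoring with a perfect object has a left adjoint which is tensoring with a perfect object. -/
theorem exists_adj (E : DCoh.D X) (hE : DCoh.IsPerfect E) :
    ∃ E' : DCoh.D X, DCoh.IsPerfect E' ∧ Nonempty ((LTX X).obj E' ⊣ (LTX X).obj E) := by
  obtain ⟨E', hE', ⟨h⟩⟩ := exists_exactPairing E hE
  obtain ⟨e⟩ := nonempty_objIso E
  obtain ⟨e'⟩ := nonempty_objIso E'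
  exact ⟨E', hE', ⟨((tensorLeftAdjunction E E').ofNatIsoLeft e'.symm).ofNatIsoRight e.symm⟩⟩

/-- Tensoring with a perfect object on the right has a right adjoint which is tensoring with a perfect object. -/
theorem exists_adj_flip (E : DCoh.D X) (hE : DCoh.IsPerfect E) :
    ∃ E' : DCoh.D X, DCoh.IsPerfect E' ∧ Nonempty ((LTX X).flip.obj E ⊣ (LTX X).flip.obj E') := by
  obtain ⟨E', hE', ⟨h⟩⟩ := exists_exactPairing E hE
  obtain ⟨e⟩ := nonempty_flipIso E
  obtain ⟨e'⟩ := nonempty_flipIso E'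
  exact ⟨E', hE', ⟨((tensorRightAdjunction E E').ofNatIsoLeft e.symm).ofNatIsoRight e'.symm⟩⟩

end Groth.Agent.Dcoh.PerfDual
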