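import Groth.Agent.Dcoh.StrTens305
import Groth.Agent.Dcoh.ProjShriekD
import Groth.Agent.Dcoh.ModTens
import Groth.Agent.Dcoh.LocalD
import Groth.Agent.Dcoh.Spread

/-!
# The derived tensor product of perfect objects is perfect
-/

set_option autoImplicit false
universe u

open CategoryTheory CategoryTheory.Limits AlgebraicGeometry MonoidalCategory
attribute [local instance] HasDerivedCategory.standard

open scoped Groth.Agent.Dcoh.MonCat Groth.Agent.Dcoh.ModD

namespace Groth.Agent.Dcoh.PerfTens305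

open LocalD

variable {X : Scheme.{u}}

/-- Strictly perfect complexes are K-flat. -/
theorem isKFlat_of_isStrictlyPerfect {K : CochainComplex X.Modules ℤ} (hK : DCoh.IsStrictlyPerfect K) :
    DCoh.IsKFlat K := by
  obtain ⟨⟨a, b, h1⟩, h2⟩ := hK
  have : K.IsStrictlyLE b := by
    rw [CochainComplex.isStrictlyLE_iff]
    exact fun i hi => h1 i (Or.inr hi)
  exact KFlatMod.isKFlat_of_isStrictlyLE K b (fun n => Spread.isFlat_of_isFinLocFree (h2 n))

theorem strPerf_tensor {K L : DCoh.D X} (hK : StrPerf X K) (hL : StrPerf X L) : StrPerf X (K ⊗ L) := by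
  obtain ⟨E, hE, ⟨e⟩⟩ := hK
  obtain ⟨F, hF, ⟨f⟩⟩ := hL
  exact ⟨_, StrTens305.isStrictlyPerfect_tensorCx hE hF,
    ⟨(e ⊗ᵢ f) ≪≫ ModTens.tensorIso E F (isKFlat_of_isStrictlyPerfect hF)⟩⟩

/-- Stacks 09J5: the derived tensor product of perfect objects is perfect. -/
theorem isPerfect_tensor {K L : DCoh.D X} (hK : DCoh.IsPerfect K) (hL : DCoh.IsPerfect L) :
    DCoh.IsPerfect (K ⊗ L) := by
  rw [isPerfect_iff_locally] at hK hL ⊢
  intro x
  obtain ⟨V, hx, h1, h2⟩ := locally_and isStable_strPerf isStable_strPerf hK hL x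
  let := ProjShriekD.restrictDMonoidal V.ι
  exact ⟨V, hx, isStable_strPerf.iso (Functor.Monoidal.μIso (DCoh.restrictD V.ι) K L)
    (strPerf_tensor h1 h2)⟩

/-- The version with `LTensorCx`. -/
theorem isPerfect_LTensorCx (L : CochainComplex X.Modules ℤ) (hL : DCoh.IsPerfect (DerivedCategory.Q.obj L))
    [DCoh.HasLTensorCx L] (K : DCoh.D X) (hK : DCoh.IsPerfect K) : DCoh.IsPerfect ((DCoh.LTensorCx L).obj K) :=
  isPerfect_of_iso ((ModTens.LTensorCxIso L).app K).symm (isPerfect_tensor hK hL)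

end Groth.Agent.Dcoh.PerfTens305
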