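import Groth.Agent.Dcoh.DualFLF

/-!
# Projection formula for finite locally free modules, degree by degree
-/

set_option autoImplicit false
universe u v

open CategoryTheory Limits MonoidalCategory AlgebraicGeometry

namespace Groth.Agent.Dcoh.ProjFLF

open scoped Groth.Agent.Dcoh.MonCat
open MonDual

/-- A dualizable module tensored with an injective one is injective. -/
theorem injective_tensor {X : Scheme.{u}} (I E : X.Modules) [Injective I]
    (hE : FlatMod.IsFinLocFree E) :
    Injective (CohB1.tensorMod E I) := by
  obtain ⟨E', ⟨_⟩⟩ := DualFLF.exists_exactPairing hE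
  exact injective_tensorLeft E E' I

/-- Tensoring with a dualizable module preserves homology. -/
theorem preservesHomology_tensorLeft {X : Scheme.{u}} (E E' : X.Modules) [ExactPairing E E'] :
    (tensorLeft E).PreservesHomology := by
  have := isRightAdjoint_tensorLeft E E'
  have := isLeftAdjoint_tensorLeft E E'
  have : PreservesLimits (tensorLeft E) := (Adjunction.ofIsRightAdjoint (tensorLeft E)).rightAdjoint_preservesLimits
  have : PreservesColimits (tensorLeft E) := (Adjunction.ofIsLeftAdjoint (tensorLeft E)).leftAdjoint_preservesColimits
  exact inferInstance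

/-- Tensoring with a finite locally free module preserves homology. -/
theorem preservesHomology_tensorLeft_of_isFinLocFree {X : Scheme.{u}} (E : X.Modules)
    (hE : FlatMod.IsFinLocFree E) : (tensorLeft E).PreservesHomology := by
  obtain ⟨E', ⟨_⟩⟩ := DualFLF.exists_exactPairing hE
  exact preservesHomology_tensorLeft E E'

variable {X Y : Scheme.{u}} (f : X ⟶ Y) [(Scheme.Modules.pullback f).Monoidal]

/-- `E ⊗ R^q f_* F ≅ R^q f_* (f^*E ⊗ F)` for a dualizable module `E`. -/
theorem nonempty_iso [HasInjectiveResolutions X.Modules] (F : X.Modules) (E E' : Y.Modules) [ExactPairing E E']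
    (q : ℕ) :
    Nonempty (CohB1.tensorMod E ((Coh.Rpush f q).obj F) ≅
      (Coh.Rpush f q).obj (CohB1.tensorMod ((Scheme.Modules.pullback f).obj E) F)) := by
  let := mapExactPairing (Scheme.Modules.pullback f) E E'
  have := preservesHomology_tensorLeft E E'
  have := preservesHomology_tensorLeft ((Scheme.Modules.pullback f).obj E) ((Scheme.Modules.pullback f).obj E')
  let e := projectionIso (Scheme.Modules.pullbackPushforwardAdjunction f) E E'
  exact ⟨rightDerivedComm (Scheme.Modules.pushforward f) (tensorLeft ((Scheme.Modules.pullback f).obj E))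
    (fun I hI => injective_tensorLeft _ ((Scheme.Modules.pullback f).obj E') I) (tensorLeft E) e q F⟩

end Groth.Agent.Dcoh.ProjFLF
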