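import Groth.Agent.Desc.FinLocFreeSections
import Groth.Agent.Ega1.QcqsPush

/-!
# Finite locally free direct images, read off from sections over affine opens
-/

set_option autoImplicit false
universe u

open CategoryTheory CategoryTheory.Limits AlgebraicGeometry

namespace Groth.Agent.Dcoh.PushFLF304

/-- A quasi-coherent module whose sections over the members of a family of affine opens covering the scheme
are finite projective is finite locally free. -/
theorem isFinLocFree_of_sections {X : Scheme.{u}} {M : X.Modules} (hM : Coh.IsQCoh M)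
    (P : X.Opens → Prop) (hP : ∀ x : X, ∃ V : X.Opens, P V ∧ IsAffineOpen V ∧ x ∈ V)
    (h : ∀ V : X.Opens, P V → IsAffineOpen V →
      Module.Finite Γ(X, V) Γ(M, V) ∧ Module.Projective Γ(X, V) Γ(M, V)) :
    FlatMod.IsFinLocFree M := by
  rw [Groth.Agent.Desc.FinLocFreeSections.isFinLocFree_iff_of_cover hM P hP]
  intro V hPV hV
  obtain ⟨h1, h2⟩ := h V hPV hV
  exact ⟨Module.finitePresentation_of_projective _ _, inferInstance⟩

/-- `f` quasi-compact quasi-separated, `M` quasi-coherent: if the sections of `M` over `f⁻¹V` are finite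
projective over `Γ(S, V)` for a covering family of affine opens `V`, then `f_* M` is finite locally free. -/
theorem isFinLocFree_pushforward {X S : Scheme.{u}} (f : X ⟶ S) [QuasiCompact f] [QuasiSeparated f]
    {M : X.Modules} (hM : Coh.IsQCoh M) (P : S.Opens → Prop)
    (hP : ∀ x : S, ∃ V : S.Opens, P V ∧ IsAffineOpen V ∧ x ∈ V)
    (h : ∀ V : S.Opens, P V → IsAffineOpen V →
      Module.Finite Γ(S, V) Γ((Scheme.Modules.pushforward f).obj M, V) ∧
        Module.Projective Γ(S, V) Γ((Scheme.Modules.pushforward f).obj M, V)) :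
    FlatMod.IsFinLocFree ((Scheme.Modules.pushforward f).obj M) :=
  isFinLocFree_of_sections (Groth.Agent.Ega1.QcqsPush.isQCoh_pushforward f M hM) P hP h

/-- The same with the module structure written through `f.app V`. -/
theorem isFinLocFree_pushforward' {X S : Scheme.{u}} (f : X ⟶ S) [QuasiCompact f] [QuasiSeparated f]
    {M : X.Modules} (hM : Coh.IsQCoh M) (P : S.Opens → Prop)
    (hP : ∀ x : S, ∃ V : S.Opens, P V ∧ IsAffineOpen V ∧ x ∈ V)
    (h : ∀ V : S.Opens, P V → IsAffineOpen V →
      letI : Module Γ(S, V) Γ(M, f ⁻¹ᵁ V) := Module.compHom _ (f.app V).hom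
      Module.Finite Γ(S, V) Γ(M, f ⁻¹ᵁ V) ∧ Module.Projective Γ(S, V) Γ(M, f ⁻¹ᵁ V)) :
    FlatMod.IsFinLocFree ((Scheme.Modules.pushforward f).obj M) :=
  isFinLocFree_pushforward f hM P hP (fun V hPV hV => h V hPV hV)

end Groth.Agent.Dcoh.PushFLF304
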