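import Groth.Agent.Dcoh.StalkRes
import Groth.Agent.Dcoh.ResFree
import Groth.Agent.CycB.PushStalk
import Groth.Agent.Dcoh.StalkF
import Mathlib.Algebra.Category.ModuleCat.Biproducts

set_option autoImplicit false

universe u

open CategoryTheory AlgebraicGeometry Limits TopologicalSpace

namespace Groth.Agent.Dcoh.StalkFF

open Groth.Agent.Dcoh.ResFree Groth.Agent.Dcoh.Stalk

variable {X : Scheme.{u}}

/-- The stalk at `x` is a finite free module over the local ring. -/
def FF (M : X.Modules) (x : X) : Prop :=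
  Module.Free (X.presheaf.stalk x) (M.presheaf.stalk x) ∧
    Module.Finite (X.presheaf.stalk x) (M.presheaf.stalk x)

theorem FF.of_iso {M N : X.Modules} (e : M ≅ N) {x : X} (h : FF M x) : FF N x := by
  obtain ⟨h1, h2⟩ := h
  let e' : M.presheaf.stalk x ≃ₗ[X.presheaf.stalk x] N.presheaf.stalk x :=
    ((stalkF x).mapIso e).toLinearEquiv
  exact ⟨Module.Free.of_equiv e', Module.Finite.equiv e'⟩

theorem FF_unit (x : X) : FF (Coh.structureModule X) x :=
  ⟨Module.Free.of_equiv (CycB.PushStalk.unitStalk X x), Module.Finite.equiv (CycB.PushStalk.unitStalk X x)⟩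

theorem FF_zero {M : X.Modules} (hM : IsZero M) (x : X) : FF M x := by
  have h : IsZero ((stalkF x).obj M) := (stalkF x).map_isZero hM
  have : Subsingleton (M.presheaf.stalk x) := ModuleCat.subsingleton_of_isZero h
  exact ⟨inferInstance, inferInstance⟩

theorem FF_biprod {M N : X.Modules} {x : X} (hM : FF M x) (hN : FF N x) : FF (M ⊞ N) x := by
  have : PreservesBinaryBiproducts (stalkF x) :=
    preservesBinaryBiproducts_of_preservesBinaryProducts _
  have e : (stalkF x).obj (M ⊞ N) ≅
      ModuleCat.of (X.presheaf.stalk x) (M.presheaf.stalk x × N.presheaf.stalk x) :=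
    (stalkF x).mapBiprod M N ≪≫ ModuleCat.biprodIsoProd _ _
  obtain ⟨h1, h2⟩ := hM
  obtain ⟨h3, h4⟩ := hN
  exact ⟨Module.Free.of_equiv e.symm.toLinearEquiv, Module.Finite.equiv e.symm.toLinearEquiv⟩

theorem FF_freeMod (n : ℕ) (x : X) : FF (FlatMod.freeMod X n) x := by
  induction n with
  | zero => exact FF_zero freeMod_zero_isZero x
  | succ n ih =>
    refine FF.of_iso (freeModAdd n 1) (FF_biprod ih ?_)
    refine FF.of_iso ?_ (FF_unit x)
    exact
      { hom := Sigma.ι (fun _ : Fin 1 => Coh.structureModule X) 0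
        inv := Sigma.desc (fun _ => 𝟙 _)
        hom_inv_id := by simp
        inv_hom_id := by
          apply Sigma.hom_ext
          intro b
          fin_cases b
          simp }

theorem FF_restrict_iff {Y : Scheme.{u}} (f : Y ⟶ X) [IsOpenImmersion f] (M : X.Modules) (y : Y) :
    FF (M.restrict f) y ↔ FF M (f y) := by
  unfold FF
  rw [StalkRes.free_restrict_iff, StalkRes.finite_restrict_iff]

/-- Stalks of finite locally free modules are finite free. -/
theorem FF_of_isFinLocFree {M : X.Modules} (h : FlatMod.IsFinLocFree M) (x : X) : FF M x := by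
  obtain ⟨U, n, hx, ⟨e⟩⟩ := h x
  exact (FF_restrict_iff U.ι M ⟨x, hx⟩).1 (FF.of_iso e.symm (FF_freeMod n _))

end Groth.Agent.Dcoh.StalkFF
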