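import Groth.Agent.CycB.StalkExact
import Groth.Agent.Dcoh.Restrict

/-!
The stalk of a restricted module is the stalk, semilinearly over the isomorphism of local rings.
-/

set_option autoImplicit false

universe u

open CategoryTheory AlgebraicGeometry Limits TopologicalSpace

namespace Groth.Agent.Dcoh.StalkRes

variable {X Y : Scheme.{u}} (f : Y ⟶ X) [IsOpenImmersion f]

/-- The isomorphism of local rings `O_{X, f y} ≃ O_{Y, y}` for an open immersion. -/
noncomputable def ringIso (y : Y) : X.presheaf.stalk (f y) ≃+* Y.presheaf.stalk y :=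
  (asIso (f.stalkMap y)).commRingCatIsoToRingEquiv

theorem ringIso_apply (y : Y) (r : X.presheaf.stalk (f y)) :
    ringIso f y r = f.stalkMap y r := rfl

theorem ringIso_germ (y : Y) (W : Y.Opens) (hy : y ∈ W) (r : Γ(X, f ''ᵁ W)) :
    ringIso f y (X.presheaf.germ (f ''ᵁ W) (f y) ⟨y, hy, rfl⟩ r) =
      Y.presheaf.germ W y hy ((f.appIso W).hom r) := by
  rw [ringIso_apply, ← ConcreteCategory.comp_apply, Scheme.Hom.germ_stalkMap]
  rw [Scheme.Hom.appIso_hom, ConcreteCategory.comp_apply, ConcreteCategory.comp_apply,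
    TopCat.Presheaf.germ_res_apply]

/-- The stalk of the restriction, as an additive group. -/
noncomputable def addIso (M : X.Modules) (y : Y) :
    (M.restrict f).presheaf.stalk y ≃+ M.presheaf.stalk (f y) :=
  ((Scheme.Modules.restrictStalkNatIso f y).app M).addCommGroupIsoToAddEquiv

theorem addIso_germ (M : X.Modules) (y : Y) (W : Y.Opens) (hy : y ∈ W) (m : Γ(M.restrict f, W)) :
    addIso f M y ((M.restrict f).presheaf.germ W y hy m) =
      M.presheaf.germ (f ''ᵁ W) (f y) ⟨y, hy, rfl⟩ m :=
  ConcreteCategory.congr_hom (Scheme.Modules.germ_restrictStalkNatIso_hom_app f y M hy) m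

theorem restrict_smul (M : X.Modules) (W : Y.Opens) (r : Γ(Y, W)) (m : Γ(M.restrict f, W)) :
    (r • m : Γ(M.restrict f, W)) =
      (((f.appIso W).inv r • (show Γ(M, f ''ᵁ W) from m) : Γ(M, f ''ᵁ W))) := rfl

theorem addIso_smul (M : X.Modules) (y : Y) (r : X.presheaf.stalk (f y))
    (m : (M.restrict f).presheaf.stalk y) :
    addIso f M y (ringIso f y r • m) = r • addIso f M y m := by
  obtain ⟨U, hU, r, rfl⟩ := X.presheaf.exists_germ_eq r
  obtain ⟨V, hV, m, rfl⟩ := (M.restrict f).presheaf.exists_germ_eq m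
  let W : Y.Opens := f ⁻¹ᵁ U ⊓ V
  have hy : y ∈ W := ⟨hU, hV⟩
  have hWU : f ''ᵁ W ≤ U := by
    rintro _ ⟨z, hz, rfl⟩
    exact hz.1
  obtain ⟨r', hr'⟩ : ∃ r' : Γ(X, f ''ᵁ W), X.presheaf.germ U (f y) hU r =
      X.presheaf.germ (f ''ᵁ W) (f y) ⟨y, hy, rfl⟩ r' :=
    ⟨X.presheaf.map (homOfLE hWU).op r, by rw [TopCat.Presheaf.germ_res_apply]⟩
  obtain ⟨m', hm'⟩ : ∃ m' : Γ(M.restrict f, W), (M.restrict f).presheaf.germ V y hV m =
      (M.restrict f).presheaf.germ W y hy m' :=
    ⟨(M.restrict f).presheaf.map (homOfLE inf_le_right).op m, by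
      rw [TopCat.Presheaf.germ_res_apply]⟩
  rw [hr', hm', ringIso_germ f y W hy, ← CycB.StalkExact.germ_smul, addIso_germ f M y W hy,
    addIso_germ f M y W hy, ← CycB.StalkExact.germ_smul]
  congr 1
  rw [restrict_smul]
  congr 1
  change ((f.appIso W).hom ≫ (f.appIso W).inv) r' = r'
  rw [Iso.hom_inv_id]
  rfl

attribute [local instance] RingHomInvPair.of_ringEquiv

/-- The stalk of a module as a semilinear equivalence to the stalk of the restriction. -/
noncomputable def stalkEquiv (M : X.Modules) (y : Y) :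
    M.presheaf.stalk (f y) ≃ₛₗ[(ringIso f y : X.presheaf.stalk (f y) →+* Y.presheaf.stalk y)]
      (M.restrict f).presheaf.stalk y where
  toFun := (addIso f M y).symm
  invFun := addIso f M y
  left_inv := (addIso f M y).right_inv
  right_inv := (addIso f M y).left_inv
  map_add' := map_add _
  map_smul' r m := by
    apply (addIso f M y).injective
    rw [AddEquiv.apply_symm_apply]
    change _ = addIso f M y (ringIso f y r • _)
    rw [addIso_smul, AddEquiv.apply_symm_apply]

theorem free_restrict_iff (M : X.Modules) (y : Y) :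
    Module.Free (Y.presheaf.stalk y) ((M.restrict f).presheaf.stalk y) ↔
      Module.Free (X.presheaf.stalk (f y)) (M.presheaf.stalk (f y)) :=
  ⟨fun _ => Module.Free.of_equiv (stalkEquiv f M y).symm,
    fun _ => Module.Free.of_equiv (stalkEquiv f M y)⟩

theorem projective_restrict_iff (M : X.Modules) (y : Y) :
    Module.Projective (Y.presheaf.stalk y) ((M.restrict f).presheaf.stalk y) ↔
      Module.Projective (X.presheaf.stalk (f y)) (M.presheaf.stalk (f y)) :=
  ⟨fun _ => Module.Projective.of_equiv (stalkEquiv f M y).symm,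
    fun _ => Module.Projective.of_equiv (stalkEquiv f M y)⟩

theorem finite_restrict_iff (M : X.Modules) (y : Y) :
    Module.Finite (Y.presheaf.stalk y) ((M.restrict f).presheaf.stalk y) ↔
      Module.Finite (X.presheaf.stalk (f y)) (M.presheaf.stalk (f y)) :=
  ⟨fun _ => Module.Finite.of_surjective (stalkEquiv f M y).symm.toLinearMap
      (stalkEquiv f M y).symm.surjective,
    fun _ => Module.Finite.of_surjective (stalkEquiv f M y).toLinearMap
      (stalkEquiv f M y).surjective⟩

end Groth.Agent.Dcoh.StalkRes
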