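import Groth.Agent.Dcoh.TorCoker
import Groth.Agent.Dcoh.LeftRes

/-!
# Tor amplitude: the derived-tensor form and the flat-representative form agree
-/

set_option autoImplicit false
universe u

open CategoryTheory Limits AlgebraicGeometry HomologicalComplex

attribute [local instance] HasDerivedCategory.standard

namespace Groth.Agent.Dcoh.TorAmp

variable {X : Scheme.{u}}

theorem goodClass_isFlat : LeftRes.GoodClass (fun M : X.Modules => FlatMod.IsFlat M) where
  enough M := by
    obtain ⟨F, p, h1, h2⟩ := FlatRes.exists_flat_epi M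
    exact ⟨F, p, h1, h2⟩
  zero _ h := FlatRes.isFlat_of_isZero h
  biprod _ _ h h' := FlatRes.isFlat_biprod h h'
  iso e h := FlatRes.isFlat_of_iso e h

/-- An object of `D(O_X)` with no cohomology above degree `n` is represented by a complex of flat modules which is
zero above degree `n`. -/
theorem exists_flat_rep (K : DCoh.D X) (n : ℤ) (h : ∀ i, n < i → IsZero (DCoh.HD K i)) :
    ∃ L : CochainComplex X.Modules ℤ, L.IsStrictlyLE n ∧ (∀ j, FlatMod.IsFlat (L.X j)) ∧
      Nonempty (DCoh.toD X L ≅ K) := by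
  obtain ⟨K', ⟨e⟩⟩ : ∃ K' : CochainComplex X.Modules ℤ, Nonempty (DCoh.toD X K' ≅ K) :=
    ⟨_, ⟨DerivedCategory.Q.objObjPreimageIso K⟩⟩
  have hK' : K'.IsLE n := by
    rw [CochainComplex.isLE_iff]
    intro i hi
    rw [exactAt_iff_isZero_homology]
    exact (h i hi).of_iso (((DerivedCategory.homologyFunctorFactors X.Modules i).app K').symm ≪≫
      (DerivedCategory.homologyFunctor _ i).mapIso e)
  obtain ⟨L, p, h1, h2, h3⟩ := LeftRes.exists_resolution_of_isLE goodClass_isFlat K' n
  exact ⟨L, h1, h2, ⟨asIso (DerivedCategory.Q.map p) ≪≫ e⟩⟩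

/-- The cohomology of an object with tor amplitude in `[a, b]` vanishes outside `[a, b]`. -/
theorem isZero_HD_of_torAmplitude {a b : ℤ} {K : DCoh.D X} (h : DCoh.HasTorAmplitudeIn a b K) (i : ℤ)
    (hi : i < a ∨ b < i) : IsZero (DCoh.HD K i) := by
  have := LTMod.hasLTensorMod (Coh.structureModule X)
  obtain ⟨e⟩ := LTMod.nonempty_unitIso K
  exact (h (Coh.structureModule X) i hi).of_iso ((DerivedCategory.homologyFunctor _ i).mapIso e.symm)

theorem flatAmplitude_of_torAmplitude {a b : ℤ} (hab : a ≤ b) {K : DCoh.D X}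
    (h : DCoh.HasTorAmplitudeIn a b K) : DCoh.HasFlatAmplitudeIn a b K := by
  obtain ⟨L, h1, h2, ⟨e⟩⟩ := exists_flat_rep K b (fun i hi => isZero_HD_of_torAmplitude h i (Or.inr hi))
  have hL : DCoh.IsKFlat L := Groth.Agent.S0953.result L b h1 h2
  have h' : DCoh.HasTorAmplitudeIn a b (DCoh.toD X L) := LTMod.torAmplitude_of_iso e.symm h
  have h3 : FlatMod.IsFlat (cokernel (L.d (a - 1) a)) :=
    TorCoker.isFlat_cokernel L hL (a - 1) a (by omega) (h2 a) (fun G _ => h' G (a - 1) (Or.inl (by omega)))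
  have h4 : FlatMod.IsFlat (L.opcycles a) :=
    FlatRes.isFlat_of_iso ((cokernelIsCokernel (L.d (a - 1) a)).coconePointUniqueUpToIso
      (L.opcyclesIsCokernel (a - 1) a (by simp))) h3
  have hGE : L.IsGE a := by
    rw [CochainComplex.isGE_iff]
    intro i hi
    rw [exactAt_iff_isZero_homology]
    exact (isZero_HD_of_torAmplitude h' i (Or.inl hi)).of_iso
      ((DerivedCategory.homologyFunctorFactors X.Modules i).app L).symm
  refine ⟨L.truncGE a, ?_, ?_, ⟨(asIso (DerivedCategory.Q.map (L.πTruncGE a))).symm ≪≫ e⟩⟩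
  · rintro i (hi | hi)
    · exact (L.truncGE a).isZero_of_isStrictlyGE a i hi
    · exact (L.isZero_of_isStrictlyLE b i hi).of_iso (L.truncGEXIso a i (by omega))
  · intro i
    rcases lt_trichotomy i a with hi | rfl | hi
    · exact FlatRes.isFlat_of_isZero ((L.truncGE a).isZero_of_isStrictlyGE a i hi)
    · exact FlatRes.isFlat_of_iso (L.truncGEXIsoOpcycles i).symm h4
    · exact FlatRes.isFlat_of_iso (L.truncGEXIso a i hi).symm (h2 i)

theorem torAmplitude_iff_flatAmplitude {a b : ℤ} (hab : a ≤ b) {K : DCoh.D X} :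
    DCoh.HasTorAmplitudeIn a b K ↔ DCoh.HasFlatAmplitudeIn a b K :=
  ⟨flatAmplitude_of_torAmplitude hab, LTMod.torAmplitude_of_flatAmplitude⟩

end Groth.Agent.Dcoh.TorAmp
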