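import Groth.Agent.Dcoh.LTMod
import Groth.Agent.Dcoh.FlatTor

/-!
# Vanishing of `H^{a-1}(E ⊗^L G)` for all `G` implies that the cokernel of `E^{a-1} → E^a` is flat
-/

set_option autoImplicit false
universe u

open CategoryTheory Limits AlgebraicGeometry

attribute [local instance] HasDerivedCategory.standard

namespace Groth.Agent.Dcoh.TorCoker

variable {X : Scheme.{u}}

/-- the short complex `E^i ⊗ G → E^j ⊗ G → E^k ⊗ G` is exact if `H^j(E ⊗^L G) = 0` -/
lemma exact_sc'_tensorRightMod (E : CochainComplex X.Modules ℤ) (hP : DCoh.IsKFlat E) (G : X.Modules)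
    [DCoh.HasLTensorMod G] (i j k : ℤ) (hij : i + 1 = j) (hjk : j + 1 = k)
    (h : IsZero (DCoh.HD ((DCoh.LTensorMod G).obj (DCoh.toD X E)) j)) :
    ((E.sc' i j k).map (DCoh.tensorRightMod G)).Exact := by
  have h1 : IsZero ((((DCoh.tensorRightMod G).mapHomologicalComplex (ComplexShape.up ℤ)).obj E).homology j) :=
    h.of_iso (LTMod.homologyIso G hP j).symm
  have h2 := (HomologicalComplex.exactAt_iff_isZero_homology _ _).2 h1
  exact (HomologicalComplex.exactAt_iff' _ i j k (by simp; omega) (by simpa using hjk)).1 h2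

lemma exact_sc'_flip (E : CochainComplex X.Modules ℤ) (hP : DCoh.IsKFlat E) (G : X.Modules)
    [DCoh.HasLTensorMod G] (i j k : ℤ) (hij : i + 1 = j) (hjk : j + 1 = k)
    (h : IsZero (DCoh.HD ((DCoh.LTensorMod G).obj (DCoh.toD X E)) j)) :
    ((E.sc' i j k).map (DCoh.tensorBi.flip.obj G)).Exact :=
  (ShortComplex.exact_iff_of_iso ((E.sc' i j k).mapNatIso (TMod.flipIso G))).2
    (exact_sc'_tensorRightMod E hP G i j k hij hjk h)

lemma exact_sc' (E : CochainComplex X.Modules ℤ) (hP : DCoh.IsKFlat E)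
    [DCoh.HasLTensorMod (Coh.structureModule X)] (i j k : ℤ) (hij : i + 1 = j) (hjk : j + 1 = k)
    (h : IsZero (DCoh.HD ((DCoh.LTensorMod (Coh.structureModule X)).obj (DCoh.toD X E)) j)) :
    (E.sc' i j k).Exact := by
  have h1 := exact_sc'_tensorRightMod E hP (Coh.structureModule X) i j k hij hjk h
  exact (ShortComplex.exact_iff_of_iso ((E.sc' i j k).mapNatIso PerfB.TensUnit.tensorUnit)).1 h1

/-- If `H^j(E ⊗^L G) = 0` for all `G`, with `E` K-flat and `E^{j+1}` flat, then the cokernel of `E^j → E^{j+1}` is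
flat. -/
theorem isFlat_cokernel (E : CochainComplex X.Modules ℤ) (hP : DCoh.IsKFlat E) (j k : ℤ) (hjk : j + 1 = k)
    (hk : FlatMod.IsFlat (E.X k))
    (h : ∀ (G : X.Modules) [DCoh.HasLTensorMod G], IsZero (DCoh.HD ((DCoh.LTensorMod G).obj (DCoh.toD X E)) j)) :
    FlatMod.IsFlat (cokernel (E.d j k)) := by
  have hL : ∀ G : X.Modules, DCoh.HasLTensorMod G := LTMod.hasLTensorMod
  exact FlatTor.isFlat_cokernel_of_exact (E.sc' (j - 1) j k)
    (exact_sc' E hP (j - 1) j k (by omega) hjk (h _)) hk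
    (fun G => exact_sc'_flip E hP G (j - 1) j k (by omega) hjk (h G))

end Groth.Agent.Dcoh.TorCoker
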